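import Cfsg.Agent.Helper5.TC2A

/-! generated certificate data (targets of generator 4): PThDTC -/

set_option autoImplicit false
set_option Elab.async false

namespace Cfsg.Agent.Helper5.PThDTC
open Cfsg.Agent.Helper5.TC

def tg4_0 : ℕ := 0x3700003600003500003400003100002f00003300002e00003200003000002d00002c00002b00002a00002900002800002700002600002500002100002300002200002400001e00001f00002000001b00001a00001d00001c00001700001800001900001300001500001400001600001200001100001000000f00000e00000d00000c00000b00000a000007000005000009000004000008000006000003000002000001000000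
def tgSel4 (c : ℕ) : ℕ := tg4_0
def tg4F (v : ℕ) : ℕ := Nat.rec (motive := fun _ => ℕ) 0 (fun c _ => Nat.mod (Nat.shiftRight (tgSel4 c) (Nat.mul 24 (Nat.mod v 682))) 16777216) (Nat.add (Nat.div v 682) 1)

end Cfsg.Agent.Helper5.PThDTC
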