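import Cfsg.Agent.Helper5.TC2A

/-! generated certificate data (targets of generator 5): PThDTC -/

set_option autoImplicit false
set_option Elab.async false

namespace Cfsg.Agent.Helper5.PThDTC
open Cfsg.Agent.Helper5.TC

def tg5_0 : ℕ := 0x3700003500003600003400003300003200003100003000002f00002e00002d00002c00002800002a00002600002b00002300002900002500002000002700002200001e00002400001f00002100001d00001c00001b00001a00001600001800001300001900001500001000001700001200000e00001400000c00001100000d00000f00000b00000a000009000008000007000006000005000004000003000001000002000000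
def tgSel5 (c : ℕ) : ℕ := tg5_0
def tg5F (v : ℕ) : ℕ := Nat.rec (motive := fun _ => ℕ) 0 (fun c _ => Nat.mod (Nat.shiftRight (tgSel5 c) (Nat.mul 24 (Nat.mod v 682))) 16777216) (Nat.add (Nat.div v 682) 1)

end Cfsg.Agent.Helper5.PThDTC
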