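import Cfsg.Agent.Helper5.TC2A

/-! generated certificate data (targets of generator 0): PThDTC -/

set_option autoImplicit false
set_option Elab.async false

namespace Cfsg.Agent.Helper5.PThDTC
open Cfsg.Agent.Helper5.TC

def tg0_0 : ℕ := 0x3700003600003500003400003300003000003100003200002e00002f00002c00002d00002900002a00002b00002600002700002800002200002400002300002500002100002000001f00001e00001d00001c00001b00001a00001900001800001700001600001200001400001300001500000f00001000001100000c00000d00000e00000a00000b000008000009000005000006000007000004000003000002000001000000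
def tgSel0 (c : ℕ) : ℕ := tg0_0
def tg0F (v : ℕ) : ℕ := Nat.rec (motive := fun _ => ℕ) 0 (fun c _ => Nat.mod (Nat.shiftRight (tgSel0 c) (Nat.mul 24 (Nat.mod v 682))) 16777216) (Nat.add (Nat.div v 682) 1)

end Cfsg.Agent.Helper5.PThDTC
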