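import Cfsg.Agent.Helper5.TC2A

/-! generated certificate data (events 0): PThETC -/

set_option autoImplicit false
set_option Elab.async false

namespace Cfsg.Agent.Helper5.PThETC
open Cfsg.Agent.Helper5.TC

def ev_0 : ℕ := 0x64081500000064081100000064080d0000006408090000006008050000006008290000006008250000006008210000005c081d0000005c08390000005808350000005408310000005c04090000004c084500000050084100000054042100000054040d00000044084500000050043100000050042100000050040d0000004c044d0000004c04390000004c04290000004c04150000004404390000004404290000004404150000004404410000004404350000004404250000004404110000003c044d0000003c04450000003c04290000003c04150000003008310000003c041d0000003c040900000034044d00000034044500000034043900000034041500000030084100000030042100000030040d0000002c044d0000002c04450000002c04390000002c042900000028084100000028043100000028040d00000028082900000028082500000020081d0000002804050000002408410000002404310000002404210000002008390000001808350000002004090000001c08390000001008350000001c041d00000018084d00000018044100000018042500000018041100000010084d00000010044100000010042500000010081500000010080d0000001008090000000c08050000000c084d0000000c04410000000c04350000000c04110000000c08290000000c082100000008081d00000008083900000004083100000008040900000000084500000004084100000004042100000004040d00000000044d00000000043900000000042900000000041500000000006500000000006100000000005d000000000059000000000055000000000000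
def evSel0 (c : ℕ) : ℕ := ev_0

end Cfsg.Agent.Helper5.PThETC
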