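import Cfsg.Agent.Helper5.TC2A

/-! generated certificate data (ranks of generator 0): PThETC -/

set_option autoImplicit false
set_option Elab.async false

namespace Cfsg.Agent.Helper5.PThETC
open Cfsg.Agent.Helper5.TC

def rk0_0 : ℕ := 0xb00000a80000a000009800009200008a00008200007c00007400006e00007500006000005800006100004c00004d00003e00003f00000000002800000000001c00001400000c000002
def rkSel0 (c : ℕ) : ℕ := rk0_0
def rk0F (v : ℕ) : ℕ := Nat.rec (motive := fun _ => ℕ) 0 (fun c _ => Nat.mod (Nat.shiftRight (rkSel0 c) (Nat.mul 24 (Nat.mod v 682))) 16777216) (Nat.add (Nat.div v 682) 1)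

end Cfsg.Agent.Helper5.PThETC
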