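import Cfsg.Agent.Helper5.TC2A

/-! generated certificate data (ranks of generator 2): PThETC -/

set_option autoImplicit false
set_option Elab.async false

namespace Cfsg.Agent.Helper5.PThETC
open Cfsg.Agent.Helper5.TC

def rk2_0 : ℕ := 0xc20000b80000000000000000a400009c00009600008e00009700000000007600000000006800006200005a00005400000000000000000000000000003200002a000022000000000000000010000006
def rkSel2 (c : ℕ) : ℕ := rk2_0
def rk2F (v : ℕ) : ℕ := Nat.rec (motive := fun _ => ℕ) 0 (fun c _ => Nat.mod (Nat.shiftRight (rkSel2 c) (Nat.mul 24 (Nat.mod v 682))) 16777216) (Nat.add (Nat.div v 682) 1)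

end Cfsg.Agent.Helper5.PThETC
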