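import Mathlib
import Cfsg.Prelude.Def_LocalEven
import Cfsg.Agent.Helper5.SL2Borel
import Cfsg.Agent.Helper4.PCore

set_option autoImplicit false
set_option linter.unusedSimpArgs false

/-!
Helper lemmas (helper5): the structure of `Qd` over a field `F` (after lead's `QdStruct` for `ZMod p`):
explicit membership, the projection onto `SL₂(F)`, translations, the complement, the `p`-core.
-/

namespace Cfsg.Agent.Helper5.QdO

open Cfsg Cfsg.Agent.Helper5.SLB

variable (F : Type*) [Field F]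

/-- the affine matrices, as a subgroup -/
def aff : Subgroup (Matrix.SpecialLinearGroup (Fin 3) F) where
  carrier := {M | (M : Matrix (Fin 3) (Fin 3) F) 2 0 = 0 ∧
    (M : Matrix (Fin 3) (Fin 3) F) 2 1 = 0 ∧ (M : Matrix (Fin 3) (Fin 3) F) 2 2 = 1}
  mul_mem' := by
    rintro A B ⟨a1, a2, a3⟩ ⟨b1, b2, b3⟩
    simp only [Set.mem_ofPred_eq, Matrix.SpecialLinearGroup.coe_mul, Matrix.mul_apply,
      Fin.sum_univ_three]
    simp [a1, a2, a3, b1, b2, b3]
  one_mem' := by simp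
  inv_mem' := by
    rintro A ⟨a1, a2, a3⟩
    have hdet := A.2
    rw [Matrix.det_fin_three] at hdet
    simp only [a1, a2, a3] at hdet
    simp only [Set.mem_ofPred_eq, Matrix.SpecialLinearGroup.coe_inv, Matrix.adjugate_fin_three]
    simp [a1, a2, a3]
    linear_combination hdet

theorem qd_eq_aff : Cfsg.qdOver F = aff F := by
  apply le_antisymm
  · rw [Cfsg.qdOver, Subgroup.closure_le]
    intro M hM
    exact hM
  · intro M hM
    exact Subgroup.subset_closure hM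

theorem mem_qd (M : Matrix.SpecialLinearGroup (Fin 3) F) :
    M ∈ Cfsg.qdOver F ↔ (M : Matrix (Fin 3) (Fin 3) F) 2 0 = 0 ∧
    (M : Matrix (Fin 3) (Fin 3) F) 2 1 = 0 ∧ (M : Matrix (Fin 3) (Fin 3) F) 2 2 = 1 := by
  rw [qd_eq_aff]; rfl

/-- the affine matrix with linear part `A` and translation part `v` -/
def mk3 (A : Matrix.SpecialLinearGroup (Fin 2) F) (v : Fin 2 → F) : Matrix.SpecialLinearGroup (Fin 3) F :=
  ⟨!![A.1 0 0, A.1 0 1, v 0; A.1 1 0, A.1 1 1, v 1; 0, 0, 1], by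
    have h := A.2
    rw [Matrix.det_fin_two] at h
    rw [Matrix.det_fin_three]
    simp
    linear_combination h⟩

theorem mk3_val (A : Matrix.SpecialLinearGroup (Fin 2) F) (v : Fin 2 → F) :
    ((mk3 F A v : Matrix.SpecialLinearGroup (Fin 3) F) : Matrix (Fin 3) (Fin 3) F) =
      !![A.1 0 0, A.1 0 1, v 0; A.1 1 0, A.1 1 1, v 1; 0, 0, 1] := rfl

theorem mk3_mem (A : Matrix.SpecialLinearGroup (Fin 2) F) (v : Fin 2 → F) : mk3 F A v ∈ Cfsg.qdOver F := by
  rw [mem_qd, mk3_val]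
  simp

/-- the element of `Qd` with linear part `A` and translation part `v` -/
def mkq (A : Matrix.SpecialLinearGroup (Fin 2) F) (v : Fin 2 → F) : ↥(Cfsg.qdOver F) :=
  ⟨mk3 F A v, mk3_mem F A v⟩

/-- the linear part -/
def blk (g : ↥(Cfsg.qdOver F)) : Matrix.SpecialLinearGroup (Fin 2) F :=
  ⟨!![(g.1 : Matrix (Fin 3) (Fin 3) F) 0 0, (g.1 : Matrix (Fin 3) (Fin 3) F) 0 1;
      (g.1 : Matrix (Fin 3) (Fin 3) F) 1 0, (g.1 : Matrix (Fin 3) (Fin 3) F) 1 1], by
    obtain ⟨a1, a2, a3⟩ := (mem_qd F g.1).1 g.2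
    have hdet := g.1.2
    rw [Matrix.det_fin_three] at hdet
    simp only [a1, a2, a3] at hdet
    rw [Matrix.det_fin_two]
    simp
    linear_combination hdet⟩

/-- the translation part -/
def vec (g : ↥(Cfsg.qdOver F)) : Fin 2 → F :=
  ![(g.1 : Matrix (Fin 3) (Fin 3) F) 0 2, (g.1 : Matrix (Fin 3) (Fin 3) F) 1 2]

theorem mkq_blk_vec (g : ↥(Cfsg.qdOver F)) : mkq F (blk F g) (vec F g) = g := by
  obtain ⟨a1, a2, a3⟩ := (mem_qd F g.1).1 g.2
  apply Subtype.ext
  apply Subtype.ext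
  show ((mk3 F (blk F g) (vec F g) : Matrix.SpecialLinearGroup (Fin 3) F) : Matrix (Fin 3) (Fin 3) F) = _
  rw [mk3_val]
  ext i j
  fin_cases i <;> fin_cases j <;> simp [blk, vec, a1, a2, a3]

theorem blk_mkq (A : Matrix.SpecialLinearGroup (Fin 2) F) (v : Fin 2 → F) : blk F (mkq F A v) = A := by
  apply Subtype.ext
  ext i j
  fin_cases i <;> fin_cases j <;> simp [blk, mkq, mk3_val]

theorem vec_mkq (A : Matrix.SpecialLinearGroup (Fin 2) F) (v : Fin 2 → F) : vec F (mkq F A v) = v := by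
  ext i
  fin_cases i <;> simp [vec, mkq, mk3_val]

theorem mkq_mul (A B : Matrix.SpecialLinearGroup (Fin 2) F) (v w : Fin 2 → F) :
    mkq F A v * mkq F B w = mkq F (A * B) (A.1.mulVec w + v) := by
  apply Subtype.ext
  apply Subtype.ext
  show ((mk3 F A v * mk3 F B w : Matrix.SpecialLinearGroup (Fin 3) F) : Matrix (Fin 3) (Fin 3) F) =
    ((mk3 F (A * B) (A.1.mulVec w + v) : Matrix.SpecialLinearGroup (Fin 3) F) : Matrix (Fin 3) (Fin 3) F)
  rw [Matrix.SpecialLinearGroup.coe_mul, mk3_val, mk3_val, mk3_val]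
  ext i j
  fin_cases i <;> fin_cases j <;>
    simp [Matrix.mul_apply, Fin.sum_univ_three, Fin.sum_univ_two, Matrix.mulVec, dotProduct]

theorem mkq_one : mkq F 1 0 = 1 := by
  apply Subtype.ext
  apply Subtype.ext
  show ((mk3 F 1 0 : Matrix.SpecialLinearGroup (Fin 3) F) : Matrix (Fin 3) (Fin 3) F) = _
  rw [mk3_val]
  ext i j
  fin_cases i <;> fin_cases j <;> simp

theorem mkq_inj {A B : Matrix.SpecialLinearGroup (Fin 2) F} {v w : Fin 2 → F}
    (h : mkq F A v = mkq F B w) : A = B ∧ v = w := by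
  constructor
  · rw [← blk_mkq F A v, h, blk_mkq]
  · rw [← vec_mkq F A v, h, vec_mkq]

theorem mkq_inv (A : Matrix.SpecialLinearGroup (Fin 2) F) (v : Fin 2 → F) :
    (mkq F A v)⁻¹ = mkq F A⁻¹ (-(A⁻¹.1.mulVec v)) := by
  rw [inv_eq_iff_mul_eq_one, mkq_mul, mul_inv_cancel]
  have : A.1.mulVec (-(A⁻¹.1.mulVec v)) + v = 0 := by
    rw [Matrix.mulVec_neg, Matrix.mulVec_mulVec, ← Matrix.SpecialLinearGroup.coe_mul,
      mul_inv_cancel, Matrix.SpecialLinearGroup.coe_one, Matrix.one_mulVec, neg_add_cancel]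
  rw [this, mkq_one]

/-- the projection onto `SL₂(F)` -/
def proj : ↥(Cfsg.qdOver F) →* Matrix.SpecialLinearGroup (Fin 2) F where
  toFun := blk F
  map_one' := by
    rw [← mkq_one F, blk_mkq]
  map_mul' g h := by
    rw [← mkq_blk_vec F g, ← mkq_blk_vec F h, mkq_mul, blk_mkq, blk_mkq, blk_mkq]

theorem proj_mkq (A : Matrix.SpecialLinearGroup (Fin 2) F) (v : Fin 2 → F) : proj F (mkq F A v) = A :=
  blk_mkq F A v

theorem proj_surjective : Function.Surjective (proj F) := fun A => ⟨mkq F A 0, proj_mkq F A 0⟩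

/-- the translation subgroup -/
def V : Subgroup ↥(Cfsg.qdOver F) := (proj F).ker

instance V_normal : (V F).Normal := MonoidHom.normal_ker _

theorem mem_V (g : ↥(Cfsg.qdOver F)) : g ∈ V F ↔ ∃ v, g = mkq F 1 v := by
  rw [V, MonoidHom.mem_ker]
  constructor
  · intro h
    refine ⟨vec F g, ?_⟩
    have : blk F g = 1 := h
    rw [← this, mkq_blk_vec]
  · rintro ⟨v, rfl⟩
    exact proj_mkq F 1 v

theorem conj_mkq_one (A : Matrix.SpecialLinearGroup (Fin 2) F) (w v : Fin 2 → F) :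
    mkq F A w * mkq F 1 v * (mkq F A w)⁻¹ = mkq F 1 (A.1.mulVec v) := by
  rw [mkq_inv, mkq_mul, mkq_mul, mul_one, mul_inv_cancel]
  congr 1
  rw [Matrix.mulVec_neg, Matrix.mulVec_mulVec, ← Matrix.SpecialLinearGroup.coe_mul,
    mul_inv_cancel, Matrix.SpecialLinearGroup.coe_one, Matrix.one_mulVec]
  abel

theorem mkq_one_mul_mkq_one (v w : Fin 2 → F) : mkq F 1 v * mkq F 1 w = mkq F 1 (v + w) := by
  rw [mkq_mul, mul_one, Matrix.SpecialLinearGroup.coe_one, Matrix.one_mulVec, add_comm]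

/-- the complement: block-diagonal matrices -/
def incl : Matrix.SpecialLinearGroup (Fin 2) F →* ↥(Cfsg.qdOver F) where
  toFun A := mkq F A 0
  map_one' := mkq_one F
  map_mul' A B := by
    rw [mkq_mul, Matrix.mulVec_zero, add_zero]

theorem incl_injective : Function.Injective (incl F) := by
  intro A B h
  exact (mkq_inj F h).1

/-- the block-diagonal subgroup -/
def K : Subgroup ↥(Cfsg.qdOver F) := (incl F).range

theorem mem_K (g : ↥(Cfsg.qdOver F)) : g ∈ K F ↔ vec F g = 0 := by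
  constructor
  · rintro ⟨A, rfl⟩
    exact vec_mkq F A 0
  · intro h
    refine ⟨blk F g, ?_⟩
    change mkq F (blk F g) 0 = g
    rw [← h, mkq_blk_vec]

theorem mem_K' (g : ↥(Cfsg.qdOver F)) : g ∈ K F ↔
    ((g : Matrix.SpecialLinearGroup (Fin 3) F) : Matrix (Fin 3) (Fin 3) F) 0 2 = 0 ∧
    ((g : Matrix.SpecialLinearGroup (Fin 3) F) : Matrix (Fin 3) (Fin 3) F) 1 2 = 0 := by
  rw [mem_K]
  constructor
  · intro h
    have h0 := congrFun h 0
    have h1 := congrFun h 1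
    exact ⟨h0, h1⟩
  · rintro ⟨h0, h1⟩
    funext i
    fin_cases i
    · exact h0
    · exact h1

theorem mem_V' (g : ↥(Cfsg.qdOver F)) : g ∈ V F ↔
    ((g : Matrix.SpecialLinearGroup (Fin 3) F) : Matrix (Fin 3) (Fin 3) F) 0 0 = 1 ∧
    ((g : Matrix.SpecialLinearGroup (Fin 3) F) : Matrix (Fin 3) (Fin 3) F) 0 1 = 0 ∧
    ((g : Matrix.SpecialLinearGroup (Fin 3) F) : Matrix (Fin 3) (Fin 3) F) 1 0 = 0 ∧
    ((g : Matrix.SpecialLinearGroup (Fin 3) F) : Matrix (Fin 3) (Fin 3) F) 1 1 = 1 := by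
  rw [V, MonoidHom.mem_ker]
  change blk F g = 1 ↔ _
  constructor
  · intro h
    have h' := congrArg Subtype.val h
    have e00 := congrFun (congrFun h' 0) 0
    have e01 := congrFun (congrFun h' 0) 1
    have e10 := congrFun (congrFun h' 1) 0
    have e11 := congrFun (congrFun h' 1) 1
    simp [blk] at e00 e01 e10 e11
    exact ⟨e00, e01, e10, e11⟩
  · rintro ⟨e00, e01, e10, e11⟩
    apply Subtype.ext
    ext i j
    fin_cases i <;> fin_cases j <;> simp [blk, e00, e01, e10, e11]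

theorem K_inf_V : K F ⊓ V F = ⊥ := by
  rw [eq_bot_iff]
  rintro g ⟨hK, hV⟩
  obtain ⟨v, rfl⟩ := (mem_V F g).mp hV
  have h1 := (mem_K F _).mp hK
  rw [vec_mkq] at h1
  rw [Subgroup.mem_bot, h1, mkq_one]

theorem K_sup_V : K F ⊔ V F = ⊤ := by
  rw [eq_top_iff]
  intro g _
  have h1 : g = mkq F 1 (vec F g) * mkq F (blk F g) 0 := by
    rw [mkq_mul, one_mul, Matrix.SpecialLinearGroup.coe_one, Matrix.one_mulVec, zero_add, mkq_blk_vec]
  rw [h1, sup_comm]
  exact Subgroup.mul_mem_sup ((mem_V F _).mpr ⟨_, rfl⟩) ⟨blk F g, rfl⟩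

/-- the complement is `SL₂(F)` -/
noncomputable def equivK : ↥(K F) ≃* Matrix.SpecialLinearGroup (Fin 2) F :=
  (MonoidHom.ofInjective (incl_injective F)).symm

theorem card_V [Fintype F] : Nat.card (V F) = Fintype.card F ^ 2 := by
  have e : (Fin 2 → F) ≃ V F := Equiv.ofBijective (fun v => ⟨mkq F 1 v, (mem_V F _).mpr ⟨v, rfl⟩⟩)
    ⟨fun v w h => (mkq_inj F (congrArg Subtype.val h)).2, by
      rintro ⟨g, hg⟩
      obtain ⟨v, rfl⟩ := (mem_V F g).mp hg
      exact ⟨v, rfl⟩⟩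
  rw [← Nat.card_congr e, Nat.card_eq_fintype_card, Fintype.card_fun, Fintype.card_fin]

theorem isPGroup_V [Fintype F] (p : ℕ) [Fact p.Prime] [CharP F p] : IsPGroup p (V F) := by
  obtain ⟨n, -, hn⟩ := FiniteField.card F p
  apply IsPGroup.of_card (n := n * 2)
  rw [card_V, hn, pow_mul]

theorem pCore_SL2_eq_bot [Fintype F] (p : ℕ) [Fact p.Prime] [CharP F p] :
    Cfsg.pCore p (Matrix.SpecialLinearGroup (Fin 2) F) = ⊥ := by
  rw [eq_bot_iff]
  intro x hx
  have hn : (Cfsg.pCore p (Matrix.SpecialLinearGroup (Fin 2) F)).Normal := Cfsg.Agent.Helper4.pCore_normal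
  have hle : Cfsg.pCore p (Matrix.SpecialLinearGroup (Fin 2) F) ≤ unip F :=
    Cfsg.Agent.Helper4.pCore_le_sylow (unipSylow (F := F) p)
  obtain ⟨s, rfl⟩ := hle hx
  have h2 := hle (hn.conj_mem _ hx (lMat 1))
  have h3 := unip_le_borel h2
  rw [mem_borel] at h3
  simp only [mul_apply', inv_apply_10, inv_apply_00, lMat_10, lMat_11, lMat_00, lMat_01, uMat_00, uMat_01, uMat_10,
    uMat_11] at h3
  have h4 : s = 0 := by linear_combination (-1 : F) * h3
  rw [h4, uMat_zero]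
  exact Subgroup.one_mem _

theorem pCore_eq_V [Fintype F] (p : ℕ) [Fact p.Prime] [CharP F p] :
    Cfsg.pCore p ↥(Cfsg.qdOver F) = V F := by
  apply le_antisymm
  · intro g hg
    rw [V, MonoidHom.mem_ker]
    have hn : (Cfsg.pCore p ↥(Cfsg.qdOver F)).Normal := Cfsg.Agent.Helper4.pCore_normal
    have hmn : ((Cfsg.pCore p ↥(Cfsg.qdOver F)).map (proj F)).Normal :=
      hn.map (proj F) (proj_surjective F)
    have hmp : IsPGroup p ((Cfsg.pCore p ↥(Cfsg.qdOver F)).map (proj F)) :=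
      (Cfsg.Agent.Helper4.pCore_isPGroup).map (proj F)
    have h1 := Cfsg.Agent.Helper4.le_pCore _ hmn hmp
    rw [pCore_SL2_eq_bot F p] at h1
    have h2 := h1 (Subgroup.mem_map_of_mem (proj F) hg)
    exact (Subgroup.mem_bot).mp h2
  · exact Cfsg.Agent.Helper4.le_pCore _ (V_normal F) (isPGroup_V F p)

theorem eq_mkq_of_mem_V {g : ↥(Cfsg.qdOver F)} (hg : g ∈ V F) : g = mkq F 1 (vec F g) := by
  obtain ⟨v, rfl⟩ := (mem_V F g).mp hg
  rw [vec_mkq]

theorem eq_mkq_of_mem_K {g : ↥(Cfsg.qdOver F)} (hg : g ∈ K F) : g = mkq F (blk F g) 0 := by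
  have h := (mem_K F g).mp hg
  rw [← h, mkq_blk_vec]

/-- coordinates on the translation subgroup -/
def psi : Additive ↥(V F) ≃+ (Fin 2 → F) where
  toFun x := vec F (Additive.toMul x).1
  invFun v := Additive.ofMul ⟨mkq F 1 v, (mem_V F _).mpr ⟨v, rfl⟩⟩
  left_inv x := by
    apply Additive.toMul.injective
    apply Subtype.ext
    exact (eq_mkq_of_mem_V F (Additive.toMul x).2).symm
  right_inv v := vec_mkq F 1 v
  map_add' x y := by
    change vec F ((Additive.toMul x).1 * (Additive.toMul y).1) = _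
    rw [eq_mkq_of_mem_V F (Additive.toMul x).2, eq_mkq_of_mem_V F (Additive.toMul y).2,
      mkq_one_mul_mkq_one, vec_mkq, vec_mkq, vec_mkq]

theorem psi_apply (x : ↥(V F)) : psi F (Additive.ofMul x) = vec F x.1 := rfl

theorem eq_one_of_mulVec_eq (A : Matrix.SpecialLinearGroup (Fin 2) F)
    (h : ∀ v : Fin 2 → F, A.1.mulVec v = v) : A = 1 := by
  apply Subtype.ext
  have h1 : Matrix.toLin' A.1 = Matrix.toLin' (1 : Matrix (Fin 2) (Fin 2) F) := by
    apply LinearMap.ext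
    intro v
    rw [Matrix.toLin'_apply, Matrix.toLin'_apply, h v, Matrix.one_mulVec]
  exact Matrix.toLin'.injective h1

theorem natural : Cfsg.IsNaturalSL2Module F (V F) (K F) := by
  refine ⟨?_, (proj F).comp (K F).subtype, psi F, ?_, ?_, ?_⟩
  · rw [Subgroup.normalizer_eq_top]
    exact le_top
  · intro A
    exact ⟨⟨mkq F A 0, ⟨A, rfl⟩⟩, proj_mkq F A 0⟩
  · ext ⟨k, hk⟩
    rw [MonoidHom.mem_ker, Subgroup.mem_subgroupOf, Subgroup.mem_centralizer_iff]
    change proj F k = 1 ↔ _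
    have hk' := eq_mkq_of_mem_K F hk
    constructor
    · intro h1
      have h2 : blk F k = 1 := h1
      rw [h2, mkq_one] at hk'
      intro v _
      change v * k = k * v
      rw [hk', mul_one, one_mul]
    · intro hc
      change blk F k = 1
      apply eq_one_of_mulVec_eq
      intro v
      have h3 := hc (mkq F 1 v) ((mem_V F _).mpr ⟨v, rfl⟩)
      change mkq F 1 v * k = k * mkq F 1 v at h3
      have h4 : k * mkq F 1 v * k⁻¹ = mkq F 1 v := by rw [← h3, mul_inv_cancel_right]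
      rw [hk', conj_mkq_one] at h4
      exact (mkq_inj F h4).2
  · rintro ⟨l, hl⟩ ⟨v, hv⟩
    refine ⟨⟨l * v * l⁻¹, (V_normal F).conj_mem v hv l⟩, rfl, ?_⟩
    rw [psi_apply, psi_apply]
    change vec F (l * v * l⁻¹) = (blk F l).1.mulVec (vec F v)
    rw [eq_mkq_of_mem_K F hl, eq_mkq_of_mem_V F hv, conj_mkq_one, vec_mkq, vec_mkq, blk_mkq]

end Cfsg.Agent.Helper5.QdO
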