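import Mathlib
import Cfsg.Prelude.Def_Characters
import Cfsg.Prelude.Def_BlockLocal
import Cfsg.Prelude.Def_Blocks
import Cfsg.Agent.Helper6.RMcKCnt
import Cfsg.Agent.Helper6.RMcKGoodF

/-!
# Ambient form of Gallagher's count of good pairs
-/

set_option autoImplicit false
set_option linter.style.haveILetI false
set_option linter.unusedSimpArgs false

namespace Cfsg.Agent.Helper5.RMcK

open Cfsg.Agent.Helper6 Cfsg.Agent.Helper6.RMcK
open scoped ComplexConjugate

universe u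

variable {Γ : Type u} [Group Γ]

/-- a join of subgroups of `H`, computed inside `H` -/
theorem sup_zpowers_subgroupOf (W H : Subgroup Γ) (hWH : W ≤ H) (x c : H) :
    W.subgroupOf H ⊔ Subgroup.zpowers x ⊔ Subgroup.zpowers c =
      (W ⊔ Subgroup.zpowers (x : Γ) ⊔ Subgroup.zpowers (c : Γ)).subgroupOf H := by
  apply Subgroup.map_injective H.subtype_injective
  rw [Subgroup.map_sup, Subgroup.map_sup, Subgroup.subgroupOf_map_subtype,
    Subgroup.subgroupOf_map_subtype, MonoidHom.map_zpowers, MonoidHom.map_zpowers]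
  have h1 : W ⊓ H = W := inf_eq_left.mpr hWH
  have h2 : (W ⊔ Subgroup.zpowers (x : Γ) ⊔ Subgroup.zpowers (c : Γ)) ⊓ H =
      W ⊔ Subgroup.zpowers (x : Γ) ⊔ Subgroup.zpowers (c : Γ) := by
    apply inf_eq_left.mpr
    exact sup_le (sup_le hWH ((Subgroup.zpowers_le).mpr x.2)) ((Subgroup.zpowers_le).mpr c.2)
  rw [h1, h2]
  rfl

variable [Finite Γ]

/-- extendibility can be tested inside a subgroup `H` containing everything -/
theorem extendsTo_subgroupOf_iff (W A H : Subgroup Γ) (hWH : W ≤ H) (hAH : A ≤ H)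
    (η : W → ℂ) :
    ExtendsTo (W.subgroupOf H) (η ∘ (Subgroup.subgroupOfEquivOfLe hWH)) (A.subgroupOf H) ↔
      ExtendsTo W η A := by
  constructor
  · rintro ⟨h', ψ', hψ', hext⟩
    have hWA : W ≤ A := by
      intro w hw
      have := h' (show (⟨w, hWH hw⟩ : H) ∈ W.subgroupOf H from Subgroup.mem_subgroupOf.mpr hw)
      exact Subgroup.mem_subgroupOf.mp this
    refine ⟨hWA, ψ' ∘ (Subgroup.subgroupOfEquivOfLe hAH).symm,
      IsIrrCharacter.comp_mulEquiv _ hψ', ?_⟩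
    intro n
    have h1 := hext ((Subgroup.subgroupOfEquivOfLe hWH).symm n)
    rw [Function.comp_apply, MulEquiv.apply_symm_apply] at h1
    rw [← h1, Function.comp_apply]
    congr 1
  · rintro ⟨hWA, ψ, hψ, hext⟩
    have h' : W.subgroupOf H ≤ A.subgroupOf H := by
      intro g hg
      rw [Subgroup.mem_subgroupOf] at hg ⊢
      exact hWA hg
    refine ⟨h', ψ ∘ (Subgroup.subgroupOfEquivOfLe hAH),
      IsIrrCharacter.comp_mulEquiv _ hψ, ?_⟩
    intro n
    rw [Function.comp_apply, Function.comp_apply]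
    rw [← hext ((Subgroup.subgroupOfEquivOfLe hWH) n)]
    congr 1

/-- **AGC**: ambient form of `good_count`. -/
theorem AGC_good_count (W H : Subgroup Γ) (hWH : W ≤ H) (η : W → ℂ)
    (hη : Cfsg.IsIrrCharacter W η) (hinv : H ≤ inertia W η) :
    ocnt hWH η * Nat.card H * Nat.card W =
      Nat.card {q : Γ × Γ // q.1 ∈ H ∧ q.2 ∈ H ∧ q.1⁻¹ * q.2⁻¹ * q.1 * q.2 ∈ W ∧
        ∀ c ∈ H, q.1⁻¹ * c⁻¹ * q.1 * c ∈ W →
          ExtendsTo W η (W ⊔ Subgroup.zpowers q.1 ⊔ Subgroup.zpowers c)} := by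
  classical
  haveI := Fintype.ofFinite H
  haveI := Fintype.ofFinite (W.subgroupOf H)
  haveI := Fintype.ofFinite W
  haveI hn : (W.subgroupOf H).Normal := normal_subgroupOf_of_le_inertia hWH η hinv
  set e := Subgroup.subgroupOfEquivOfLe hWH with he
  have hη' : Cfsg.IsIrrCharacter (W.subgroupOf H) (η ∘ e) := irr_subgroupOf hWH hη
  have hgc := good_count (W.subgroupOf H) (η ∘ e) hη'
    (fun g n => inv_subgroupOf hWH η hinv hn g n)
  have hcardW : Nat.card (W.subgroupOf H) = Nat.card W := Nat.card_congr e.toEquiv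
  have hoc : Nat.card {χ : Cfsg.IrrCharacter H //
      Cfsg.classInner (fun n : W.subgroupOf H => (χ : H → ℂ) n) (η ∘ e) ≠ 0} = ocnt hWH η := by
    unfold ocnt
    apply Nat.card_congr
    apply Equiv.subtypeEquivRight
    intro χ
    rw [classInner_subgroupOf' hWH (χ : H → ℂ) η]
    rfl
  rw [hoc, hcardW] at hgc
  rw [hgc]
  -- the bijection of pairs
  have hcomm : ∀ x c : H, c ∈ commStab (W.subgroupOf H) x ↔
      (x : Γ)⁻¹ * (c : Γ)⁻¹ * (x : Γ) * (c : Γ) ∈ W := by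
    intro x c
    rw [mem_commStab, Subgroup.mem_subgroupOf]
    rfl
  have hgood : ∀ x : H, GoodElt (W.subgroupOf H) (η ∘ e) x ↔
      ∀ c ∈ H, (x : Γ)⁻¹ * c⁻¹ * (x : Γ) * c ∈ W →
        ExtendsTo W η (W ⊔ Subgroup.zpowers (x : Γ) ⊔ Subgroup.zpowers c) := by
    intro x
    unfold GoodElt
    constructor
    · intro h c hc hcw
      have h1 := h ⟨c, hc⟩ ((hcomm x ⟨c, hc⟩).mpr hcw)
      rw [sup_zpowers_subgroupOf W H hWH x ⟨c, hc⟩] at h1
      exact (extendsTo_subgroupOf_iff W _ H hWH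
        (sup_le (sup_le hWH ((Subgroup.zpowers_le).mpr x.2)) ((Subgroup.zpowers_le).mpr hc))
        η).mp h1
    · intro h c hc
      rw [sup_zpowers_subgroupOf W H hWH x c]
      exact (extendsTo_subgroupOf_iff W _ H hWH
        (sup_le (sup_le hWH ((Subgroup.zpowers_le).mpr x.2)) ((Subgroup.zpowers_le).mpr c.2))
        η).mpr (h c c.2 ((hcomm x c).mp hc))
  refine Nat.card_congr ?_
  refine
    { toFun := fun p => ⟨((p.1.1 : Γ), (p.1.2 : Γ)), p.1.1.2, p.1.2.2,
        (hcomm p.1.1 p.1.2).mp p.2.1, (hgood p.1.1).mp p.2.2⟩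
      invFun := fun q => ⟨(⟨q.1.1, q.2.1⟩, ⟨q.1.2, q.2.2.1⟩),
        (hcomm ⟨q.1.1, q.2.1⟩ ⟨q.1.2, q.2.2.1⟩).mpr q.2.2.2.1,
        (hgood ⟨q.1.1, q.2.1⟩).mpr q.2.2.2.2⟩
      left_inv := fun p => by
        apply Subtype.ext
        rfl
      right_inv := fun q => by
        apply Subtype.ext
        rfl }

end Cfsg.Agent.Helper5.RMcK
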