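import Mathlib
import Cfsg.Prelude.Def_Characters
import Cfsg.Prelude.Def_BlockLocal
import Cfsg.Prelude.Def_Blocks
import Cfsg.Agent.Helper6.RMcKCnt
import Cfsg.Agent.Helper6.TripF
import Cfsg.Agent.Helper6.BergerD

/-!
# Inflation of characters along a homomorphism, ambient form
-/

set_option autoImplicit false
set_option linter.style.haveILetI false

namespace Cfsg.Agent.Helper5.RMcK

open Cfsg.Agent.Helper6 Cfsg.Agent.Helper6.RMcK

universe u

section CNTD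
variable {X Γ : Type u} [Group X] [Group Γ]

/-- inflation of a function on `H ≤ Γ` to the subgroup `Hh ≤ X` of elements mapping into `H` -/
def inflF (f : X →* Γ) {Hh : Subgroup X} {H : Subgroup Γ} (hmap : ∀ x, x ∈ Hh ↔ f x ∈ H)
    (χ : H → ℂ) : Hh → ℂ := fun x => χ ⟨f x, (hmap x).mp x.2⟩

/-- the restriction of `f` to a homomorphism `Hh →* H` -/
def inflHom (f : X →* Γ) {Hh : Subgroup X} {H : Subgroup Γ} (hmap : ∀ x, x ∈ Hh ↔ f x ∈ H) :
    Hh →* H :=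
  (f.comp Hh.subtype).codRestrict H (fun x => (hmap x).mp x.2)

theorem inflF_eq_comp (f : X →* Γ) {Hh : Subgroup X} {H : Subgroup Γ}
    (hmap : ∀ x, x ∈ Hh ↔ f x ∈ H) (χ : H → ℂ) :
    inflF f hmap χ = χ ∘ inflHom f hmap := rfl

theorem inflHom_surjective (f : X →* Γ) {Hh : Subgroup X} {H : Subgroup Γ}
    (hmap : ∀ x, x ∈ Hh ↔ f x ∈ H) (hH : H ≤ f.range) :
    Function.Surjective (inflHom f hmap) := by
  intro h
  obtain ⟨x, hx⟩ := hH h.2
  refine ⟨⟨x, (hmap x).mpr (hx ▸ h.2)⟩, ?_⟩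
  apply Subtype.ext
  exact hx

variable [Finite X] [Finite Γ]

theorem CNTD1_irr (f : X →* Γ) {Hh : Subgroup X} {H : Subgroup Γ}
    (hmap : ∀ x, x ∈ Hh ↔ f x ∈ H) (hH : H ≤ f.range) (χ : H → ℂ)
    (hχ : Cfsg.IsIrrCharacter H χ) : Cfsg.IsIrrCharacter Hh (inflF f hmap χ) := by
  rw [inflF_eq_comp]
  exact isIrrCharacter_comp_of_surjective _ (inflHom_surjective f hmap hH) hχ

theorem CNTD2_deflate (f : X →* Γ) {Hh : Subgroup X} {H : Subgroup Γ}
    (hmap : ∀ x, x ∈ Hh ↔ f x ∈ H) (hH : H ≤ f.range) (ψ : Hh → ℂ)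
    (hψ : Cfsg.IsIrrCharacter Hh ψ) (hker : ∀ x : Hh, f x = 1 → ψ x = ψ 1) :
    ∃ χ : H → ℂ, Cfsg.IsIrrCharacter H χ ∧ ψ = inflF f hmap χ := by
  obtain ⟨ψ', hψ'⟩ := exists_deflate_of_surjective (inflHom f hmap)
    (inflHom_surjective f hmap hH) ⟨ψ, hψ⟩ (by
      intro k hk
      apply hker k
      have h1 : inflHom f hmap k = 1 := hk
      have h2 := congrArg (Subtype.val) h1
      exact h2)
  exact ⟨(ψ' : H → ℂ), ψ'.2, hψ'⟩

omit [Finite X] [Finite Γ] in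
theorem CNTD3_injective (f : X →* Γ) {Hh : Subgroup X} {H : Subgroup Γ}
    (hmap : ∀ x, x ∈ Hh ↔ f x ∈ H) (hH : H ≤ f.range) (χ χ' : H → ℂ)
    (h : inflF f hmap χ = inflF f hmap χ') : χ = χ' := by
  rw [inflF_eq_comp, inflF_eq_comp] at h
  exact (inflHom_surjective f hmap hH).injective_comp_right h

theorem CNTD4_ip (f : X →* Γ) {Ah : Subgroup X} {A : Subgroup Γ}
    (hmapA : ∀ x, x ∈ Ah ↔ f x ∈ A) (hA : A ≤ f.range) (φ θ : A → ℂ) :
    ip (inflF f hmapA φ) (inflF f hmapA θ) = ip φ θ := by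
  classical
  haveI := Fintype.ofFinite Ah
  haveI := Fintype.ofFinite A
  rw [ip_eq_classInner, ip_eq_classInner, inflF_eq_comp, inflF_eq_comp]
  exact BergerThm.classInner_comp_surjective _ (inflHom_surjective f hmapA hA) φ θ

omit [Finite X] [Finite Γ] in
theorem CNTD5_res (f : X →* Γ) {Ah Hh : Subgroup X} {A H : Subgroup Γ}
    (hmapA : ∀ x, x ∈ Ah ↔ f x ∈ A) (hmapH : ∀ x, x ∈ Hh ↔ f x ∈ H) (hAH : A ≤ H)
    (hAhHh : Ah ≤ Hh) (χ : H → ℂ) :
    res hAhHh (inflF f hmapH χ) = inflF f hmapA (res hAH χ) := rfl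

end CNTD

end Cfsg.Agent.Helper5.RMcK
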