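import Mathlib
import Cfsg.Prelude.Def_Characters
import Cfsg.Prelude.Def_BlockLocal
import Cfsg.Prelude.Def_Blocks
import Cfsg.Prelude.Def_CharExt
import Cfsg.Agent.Helper6.RMcKBase
import Cfsg.Agent.Helper6.DetChar
import Cfsg.Agent.Helper6.CentralChar
import Cfsg.Agent.Helper6.Codegree

/-!
# Determinantal characters: conjugation, and values on central `p`-elements
-/

set_option autoImplicit false
set_option linter.style.haveILetI false
set_option linter.unusedSimpArgs false

namespace Cfsg.Agent.Helper5.RMcK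

open Cfsg.Agent.Helper6 Cfsg.Agent.Helper6.RMcK
open scoped ComplexConjugate

universe u

variable {Γ : Type u} [Group Γ] [Finite Γ]

/-- **D4b**: conjugation commutes with `detChar`. -/
theorem D4b_detChar_cjc (M : Subgroup Γ) (a : Γ) (ha : a ∈ Subgroup.normalizer (M : Set Γ))
    (χ : M → ℂ) (hχ : Cfsg.IsCharacter M χ) :
    Cfsg.detChar (cjc M a ha χ) = cjc M a ha (Cfsg.detChar χ) :=
  detChar_comp_hom (nconj M a ha).toMonoidHom hχ

/-- **D4c**: value of an irreducible character with `p'`-degree and trivial determinant on a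
central `p`-element. -/
theorem D4c_central_p_value (p : ℕ) [Fact p.Prime] (M : Subgroup Γ) (χ : M → ℂ)
    (hχ : Cfsg.IsIrrCharacter M χ) (hdeg : ¬ p ∣ Cfsg.charDegree χ) (z : M)
    (hz : ∀ m : M, z * m = m * z) (k : ℕ) (hzk : z ^ (p ^ k) = 1)
    (hdet : Cfsg.detChar χ z = 1) : χ z = χ 1 := by
  classical
  have hpp : p.Prime := Fact.out
  obtain ⟨n, ρ, hirr, rfl⟩ := hχ
  haveI := hirr
  rw [charDegree_rep] at hdeg
  obtain ⟨c, hc⟩ := exists_scalar_of_commute ρ (ρ z) (by
    intro g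
    change ρ z * ρ g = ρ g * ρ z
    rw [← map_mul, ← map_mul, hz g])
  have hfr : Module.finrank ℂ (Fin n → ℂ) = n := by simp
  have hn0 : n ≠ 0 := by
    rintro rfl
    exact hdeg (dvd_zero p)
  -- determinant
  have h1 : c ^ n = 1 := by
    rw [detChar_rep] at hdet
    have h2 : ((detHom ρ z : ℂˣ) : ℂ) = 1 := hdet
    rw [detHom_apply, hc, LinearMap.det_smul, hfr] at h2
    simpa using h2
  -- order of z
  have h3 : c ^ (p ^ k) = 1 := by
    have h4 : ρ (z ^ (p ^ k)) = 1 := by rw [hzk, map_one]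
    rw [map_pow, hc, smul_pow] at h4
    have h5 : (LinearMap.id : (Fin n → ℂ) →ₗ[ℂ] (Fin n → ℂ)) ^ (p ^ k) = 1 := by
      rw [show (LinearMap.id : (Fin n → ℂ) →ₗ[ℂ] (Fin n → ℂ)) = 1 from rfl, one_pow]
    rw [h5] at h4
    have h6 := congrArg (LinearMap.trace ℂ (Fin n → ℂ)) h4
    rw [map_smul, LinearMap.trace_one, hfr, smul_eq_mul] at h6
    have hn' : (n : ℂ) ≠ 0 := by exact_mod_cast hn0
    have h7 : (c ^ (p ^ k) - 1) * (n : ℂ) = 0 := by linear_combination h6
    rcases mul_eq_zero.mp h7 with h8 | h8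
    · linear_combination h8
    · exact absurd h8 hn'
  have hcop : Nat.Coprime n (p ^ k) := by
    apply Nat.Coprime.pow_right
    exact ((Nat.Prime.coprime_iff_not_dvd hpp).mpr hdeg).symm
  have hc1 : c = 1 := by
    have h9 : orderOf c ∣ n := orderOf_dvd_of_pow_eq_one h1
    have h10 : orderOf c ∣ p ^ k := orderOf_dvd_of_pow_eq_one h3
    have h11 : orderOf c ∣ 1 := by
      have := Nat.dvd_gcd h9 h10
      rwa [hcop] at this
    exact orderOf_eq_one_iff.mp (Nat.dvd_one.mp h11)
  show LinearMap.trace ℂ _ (ρ z) = LinearMap.trace ℂ _ (ρ 1)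
  rw [hc, hc1, one_smul, map_one]
  rfl

end Cfsg.Agent.Helper5.RMcK
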