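import Mathlib

/-!
# The lattice map `H ↦ (H.comap f).map q`
-/

set_option autoImplicit false

namespace Cfsg.Agent.Helper5.RMcK

section LAT
variable {X Γ Q : Type*} [Group X] [Group Γ] [Group Q] (f : X →* Γ) (q : X →* Q)

theorem comap_map_comap_of_ker_le (L H : Subgroup Γ) (hker : q.ker ≤ L.comap f) (hLH : L ≤ H) :
    ((H.comap f).map q).comap q = H.comap f := by
  rw [Subgroup.comap_map_eq]
  exact sup_eq_left.mpr (hker.trans (Subgroup.comap_mono hLH))

theorem LAT1_relIndex (hq : Function.Surjective q) (L H₁ H₂ : Subgroup Γ)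
    (hker : q.ker ≤ L.comap f) (hLH₁ : L ≤ H₁) (h12 : H₁ ≤ H₂) (h2 : H₂ ≤ f.range) :
    ((H₁.comap f).map q).relIndex ((H₂.comap f).map q) = H₁.relIndex H₂ := by
  have _ := hq
  have _ := h12
  rw [← Subgroup.relIndex_comap, comap_map_comap_of_ker_le f q L H₁ hker hLH₁,
    Subgroup.relIndex_comap, Subgroup.map_comap_eq, inf_eq_right.mpr h2]

theorem LAT2_sup (H₁ H₂ : Subgroup Γ) (h1 : H₁ ≤ f.range) (h2 : H₂ ≤ f.range) :
    ((H₁ ⊔ H₂).comap f).map q = (H₁.comap f).map q ⊔ (H₂.comap f).map q := by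
  rw [← Subgroup.comap_sup_eq_of_le_range f h1 h2, Subgroup.map_sup]

theorem LAT3_normalizer (hq : Function.Surjective q) (L H A : Subgroup Γ)
    (hker : q.ker ≤ L.comap f) (hLH : L ≤ H) (hHA : H ≤ A) (hA : A ≤ f.range) :
    ((A ⊓ Subgroup.normalizer (H : Set Γ)).comap f).map q =
      (A.comap f).map q ⊓ Subgroup.normalizer ((((H.comap f).map q : Subgroup Q)) : Set Q) := by
  have h1 : (Subgroup.normalizer (H : Set Γ)).comap f =
      Subgroup.normalizer ((H.comap f : Subgroup X) : Set X) :=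
    Subgroup.comap_normalizer_eq_of_le_range (hHA.trans hA)
  have h2 : (Subgroup.normalizer ((((H.comap f).map q : Subgroup Q)) : Set Q)).comap q =
      Subgroup.normalizer ((H.comap f : Subgroup X) : Set X) := by
    rw [Subgroup.comap_normalizer_eq_of_surjective _ hq,
      comap_map_comap_of_ker_le f q L H hker hLH]
  rw [Subgroup.comap_inf, h1, ← h2]
  ext z
  constructor
  · rintro ⟨x, hx, rfl⟩
    exact ⟨⟨x, hx.1, rfl⟩, hx.2⟩
  · rintro ⟨⟨x, hx, rfl⟩, hz⟩
    exact ⟨x, ⟨hx, hz⟩, rfl⟩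

theorem LAT4_central (L G : Subgroup Γ)
    (hcen : ∀ h ∈ L.comap f, ∀ x : X, h * x * h⁻¹ * x⁻¹ ∈ q.ker) :
    ∀ l ∈ (L.comap f).map q, ∀ g ∈ (G.comap f).map q, l * g = g * l := by
  rintro _ ⟨h, hh, rfl⟩ _ ⟨x, _, rfl⟩
  have h1 := hcen h hh x
  rw [MonoidHom.mem_ker, map_mul, map_mul, map_mul, map_inv, map_inv] at h1
  have h2 : q h * q x = (q h * q x * (q h)⁻¹ * (q x)⁻¹) * (q x * q h) := by group
  rw [h2, h1, one_mul]

theorem LAT5_le_iff (hq : Function.Surjective q) (L H₁ H₂ : Subgroup Γ)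
    (hker : q.ker ≤ L.comap f) (hLH₂ : L ≤ H₂) (h1 : H₁ ≤ f.range) :
    (H₁.comap f).map q ≤ (H₂.comap f).map q ↔ H₁ ≤ H₂ := by
  have _ := hq
  constructor
  · intro h
    have h3 : H₁.comap f ≤ H₂.comap f := by
      rw [← comap_map_comap_of_ker_le f q L H₂ hker hLH₂]
      exact (Subgroup.le_comap_map q _).trans (Subgroup.comap_mono h)
    intro y hy
    obtain ⟨x, rfl⟩ := h1 hy
    exact h3 hy
  · intro h
    exact Subgroup.map_mono (Subgroup.comap_mono h)

end LAT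

end Cfsg.Agent.Helper5.RMcK
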