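import Mathlib
import Cfsg.Prelude.Def_LieTwisted
import Cfsg.Agent.Helper5.Ree3Mat
import Cfsg.Agent.Helper5.SimpleHom
import Cfsg.Agent.Helper5.CycQuot

/-!
# `²G₂(3)′ ≅ PSL₂(8)`

The group presented by `a² = b³ = (ab)⁷ = ((ab)²ab⁻¹(ab)²(ab⁻¹)²)² = 1` is simple of order 504
(`L28LPD`).  It embeds into the Ree group `²G₂(3)` with normal image and cyclic quotient; the image
is therefore the commutator subgroup.
-/

set_option autoImplicit false

namespace Cfsg.Agent.Helper5.Ree3

open Cfsg.Agent.Helper5.LP Cfsg.Agent.Helper5.TC Cfsg.Agent.Helper5.TCI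
open Cfsg.Agent.Helper5.L28LP (R3 lettersA)
open Cfsg.Agent.Helper5.SimpleHom
open scoped commutatorElement

theorem not_prime_card : ¬ (Nat.card (LPG 3 R3)).Prime := by
  rw [L28LP.simple_card.2]
  norm_num

/-- a simple group whose order is not a prime is perfect. -/
theorem commutator_eq_top_of_simple {G : Type*} [Group G] [IsSimpleGroup G]
    (hnp : ¬ (Nat.card G).Prime) : commutator G = ⊤ := by
  rcases (inferInstance : (commutator G).Normal).eq_bot_or_eq_top with h | h
  · exfalso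
    have hc : ∀ a b : G, a * b = b * a := by
      intro a b
      have h1 : ⁅a, b⁆ ∈ commutator G := by
        rw [commutator_def]
        exact Subgroup.commutator_mem_commutator (Subgroup.mem_top a) (Subgroup.mem_top b)
      rw [h, Subgroup.mem_bot, commutatorElement_eq_one_iff_mul_comm] at h1
      exact h1
    let _ : CommGroup G := { (inferInstance : Group G) with mul_comm := hc }
    exact hnp IsSimpleGroup.prime_card
  · exact h

/-! ### the homomorphism to `²G₂(3)` -/

/-- the images of the letters as units. -/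
def UU (c : ℕ) : (Matrix (Fin 14) (Fin 14) F3)ˣ :=
  if h : c < 3 then ⟨MM c, MMi c, (MM_inv_lt c h).1, (MM_inv_lt c h).2⟩ else 1

theorem UU_val (c : ℕ) (hc : c < 3) : (UU c).val = MM c := by
  unfold UU
  rw [dif_pos hc]

theorem UU_prod_val (l : List ℕ) (hl : ∀ c ∈ l, c < 3) :
    ((l.map UU).prod : (Matrix (Fin 14) (Fin 14) F3)ˣ).val = (l.map MM).prod := by
  rw [← Units.coeHom_apply, map_list_prod, List.map_map]
  congr 1
  apply List.map_congr_left
  intro c hc
  exact UU_val c (hl c hc)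

theorem UU_rels : ∀ l ∈ R3, (l.map UU).prod = 1 := by
  intro l hl
  apply Units.ext
  rw [UU_prod_val l (lettersA l hl), Units.val_one]
  exact MM_rels l hl

/-- the generators as units. -/
def WU (s : ℕ) (hs : s < 54) : (Matrix (Fin 14) (Fin 14) F3)ˣ :=
  ⟨MAT s, MAT (winv s), (MAT_inv s hs).1, (MAT_inv s hs).2⟩

/-- transport of invertible matrices along the numbering of the coordinates. -/
def reGL : (Matrix (Fin 14) (Fin 14) F3)ˣ ≃* Matrix.GeneralLinearGroup I14 F3 :=
  Units.mapEquiv (Matrix.reindexAlgEquiv F3 F3 e14).toMulEquiv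

theorem reGL_val (g : (Matrix (Fin 14) (Fin 14) F3)ˣ) :
    ((reGL g : Matrix.GeneralLinearGroup I14 F3) : Matrix I14 I14 F3)
      = (g : Matrix (Fin 14) (Fin 14) F3).submatrix e14.symm e14.symm := rfl

/-- the Ree group `²G₂(3)`. -/
abbrev GG : Subgroup (Matrix.GeneralLinearGroup I14 F3) := Cfsg.Lie.twistedG2 F3 1

/-- the generating set of the Ree group. -/
abbrev SS : Set (Matrix.GeneralLinearGroup I14 F3) :=
  {g | ∃ w ∈ Cfsg.Lie.g2Words F3 1, (g : Matrix I14 I14 F3) = Cfsg.Lie.chevG2.wordMat F3 w}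

theorem GG_eq : GG = Subgroup.closure SS := rfl

theorem exists_tuv : ∀ s, s < 27 → ∃ t u v : F3, 9 * t.val + 3 * u.val + v.val = s := by decide

theorem reGL_WU_mem_SS (s : ℕ) (hs : s < 54) : reGL (WU s hs) ∈ SS := by
  rcases Nat.lt_or_ge s 27 with h | h
  · obtain ⟨t, u, v, rfl⟩ := exists_tuv s h
    refine ⟨Cfsg.Lie.reeWordU 1 t u v, ⟨t, u, v, Or.inl rfl⟩, ?_⟩
    rw [wordU_eq, reGL_val]
    rfl
  · obtain ⟨k, rfl⟩ : ∃ k, s = 27 + k := ⟨s - 27, by omega⟩
    obtain ⟨t, u, v, hk⟩ := exists_tuv k (by omega)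
    refine ⟨Cfsg.Lie.reeWordV 1 t u v, ⟨t, u, v, Or.inr rfl⟩, ?_⟩
    rw [wordV_eq, reGL_val]
    subst hk
    simp only [← add_assoc]
    rfl

theorem reGL_WU_mem (s : ℕ) (hs : s < 54) : reGL (WU s hs) ∈ GG :=
  Subgroup.subset_closure (reGL_WU_mem_SS s hs)

theorem reGL_mem_of_prod : ∀ (l : List ℕ), (∀ r ∈ l, r < 54) →
    ∀ g : (Matrix (Fin 14) (Fin 14) F3)ˣ, g.val = (l.map MAT).prod → reGL g ∈ GG
  | [], _, g, hg => by
    have : g = 1 := Units.ext (by rw [hg]; rfl)
    rw [this, map_one]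
    exact one_mem _
  | p :: l, hl, g, hg => by
    have hp := hl p List.mem_cons_self
    have hg' : ((WU p hp)⁻¹ * g).val = (l.map MAT).prod := by
      rw [Units.val_mul, hg, List.map_cons, List.prod_cons, ← mul_assoc]
      show MAT (winv p) * MAT p * _ = _
      rw [(MAT_inv p hp).2, one_mul]
    have h1 := reGL_mem_of_prod l (fun q hq => hl q (List.mem_cons_of_mem _ hq)) _ hg'
    have h2 := reGL_WU_mem p hp
    have : g = WU p hp * ((WU p hp)⁻¹ * g) := by
      rw [mul_inv_cancel_left]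
    rw [this, map_mul]
    exact mul_mem h2 h1

/-- the homomorphism to the general linear group. -/
def phi0 : LPG 3 R3 →* Matrix.GeneralLinearGroup I14 F3 :=
  reGL.toMonoidHom.comp (lift UU lettersA UU_rels)

set_option maxHeartbeats 2000000 in
theorem phi0_ev (l : List ℕ) (hl : ∀ c ∈ l, c < 3) :
    phi0 (ev 3 R3 l) = reGL ((l.map UU).prod) := by
  have h := lift_ev UU lettersA UU_rels l hl
  unfold phi0
  rw [MonoidHom.comp_apply, h]
  rfl

theorem phi0_mem (x : LPG 3 R3) : phi0 x ∈ GG := by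
  have h : (⊤ : Subgroup (LPG 3 R3)) ≤ GG.comap phi0 := by
    rw [← closure_gens, Subgroup.closure_le]
    rintro _ ⟨c, hc, rfl⟩
    show phi0 (ev 3 R3 [c]) ∈ GG
    have hl : ∀ d ∈ [c], d < 3 := by simpa using hc
    rw [phi0_ev [c] hl]
    apply reGL_mem_of_prod (xword c) (xword_lt c hc)
    rw [UU_prod_val [c] hl]
    simpa using MM_eq c hc
  exact h (Subgroup.mem_top x)

/-- the homomorphism to the Ree group. -/
def phi : LPG 3 R3 →* GG := phi0.codRestrict _ phi0_mem

theorem phi_injective : Function.Injective phi := by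
  have := L28LP.simple_card.1
  apply injective_of_simple phi (ev 3 R3 [0])
  intro h0
  have h1 : phi0 (ev 3 R3 [0]) = 1 := congrArg Subtype.val h0
  have hl : ∀ d ∈ [0], d < 3 := by simp
  rw [phi0_ev [0] hl] at h1
  have h2 : ([0].map UU).prod = 1 := by
    apply reGL.injective
    rw [h1, map_one]
  have h3 := congrArg Units.val h2
  rw [UU_prod_val [0] hl] at h3
  exact MM_ne (by simpa using h3)

/-! ### the image is normal with cyclic quotient -/

/-- the image, as a subgroup of the general linear group. -/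
abbrev H0 : Subgroup (Matrix.GeneralLinearGroup I14 F3) := phi0.range

/-- the unit `x₀`. -/
def XU0 : (Matrix (Fin 14) (Fin 14) F3)ˣ := WU 3 (by norm_num)

/-- the element `x₀` of the Ree group. -/
def X0 : Matrix.GeneralLinearGroup I14 F3 := reGL XU0

theorem X0_mem : X0 ∈ GG := reGL_WU_mem 3 (by norm_num)

theorem XU0_val : XU0.val = MAT 3 := rfl

theorem XU0_inv_val : (XU0⁻¹).val = MAT 6 := rfl

theorem XU0_cube : XU0 ^ 3 = 1 := by
  apply Units.ext
  rw [Units.val_pow_eq_pow_val, XU0_val, pow_succ, pow_two, X0_cube.1, X0_cube.2.2]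
  rfl

theorem X0_cube' : X0 ^ 3 = 1 := by
  unfold X0
  rw [← map_pow, XU0_cube, map_one]

theorem mem_H0_of_val (g : (Matrix (Fin 14) (Fin 14) F3)ˣ) (l : List ℕ) (hl : ∀ c ∈ l, c < 3)
    (hg : g.val = (l.map MM).prod) : reGL g ∈ H0 := by
  refine ⟨ev 3 R3 l, ?_⟩
  rw [phi0_ev l hl]
  congr 1
  apply Units.ext
  rw [UU_prod_val l hl, hg]

theorem conj_gen_mem (c : ℕ) (hc : c < 3) : X0 * phi0 (ev 3 R3 [c]) * X0⁻¹ ∈ H0 := by
  have hl : ∀ d ∈ [c], d < 3 := by simpa using hc
  rw [phi0_ev [c] hl]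
  unfold X0
  rw [← map_inv, ← map_mul, ← map_mul]
  apply mem_H0_of_val _ (cword c) (cword_lt c hc)
  rw [Units.val_mul, Units.val_mul, UU_prod_val [c] hl, XU0_val, XU0_inv_val]
  simpa using conj_cert c hc

theorem conj_mem : ∀ h ∈ H0, X0 * h * X0⁻¹ ∈ H0 := by
  rintro _ ⟨y, rfl⟩
  have hle : (⊤ : Subgroup (LPG 3 R3)) ≤
      H0.comap ((MulAut.conj X0).toMonoidHom.comp phi0) := by
    rw [← closure_gens, Subgroup.closure_le]
    rintro _ ⟨c, hc, rfl⟩
    show X0 * phi0 (ev 3 R3 [c]) * X0⁻¹ ∈ H0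
    exact conj_gen_mem c hc
  exact hle (Subgroup.mem_top y)

theorem conj_mem' : ∀ h ∈ H0, X0⁻¹ * h * X0 ∈ H0 :=
  Cfsg.Agent.Helper5.CycQuot.conj_inv_mem conj_mem (n := 3) (by norm_num) X0_cube'

theorem gen_cover (s : ℕ) (hs : s < 54) : reGL (WU s hs) * X0 ^ (ipow s : ℤ) ∈ H0 := by
  unfold X0
  rw [zpow_natCast, ← map_pow, ← map_mul]
  apply mem_H0_of_val _ (mword s) (mword_lt s hs)
  rw [Units.val_mul, Units.val_pow_eq_pow_val, XU0_val]
  exact MAT_cert s hs

theorem SS_cover : ∀ g ∈ SS, ∃ i : ℤ, g * X0 ^ i ∈ H0 := by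
  rintro g ⟨w, ⟨t, u, v, hw⟩, hg⟩
  rcases hw with rfl | rfl
  · have hs : 9 * t.val + 3 * u.val + v.val < 54 := lt_trans (idx_lt t u v) (by norm_num)
    have hgs : g = reGL (WU _ hs) := by
      apply Units.ext
      rw [hg, wordU_eq, reGL_val]
      rfl
    rw [hgs]
    exact ⟨_, gen_cover _ hs⟩
  · have hs : 27 + 9 * t.val + 3 * u.val + v.val < 54 := by
      have := idx_lt t u v
      omega
    have hgs : g = reGL (WU _ hs) := by
      apply Units.ext
      rw [hg, wordV_eq, reGL_val]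
      rfl
    rw [hgs]
    exact ⟨_, gen_cover _ hs⟩

theorem cover : ∀ g ∈ GG, ∃ i : ℤ, g * X0 ^ i ∈ H0 := by
  intro g hg
  rw [GG_eq] at hg
  exact Cfsg.Agent.Helper5.CycQuot.exists_zpow_mul_mem H0 X0 conj_mem conj_mem' SS SS_cover g hg

/-! ### the image is the commutator subgroup -/

/-- the image, as a subgroup of the Ree group. -/
abbrev HH : Subgroup GG := phi.range

theorem mem_HH_iff (g : GG) : g ∈ HH ↔ (g : Matrix.GeneralLinearGroup I14 F3) ∈ H0 := by
  constructor
  · rintro ⟨y, rfl⟩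
    exact ⟨y, rfl⟩
  · rintro ⟨y, hy⟩
    exact ⟨y, Subtype.ext hy⟩

/-- the element `x₀` in the Ree group. -/
def x0 : GG := ⟨X0, X0_mem⟩

theorem commutator_le : commutator GG ≤ HH := by
  apply Cfsg.Agent.Helper5.CycQuot.commutator_le_of_cover HH x0
  · intro h hh
    rw [mem_HH_iff] at hh ⊢
    exact conj_mem _ hh
  · intro h hh
    rw [mem_HH_iff] at hh ⊢
    exact conj_mem' _ hh
  · intro g
    obtain ⟨i, hi⟩ := cover g.1 g.2
    refine ⟨i, ?_⟩
    rw [mem_HH_iff]
    have h1 : ((g * x0 ^ i : GG) : Matrix.GeneralLinearGroup I14 F3) = g.1 * X0 ^ i := by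
      rw [Subgroup.coe_mul, Subgroup.coe_zpow]
      rfl
    rw [h1]
    exact hi

theorem le_commutator : HH ≤ commutator GG := by
  have := L28LP.simple_card.1
  rintro _ ⟨y, rfl⟩
  have hy : y ∈ commutator (LPG 3 R3) := by
    rw [commutator_eq_top_of_simple not_prime_card]; exact Subgroup.mem_top y
  have h1 : (commutator (LPG 3 R3)).map phi ≤ commutator GG := by
    rw [commutator_def, Subgroup.map_commutator, commutator_def]
    exact Subgroup.commutator_mono le_top le_top
  exact h1 (Subgroup.mem_map_of_mem phi hy)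

theorem commutator_eq : commutator GG = HH := le_antisymm commutator_le le_commutator

/-- **The presented group is `²G₂(3)′`.** -/
noncomputable def lpEquiv : LPG 3 R3 ≃* commutator GG :=
  (MonoidHom.ofInjective phi_injective).trans (MulEquiv.subgroupCongr commutator_eq.symm)

theorem card_commutator : Nat.card (commutator GG) = 504 := by
  rw [← Nat.card_congr lpEquiv.toEquiv, L28LP.simple_card.2]

end Cfsg.Agent.Helper5.Ree3
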