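import Mathlib
import Cfsg.Prelude.Def_PLocal
import Cfsg.Prelude.Def_DStar
import Cfsg.Agent.Helper5.Basic
import Cfsg.Agent.Helper5.Misc
import Cfsg.Agent.Helper5.MaxAbelian
import Cfsg.Agent.Helper5.Replace
import Cfsg.Agent.Helper5.DStar

/-!
Helper lemmas (helper5): Thompson's replacement theorem for a normal abelian subgroup of a nilpotent
finite group, and the position of the members of `dStarFamily` relative to abelian subgroups of
largest order.
-/

set_option autoImplicit false

namespace Cfsg.Agent.Helper5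

open scoped commutatorElement

variable {S : Type*} [Group S]

/-- The chain `M, [M,B], [M,B,B], …`. -/
def commChain (M B : Subgroup S) : ℕ → Subgroup S
  | 0 => M
  | k + 1 => ⁅commChain M B k, B⁆

theorem commChain_le (M B : Subgroup S) [hM : M.Normal] (k : ℕ) :
    commChain M B k ≤ M ∧ commChain M B k ≤ Subgroup.lowerCentralSeries (⊤ : Subgroup S) k := by
  induction k with
  | zero => exact ⟨le_rfl, by simp⟩
  | succ k ih =>
    constructor
    · show ⁅commChain M B k, B⁆ ≤ M
      calc ⁅commChain M B k, B⁆ ≤ ⁅M, ⊤⁆ := Subgroup.commutator_mono ih.1 le_top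
        _ ≤ M := Subgroup.commutator_le_left M ⊤
    · show ⁅commChain M B k, B⁆ ≤ _
      rw [Subgroup.lowerCentralSeries_succ]
      exact Subgroup.commutator_mono ih.2 le_top

/-- In a nilpotent group, if the normal subgroup `M` is not inside `N`, some `x ∈ M ∖ N` has all its
commutators with `B` inside `N`. -/
theorem exists_mem_commutator_mem [Group.IsNilpotent S] (M B N : Subgroup S) [hM : M.Normal]
    (hMN : ¬ M ≤ N) : ∃ x ∈ M, x ∉ N ∧ ∀ b ∈ B, ⁅x, b⁆ ∈ N := by
  classical
  obtain ⟨m, hm⟩ := Subgroup.nilpotent_iff_lowerCentralSeries.mp (inferInstance : Group.IsNilpotent S)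
  have hex : ∃ k, commChain M B k ≤ N := ⟨m, le_trans ((commChain_le M B m).2) (hm ▸ bot_le)⟩
  have hspec := Nat.find_spec hex
  have hne : Nat.find hex ≠ 0 := by
    intro h0
    rw [h0] at hspec
    exact hMN hspec
  obtain ⟨j, hj⟩ := Nat.exists_eq_succ_of_ne_zero hne
  have hmin : ¬ commChain M B j ≤ N := Nat.find_min hex (by rw [hj]; exact Nat.lt_succ_self j)
  obtain ⟨x, hxE, hxN⟩ := SetLike.not_le_iff_exists.mp hmin
  refine ⟨x, (commChain_le M B j).1 hxE, hxN, ?_⟩
  intro b hb
  rw [hj] at hspec
  exact hspec (Subgroup.commutator_mem_commutator hxE hb)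

/-- Thompson's replacement theorem for a normal abelian subgroup `M` of a nilpotent finite group:
if `M` does not normalize the abelian subgroup `B` of largest order, some abelian subgroup `A` of
largest order normalizes `B` and meets `M` in a strictly larger subgroup. -/
theorem thompson_replace_normal [Finite S] [Group.IsNilpotent S] {B M : Subgroup S}
    (hB : B ∈ Cfsg.maxAbelianSubgroups S) [hM : M.Normal] (hMc : IsMulCommutative ↥M)
    (hMB : ¬ M ≤ Subgroup.normalizer (B : Set S)) :
    ∃ A : Subgroup S, A ∈ Cfsg.maxAbelianSubgroups S ∧ B ⊓ M < A ⊓ M ∧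
      A ≤ Subgroup.normalizer (B : Set S) := by
  obtain ⟨x, hxM, hxN, hxB⟩ := exists_mem_commutator_mem M B (Subgroup.normalizer (B : Set S)) hMB
  have hconj : ∀ b ∈ B, x * b * x⁻¹ = ⁅x, b⁆ * b := by
    intro b _
    rw [commutatorElement_def]; group
  have h1 : B.map (MulAut.conj x).toMonoidHom ≤ Subgroup.normalizer (B : Set S) := by
    rw [map_conj_le_iff]
    intro b hb
    rw [hconj b hb]
    exact Subgroup.mul_mem _ (hxB b hb) (Subgroup.le_normalizer hb)
  have h3 : B.map (MulAut.conj x).toMonoidHom ≤ B ⊔ M := by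
    rw [map_conj_le_iff]
    intro b hb
    rw [hconj b hb]
    refine Subgroup.mul_mem _ (Subgroup.mem_sup_right ?_) (Subgroup.mem_sup_left hb)
    have : ⁅x, b⁆ = x * (b * x⁻¹ * b⁻¹) := by rw [commutatorElement_def]; group
    rw [this]
    exact M.mul_mem hxM (hM.conj_mem _ (M.inv_mem hxM) b)
  obtain ⟨A, hA, hlt, hAle⟩ := replace_step hB hMc x hxN h1 h3
  exact ⟨A, hA, hlt, le_trans hAle (sup_le Subgroup.le_normalizer h1)⟩

/-- Every member of `dStarFamily S` lies in every abelian subgroup of largest order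
(`S` a nilpotent finite group, `M` a self-centralizing normal abelian subgroup as a tool). -/
theorem dStarFamily_le_maxAbelian [Finite S] [Group.IsNilpotent S]
    (M : Subgroup S) [hM : M.Normal] (hMc : IsMulCommutative ↥M)
    (hMM : Subgroup.centralizer (M : Set S) ≤ M) :
    ∀ B : Subgroup S, B ∈ Cfsg.maxAbelianSubgroups S → ∀ A ∈ Cfsg.dStarFamily S, A ≤ B := by
  have step : ∀ B : Subgroup S, B ∈ Cfsg.maxAbelianSubgroups S →
      (∀ A ∈ Cfsg.dStarFamily S, A ≤ Subgroup.normalizer (B : Set S)) →
      ∀ A ∈ Cfsg.dStarFamily S, A ≤ B := by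
    intro B hB hN A hA a ha
    have hcent := dStarFamily_centralizes hA B hB.1 (hN A hA)
    rw [← centralizer_eq_of_mem_maxAbelianSubgroups hB]
    rw [Subgroup.mem_centralizer_iff]
    intro b hb
    exact (hcent a ha b hb).symm
  have main : ∀ n : ℕ, ∀ B : Subgroup S, B ∈ Cfsg.maxAbelianSubgroups S →
      Nat.card ↥M - Nat.card ↥(B ⊓ M) = n → ∀ A ∈ Cfsg.dStarFamily S, A ≤ B := by
    intro n
    induction n using Nat.strong_induction_on with
    | _ n ih =>
      intro B hB hn
      apply step B hB
      intro A hA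
      by_cases hMB : M ≤ Subgroup.normalizer (B : Set S)
      · exact le_trans (dStarFamily_le_of_self_centralizing hA M hMc hMM) hMB
      · obtain ⟨A', hA', hlt, hA'N⟩ := thompson_replace_normal hB hMc hMB
        have h1 : Nat.card ↥(B ⊓ M) < Nat.card ↥(A' ⊓ M) :=
          Set.Finite.card_lt_card (Set.toFinite _) (SetLike.coe_ssubset_coe.mpr hlt)
        have h2 : Nat.card ↥(A' ⊓ M) ≤ Nat.card ↥M := Subgroup.card_le_of_le inf_le_right
        have h3 : Nat.card ↥M - Nat.card ↥(A' ⊓ M) < n := by omega
        exact le_trans (ih _ h3 A' hA' rfl A hA) hA'N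
  intro B hB
  exact main _ B hB rfl

end Cfsg.Agent.Helper5
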