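import Mathlib

/-! Generic certificate checkers for integral lattices in `ℤ^56` given by generator lists
(helper5, used for the Ru lattice statement S1628). -/

set_option autoImplicit false

namespace Cfsg.Agent.Helper5.RuLat

abbrev W : Type := Fin 56 → ℤ

def ofL (l : List ℤ) : W := fun i => l.getD i.val 0

def dotL : List ℤ → List ℤ → ℤ
  | a :: as, b :: bs => a * b + dotL as bs
  | _, _ => 0

def lc : List ℤ → List W → W
  | a :: as, r :: rs => a • r + lc as rs
  | _, _ => 0

@[simp] theorem lc_nil_left (rs : List W) : lc [] rs = 0 := by cases rs <;> rfl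
@[simp] theorem lc_nil_right (as : List ℤ) : lc as [] = 0 := by cases as <;> rfl
@[simp] theorem lc_cons (a : ℤ) (as : List ℤ) (r : W) (rs : List W) :
    lc (a :: as) (r :: rs) = a • r + lc as rs := rfl
@[simp] theorem dotL_nil_left (bs : List ℤ) : dotL [] bs = 0 := by cases bs <;> rfl
@[simp] theorem dotL_nil_right (as : List ℤ) : dotL as [] = 0 := by cases as <;> rfl
@[simp] theorem dotL_cons (a b : ℤ) (as bs : List ℤ) :
    dotL (a :: as) (b :: bs) = a * b + dotL as bs := rfl

theorem lc_apply (as : List ℤ) (rows : List (List ℤ)) (i : Fin 56) :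
    lc as (rows.map ofL) i = dotL as (rows.map (fun r => r.getD i.val 0)) := by
  induction as generalizing rows with
  | nil => simp
  | cons a as ih =>
    cases rows with
    | nil => simp
    | cons r rs => simp [ih, ofL]

theorem lc_mem (S : AddSubgroup W) (as : List ℤ) (rs : List W) (h : ∀ r ∈ rs, r ∈ S) :
    lc as rs ∈ S := by
  induction as generalizing rs with
  | nil => simp [S.zero_mem]
  | cons a as ih =>
    cases rs with
    | nil => simp [S.zero_mem]
    | cons r rs =>
      rw [lc_cons]
      exact S.add_mem (S.zsmul_mem (h r (by simp)) a)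
        (ih rs (fun r' hr' => h r' (by simp [hr'])))

/-- the lattice generated by the rows -/
def LW (rows : List (List ℤ)) : AddSubgroup W :=
  AddSubgroup.closure {w | ∃ r ∈ rows, w = ofL r}

theorem ofL_mem_LW {rows : List (List ℤ)} {r : List ℤ} (h : r ∈ rows) : ofL r ∈ LW rows :=
  AddSubgroup.subset_closure ⟨r, h, rfl⟩

def colsOK (rows cols : List (List ℤ)) : Bool :=
  (List.range 56).all (fun i => decide (cols.getD i [] = rows.map (fun r => r.getD i 0)))

def chkLC (cols : List (List ℤ)) (as target : List ℤ) : Bool :=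
  (List.range 56).all (fun i => decide (dotL as (cols.getD i []) = target.getD i 0))

theorem chkLC_sound {rows cols : List (List ℤ)} {as target : List ℤ}
    (hc : colsOK rows cols = true) (h : chkLC cols as target = true) :
    ofL target = lc as (rows.map ofL) := by
  funext i
  rw [lc_apply]
  have hi : i.val ∈ List.range 56 := List.mem_range.mpr i.isLt
  have h1 := (List.all_eq_true.mp h) _ hi
  have h2 := (List.all_eq_true.mp hc) _ hi
  simp only [decide_eq_true_eq] at h1 h2
  rw [← h2, h1]; rfl

theorem chkLC_mem {rows cols : List (List ℤ)} {as target : List ℤ}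
    (hc : colsOK rows cols = true) (h : chkLC cols as target = true) :
    ofL target ∈ LW rows := by
  rw [chkLC_sound hc h]
  apply lc_mem
  intro r hr
  obtain ⟨l, hl, rfl⟩ := List.mem_map.mp hr
  exact ofL_mem_LW hl

/-! ### signed permutations -/

def opL (perm : List ℕ) (sgn : List ℤ) (l : List ℤ) : List ℤ :=
  (List.range 56).map (fun i => sgn.getD i 0 * l.getD (perm.getD i 0) 0)

def opW (perm : List ℕ) (sgn : List ℤ) : W →+ W where
  toFun y := fun i => sgn.getD i.val 0 * y ⟨perm.getD i.val 0 % 56, Nat.mod_lt _ (by norm_num)⟩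
  map_zero' := by funext i; simp
  map_add' := by intro y z; funext i; simp [mul_add]

def permOK (perm : List ℕ) : Bool := (List.range 56).all (fun i => decide (perm.getD i 0 < 56))

theorem getD_map_range (n : ℕ) (f : ℕ → ℤ) (i : ℕ) (hi : i < n) :
    ((List.range n).map f).getD i 0 = f i := by
  simp [List.getD_eq_getElem?_getD, hi]

theorem opW_ofL (perm : List ℕ) (sgn l : List ℤ) (hp : permOK perm = true) :
    opW perm sgn (ofL l) = ofL (opL perm sgn l) := by
  funext i
  have hi : i.val ∈ List.range 56 := List.mem_range.mpr i.isLt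
  have h1 := (List.all_eq_true.mp hp) _ hi
  simp only [decide_eq_true_eq] at h1
  show sgn.getD i.val 0 * (ofL l) ⟨perm.getD i.val 0 % 56, _⟩ = (opL perm sgn l).getD i.val 0
  rw [opL, getD_map_range _ _ _ i.isLt]
  show sgn.getD i.val 0 * l.getD (perm.getD i.val 0 % 56) 0 = sgn.getD i.val 0 * l.getD (perm.getD i.val 0) 0
  rw [Nat.mod_eq_of_lt h1]

def chkOp (cols : List (List ℤ)) (perm : List ℕ) (sgn : List ℤ) (rows certs : List (List ℤ)) : Bool :=
  (List.range rows.length).all
    (fun k => chkLC cols (certs.getD k []) (opL perm sgn (rows.getD k [])))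

theorem mem_getD {α : Type} {l : List α} {a d : α} (h : a ∈ l) : ∃ k, k < l.length ∧ l.getD k d = a := by
  obtain ⟨k, hk, rfl⟩ := List.mem_iff_getElem.mp h
  exact ⟨k, hk, by simp [List.getD_eq_getElem?_getD, hk]⟩

theorem chkOp_closed {rows cols certs : List (List ℤ)} {perm : List ℕ} {sgn : List ℤ}
    (hc : colsOK rows cols = true) (hp : permOK perm = true)
    (h : chkOp cols perm sgn rows certs = true) :
    ∀ y ∈ LW rows, opW perm sgn y ∈ LW rows := by
  have key : LW rows ≤ (LW rows).comap (opW perm sgn) := by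
    rw [LW, AddSubgroup.closure_le]
    rintro w ⟨r, hr, rfl⟩
    show opW perm sgn (ofL r) ∈ LW rows
    obtain ⟨k, hk, rfl⟩ := mem_getD (d := []) hr
    have h1 := (List.all_eq_true.mp h) k (List.mem_range.mpr hk)
    rw [opW_ofL _ _ _ hp]
    exact chkLC_mem hc h1
  exact fun y hy => key hy

/-! ### Gram conditions -/

def ip (y z : W) : ℤ := ∑ i, y i * z i
def nrm (y : W) : ℤ := ∑ i, y i * y i

theorem ip_add_left (y z w : W) : ip (y + z) w = ip y w + ip z w := by
  simp [ip, add_mul, Finset.sum_add_distrib]
theorem ip_neg_left (y w : W) : ip (-y) w = - ip y w := by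
  simp [ip, Finset.sum_neg_distrib]
theorem ip_zero_left (w : W) : ip 0 w = 0 := by simp [ip]
theorem ip_comm (y z : W) : ip y z = ip z y := by simp [ip, mul_comm]
theorem nrm_add (y z : W) : nrm (y + z) = nrm y + nrm z + 2 * ip y z := by
  simp only [nrm, ip, Pi.add_apply, Finset.mul_sum, ← Finset.sum_add_distrib]
  apply Finset.sum_congr rfl; intro i _; ring
theorem nrm_neg (y : W) : nrm (-y) = nrm y := by simp [nrm]
theorem nrm_zero : nrm (0 : W) = 0 := by simp [nrm]

theorem sum_getD_eq_dotL : ∀ (n : ℕ) (l m : List ℤ), l.length = n → m.length = n →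
    ∑ i : Fin n, l.getD i.val 0 * m.getD i.val 0 = dotL l m := by
  intro n
  induction n with
  | zero =>
    intro l m hl hm
    have : l = [] := List.length_eq_zero_iff.mp hl
    subst this; simp
  | succ n ih =>
    intro l m hl hm
    cases l with
    | nil => simp at hl
    | cons a l =>
      cases m with
      | nil => simp at hm
      | cons b m =>
        rw [Fin.sum_univ_succ]
        simp only [Fin.val_zero, List.getD_cons_zero, Fin.val_succ, List.getD_cons_succ, dotL_cons]
        rw [ih l m (by simpa using hl) (by simpa using hm)]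

theorem ip_ofL (l m : List ℤ) (hl : l.length = 56) (hm : m.length = 56) :
    ip (ofL l) (ofL m) = dotL l m := sum_getD_eq_dotL 56 l m hl hm

theorem nrm_ofL (l : List ℤ) (hl : l.length = 56) : nrm (ofL l) = dotL l l :=
  sum_getD_eq_dotL 56 l l hl hl

def chkGram (rows : List (List ℤ)) : Bool :=
  rows.all (fun r => decide (r.length = 56) && decide (dotL r r % 8 = 0) &&
    rows.all (fun s => decide (dotL r s % 4 = 0)))

section gram
variable {rows : List (List ℤ)} (hg : chkGram rows = true)
include hg

theorem gram_len {r : List ℤ} (hr : r ∈ rows) : r.length = 56 := by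
  have := (List.all_eq_true.mp hg) r hr
  simp only [Bool.and_eq_true, decide_eq_true_eq] at this
  exact this.1.1

theorem gram_row_row {r s : List ℤ} (hr : r ∈ rows) (hs : s ∈ rows) :
    (4 : ℤ) ∣ ip (ofL r) (ofL s) := by
  have := (List.all_eq_true.mp hg) r hr
  simp only [Bool.and_eq_true, decide_eq_true_eq] at this
  have h2 := (List.all_eq_true.mp this.2) s hs
  simp only [decide_eq_true_eq] at h2
  rw [ip_ofL _ _ (gram_len hg hr) (gram_len hg hs)]
  exact Int.dvd_of_emod_eq_zero h2

theorem gram_row_nrm {r : List ℤ} (hr : r ∈ rows) : (8 : ℤ) ∣ nrm (ofL r) := by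
  have := (List.all_eq_true.mp hg) r hr
  simp only [Bool.and_eq_true, decide_eq_true_eq] at this
  rw [nrm_ofL _ (gram_len hg hr)]
  exact Int.dvd_of_emod_eq_zero this.1.2

theorem gram_row_mem {r : List ℤ} (hr : r ∈ rows) : ∀ y ∈ LW rows, (4 : ℤ) ∣ ip y (ofL r) := by
  intro y hy
  induction hy using AddSubgroup.closure_induction with
  | mem w hw => obtain ⟨s, hs, rfl⟩ := hw; exact gram_row_row hg hs hr
  | zero => simp [ip_zero_left]
  | add a b _ _ ha hb => rw [ip_add_left]; exact dvd_add ha hb
  | neg a _ ha => rw [ip_neg_left]; exact (dvd_neg).mpr ha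

theorem gram_mem_mem : ∀ y ∈ LW rows, ∀ z ∈ LW rows, (4 : ℤ) ∣ ip y z := by
  intro y hy z hz
  induction hz using AddSubgroup.closure_induction with
  | mem w hw => obtain ⟨s, hs, rfl⟩ := hw; exact gram_row_mem hg hs y hy
  | zero => rw [ip_comm]; simp [ip_zero_left]
  | add a b _ _ ha hb => rw [ip_comm, ip_add_left, ip_comm a, ip_comm b]; exact dvd_add ha hb
  | neg a _ ha => rw [ip_comm, ip_neg_left, ip_comm a]; exact (dvd_neg).mpr ha

theorem gram_nrm : ∀ y ∈ LW rows, (8 : ℤ) ∣ nrm y := by
  intro y hy
  induction hy using AddSubgroup.closure_induction with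
  | mem w hw => obtain ⟨s, hs, rfl⟩ := hw; exact gram_row_nrm hg hs
  | zero => simp [nrm_zero]
  | add a b ha' hb' ha hb =>
    rw [nrm_add]
    obtain ⟨c, hc⟩ := gram_mem_mem hg a ha' b hb'
    exact dvd_add (dvd_add ha hb) ⟨c, by rw [hc]; ring⟩
  | neg a _ ha => rw [nrm_neg]; exact ha

end gram

end Cfsg.Agent.Helper5.RuLat
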