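import Cfsg.Agent.Helper5.RuLatA

/-! Parity invariants, code enumeration and the "no vector of norm 8" argument (helper5, S1628). -/

set_option autoImplicit false

namespace Cfsg.Agent.Helper5.RuLat

def xorSel : List Bool → List ℕ → ℕ
  | b :: bs, g :: gs => (if b then g else 0) ^^^ xorSel bs gs
  | _, _ => 0

@[simp] theorem xorSel_nil_left (gs : List ℕ) : xorSel [] gs = 0 := by cases gs <;> rfl
@[simp] theorem xorSel_nil_right (bs : List Bool) : xorSel bs [] = 0 := by cases bs <;> rfl
@[simp] theorem xorSel_cons (b : Bool) (bs : List Bool) (g : ℕ) (gs : List ℕ) :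
    xorSel (b :: bs) (g :: gs) = (if b then g else 0) ^^^ xorSel bs gs := rfl

theorem xorSel_replicate_false (gens : List ℕ) :
    xorSel (List.replicate gens.length false) gens = 0 := by
  induction gens with
  | nil => simp
  | cons g gs ih => simp [List.replicate_succ, ih]

theorem xor_aux (b b' : Bool) (g X X' : ℕ) :
    (if (b ^^ b') then g else 0) ^^^ (X ^^^ X') =
      ((if b then g else 0) ^^^ X) ^^^ ((if b' then g else 0) ^^^ X') := by
  apply Nat.eq_of_testBit_eq; intro j
  cases b <;> cases b' <;> simp [Nat.testBit_xor] <;>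
    (cases g.testBit j <;> cases X.testBit j <;> cases X'.testBit j <;> rfl)

theorem xorSel_zipWith (gens : List ℕ) : ∀ bs bs' : List Bool, bs.length = gens.length →
    bs'.length = gens.length →
    xorSel (List.zipWith (fun a b => a ^^ b) bs bs') gens = xorSel bs gens ^^^ xorSel bs' gens := by
  induction gens with
  | nil => intro bs bs' _ _; simp
  | cons g gs ih =>
    intro bs bs' h h'
    cases bs with
    | nil => simp at h
    | cons b bs =>
      cases bs' with
      | nil => simp at h'
      | cons b' bs' =>
        simp only [List.zipWith_cons_cons, xorSel_cons]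
        rw [ih bs bs' (by simpa using h) (by simpa using h')]
        exact xor_aux b b' g _ _

theorem xorSel_lt (gens : List ℕ) (hg : ∀ g ∈ gens, g < 2 ^ 56) : ∀ bs : List Bool,
    xorSel bs gens < 2 ^ 56 := by
  induction gens with
  | nil => intro bs; simp
  | cons g gs ih =>
    intro bs
    cases bs with
    | nil => simp
    | cons b bs =>
      rw [xorSel_cons]
      apply Nat.xor_lt_two_pow
      · split
        · exact hg g (by simp)
        · positivity
      · exact ih (fun g' hg' => hg g' (by simp [hg'])) bs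

/-- the parity pattern of `y` is a word of the code spanned by `gens` -/
def ParInv (gens : List ℕ) (y : W) : Prop :=
  ∃ bs : List Bool, bs.length = gens.length ∧
    ∀ i : Fin 56, (y i % 2 = 1 ↔ (xorSel bs gens).testBit i.val = true)

def chkPar (rows : List (List ℤ)) (gens : List ℕ) (pbs : List ℕ) (bss : List (List Bool)) : Bool :=
  (List.range rows.length).all (fun k =>
    decide ((bss.getD k []).length = gens.length) &&
    decide (xorSel (bss.getD k []) gens = pbs.getD k 0) &&
    (List.range 56).all (fun i =>
      decide ((rows.getD k []).getD i 0 % 2 = 1) == (pbs.getD k 0).testBit i))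

theorem par_all {rows : List (List ℤ)} {gens pbs : List ℕ} {bss : List (List Bool)}
    (h : chkPar rows gens pbs bss = true) : ∀ y ∈ LW rows, ParInv gens y := by
  intro y hy
  induction hy using AddSubgroup.closure_induction with
  | mem w hw =>
    obtain ⟨r, hr, rfl⟩ := hw
    obtain ⟨k, hk, rfl⟩ := mem_getD (d := []) hr
    have h1 := (List.all_eq_true.mp h) k (List.mem_range.mpr hk)
    simp only [Bool.and_eq_true, decide_eq_true_eq] at h1
    obtain ⟨⟨h1a, h1b⟩, h1c⟩ := h1
    refine ⟨bss.getD k [], h1a, fun i => ?_⟩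
    have h2 := (List.all_eq_true.mp h1c) i.val (List.mem_range.mpr i.isLt)
    rw [beq_iff_eq] at h2
    rw [h1b, ← h2]
    simp [ofL]
  | zero =>
    refine ⟨List.replicate gens.length false, by simp, fun i => ?_⟩
    rw [xorSel_replicate_false]; simp
  | add a b _ _ ha hb =>
    obtain ⟨bs, hbs, ha⟩ := ha
    obtain ⟨bs', hbs', hb⟩ := hb
    refine ⟨List.zipWith (fun a b => a ^^ b) bs bs', by simp [hbs, hbs'], fun i => ?_⟩
    rw [xorSel_zipWith gens bs bs' hbs hbs', Nat.testBit_xor]
    have ha' := ha i; have hb' := hb i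
    show (a i + b i) % 2 = 1 ↔ _
    cases h1 : (xorSel bs gens).testBit i.val <;> cases h2 : (xorSel bs' gens).testBit i.val <;>
      simp only [h1, h2] at ha' hb' ⊢ <;> simp at ha' hb' ⊢ <;> omega
  | neg a _ ha =>
    obtain ⟨bs, hbs, ha⟩ := ha
    refine ⟨bs, hbs, fun i => ?_⟩
    rw [← ha i]
    show (- a i) % 2 = 1 ↔ _
    omega

/-! ### enumeration of the code -/

def enumOK (leaf : ℕ → Bool) : List ℕ → ℕ → Bool
  | [], acc => leaf acc
  | g :: gs, acc => enumOK leaf gs acc && enumOK leaf gs (acc ^^^ g)

theorem enumOK_sound (leaf : ℕ → Bool) (gens : List ℕ) : ∀ acc, enumOK leaf gens acc = true →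
    ∀ bs : List Bool, bs.length = gens.length → leaf (acc ^^^ xorSel bs gens) = true := by
  induction gens with
  | nil => intro acc h bs _; simpa [enumOK] using h
  | cons g gs ih =>
    intro acc h bs hbs
    cases bs with
    | nil => simp at hbs
    | cons b bs =>
      simp only [enumOK, Bool.and_eq_true] at h
      rw [xorSel_cons]
      cases b with
      | false =>
        simp only [Bool.false_eq_true, if_false, Nat.zero_xor]
        exact ih acc h.1 bs (by simpa using hbs)
      | true =>
        simp only [if_true]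
        rw [← Nat.xor_assoc]
        exact ih (acc ^^^ g) h.2 bs (by simpa using hbs)

/-! ### popcount lower bound -/

def pc : ℕ → ℕ → ℕ
  | 0, _ => 0
  | f + 1, w => if w = 0 then 0 else pc f (w &&& (w - 1)) + 1

def bitsF (w : ℕ) : Finset (Fin 56) := Finset.univ.filter (fun i => w.testBit i.val = true)

theorem pc_le_card : ∀ (f w : ℕ), w < 2 ^ 56 → pc f w ≤ (bitsF w).card := by
  intro f
  induction f with
  | zero => intro w _; simp [pc]
  | succ f ih =>
    intro w hw
    by_cases h0 : w = 0
    · simp [pc, h0]
    · simp only [pc, h0, if_false]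
      have hlt : w &&& (w - 1) < w := lt_of_le_of_lt Nat.and_le_right (by omega)
      have hw' : w &&& (w - 1) < 2 ^ 56 := lt_trans hlt hw
      have hsub : bitsF (w &&& (w - 1)) ⊆ bitsF w := by
        intro i hi
        simp only [bitsF, Finset.mem_filter, Finset.mem_univ, true_and, Nat.testBit_and,
          Bool.and_eq_true] at hi ⊢
        exact hi.1
      have hne : bitsF (w &&& (w - 1)) ≠ bitsF w := by
        intro heq
        apply absurd hlt
        apply not_lt_of_ge
        apply le_of_eq
        symm
        apply Nat.eq_of_testBit_eq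
        intro j
        by_cases hj : j < 56
        · have : (⟨j, hj⟩ : Fin 56) ∈ bitsF (w &&& (w - 1)) ↔ (⟨j, hj⟩ : Fin 56) ∈ bitsF w := by
            rw [heq]
          simp only [bitsF, Finset.mem_filter, Finset.mem_univ, true_and] at this
          cases h1 : (w &&& (w - 1)).testBit j <;> cases h2 : w.testBit j <;> simp_all
        · have hj' : 2 ^ 56 ≤ 2 ^ j := Nat.pow_le_pow_right (by norm_num) (by omega)
          rw [Nat.testBit_lt_two_pow (lt_of_lt_of_le hw' hj'),
            Nat.testBit_lt_two_pow (lt_of_lt_of_le hw hj')]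
      have hss : bitsF (w &&& (w - 1)) ⊂ bitsF w := Finset.ssubset_iff_subset_ne.mpr ⟨hsub, hne⟩
      have := Finset.card_lt_card hss
      have := ih _ hw'
      omega

/-! ### norm bounds -/

theorem card_le_nrm (y : W) (S : Finset (Fin 56)) (c : ℤ) (_hc : 0 ≤ c)
    (h : ∀ i ∈ S, c ≤ y i * y i) : c * S.card ≤ nrm y := by
  have h1 : ∑ i ∈ S, y i * y i ≤ nrm y := by
    apply Finset.sum_le_univ_sum_of_nonneg
    intro i; exact mul_self_nonneg _
  have h2 : ∑ _i ∈ S, c ≤ ∑ i ∈ S, y i * y i := Finset.sum_le_sum h
  simp only [Finset.sum_const, nsmul_eq_mul] at h2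
  linarith [mul_comm c (S.card : ℤ)]

theorem one_le_mul_self {t : ℤ} (h : t ≠ 0) : 1 ≤ t * t := by
  rcases lt_or_gt_of_ne h with h | h <;> nlinarith

theorem four_le_mul_self {t : ℤ} (h : t ≠ 0) (h2 : t % 2 = 0) : 4 ≤ t * t := by
  have : t ≤ -2 ∨ 2 ≤ t := by omega
  rcases this with h | h <;> nlinarith

theorem nrm_pos {y : W} (h : y ≠ 0) : 1 ≤ nrm y := by
  obtain ⟨i, hi⟩ : ∃ i, y i ≠ 0 := by
    by_contra hcon
    exact h (funext (fun i => by
      by_contra hi
      exact hcon ⟨i, hi⟩))
  have := card_le_nrm y {i} 1 (by norm_num) (by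
    intro j hj; rw [Finset.mem_singleton] at hj; subst hj; exact one_le_mul_self hi)
  simpa using this

end Cfsg.Agent.Helper5.RuLat
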