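import Cfsg.Agent.Helper5.RuLatG

/-! No vectors of norm 8 in a lattice with the certified properties (helper5, S1628). -/

set_option autoImplicit false

namespace Cfsg.Agent.Helper5.RuLat

def chkBlk (cols : List (List ℤ)) (m : ℕ) (hv as : List ℤ) (j : ℕ) : Bool :=
  chkLC cols as hv && decide (j < 56) && m.testBit j && decide (hv.getD j 0 % 4 = 2) &&
  decide (8 ≤ pc 8 m) &&
  (List.range 56).all (fun i => !(m.testBit i) || decide (i = j) || decide (hv.getD i 0 % 4 = 0))

def chkPairs (rows : List (List ℤ)) : Bool :=
  (List.range 56).all (fun i => (List.range i).all (fun j =>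
    rows.any (fun r => decide ((r.getD i 0 + r.getD j 0) % 2 = 1))))

theorem card_le_sum (y : W) (S : Finset (Fin 56)) (c : ℤ)
    (h : ∀ i ∈ S, c ≤ y i * y i) : c * S.card ≤ ∑ i ∈ S, y i * y i := by
  have h2 : ∑ _i ∈ S, c ≤ ∑ i ∈ S, y i * y i := Finset.sum_le_sum h
  simp only [Finset.sum_const, nsmul_eq_mul] at h2
  linarith [mul_comm c (S.card : ℤ)]

theorem pairs_row {rows : List (List ℤ)} (hp : chkPairs rows = true) (i j : Fin 56) (hij : i ≠ j) :
    ∃ r ∈ rows, (r.getD i.val 0 + r.getD j.val 0) % 2 = 1 := by
  have key : ∀ a b : ℕ, a < 56 → b < a → ∃ r ∈ rows, (r.getD a 0 + r.getD b 0) % 2 = 1 := by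
    intro a b ha hb
    have h1 := (List.all_eq_true.mp hp) a (List.mem_range.mpr ha)
    have h2 := (List.all_eq_true.mp h1) b (List.mem_range.mpr hb)
    obtain ⟨r, hr, h3⟩ := List.any_eq_true.mp h2
    exact ⟨r, hr, by simpa using h3⟩
  have hne : i.val ≠ j.val := fun h => hij (Fin.ext h)
  rcases lt_or_gt_of_ne hne with h | h
  · obtain ⟨r, hr, h3⟩ := key j.val i.val j.isLt h
    exact ⟨r, hr, by rw [add_comm]; exact h3⟩
  · exact key i.val j.val i.isLt h

theorem no_norm8 {rows cols : List (List ℤ)} {gens pbs : List ℕ} {bss : List (List Bool)}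
    {blk : List (ℕ × List ℤ × List ℤ × ℕ)}
    (hc : colsOK rows cols = true) (hg : chkGram rows = true)
    (hpar : chkPar rows gens pbs bss = true)
    (hgl : gens.all (fun g => decide (g < 2 ^ 56)) = true)
    (hgood : ∀ bs : List Bool, bs.length = gens.length →
      Good (blk.map (fun b => b.1)) (xorSel bs gens))
    (hblk : blk.all (fun b => chkBlk cols b.1 b.2.1 b.2.2.1 b.2.2.2) = true)
    (hpairs : chkPairs rows = true) :
    ∀ y ∈ LW rows, nrm y ≠ 8 := by
  intro y hy h8
  obtain ⟨bs, hbs, hpar'⟩ := par_all hpar y hy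
  have hw : xorSel bs gens < 2 ^ 56 := xorSel_lt gens (by
    intro g hg'
    have := (List.all_eq_true.mp hgl) g hg'
    simpa using this) bs
  have hleaf := hgood bs hbs
  generalize xorSel bs gens = w at hw hleaf hpar'
  have hO : ∀ i : Fin 56, i ∈ bitsF w ↔ y i % 2 = 1 := by
    intro i; simp [bitsF, hpar' i]
  rcases hleaf with h0 | hm | h9
  · -- all coordinates even
    subst h0
    have hev : ∀ i : Fin 56, y i % 2 = 0 := by
      intro i
      have := hpar' i
      simp only [Nat.zero_testBit, Bool.false_eq_true, iff_false] at this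
      omega
    set T : Finset (Fin 56) := Finset.univ.filter (fun i => y i ≠ 0) with hT
    have hT4 : 4 * (T.card : ℤ) ≤ ∑ i ∈ T, y i * y i := by
      apply card_le_sum
      intro i hi
      simp only [hT, Finset.mem_filter, Finset.mem_univ, true_and] at hi
      exact four_le_mul_self hi (hev i)
    have hTsum : ∑ i ∈ T, y i * y i = nrm y := by
      rw [hT, nrm]
      apply Finset.sum_filter_of_ne
      intro i _ hne h0
      apply hne
      rw [h0, mul_zero]
    have hcard : T.card ≤ 2 := by
      have : 4 * (T.card : ℤ) ≤ 8 := by rw [← h8, ← hTsum]; exact hT4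
      omega
    have hcases : T.card = 0 ∨ T.card = 1 ∨ T.card = 2 := by omega
    rcases hcases with hc0 | hc1 | hc2
    · rw [Finset.card_eq_zero] at hc0
      rw [hc0, Finset.sum_empty] at hTsum
      omega
    · obtain ⟨i, hi⟩ := Finset.card_eq_one.mp hc1
      rw [hi, Finset.sum_singleton] at hTsum
      have h88 : y i * y i = 8 := by rw [hTsum, h8]
      have h1 : y i ≤ 2 := by nlinarith
      have h2 : -2 ≤ y i := by nlinarith
      interval_cases (y i) <;> omega
    · obtain ⟨i, j, hij, hTij⟩ := Finset.card_eq_two.mp hc2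
      have hi : i ∈ T := by rw [hTij]; simp
      have hj : j ∈ T := by rw [hTij]; simp
      have hi0 : y i ≠ 0 := by
        simpa [hT] using hi
      have hj0 : y j ≠ 0 := by
        simpa [hT] using hj
      have hsum : y i * y i + y j * y j = 8 := by
        rw [← h8, ← hTsum, hTij, Finset.sum_pair hij]
      have h4i := four_le_mul_self hi0 (hev i)
      have h4j := four_le_mul_self hj0 (hev j)
      have hyi : y i = 2 ∨ y i = -2 := by
        have : (y i - 2) * (y i + 2) = 0 := by nlinarith
        rcases mul_eq_zero.mp this with h | h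
        · left; omega
        · right; omega
      have hyj : y j = 2 ∨ y j = -2 := by
        have : (y j - 2) * (y j + 2) = 0 := by nlinarith
        rcases mul_eq_zero.mp this with h | h
        · left; omega
        · right; omega
      obtain ⟨r, hr, hodd⟩ := pairs_row hpairs i j hij
      have hdvd := gram_mem_mem hg (ofL r) (ofL_mem_LW hr) y hy
      have hip : ip (ofL r) y = r.getD i.val 0 * y i + r.getD j.val 0 * y j := by
        have : ip (ofL r) y = ∑ k ∈ T, ofL r k * y k := by
          rw [hT, ip]
          symm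
          apply Finset.sum_filter_of_ne
          intro k _ hne h0
          apply hne
          rw [h0, mul_zero]
        rw [this, hTij, Finset.sum_pair hij]
        rfl
      rw [hip] at hdvd
      rcases hyi with h | h <;> rcases hyj with h' | h' <;> rw [h, h'] at hdvd <;> omega
  · -- a block word
    obtain ⟨⟨m', hv, as, j⟩, hb, hm'⟩ := List.mem_map.mp hm
    simp only at hm'
    subst hm'
    have hB := (List.all_eq_true.mp hblk) _ hb
    simp only [chkBlk, Bool.and_eq_true, decide_eq_true_eq] at hB
    obtain ⟨⟨⟨⟨⟨hB1, hB2⟩, hB3⟩, hB4⟩, hB5⟩, hB7⟩ := hB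
    have hcard : (8 : ℤ) ≤ (bitsF m').card := by
      exact_mod_cast le_trans hB5 (pc_le_card 8 m' hw)
    have hOsum : (8 : ℤ) ≤ ∑ i ∈ bitsF m', y i * y i := by
      have := card_le_sum y (bitsF m') 1 (by
        intro i hi
        apply one_le_mul_self
        intro h
        have := (hO i).mp hi
        rw [h] at this
        simp at this)
      linarith
    have hsplit := Finset.sum_add_sum_compl (bitsF m') (fun i => y i * y i)
    have hcompl : ∑ i ∈ (bitsF m')ᶜ, y i * y i = 0 := by
      have hnn : 0 ≤ ∑ i ∈ (bitsF m')ᶜ, y i * y i :=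
        Finset.sum_nonneg (fun i _ => mul_self_nonneg _)
      have : ∑ i, y i * y i = 8 := h8
      linarith
    have hzero : ∀ i : Fin 56, i ∉ bitsF m' → y i = 0 := by
      intro i hi
      have := (Finset.sum_eq_zero_iff_of_nonneg (fun i _ => mul_self_nonneg _)).mp hcompl i
        (Finset.mem_compl.mpr hi)
      exact mul_self_eq_zero.mp this
    have hdvd := gram_mem_mem hg (ofL hv) (chkLC_mem hc hB1) y hy
    let j' : Fin 56 := ⟨j, hB2⟩
    have hsum := Finset.add_sum_erase Finset.univ (fun i => ofL hv i * y i) (Finset.mem_univ j')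
    have hrest : (4 : ℤ) ∣ ∑ i ∈ Finset.univ.erase j', ofL hv i * y i := by
      apply Finset.dvd_sum
      intro i hi
      have hne : i ≠ j' := (Finset.mem_erase.mp hi).1
      by_cases hiO : i ∈ bitsF m'
      · have h7 := (List.all_eq_true.mp hB7) i.val (List.mem_range.mpr i.isLt)
        have htb : m'.testBit i.val = true := by
          simpa [bitsF] using hiO
        have hnej : i.val ≠ j := fun h => hne (Fin.ext h)
        simp only [htb, Bool.not_true, Bool.false_or, Bool.or_eq_true, decide_eq_true_eq] at h7
        rcases h7 with h7 | h7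
        · exact absurd h7 hnej
        · exact Dvd.dvd.mul_right (Int.dvd_of_emod_eq_zero h7) _
      · rw [hzero i hiO, mul_zero]; exact dvd_zero _
    have hj : (4 : ℤ) ∣ ofL hv j' * y j' := by
      have : ip (ofL hv) y = ofL hv j' * y j' + ∑ i ∈ Finset.univ.erase j', ofL hv i * y i := by
        rw [ip]; exact hsum.symm
      rw [this] at hdvd
      exact (Int.dvd_add_left hrest).mp hdvd
    have hjO : y j' % 2 = 1 := by
      apply (hO j').mp
      simp [bitsF, j', hB3]
    have ht : ofL hv j' % 4 = 2 := hB4
    have hmod : (ofL hv j' * y j') % 4 = 2 := by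
      rw [Int.mul_emod, ht]
      have : y j' % 4 = 1 ∨ y j' % 4 = 3 := by omega
      rcases this with h | h <;> rw [h] <;> norm_num
    have := Int.emod_eq_zero_of_dvd hj
    omega
  · -- weight at least 9
    have h2 := card_le_nrm y (bitsF w) 1 (by norm_num) (by
      intro i hi
      apply one_le_mul_self
      intro h
      have := (hO i).mp hi
      rw [h] at this
      simp at this)
    have : (9 : ℤ) ≤ (bitsF w).card := by exact_mod_cast h9
    linarith

theorem min16 {rows cols : List (List ℤ)} {gens pbs : List ℕ} {bss : List (List Bool)}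
    {blk : List (ℕ × List ℤ × List ℤ × ℕ)}
    (hc : colsOK rows cols = true) (hg : chkGram rows = true)
    (hpar : chkPar rows gens pbs bss = true)
    (hgl : gens.all (fun g => decide (g < 2 ^ 56)) = true)
    (hgood : ∀ bs : List Bool, bs.length = gens.length →
      Good (blk.map (fun b => b.1)) (xorSel bs gens))
    (hblk : blk.all (fun b => chkBlk cols b.1 b.2.1 b.2.2.1 b.2.2.2) = true)
    (hpairs : chkPairs rows = true) :
    ∀ y ∈ LW rows, y ≠ 0 → 16 ≤ nrm y := by
  intro y hy hy0
  have h1 := nrm_pos hy0
  obtain ⟨c, hc'⟩ := gram_nrm hg y hy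
  have h3 := no_norm8 hc hg hpar hgl hgood hblk hpairs y hy
  omega

end Cfsg.Agent.Helper5.RuLat
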