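import Cfsg.Agent.Helper5.RuLatA
import Cfsg.Prelude.Def_Spor_Ru

/-! Bridge between `Cfsg.Spor.RuVec` and `ℤ^56` (helper5, S1628). -/

set_option autoImplicit false
set_option linter.unusedSimpArgs false

namespace Cfsg.Agent.Helper5.RuLat
open Cfsg.Spor

def cIdxN (n : ℕ) : RuIdx := (Fin.ofNat 7 (n / 8), Fin.ofNat 4 (n / 2))

def rcN (x : RuVec) (n : ℕ) : ℤ := if n % 2 = 0 then (x (cIdxN n)).re else (x (cIdxN n)).im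

def rc (x : RuVec) : W := fun i => rcN x i.val

def rcHom : RuVec →+ W where
  toFun := rc
  map_zero' := by funext i; simp [rc, rcN]
  map_add' := by
    intro x y; funext i
    simp only [rc, rcN, Pi.add_apply]
    split <;> simp

def permI : List ℕ := [1, 0, 3, 2, 5, 4, 7, 6, 9, 8, 11, 10, 13, 12, 15, 14, 17, 16, 19, 18, 21, 20, 23, 22, 25, 24, 27, 26, 29, 28, 31, 30, 33, 32, 35, 34, 37, 36, 39, 38, 41, 40, 43, 42, 45, 44, 47, 46, 49, 48, 51, 50, 53, 52, 55, 54]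
def sgnI : List ℤ := [-1, 1, -1, 1, -1, 1, -1, 1, -1, 1, -1, 1, -1, 1, -1, 1, -1, 1, -1, 1, -1, 1, -1, 1, -1, 1, -1, 1, -1, 1, -1, 1, -1, 1, -1, 1, -1, 1, -1, 1, -1, 1, -1, 1, -1, 1, -1, 1, -1, 1, -1, 1, -1, 1, -1, 1]
def permJ : List ℕ := [3, 2, 1, 0, 6, 7, 4, 5, 11, 10, 9, 8, 14, 15, 12, 13, 19, 18, 17, 16, 22, 23, 20, 21, 27, 26, 25, 24, 30, 31, 28, 29, 35, 34, 33, 32, 38, 39, 36, 37, 43, 42, 41, 40, 46, 47, 44, 45, 51, 50, 49, 48, 54, 55, 52, 53]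
def sgnJ : List ℤ := [-1, 1, -1, 1, 1, 1, -1, -1, -1, 1, -1, 1, 1, 1, -1, -1, -1, 1, -1, 1, 1, 1, -1, -1, -1, 1, -1, 1, 1, 1, -1, -1, -1, 1, -1, 1, 1, 1, -1, -1, -1, 1, -1, 1, 1, 1, -1, -1, -1, 1, -1, 1, 1, 1, -1, -1]
def permK : List ℕ := [5, 4, 6, 7, 1, 0, 2, 3, 13, 12, 14, 15, 9, 8, 10, 11, 21, 20, 22, 23, 17, 16, 18, 19, 29, 28, 30, 31, 25, 24, 26, 27, 37, 36, 38, 39, 33, 32, 34, 35, 45, 44, 46, 47, 41, 40, 42, 43, 53, 52, 54, 55, 49, 48, 50, 51]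
def sgnK : List ℤ := [-1, 1, -1, -1, -1, 1, 1, 1, -1, 1, -1, -1, -1, 1, 1, 1, -1, 1, -1, -1, -1, 1, 1, 1, -1, 1, -1, -1, -1, 1, 1, 1, -1, 1, -1, -1, -1, 1, 1, 1, -1, 1, -1, -1, -1, 1, 1, 1, -1, 1, -1, -1, -1, 1, 1, 1]
def permS : List ℕ := [0, 1, 2, 3, 4, 5, 6, 7, 8, 9, 10, 11, 12, 13, 14, 15, 16, 17, 18, 19, 20, 21, 22, 23, 24, 25, 26, 27, 28, 29, 30, 31, 32, 33, 34, 35, 36, 37, 38, 39, 40, 41, 42, 43, 44, 45, 46, 47, 48, 49, 50, 51, 52, 53, 54, 55]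
def sgnS : List ℤ := [-1, -1, -1, -1, -1, -1, -1, -1, 1, 1, 1, 1, 1, 1, 1, 1, 1, 1, 1, 1, 1, 1, 1, 1, -1, -1, -1, -1, -1, -1, -1, -1, 1, 1, 1, 1, 1, 1, 1, 1, -1, -1, -1, -1, -1, -1, -1, -1, -1, -1, -1, -1, -1, -1, -1, -1]
def permT : List ℕ := [8, 9, 10, 11, 12, 13, 14, 15, 16, 17, 18, 19, 20, 21, 22, 23, 24, 25, 26, 27, 28, 29, 30, 31, 32, 33, 34, 35, 36, 37, 38, 39, 40, 41, 42, 43, 44, 45, 46, 47, 48, 49, 50, 51, 52, 53, 54, 55, 0, 1, 2, 3, 4, 5, 6, 7]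
def sgnT : List ℤ := [1, 1, 1, 1, 1, 1, 1, 1, 1, 1, 1, 1, 1, 1, 1, 1, 1, 1, 1, 1, 1, 1, 1, 1, 1, 1, 1, 1, 1, 1, 1, 1, 1, 1, 1, 1, 1, 1, 1, 1, 1, 1, 1, 1, 1, 1, 1, 1, 1, 1, 1, 1, 1, 1, 1, 1]

theorem gI_mul_re (z : GaussianInt) : (gI * z).re = - z.im := by simp [gI]
theorem gI_mul_im (z : GaussianInt) : (gI * z).im = z.re := by simp [gI]
theorem gI_re : gI.re = 0 := rfl
theorem gI_im : gI.im = 1 := rfl

theorem cIdxN_0 : cIdxN 0 = (0, 0) := rfl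
theorem cIdxN_1 : cIdxN 1 = (0, 0) := rfl
theorem cIdxN_2 : cIdxN 2 = (0, 1) := rfl
theorem cIdxN_3 : cIdxN 3 = (0, 1) := rfl
theorem cIdxN_4 : cIdxN 4 = (0, 2) := rfl
theorem cIdxN_5 : cIdxN 5 = (0, 2) := rfl
theorem cIdxN_6 : cIdxN 6 = (0, 3) := rfl
theorem cIdxN_7 : cIdxN 7 = (0, 3) := rfl
theorem cIdxN_8 : cIdxN 8 = (1, 0) := rfl
theorem cIdxN_9 : cIdxN 9 = (1, 0) := rfl
theorem cIdxN_10 : cIdxN 10 = (1, 1) := rfl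
theorem cIdxN_11 : cIdxN 11 = (1, 1) := rfl
theorem cIdxN_12 : cIdxN 12 = (1, 2) := rfl
theorem cIdxN_13 : cIdxN 13 = (1, 2) := rfl
theorem cIdxN_14 : cIdxN 14 = (1, 3) := rfl
theorem cIdxN_15 : cIdxN 15 = (1, 3) := rfl
theorem cIdxN_16 : cIdxN 16 = (2, 0) := rfl
theorem cIdxN_17 : cIdxN 17 = (2, 0) := rfl
theorem cIdxN_18 : cIdxN 18 = (2, 1) := rfl
theorem cIdxN_19 : cIdxN 19 = (2, 1) := rfl
theorem cIdxN_20 : cIdxN 20 = (2, 2) := rfl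
theorem cIdxN_21 : cIdxN 21 = (2, 2) := rfl
theorem cIdxN_22 : cIdxN 22 = (2, 3) := rfl
theorem cIdxN_23 : cIdxN 23 = (2, 3) := rfl
theorem cIdxN_24 : cIdxN 24 = (3, 0) := rfl
theorem cIdxN_25 : cIdxN 25 = (3, 0) := rfl
theorem cIdxN_26 : cIdxN 26 = (3, 1) := rfl
theorem cIdxN_27 : cIdxN 27 = (3, 1) := rfl
theorem cIdxN_28 : cIdxN 28 = (3, 2) := rfl
theorem cIdxN_29 : cIdxN 29 = (3, 2) := rfl
theorem cIdxN_30 : cIdxN 30 = (3, 3) := rfl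
theorem cIdxN_31 : cIdxN 31 = (3, 3) := rfl
theorem cIdxN_32 : cIdxN 32 = (4, 0) := rfl
theorem cIdxN_33 : cIdxN 33 = (4, 0) := rfl
theorem cIdxN_34 : cIdxN 34 = (4, 1) := rfl
theorem cIdxN_35 : cIdxN 35 = (4, 1) := rfl
theorem cIdxN_36 : cIdxN 36 = (4, 2) := rfl
theorem cIdxN_37 : cIdxN 37 = (4, 2) := rfl
theorem cIdxN_38 : cIdxN 38 = (4, 3) := rfl
theorem cIdxN_39 : cIdxN 39 = (4, 3) := rfl
theorem cIdxN_40 : cIdxN 40 = (5, 0) := rfl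
theorem cIdxN_41 : cIdxN 41 = (5, 0) := rfl
theorem cIdxN_42 : cIdxN 42 = (5, 1) := rfl
theorem cIdxN_43 : cIdxN 43 = (5, 1) := rfl
theorem cIdxN_44 : cIdxN 44 = (5, 2) := rfl
theorem cIdxN_45 : cIdxN 45 = (5, 2) := rfl
theorem cIdxN_46 : cIdxN 46 = (5, 3) := rfl
theorem cIdxN_47 : cIdxN 47 = (5, 3) := rfl
theorem cIdxN_48 : cIdxN 48 = (6, 0) := rfl
theorem cIdxN_49 : cIdxN 49 = (6, 0) := rfl
theorem cIdxN_50 : cIdxN 50 = (6, 1) := rfl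
theorem cIdxN_51 : cIdxN 51 = (6, 1) := rfl
theorem cIdxN_52 : cIdxN 52 = (6, 2) := rfl
theorem cIdxN_53 : cIdxN 53 = (6, 2) := rfl
theorem cIdxN_54 : cIdxN 54 = (6, 3) := rfl
theorem cIdxN_55 : cIdxN 55 = (6, 3) := rfl


set_option maxHeartbeats 4000000 in
theorem rc_opI (x : RuVec) : rc (gI • x) = opW permI sgnI (rc x) := by
  funext i
  fin_cases i <;> simp [rc, rcN, opW, permI, sgnI, gI_re, gI_im, cIdxN_0, cIdxN_1, cIdxN_2, cIdxN_3, cIdxN_4, cIdxN_5, cIdxN_6, cIdxN_7, cIdxN_8, cIdxN_9, cIdxN_10, cIdxN_11, cIdxN_12, cIdxN_13, cIdxN_14, cIdxN_15, cIdxN_16, cIdxN_17, cIdxN_18, cIdxN_19, cIdxN_20, cIdxN_21, cIdxN_22, cIdxN_23, cIdxN_24, cIdxN_25, cIdxN_26, cIdxN_27, cIdxN_28, cIdxN_29, cIdxN_30, cIdxN_31, cIdxN_32, cIdxN_33, cIdxN_34, cIdxN_35, cIdxN_36, cIdxN_37, cIdxN_38, cIdxN_39, cIdxN_40, cIdxN_41,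 cIdxN_42, cIdxN_43, cIdxN_44, cIdxN_45, cIdxN_46, cIdxN_47, cIdxN_48, cIdxN_49, cIdxN_50, cIdxN_51, cIdxN_52, cIdxN_53, cIdxN_54, cIdxN_55]

set_option maxHeartbeats 4000000 in
theorem rc_opJ (x : RuVec) : rc (ruRj x) = opW permJ sgnJ (rc x) := by
  funext i
  fin_cases i <;> simp [rc, rcN, ruRj, opW, permJ, sgnJ, gI_re, gI_im, cIdxN_0, cIdxN_1, cIdxN_2, cIdxN_3, cIdxN_4, cIdxN_5, cIdxN_6, cIdxN_7, cIdxN_8, cIdxN_9, cIdxN_10, cIdxN_11, cIdxN_12, cIdxN_13, cIdxN_14, cIdxN_15, cIdxN_16, cIdxN_17, cIdxN_18, cIdxN_19, cIdxN_20, cIdxN_21, cIdxN_22, cIdxN_23, cIdxN_24, cIdxN_25, cIdxN_26, cIdxN_27, cIdxN_28, cIdxN_29, cIdxN_30, cIdxN_31, cIdxN_32, cIdxN_33, cIdxN_34, cIdxN_35, cIdxN_36, cIdxN_37, cIdxN_38, cIdxN_39, cIdxN_40, cIdxN_41, cIdxN_42, cIdxN_43, cIdxN_44, cIdxN_45, cIdxN_46, cIdxN_47, cIdxN_48, cIdxN_49,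 cIdxN_50, cIdxN_51, cIdxN_52, cIdxN_53, cIdxN_54, cIdxN_55]

set_option maxHeartbeats 4000000 in
theorem rc_opK (x : RuVec) : rc (ruRk x) = opW permK sgnK (rc x) := by
  funext i
  fin_cases i <;> simp [rc, rcN, ruRk, opW, permK, sgnK, gI_re, gI_im, cIdxN_0, cIdxN_1, cIdxN_2, cIdxN_3, cIdxN_4, cIdxN_5, cIdxN_6, cIdxN_7, cIdxN_8, cIdxN_9, cIdxN_10, cIdxN_11, cIdxN_12, cIdxN_13, cIdxN_14, cIdxN_15, cIdxN_16, cIdxN_17, cIdxN_18, cIdxN_19, cIdxN_20, cIdxN_21, cIdxN_22, cIdxN_23, cIdxN_24, cIdxN_25, cIdxN_26, cIdxN_27, cIdxN_28, cIdxN_29, cIdxN_30, cIdxN_31, cIdxN_32, cIdxN_33, cIdxN_34, cIdxN_35, cIdxN_36, cIdxN_37, cIdxN_38, cIdxN_39, cIdxN_40, cIdxN_41, cIdxN_42, cIdxN_43, cIdxN_44, cIdxN_45, cIdxN_46, cIdxN_47, cIdxN_48, cIdxN_49, cIdxN_50, cIdxN_51, cIdxN_52, cIdxN_53, cIdxN_54, cIdxN_55]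

set_option maxHeartbeats 4000000 in
theorem rc_opS (x : RuVec) : rc (ruSign x) = opW permS sgnS (rc x) := by
  funext i
  fin_cases i <;> simp [rc, rcN, ruSign, opW, permS, sgnS, gI_re, gI_im, cIdxN_0, cIdxN_1, cIdxN_2, cIdxN_3, cIdxN_4, cIdxN_5, cIdxN_6, cIdxN_7, cIdxN_8, cIdxN_9, cIdxN_10, cIdxN_11, cIdxN_12, cIdxN_13, cIdxN_14, cIdxN_15, cIdxN_16, cIdxN_17, cIdxN_18, cIdxN_19, cIdxN_20, cIdxN_21, cIdxN_22, cIdxN_23, cIdxN_24, cIdxN_25, cIdxN_26, cIdxN_27, cIdxN_28, cIdxN_29, cIdxN_30, cIdxN_31, cIdxN_32, cIdxN_33, cIdxN_34, cIdxN_35, cIdxN_36, cIdxN_37, cIdxN_38, cIdxN_39, cIdxN_40, cIdxN_41, cIdxN_42, cIdxN_43, cIdxN_44, cIdxN_45, cIdxN_46, cIdxN_47, cIdxN_48, cIdxN_49, cIdxN_50, cIdxN_51, cIdxN_52, cIdxN_53, cIdxN_54, cIdxN_55]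

set_option maxHeartbeats 4000000 in
theorem rc_opT (x : RuVec) : rc (ruShift x) = opW permT sgnT (rc x) := by
  funext i
  fin_cases i <;> simp [rc, rcN, ruShift, opW, permT, sgnT, gI_re, gI_im, cIdxN_0, cIdxN_1, cIdxN_2, cIdxN_3, cIdxN_4, cIdxN_5, cIdxN_6, cIdxN_7, cIdxN_8, cIdxN_9, cIdxN_10, cIdxN_11, cIdxN_12, cIdxN_13, cIdxN_14, cIdxN_15, cIdxN_16, cIdxN_17, cIdxN_18, cIdxN_19, cIdxN_20, cIdxN_21, cIdxN_22, cIdxN_23, cIdxN_24, cIdxN_25, cIdxN_26, cIdxN_27, cIdxN_28, cIdxN_29, cIdxN_30, cIdxN_31, cIdxN_32, cIdxN_33, cIdxN_34, cIdxN_35, cIdxN_36, cIdxN_37, cIdxN_38, cIdxN_39, cIdxN_40, cIdxN_41, cIdxN_42, cIdxN_43, cIdxN_44, cIdxN_45, cIdxN_46, cIdxN_47, cIdxN_48, cIdxN_49, cIdxN_50, cIdxN_51, cIdxN_52, cIdxN_53, cIdxN_54, cIdxN_55]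

set_option maxHeartbeats 4000000 in
theorem ruNorm_eq (x : RuVec) : ruNorm x = nrm (rc x) := by
  have h : nrm (rc x) = ∑ i : Fin 56, (fun n => rcN x n * rcN x n) i.val := rfl
  rw [h, Fin.sum_univ_eq_sum_range (fun n => rcN x n * rcN x n) 56, ruNorm]
  simp only [Fintype.sum_prod_type, Fin.sum_univ_seven, Fin.sum_univ_four, Finset.sum_range_succ,
    Finset.sum_range_zero, rcN, cIdxN_0, cIdxN_1, cIdxN_2, cIdxN_3, cIdxN_4, cIdxN_5, cIdxN_6, cIdxN_7, cIdxN_8, cIdxN_9, cIdxN_10, cIdxN_11, cIdxN_12, cIdxN_13, cIdxN_14, cIdxN_15, cIdxN_16, cIdxN_17, cIdxN_18, cIdxN_19, cIdxN_20, cIdxN_21, cIdxN_22, cIdxN_23, cIdxN_24, cIdxN_25, cIdxN_26, cIdxN_27, cIdxN_28, cIdxN_29, cIdxN_30, cIdxN_31, cIdxN_32, cIdxN_33, cIdxN_34, cIdxN_35, cIdxN_36, cIdxN_37, cIdxN_38, cIdxN_39, cIdxN_40, cIdxN_41, cIdxN_42, cIdxN_43, cIdxN_44,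 cIdxN_45, cIdxN_46, cIdxN_47, cIdxN_48, cIdxN_49, cIdxN_50, cIdxN_51, cIdxN_52, cIdxN_53, cIdxN_54, cIdxN_55, Zsqrtd.norm_def]
  norm_num
  ring

theorem rc_inj (x : RuVec) (h : rc x = 0) : x = 0 := by
  funext p
  obtain ⟨n, t⟩ := p
  have h0 := congrFun h ⟨8 * n.val + 2 * t.val, by omega⟩
  have h1 := congrFun h ⟨8 * n.val + 2 * t.val + 1, by omega⟩
  have hc0 : cIdxN (8 * n.val + 2 * t.val) = (n, t) := by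
    simp only [cIdxN]
    refine Prod.ext (Fin.ext ?_) (Fin.ext ?_)
    · simp [Fin.ofNat]; omega
    · simp [Fin.ofNat]; omega
  have hc1 : cIdxN (8 * n.val + 2 * t.val + 1) = (n, t) := by
    simp only [cIdxN]
    refine Prod.ext (Fin.ext ?_) (Fin.ext ?_)
    · simp [Fin.ofNat]; omega
    · simp [Fin.ofNat]; omega
  simp only [rc, rcN, hc0, hc1, Pi.zero_apply] at h0 h1
  rw [if_pos (by omega)] at h0
  rw [if_neg (by omega)] at h1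
  exact Zsqrtd.ext h0 h1


end Cfsg.Agent.Helper5.RuLat
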