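import Cfsg.Agent.Helper5.RuLatE
import Cfsg.Agent.Helper5.RuLatD

/-! Kernel checks of the Ru lattice certificates, part 0 (helper5, S1628). -/

set_option autoImplicit false
set_option Elab.async false

namespace Cfsg.Agent.Helper5.RuLat
open Cfsg.Spor

set_option maxRecDepth 1000000 in
theorem colsN_ok : colsOKn rowsC colsC = true := by decide +kernel

set_option maxRecDepth 1000000 in
theorem rows_len : rowsC.length = 56 := by decide +kernel

set_option maxRecDepth 1000000 in
theorem cols_len : colsC.length = 56 := by decide +kernel

set_option maxRecDepth 1000000 in
theorem permI_ok : permOK permI = true := by decide +kernel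

set_option maxRecDepth 1000000 in
theorem sgnI_ok : sgnOK sgnI negI = true := by decide +kernel

set_option maxRecDepth 1000000 in
theorem certI_len : rowsC.length = certIC.length := by decide +kernel

set_option maxRecDepth 1000000 in
theorem permJ_ok : permOK permJ = true := by decide +kernel

set_option maxRecDepth 1000000 in
theorem sgnJ_ok : sgnOK sgnJ negJ = true := by decide +kernel

set_option maxRecDepth 1000000 in
theorem certJ_len : rowsC.length = certJC.length := by decide +kernel

set_option maxRecDepth 1000000 in
theorem permK_ok : permOK permK = true := by decide +kernel

set_option maxRecDepth 1000000 in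
theorem sgnK_ok : sgnOK sgnK negK = true := by decide +kernel

set_option maxRecDepth 1000000 in
theorem certK_len : rowsC.length = certKC.length := by decide +kernel

set_option maxRecDepth 1000000 in
theorem permS_ok : permOK permS = true := by decide +kernel

set_option maxRecDepth 1000000 in
theorem sgnS_ok : sgnOK sgnS negS = true := by decide +kernel

set_option maxRecDepth 1000000 in
theorem certS_len : rowsC.length = certSC.length := by decide +kernel

set_option maxRecDepth 1000000 in
theorem permT_ok : permOK permT = true := by decide +kernel

set_option maxRecDepth 1000000 in
theorem sgnT_ok : sgnOK sgnT negT = true := by decide +kernel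

set_option maxRecDepth 1000000 in
theorem certT_len : rowsC.length = certTC.length := by decide +kernel

set_option maxRecDepth 1000000 in
theorem parN_ok : chkParN rowsC gensD pbsD bssD = true := by decide +kernel

set_option maxRecDepth 1000000 in
theorem gensD_lt : gensD.all (fun g => decide (g < 2 ^ 56)) = true := by decide +kernel

set_option maxRecDepth 1000000 in
theorem span_ok : spanOK gensD (gensCD ++ gensKD) betasD = true := by decide +kernel

set_option maxRecDepth 1000000 in
theorem ks_fold : gensKD.all (fun k => decide (fold k = 0)) = true := by decide +kernel

set_option maxRecDepth 1000000 in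
theorem ks_lt : gensKD.all (fun k => decide (k < 2 ^ 56)) = true := by decide +kernel

set_option maxRecDepth 1000000 in
theorem cs_lt : gensCD.all (fun c => decide (c < 2 ^ 56)) = true := by decide +kernel

set_option maxRecDepth 1000000 in
theorem blkN_ok : blkC.all (fun b => chkBlkN colsC b.1 b.2.1 b.2.2.1 b.2.2.2) = true := by decide +kernel

set_option maxRecDepth 1000000 in
theorem pairsN_ok : chkPairsN rowsC = true := by decide +kernel

set_option maxRecDepth 1000000 in
theorem gensD_len : gensD.length = (gensCD ++ gensKD).length := by decide +kernel


end Cfsg.Agent.Helper5.RuLat
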