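import Cfsg.Agent.Helper5.RuLatE
import Cfsg.Agent.Helper5.RuLatD

/-! Kernel checks of the Ru lattice certificates, part 9 (helper5, S1628). -/

set_option autoImplicit false
set_option Elab.async false

namespace Cfsg.Agent.Helper5.RuLat
open Cfsg.Spor

set_option maxRecDepth 1000000 in
theorem gram_r28 : gramAt rowsC 28 = true := by decide +kernel

set_option maxRecDepth 1000000 in
theorem gram_r29 : gramAt rowsC 29 = true := by decide +kernel

set_option maxRecDepth 1000000 in
theorem gram_r30 : gramAt rowsC 30 = true := by decide +kernel

set_option maxRecDepth 1000000 in
theorem gram_r31 : gramAt rowsC 31 = true := by decide +kernel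

set_option maxRecDepth 1000000 in
theorem gram_r32 : gramAt rowsC 32 = true := by decide +kernel

set_option maxRecDepth 1000000 in
theorem gram_r33 : gramAt rowsC 33 = true := by decide +kernel

set_option maxRecDepth 1000000 in
theorem gram_r34 : gramAt rowsC 34 = true := by decide +kernel

set_option maxRecDepth 1000000 in
theorem gram_r35 : gramAt rowsC 35 = true := by decide +kernel

set_option maxRecDepth 1000000 in
theorem gram_r36 : gramAt rowsC 36 = true := by decide +kernel

set_option maxRecDepth 1000000 in
theorem gram_r37 : gramAt rowsC 37 = true := by decide +kernel

set_option maxRecDepth 1000000 in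
theorem gram_r38 : gramAt rowsC 38 = true := by decide +kernel

set_option maxRecDepth 1000000 in
theorem gram_r39 : gramAt rowsC 39 = true := by decide +kernel

set_option maxRecDepth 1000000 in
theorem gram_r40 : gramAt rowsC 40 = true := by decide +kernel

set_option maxRecDepth 1000000 in
theorem gram_r41 : gramAt rowsC 41 = true := by decide +kernel

set_option maxRecDepth 1000000 in
theorem gram_r42 : gramAt rowsC 42 = true := by decide +kernel

set_option maxRecDepth 1000000 in
theorem gram_r43 : gramAt rowsC 43 = true := by decide +kernel

set_option maxRecDepth 1000000 in
theorem gram_r44 : gramAt rowsC 44 = true := by decide +kernel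

set_option maxRecDepth 1000000 in
theorem gram_r45 : gramAt rowsC 45 = true := by decide +kernel

set_option maxRecDepth 1000000 in
theorem gram_r46 : gramAt rowsC 46 = true := by decide +kernel

set_option maxRecDepth 1000000 in
theorem gram_r47 : gramAt rowsC 47 = true := by decide +kernel

set_option maxRecDepth 1000000 in
theorem gram_r48 : gramAt rowsC 48 = true := by decide +kernel

set_option maxRecDepth 1000000 in
theorem gram_r49 : gramAt rowsC 49 = true := by decide +kernel

set_option maxRecDepth 1000000 in
theorem gram_r50 : gramAt rowsC 50 = true := by decide +kernel

set_option maxRecDepth 1000000 in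
theorem gram_r51 : gramAt rowsC 51 = true := by decide +kernel

set_option maxRecDepth 1000000 in
theorem gram_r52 : gramAt rowsC 52 = true := by decide +kernel

set_option maxRecDepth 1000000 in
theorem gram_r53 : gramAt rowsC 53 = true := by decide +kernel

set_option maxRecDepth 1000000 in
theorem gram_r54 : gramAt rowsC 54 = true := by decide +kernel

set_option maxRecDepth 1000000 in
theorem gram_r55 : gramAt rowsC 55 = true := by decide +kernel


end Cfsg.Agent.Helper5.RuLat
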