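import Cfsg.Agent.Helper5.RuLatE
import Cfsg.Agent.Helper5.RuLatD
import Cfsg.Agent.Helper5.RuLatF9

/-! Kernel checks of the Ru lattice certificates, part 1 (helper5, S1628). -/

set_option autoImplicit false
set_option Elab.async false

namespace Cfsg.Agent.Helper5.RuLat
open Cfsg.Spor

set_option maxRecDepth 1000000 in
theorem gram_r0 : gramAt rowsC 0 = true := by decide +kernel

set_option maxRecDepth 1000000 in
theorem gram_r1 : gramAt rowsC 1 = true := by decide +kernel

set_option maxRecDepth 1000000 in
theorem gram_r2 : gramAt rowsC 2 = true := by decide +kernel

set_option maxRecDepth 1000000 in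
theorem gram_r3 : gramAt rowsC 3 = true := by decide +kernel

set_option maxRecDepth 1000000 in
theorem gram_r4 : gramAt rowsC 4 = true := by decide +kernel

set_option maxRecDepth 1000000 in
theorem gram_r5 : gramAt rowsC 5 = true := by decide +kernel

set_option maxRecDepth 1000000 in
theorem gram_r6 : gramAt rowsC 6 = true := by decide +kernel

set_option maxRecDepth 1000000 in
theorem gram_r7 : gramAt rowsC 7 = true := by decide +kernel

set_option maxRecDepth 1000000 in
theorem gram_r8 : gramAt rowsC 8 = true := by decide +kernel

set_option maxRecDepth 1000000 in
theorem gram_r9 : gramAt rowsC 9 = true := by decide +kernel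

set_option maxRecDepth 1000000 in
theorem gram_r10 : gramAt rowsC 10 = true := by decide +kernel

set_option maxRecDepth 1000000 in
theorem gram_r11 : gramAt rowsC 11 = true := by decide +kernel

set_option maxRecDepth 1000000 in
theorem gram_r12 : gramAt rowsC 12 = true := by decide +kernel

set_option maxRecDepth 1000000 in
theorem gram_r13 : gramAt rowsC 13 = true := by decide +kernel

set_option maxRecDepth 1000000 in
theorem gram_r14 : gramAt rowsC 14 = true := by decide +kernel

set_option maxRecDepth 1000000 in
theorem gram_r15 : gramAt rowsC 15 = true := by decide +kernel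

set_option maxRecDepth 1000000 in
theorem gram_r16 : gramAt rowsC 16 = true := by decide +kernel

set_option maxRecDepth 1000000 in
theorem gram_r17 : gramAt rowsC 17 = true := by decide +kernel

set_option maxRecDepth 1000000 in
theorem gram_r18 : gramAt rowsC 18 = true := by decide +kernel

set_option maxRecDepth 1000000 in
theorem gram_r19 : gramAt rowsC 19 = true := by decide +kernel

set_option maxRecDepth 1000000 in
theorem gram_r20 : gramAt rowsC 20 = true := by decide +kernel

set_option maxRecDepth 1000000 in
theorem gram_r21 : gramAt rowsC 21 = true := by decide +kernel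

set_option maxRecDepth 1000000 in
theorem gram_r22 : gramAt rowsC 22 = true := by decide +kernel

set_option maxRecDepth 1000000 in
theorem gram_r23 : gramAt rowsC 23 = true := by decide +kernel

set_option maxRecDepth 1000000 in
theorem gram_r24 : gramAt rowsC 24 = true := by decide +kernel

set_option maxRecDepth 1000000 in
theorem gram_r25 : gramAt rowsC 25 = true := by decide +kernel

set_option maxRecDepth 1000000 in
theorem gram_r26 : gramAt rowsC 26 = true := by decide +kernel

set_option maxRecDepth 1000000 in
theorem gram_r27 : gramAt rowsC 27 = true := by decide +kernel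

theorem gram_all : ∀ k, k < 56 → gramAt rowsC k = true := by
  intro k hk
  interval_cases k
  · exact gram_r0
  · exact gram_r1
  · exact gram_r2
  · exact gram_r3
  · exact gram_r4
  · exact gram_r5
  · exact gram_r6
  · exact gram_r7
  · exact gram_r8
  · exact gram_r9
  · exact gram_r10
  · exact gram_r11
  · exact gram_r12
  · exact gram_r13
  · exact gram_r14
  · exact gram_r15
  · exact gram_r16
  · exact gram_r17
  · exact gram_r18
  · exact gram_r19
  · exact gram_r20
  · exact gram_r21
  · exact gram_r22
  · exact gram_r23
  · exact gram_r24
  · exact gram_r25
  · exact gram_r26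
  · exact gram_r27
  · exact gram_r28
  · exact gram_r29
  · exact gram_r30
  · exact gram_r31
  · exact gram_r32
  · exact gram_r33
  · exact gram_r34
  · exact gram_r35
  · exact gram_r36
  · exact gram_r37
  · exact gram_r38
  · exact gram_r39
  · exact gram_r40
  · exact gram_r41
  · exact gram_r42
  · exact gram_r43
  · exact gram_r44
  · exact gram_r45
  · exact gram_r46
  · exact gram_r47
  · exact gram_r48
  · exact gram_r49
  · exact gram_r50
  · exact gram_r51
  · exact gram_r52
  · exact gram_r53
  · exact gram_r54
  · exact gram_r55

end Cfsg.Agent.Helper5.RuLat
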