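import Cfsg.Agent.Helper5.RuLatE
import Cfsg.Agent.Helper5.RuLatD

/-! Kernel checks of the Ru lattice certificates, part 6 (helper5, S1628). -/

set_option autoImplicit false
set_option Elab.async false

namespace Cfsg.Agent.Helper5.RuLat
open Cfsg.Spor

set_option maxRecDepth 1000000 in
theorem opT_c0 : (List.range' 0 7).all (opAt colsC permT negT rowsC certTC) = true := by decide +kernel

set_option maxRecDepth 1000000 in
theorem opT_c1 : (List.range' 7 7).all (opAt colsC permT negT rowsC certTC) = true := by decide +kernel

set_option maxRecDepth 1000000 in
theorem opT_c2 : (List.range' 14 7).all (opAt colsC permT negT rowsC certTC) = true := by decide +kernel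

set_option maxRecDepth 1000000 in
theorem opT_c3 : (List.range' 21 7).all (opAt colsC permT negT rowsC certTC) = true := by decide +kernel

set_option maxRecDepth 1000000 in
theorem opT_c4 : (List.range' 28 7).all (opAt colsC permT negT rowsC certTC) = true := by decide +kernel

set_option maxRecDepth 1000000 in
theorem opT_c5 : (List.range' 35 7).all (opAt colsC permT negT rowsC certTC) = true := by decide +kernel

set_option maxRecDepth 1000000 in
theorem opT_c6 : (List.range' 42 7).all (opAt colsC permT negT rowsC certTC) = true := by decide +kernel

set_option maxRecDepth 1000000 in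
theorem opT_c7 : (List.range' 49 7).all (opAt colsC permT negT rowsC certTC) = true := by decide +kernel

theorem opT_all : ∀ k, k < 56 → opAt colsC permT negT rowsC certTC k = true :=
  all56 _ opT_c0 opT_c1 opT_c2 opT_c3 opT_c4 opT_c5 opT_c6 opT_c7

end Cfsg.Agent.Helper5.RuLat
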