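import Cfsg.Agent.Helper5.RuLatE
import Cfsg.Agent.Helper5.RuLatD

/-! Kernel checks of the Ru lattice certificates, part 7 (helper5, S1628). -/

set_option autoImplicit false
set_option Elab.async false

namespace Cfsg.Agent.Helper5.RuLat
open Cfsg.Spor

abbrev blkMasks : List ℕ := blkC.map (fun b => b.1)

set_option maxRecDepth 1000000 in
theorem enum_e0 : enumC (leafOK blkMasks) gensKD gensCR (0) = true := by decide +kernel

set_option maxRecDepth 1000000 in
theorem enum_e3 : enumC (leafOK blkMasks) gensKD gensCR (0 ^^^ gensC3) = true := by decide +kernel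

set_option maxRecDepth 1000000 in
theorem enum_e2 : enumC (leafOK blkMasks) gensKD gensCR (0 ^^^ gensC2) = true := by decide +kernel

set_option maxRecDepth 1000000 in
theorem enum_e23 : enumC (leafOK blkMasks) gensKD gensCR (0 ^^^ gensC2 ^^^ gensC3) = true := by decide +kernel

set_option maxRecDepth 1000000 in
theorem enum_e1 : enumC (leafOK blkMasks) gensKD gensCR (0 ^^^ gensC1) = true := by decide +kernel

set_option maxRecDepth 1000000 in
theorem enum_e13 : enumC (leafOK blkMasks) gensKD gensCR (0 ^^^ gensC1 ^^^ gensC3) = true := by decide +kernel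

set_option maxRecDepth 1000000 in
theorem enum_e12 : enumC (leafOK blkMasks) gensKD gensCR (0 ^^^ gensC1 ^^^ gensC2) = true := by decide +kernel

set_option maxRecDepth 1000000 in
theorem enum_e123 : enumC (leafOK blkMasks) gensKD gensCR (0 ^^^ gensC1 ^^^ gensC2 ^^^ gensC3) = true := by decide +kernel

theorem enum_all : enumC (leafOK blkMasks) gensKD gensCD 0 = true := by
  simp only [gensCD, enumC, Bool.and_eq_true]
  exact ⟨⟨⟨enum_e0, enum_e3⟩, ⟨enum_e2, enum_e23⟩⟩, ⟨⟨enum_e1, enum_e13⟩, ⟨enum_e12, enum_e123⟩⟩⟩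

end Cfsg.Agent.Helper5.RuLat
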