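import Cfsg.Agent.Helper5.RuLatE
import Cfsg.Agent.Helper5.RuLatD

/-! Kernel checks of the Ru lattice certificates, part 8 (helper5, S1628). -/

set_option autoImplicit false
set_option Elab.async false

namespace Cfsg.Agent.Helper5.RuLat
open Cfsg.Spor

def tabT (k i : ℕ) : ℤ := rcN (ruTable.getD k 0) i

set_option maxRecDepth 1000000 in
theorem tab_c0 : (List.range' 0 5).all (tabAt colsC tabCC tabT) = true := by decide +kernel

set_option maxRecDepth 1000000 in
theorem tab_c1 : (List.range' 5 5).all (tabAt colsC tabCC tabT) = true := by decide +kernel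

set_option maxRecDepth 1000000 in
theorem tab_c2 : (List.range' 10 5).all (tabAt colsC tabCC tabT) = true := by decide +kernel

set_option maxRecDepth 1000000 in
theorem tab_c3 : (List.range' 15 5).all (tabAt colsC tabCC tabT) = true := by decide +kernel

theorem ruTable_len : ruTable.length = 20 := by decide

theorem tab_all : ∀ k, k < 20 → tabAt colsC tabCC tabT k = true := by
  intro k hk
  have hcases : k < 5 ∨ (5 ≤ k ∧ k < 10) ∨ (10 ≤ k ∧ k < 15) ∨ (15 ≤ k ∧ k < 20) := by omega
  rcases hcases with h | h | h | h
  · exact (List.all_eq_true.mp tab_c0) k (List.mem_range'_1.mpr ⟨by omega, by omega⟩)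
  · exact (List.all_eq_true.mp tab_c1) k (List.mem_range'_1.mpr ⟨by omega, by omega⟩)
  · exact (List.all_eq_true.mp tab_c2) k (List.mem_range'_1.mpr ⟨by omega, by omega⟩)
  · exact (List.all_eq_true.mp tab_c3) k (List.mem_range'_1.mpr ⟨by omega, by omega⟩)

end Cfsg.Agent.Helper5.RuLat
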