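import Cfsg.Agent.Helper5.RuLatB

/-! Structured enumeration of the parity code via the "Gaussian fold" (helper5, S1628). -/

set_option autoImplicit false

namespace Cfsg.Agent.Helper5.RuLat

def leafOK (blocks : List ℕ) (w : ℕ) : Bool :=
  decide (w = 0) || blocks.any (fun m => decide (m = w)) || decide (9 ≤ pc 9 w)

/-- the word is zero, a listed exception, or has weight at least 9 -/
def Good (blocks : List ℕ) (w : ℕ) : Prop := w = 0 ∨ w ∈ blocks ∨ 9 ≤ (bitsF w).card

theorem good_of_leafOK {blocks : List ℕ} {w : ℕ} (hw : w < 2 ^ 56) (h : leafOK blocks w = true) :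
    Good blocks w := by
  simp only [leafOK, Bool.or_eq_true, decide_eq_true_eq, List.any_eq_true] at h
  rcases h with (h0 | ⟨m, hm, hmw⟩) | h9
  · exact Or.inl h0
  · subst hmw; exact Or.inr (Or.inl hm)
  · exact Or.inr (Or.inr (le_trans h9 (pc_le_card 9 w hw)))

def foldE : ℕ := 0x55555555555555

def fold (w : ℕ) : ℕ := (w ^^^ (w >>> 1)) &&& foldE

theorem foldE_testBit : ∀ i : Fin 56, foldE.testBit i.val = decide (i.val % 2 = 0) := by decide

theorem fold_lt (w : ℕ) : fold w < 2 ^ 56 :=
  lt_of_le_of_lt Nat.and_le_right (by norm_num [foldE])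

theorem fold_zero : fold 0 = 0 := by simp [fold]

theorem fold_xor (a b : ℕ) : fold (a ^^^ b) = fold a ^^^ fold b := by
  apply Nat.eq_of_testBit_eq; intro i
  simp only [fold, Nat.testBit_and, Nat.testBit_xor, Nat.testBit_shiftRight]
  cases a.testBit i <;> cases b.testBit i <;> cases a.testBit (1 + i) <;>
    cases b.testBit (1 + i) <;> cases foldE.testBit i <;> rfl

theorem fold_testBit (w : ℕ) (i : Fin 56) (h : (fold w).testBit i.val = true) :
    i.val % 2 = 0 ∧ (w.testBit i.val = true ∨ w.testBit (i.val + 1) = true) := by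
  simp only [fold, Nat.testBit_and, Nat.testBit_xor, Nat.testBit_shiftRight, Bool.and_eq_true,
    foldE_testBit, decide_eq_true_eq] at h
  refine ⟨h.2, ?_⟩
  have h1 := h.1
  rw [Nat.add_comm 1] at h1
  cases h2 : w.testBit i.val <;> cases h3 : w.testBit (i.val + 1) <;> simp_all

theorem card_fold_le (w : ℕ) : (bitsF (fold w)).card ≤ (bitsF w).card := by
  apply Finset.card_le_card_of_injOn
    (fun i : Fin 56 => if w.testBit i.val = true then i else ⟨min (i.val + 1) 55, by omega⟩)
  · intro i hi
    have hi' : (fold w).testBit i.val = true := by simpa [bitsF] using hi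
    obtain ⟨hev, hor⟩ := fold_testBit w i hi'
    show _ ∈ bitsF w
    simp only [bitsF, Finset.mem_filter, Finset.mem_univ, true_and]
    by_cases hb : w.testBit i.val = true
    · simp [hb]
    · simp only [hb]
      rcases hor with h | h
      · exact absurd h hb
      · have : min (i.val + 1) 55 = i.val + 1 := by have := i.isLt; omega
        simp only [this]; exact h
  · intro i hi j hj hij
    have hi' : (fold w).testBit i.val = true := by simpa [bitsF] using hi
    have hj' : (fold w).testBit j.val = true := by simpa [bitsF] using hj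
    have hei := (fold_testBit w i hi').1
    have hej := (fold_testBit w j hj').1
    have hil := i.isLt
    have hjl := j.isLt
    apply Fin.ext
    simp only at hij
    split at hij <;> split at hij <;> (have := congrArg Fin.val hij; (try simp only [Fin.val_mk] at this); omega)

theorem xorSel_append (gs₁ gs₂ : List ℕ) : ∀ (bs₁ bs₂ : List Bool), bs₁.length = gs₁.length →
    xorSel (bs₁ ++ bs₂) (gs₁ ++ gs₂) = xorSel bs₁ gs₁ ^^^ xorSel bs₂ gs₂ := by
  induction gs₁ with
  | nil =>
    intro bs₁ bs₂ h
    have : bs₁ = [] := List.length_eq_zero_iff.mp h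
    subst this; simp
  | cons g gs ih =>
    intro bs₁ bs₂ h
    cases bs₁ with
    | nil => simp at h
    | cons b bs =>
      simp only [List.cons_append, xorSel_cons]
      rw [ih bs bs₂ (by simpa using h), Nat.xor_assoc]

theorem fold_xorSel_zero (ks : List ℕ) (hk : ∀ k ∈ ks, fold k = 0) : ∀ bs : List Bool,
    fold (xorSel bs ks) = 0 := by
  induction ks with
  | nil => intro bs; simp [fold_zero]
  | cons k ks ih =>
    intro bs
    cases bs with
    | nil => simp [fold_zero]
    | cons b bs =>
      rw [xorSel_cons, fold_xor, ih (fun k' hk' => hk k' (by simp [hk'])) bs]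
      cases b
      · simp [fold_zero]
      · simp [hk k (by simp)]

def enumC (leaf : ℕ → Bool) (ks : List ℕ) : List ℕ → ℕ → Bool
  | [], acc => decide (9 ≤ pc 9 (fold acc)) || enumOK leaf ks acc
  | c :: cs, acc => enumC leaf ks cs acc && enumC leaf ks cs (acc ^^^ c)

theorem enumC_sound (blocks ks : List ℕ) (hk : ∀ k ∈ ks, fold k = 0) (hkl : ∀ k ∈ ks, k < 2 ^ 56) :
    ∀ (cs : List ℕ) (acc : ℕ), (∀ c ∈ cs, c < 2 ^ 56) → acc < 2 ^ 56 →
      enumC (leafOK blocks) ks cs acc = true →
      ∀ bs₂ bs₁ : List Bool, bs₂.length = cs.length → bs₁.length = ks.length →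
        Good blocks (acc ^^^ xorSel bs₂ cs ^^^ xorSel bs₁ ks) := by
  intro cs
  induction cs with
  | nil =>
    intro acc _ hacc h bs₂ bs₁ _ hb1
    simp only [enumC, Bool.or_eq_true, decide_eq_true_eq] at h
    simp only [xorSel_nil_right, Nat.xor_zero]
    have hK := xorSel_lt ks hkl bs₁
    have hw : acc ^^^ xorSel bs₁ ks < 2 ^ 56 := Nat.xor_lt_two_pow hacc hK
    rcases h with h | h
    · right; right
      have h1 : fold (acc ^^^ xorSel bs₁ ks) = fold acc := by
        rw [fold_xor, fold_xorSel_zero ks hk bs₁, Nat.xor_zero]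
      calc 9 ≤ pc 9 (fold acc) := h
        _ ≤ (bitsF (fold acc)).card := pc_le_card 9 _ (fold_lt acc)
        _ = (bitsF (fold (acc ^^^ xorSel bs₁ ks))).card := by rw [h1]
        _ ≤ (bitsF (acc ^^^ xorSel bs₁ ks)).card := card_fold_le _
    · exact good_of_leafOK hw (enumOK_sound _ ks acc h bs₁ hb1)
  | cons c cs ih =>
    intro acc hcs hacc h bs₂ bs₁ hb2 hb1
    cases bs₂ with
    | nil => simp at hb2
    | cons b bs₂ =>
      simp only [enumC, Bool.and_eq_true] at h
      have hcs' : ∀ c' ∈ cs, c' < 2 ^ 56 := fun c' hc' => hcs c' (by simp [hc'])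
      rw [xorSel_cons]
      cases b with
      | false =>
        simp only [Bool.false_eq_true, if_false, Nat.zero_xor]
        exact ih acc hcs' hacc h.1 bs₂ bs₁ (by simpa using hb2) hb1
      | true =>
        simp only [if_true]
        rw [← Nat.xor_assoc acc c]
        exact ih (acc ^^^ c) hcs' (Nat.xor_lt_two_pow hacc (hcs c (by simp))) h.2 bs₂ bs₁
          (by simpa using hb2) hb1

theorem good_of_enumC {blocks cs ks : List ℕ} (hk : ks.all (fun k => decide (fold k = 0)) = true)
    (hkl : ks.all (fun k => decide (k < 2 ^ 56)) = true)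
    (hcl : cs.all (fun c => decide (c < 2 ^ 56)) = true)
    (h : enumC (leafOK blocks) ks cs 0 = true) :
    ∀ bs : List Bool, bs.length = (cs ++ ks).length → Good blocks (xorSel bs (cs ++ ks)) := by
  intro bs hbs
  have hk' : ∀ k ∈ ks, fold k = 0 := fun k hk'' => by
    simpa using (List.all_eq_true.mp hk) k hk''
  have hkl' : ∀ k ∈ ks, k < 2 ^ 56 := fun k hk'' => by
    simpa using (List.all_eq_true.mp hkl) k hk''
  have hcl' : ∀ c ∈ cs, c < 2 ^ 56 := fun c hc'' => by
    simpa using (List.all_eq_true.mp hcl) c hc''
  have hlen : bs.length = cs.length + ks.length := by simpa using hbs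
  have h1 : (bs.take cs.length).length = cs.length := by simp [hlen]
  have h2 : (bs.drop cs.length).length = ks.length := by simp [hlen]
  have := enumC_sound blocks ks hk' hkl' cs 0 hcl' (by norm_num) h _ _ h1 h2
  rw [Nat.zero_xor] at this
  rw [← List.take_append_drop cs.length bs, xorSel_append cs ks _ _ h1]
  exact this

/-! ### change of generators -/

def spanOK (gens gens' : List ℕ) (betas : List (List Bool)) : Bool :=
  (List.range gens.length).all (fun j =>
    decide ((betas.getD j []).length = gens'.length) &&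
      decide (xorSel (betas.getD j []) gens' = gens.getD j 0))

theorem span_aux (gens' : List ℕ) : ∀ gens : List ℕ,
    (∀ g ∈ gens, ∃ β : List Bool, β.length = gens'.length ∧ xorSel β gens' = g) →
    ∀ bs : List Bool, ∃ bs' : List Bool, bs'.length = gens'.length ∧
      xorSel bs gens = xorSel bs' gens' := by
  intro gens
  induction gens with
  | nil =>
    intro _ bs
    exact ⟨List.replicate gens'.length false, by simp, by
      rw [xorSel_replicate_false]; simp⟩
  | cons g gs ih =>
    intro hg bs
    cases bs with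
    | nil =>
      exact ⟨List.replicate gens'.length false, by simp, by
        rw [xorSel_replicate_false]; simp⟩
    | cons b bs =>
      obtain ⟨bs'', hl, he⟩ := ih (fun g' hg' => hg g' (by simp [hg'])) bs
      rw [xorSel_cons, he]
      cases b with
      | false => exact ⟨bs'', hl, by simp⟩
      | true =>
        obtain ⟨β, hβ, hβe⟩ := hg g (by simp)
        refine ⟨List.zipWith (fun a b => a ^^ b) β bs'', by simp [hβ, hl], ?_⟩
        rw [xorSel_zipWith gens' β bs'' hβ hl, hβe]
        simp

theorem span_transfer {gens gens' : List ℕ} {betas : List (List Bool)}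
    (h : spanOK gens gens' betas = true) (bs : List Bool) :
    ∃ bs' : List Bool, bs'.length = gens'.length ∧ xorSel bs gens = xorSel bs' gens' := by
  apply span_aux gens' gens
  intro g hg
  obtain ⟨j, hj, rfl⟩ := mem_getD (d := 0) hg
  have h1 := (List.all_eq_true.mp h) j (List.mem_range.mpr hj)
  simp only [Bool.and_eq_true, decide_eq_true_eq] at h1
  exact ⟨betas.getD j [], h1.1, h1.2⟩

end Cfsg.Agent.Helper5.RuLat
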