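import Cfsg.Agent.Helper5.RuLatF0
import Cfsg.Agent.Helper5.RuLatF1
import Cfsg.Agent.Helper5.RuLatF2
import Cfsg.Agent.Helper5.RuLatF3
import Cfsg.Agent.Helper5.RuLatF4
import Cfsg.Agent.Helper5.RuLatF5
import Cfsg.Agent.Helper5.RuLatF6
import Cfsg.Agent.Helper5.RuLatF7
import Cfsg.Agent.Helper5.RuLatF8

/-! The Ru lattice `2Λ ⊂ ℤ[i]^28`: all norms are divisible by 8 and the minimum is 16
(helper5, S1628). -/

set_option autoImplicit false

namespace Cfsg.Agent.Helper5.RuLat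
open Cfsg.Spor

abbrev rowsD : List (List ℤ) := decMat rowsC
abbrev colsD : List (List ℤ) := decMat colsC

theorem hcols : colsOK rowsD colsD = true := colsOK_of colsN_ok

theorem hgram : chkGram rowsD = true :=
  chkGram_of (chkGramN_of_at (by rw [rows_len]; exact gram_all))

theorem closedI : ∀ y ∈ LW rowsD, opW permI sgnI y ∈ LW rowsD :=
  chkOp_closed hcols permI_ok
    (chkOp_of_at cols_len permI_ok sgnI_ok certI_len (by rw [rows_len]; exact opI_all))

theorem closedJ : ∀ y ∈ LW rowsD, opW permJ sgnJ y ∈ LW rowsD :=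
  chkOp_closed hcols permJ_ok
    (chkOp_of_at cols_len permJ_ok sgnJ_ok certJ_len (by rw [rows_len]; exact opJ_all))

theorem closedK : ∀ y ∈ LW rowsD, opW permK sgnK y ∈ LW rowsD :=
  chkOp_closed hcols permK_ok
    (chkOp_of_at cols_len permK_ok sgnK_ok certK_len (by rw [rows_len]; exact opK_all))

theorem closedS : ∀ y ∈ LW rowsD, opW permS sgnS y ∈ LW rowsD :=
  chkOp_closed hcols permS_ok
    (chkOp_of_at cols_len permS_ok sgnS_ok certS_len (by rw [rows_len]; exact opS_all))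

theorem closedT : ∀ y ∈ LW rowsD, opW permT sgnT y ∈ LW rowsD :=
  chkOp_closed hcols permT_ok
    (chkOp_of_at cols_len permT_ok sgnT_ok certT_len (by rw [rows_len]; exact opT_all))

theorem hpar : chkPar rowsD gensD pbsD bssD = true := chkPar_of parN_ok

abbrev blkD : List (ℕ × List ℤ × List ℤ × ℕ) :=
  blkC.map (fun b => (b.1, decRow b.2.1, decRow b.2.2.1, b.2.2.2))

theorem blkD_masks : blkD.map (fun b => b.1) = blkMasks := by
  simp [blkD, blkMasks, List.map_map, Function.comp_def]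

theorem hgood : ∀ bs : List Bool, bs.length = gensD.length →
    Good (blkD.map (fun b => b.1)) (xorSel bs gensD) := by
  intro bs _
  obtain ⟨bs', hl, he⟩ := span_transfer span_ok bs
  rw [he, blkD_masks]
  exact good_of_enumC ks_fold ks_lt cs_lt enum_all bs' hl

theorem hblk : blkD.all (fun b => chkBlk colsD b.1 b.2.1 b.2.2.1 b.2.2.2) = true := by
  rw [blkD, List.all_map, List.all_eq_true]
  intro b hb
  have := (List.all_eq_true.mp blkN_ok) b hb
  exact chkBlk_of cols_len this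

theorem hpairs : chkPairs rowsD = true := chkPairs_of pairsN_ok

theorem LW_div8 : ∀ y ∈ LW rowsD, (8 : ℤ) ∣ nrm y := gram_nrm hgram

theorem LW_ne8 : ∀ y ∈ LW rowsD, nrm y ≠ 8 :=
  no_norm8 hcols hgram hpar gensD_lt hgood hblk hpairs

theorem LW_min16 : ∀ y ∈ LW rowsD, y ≠ 0 → 16 ≤ nrm y :=
  min16 hcols hgram hpar gensD_lt hgood hblk hpairs

/-! ### transfer to `ruLattice` -/

def realOf (v : RuVec) : List ℤ := (List.range 56).map (fun n => rcN v n)

theorem rc_eq_ofL (v : RuVec) : rc v = ofL (realOf v) := by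
  funext i
  simp [rc, ofL, realOf, getD_map_range _ _ _ i.isLt]

theorem table_mem : ∀ v ∈ ruTable, rc v ∈ LW rowsD := by
  intro v hv
  obtain ⟨k, hk, rfl⟩ := mem_getD (d := 0) hv
  rw [ruTable_len] at hk
  rw [rc_eq_ofL]
  apply chkLC_mem hcols (as := decRow (tabCC.getD k 0))
  apply tabAt_of cols_len (tab_all k hk)
  intro i hi
  rw [realOf, getD_map_range _ _ _ hi]
  rfl

theorem ruClosed_mem : (LW rowsD).comap rcHom ∈ ruClosed := by
  refine ⟨fun v hv => table_mem v hv, fun v hv => ⟨?_, ?_, ?_, ?_, ?_⟩⟩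
  · show rc (gI • v) ∈ LW rowsD
    rw [rc_opI]; exact closedI _ hv
  · show rc (ruRj v) ∈ LW rowsD
    rw [rc_opJ]; exact closedJ _ hv
  · show rc (ruRk v) ∈ LW rowsD
    rw [rc_opK]; exact closedK _ hv
  · show rc (ruSign v) ∈ LW rowsD
    rw [rc_opS]; exact closedS _ hv
  · show rc (ruShift v) ∈ LW rowsD
    rw [rc_opT]; exact closedT _ hv

theorem ruLattice_le : ∀ x ∈ ruLattice, rc x ∈ LW rowsD := by
  intro x hx
  have h : ruLattice ≤ (LW rowsD).comap rcHom := sInf_le ruClosed_mem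
  exact h hx

theorem ru_div8 : ∀ x ∈ ruLattice, (8 : ℤ) ∣ ruNorm x := by
  intro x hx
  rw [ruNorm_eq]
  exact LW_div8 _ (ruLattice_le x hx)

theorem ru_ne8 : ∀ x ∈ ruLattice, ruNorm x ≠ 8 := by
  intro x hx
  rw [ruNorm_eq]
  exact LW_ne8 _ (ruLattice_le x hx)

theorem ru_min16 : ∀ x ∈ ruLattice, x ≠ 0 → 16 ≤ ruNorm x := by
  intro x hx h0
  rw [ruNorm_eq]
  exact LW_min16 _ (ruLattice_le x hx) (fun h => h0 (rc_inj x h))

theorem ru_ex16 : ∃ x ∈ ruLattice, ruNorm x = 16 := by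
  refine ⟨ruTable.getD 0 0, ?_, ?_⟩
  · rw [ruLattice, AddSubgroup.mem_sInf]
    intro L hL
    exact hL.1 _ (by simp [ruTable])
  · rw [ruNorm_eq, rc_eq_ofL, nrm_ofL _ (by simp [realOf])]
    decide +kernel

end Cfsg.Agent.Helper5.RuLat
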