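import Cfsg.Agent.Helper5.RuLatC

/-! Natural-number level checkers for packed data (helper5, S1628).  Rows of 56 small integers are
packed into one natural number, 6 bits per entry, offset 32.  The `Bool` checkers of `RuLatA`–`RuLatC`
are *proved* true from cheaper checks on the packed data. -/

set_option autoImplicit false

namespace Cfsg.Agent.Helper5.RuLat

def dig (c i : ℕ) : ℕ := (c >>> (6 * i)) &&& 63

def decRow (c : ℕ) : List ℤ := (List.range 56).map (fun i => (dig c i : ℤ) - 32)

def decMat (cs : List ℕ) : List (List ℤ) := cs.map decRow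

theorem length_decRow (c : ℕ) : (decRow c).length = 56 := by simp [decRow]

theorem getD_decRow (c i : ℕ) (hi : i < 56) : (decRow c).getD i 0 = (dig c i : ℤ) - 32 :=
  getD_map_range 56 _ i hi

theorem getD_decMat (cs : List ℕ) (i : ℕ) (hi : i < cs.length) :
    (decMat cs).getD i [] = decRow (cs.getD i 0) := by
  simp [decMat, List.getD_eq_getElem?_getD, hi]

def dotDgo (ca cb : ℕ) : ℕ → ℕ
  | 0 => 0
  | k + 1 => dotDgo ca cb k + dig ca k * dig cb k

def sumDgo (c : ℕ) : ℕ → ℕ
  | 0 => 0
  | k + 1 => sumDgo c k + dig c k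

def dotD (ca cb : ℕ) : ℕ := dotDgo ca cb 56
def sumD (c : ℕ) : ℕ := sumDgo c 56

theorem dotL_append : ∀ (l₁ m₁ l₂ m₂ : List ℤ), l₁.length = m₁.length →
    dotL (l₁ ++ l₂) (m₁ ++ m₂) = dotL l₁ m₁ + dotL l₂ m₂ := by
  intro l₁
  induction l₁ with
  | nil =>
    intro m₁ l₂ m₂ h
    have : m₁ = [] := List.length_eq_zero_iff.mp h.symm
    subst this; simp
  | cons a l₁ ih =>
    intro m₁ l₂ m₂ h
    cases m₁ with
    | nil => simp at h
    | cons b m₁ =>
      simp only [List.cons_append, dotL_cons]
      rw [ih m₁ l₂ m₂ (by simpa using h)]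
      ring

theorem dotL_map_range (f g : ℕ → ℤ) (n : ℕ) :
    dotL ((List.range n).map f) ((List.range n).map g) = ∑ k ∈ Finset.range n, f k * g k := by
  induction n with
  | zero => simp
  | succ n ih =>
    rw [List.range_succ, List.map_append, List.map_append, dotL_append _ _ _ _ (by simp), ih,
      Finset.sum_range_succ]
    simp

theorem dot_id (ca cb : ℕ) (n : ℕ) :
    ∑ k ∈ Finset.range n, ((dig ca k : ℤ) - 32) * ((dig cb k : ℤ) - 32) =
      (dotDgo ca cb n : ℤ) - 32 * sumDgo ca n - 32 * sumDgo cb n + 1024 * n := by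
  induction n with
  | zero => simp [dotDgo, sumDgo]
  | succ n ih =>
    rw [Finset.sum_range_succ, ih]
    simp only [dotDgo, sumDgo]
    push_cast
    ring

theorem dotL_decRow (ca cb : ℕ) :
    dotL (decRow ca) (decRow cb) =
      (dotD ca cb : ℤ) - 32 * sumD ca - 32 * sumD cb + 57344 := by
  rw [decRow, decRow, dotL_map_range, dot_id]
  simp only [dotD, sumD]
  norm_num

/-! ### linear combination check -/

def chkLCgo (ac : ℕ) (tdig : ℕ → ℕ) (tneg : ℕ → Bool) : List ℕ → ℕ → Bool
  | [], _ => true
  | cc :: rest, i =>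
    (if tneg i then decide (dotD ac cc + 57344 + tdig i = 32 + 32 * sumD ac + 32 * sumD cc)
     else decide (dotD ac cc + 57376 = tdig i + 32 * sumD ac + 32 * sumD cc)) &&
      chkLCgo ac tdig tneg rest (i + 1)

theorem chkLCgo_sound (ac : ℕ) (tdig : ℕ → ℕ) (tneg : ℕ → Bool) : ∀ (cs : List ℕ) (i₀ : ℕ),
    chkLCgo ac tdig tneg cs i₀ = true → ∀ j, j < cs.length →
      dotL (decRow ac) (decRow (cs.getD j 0)) =
        (if tneg (i₀ + j) then -1 else 1) * ((tdig (i₀ + j) : ℤ) - 32) := by
  intro cs
  induction cs with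
  | nil => intro i₀ _ j hj; simp at hj
  | cons cc rest ih =>
    intro i₀ h j hj
    simp only [chkLCgo, Bool.and_eq_true] at h
    cases j with
    | zero =>
      simp only [List.getD_cons_zero, Nat.add_zero]
      rw [dotL_decRow]
      have h1 := h.1
      split at h1
      · rename_i hneg
        simp only [decide_eq_true_eq] at h1
        rw [if_pos hneg]
        have : ((dotD ac cc + 57344 + tdig i₀ : ℕ) : ℤ) = ((32 + 32 * sumD ac + 32 * sumD cc : ℕ) : ℤ) := by
          rw [h1]
        push_cast at this
        linarith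
      · rename_i hneg
        simp only [decide_eq_true_eq] at h1
        rw [if_neg hneg]
        have : ((dotD ac cc + 57376 : ℕ) : ℤ) = ((tdig i₀ + 32 * sumD ac + 32 * sumD cc : ℕ) : ℤ) := by
          rw [h1]
        push_cast at this
        linarith
    | succ j =>
      simp only [List.getD_cons_succ]
      have := ih (i₀ + 1) h.2 j (by simpa using hj)
      rw [show i₀ + (j + 1) = i₀ + 1 + j by omega]
      exact this

/-- from the packed check to the `Bool` specification `chkLC` -/
theorem chkLC_of {colsC : List ℕ} {ac : ℕ} {tdig : ℕ → ℕ} {tneg : ℕ → Bool} {target : List ℤ}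
    (hlen : colsC.length = 56)
    (h : chkLCgo ac tdig tneg colsC 0 = true)
    (ht : ∀ i, i < 56 → target.getD i 0 = (if tneg i then -1 else 1) * ((tdig i : ℤ) - 32)) :
    chkLC (decMat colsC) (decRow ac) target = true := by
  rw [chkLC, List.all_eq_true]
  intro i hi
  have hi' : i < 56 := List.mem_range.mp hi
  rw [decide_eq_true_eq, getD_decMat _ _ (by omega), ht i hi']
  have := chkLCgo_sound ac tdig tneg colsC 0 h i (by omega)
  simpa using this

theorem getElem_eq_getD' {l : List ℤ} {k : ℕ} (h : k < l.length) : l[k] = l.getD k 0 := by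
  rw [List.getD_eq_getElem?_getD, List.getElem?_eq_getElem h]; rfl

theorem getD_map_lt (l : List (List ℤ)) (f : List ℤ → ℤ) (k : ℕ) (d : List ℤ) (h : k < l.length) :
    (l.map f).getD k 0 = f (l.getD k d) := by
  simp [List.getD_eq_getElem?_getD, h]

/-! ### transposition check -/

def colsOKn (rowsC colsC : List ℕ) : Bool :=
  decide (rowsC.length = 56) && decide (colsC.length = 56) &&
  (List.range 56).all (fun i => (List.range 56).all (fun k =>
    decide (dig (colsC.getD i 0) k = dig (rowsC.getD k 0) i)))

theorem colsOK_of {rowsC colsC : List ℕ} (h : colsOKn rowsC colsC = true) :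
    colsOK (decMat rowsC) (decMat colsC) = true := by
  simp only [colsOKn, Bool.and_eq_true, decide_eq_true_eq] at h
  obtain ⟨⟨hr, hc⟩, h⟩ := h
  rw [colsOK, List.all_eq_true]
  intro i hi
  have hi' : i < 56 := List.mem_range.mp hi
  rw [decide_eq_true_eq, getD_decMat _ _ (by omega)]
  apply List.ext_getElem
  · simp [decRow, decMat, hr]
  · intro k h1 h2
    have hk : k < 56 := by simpa [decRow] using h1
    have h3 := (List.all_eq_true.mp ((List.all_eq_true.mp h) i hi)) k (List.mem_range.mpr hk)
    rw [decide_eq_true_eq] at h3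
    rw [getElem_eq_getD' h1, getElem_eq_getD' h2, getD_decRow _ _ hk, h3]
    have hk2 : k < (decMat rowsC).length := by simp [decMat, hr, hk]
    rw [getD_map_lt _ _ _ [] hk2, getD_decMat _ _ (by omega), getD_decRow _ _ hi']

/-! ### Gram check -/

def chkGramN (rowsC : List ℕ) : Bool :=
  rowsC.all (fun r => decide (dotD r r % 8 = 0) && rowsC.all (fun s => decide (dotD r s % 4 = 0)))

theorem chkGram_of {rowsC : List ℕ} (h : chkGramN rowsC = true) :
    chkGram (decMat rowsC) = true := by
  rw [chkGram, decMat, List.all_map, List.all_eq_true]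
  intro r hr
  have h1 := (List.all_eq_true.mp h) r hr
  simp only [Bool.and_eq_true, decide_eq_true_eq] at h1
  simp only [Function.comp, Bool.and_eq_true, decide_eq_true_eq, length_decRow, true_and]
  refine ⟨?_, ?_⟩
  · rw [dotL_decRow]; omega
  · rw [List.all_map, List.all_eq_true]
    intro s hs
    have h2 := (List.all_eq_true.mp h1.2) s hs
    simp only [decide_eq_true_eq] at h2
    simp only [Function.comp, decide_eq_true_eq]
    rw [dotL_decRow]; omega

/-! ### parity check -/

def chkParN (rowsC : List ℕ) (gens pbs : List ℕ) (bss : List (List Bool)) : Bool :=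
  (List.range rowsC.length).all (fun k =>
    decide ((bss.getD k []).length = gens.length) &&
    decide (xorSel (bss.getD k []) gens = pbs.getD k 0) &&
    (List.range 56).all (fun i =>
      decide (dig (rowsC.getD k 0) i % 2 = 1) == (pbs.getD k 0).testBit i))

theorem chkPar_of {rowsC gens pbs : List ℕ} {bss : List (List Bool)}
    (h : chkParN rowsC gens pbs bss = true) : chkPar (decMat rowsC) gens pbs bss = true := by
  rw [chkPar, List.all_eq_true]
  intro k hk
  have hk' : k < rowsC.length := by simpa [decMat] using hk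
  have h1 := (List.all_eq_true.mp h) k (List.mem_range.mpr hk')
  simp only [Bool.and_eq_true, decide_eq_true_eq] at h1 ⊢
  refine ⟨h1.1, ?_⟩
  rw [List.all_eq_true]
  intro i hi
  have hi' : i < 56 := List.mem_range.mp hi
  have h2 := (List.all_eq_true.mp h1.2) i hi
  rw [beq_iff_eq] at h2 ⊢
  rw [← h2, getD_decMat _ _ hk', getD_decRow _ _ hi']
  apply decide_eq_decide.mpr
  omega

/-! ### block check -/

def chkBlkN (colsC : List ℕ) (m hc ac j : ℕ) : Bool :=
  chkLCgo ac (fun i => dig hc i) (fun _ => false) colsC 0 && decide (j < 56) && m.testBit j &&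
  decide (dig hc j % 4 = 2) && decide (8 ≤ pc 8 m) &&
  (List.range 56).all (fun i => !(m.testBit i) || decide (i = j) || decide (dig hc i % 4 = 0))

theorem chkBlk_of {colsC : List ℕ} {m hc ac j : ℕ} (hlen : colsC.length = 56)
    (h : chkBlkN colsC m hc ac j = true) :
    chkBlk (decMat colsC) m (decRow hc) (decRow ac) j = true := by
  simp only [chkBlkN, Bool.and_eq_true, decide_eq_true_eq] at h
  obtain ⟨⟨⟨⟨⟨h1, h2⟩, h3⟩, h4⟩, h5⟩, h6⟩ := h
  simp only [chkBlk, Bool.and_eq_true, decide_eq_true_eq]
  refine ⟨⟨⟨⟨⟨?_, h2⟩, h3⟩, ?_⟩, h5⟩, ?_⟩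
  · apply chkLC_of hlen h1
    intro i hi
    rw [getD_decRow _ _ hi]; simp
  · rw [getD_decRow _ _ h2]; omega
  · rw [List.all_eq_true]
    intro i hi
    have hi' : i < 56 := List.mem_range.mp hi
    have h7 := (List.all_eq_true.mp h6) i hi
    simp only [Bool.or_eq_true, Bool.not_eq_true', decide_eq_true_eq] at h7 ⊢
    rcases h7 with (h7 | h7) | h7
    · exact Or.inl (Or.inl h7)
    · exact Or.inl (Or.inr h7)
    · right; rw [getD_decRow _ _ hi']; omega

/-! ### pairs check -/

def chkPairsN (rowsC : List ℕ) : Bool :=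
  (List.range 56).all (fun i => (List.range i).all (fun j =>
    rowsC.any (fun c => decide ((dig c i + dig c j) % 2 = 1))))

theorem chkPairs_of {rowsC : List ℕ} (h : chkPairsN rowsC = true) :
    chkPairs (decMat rowsC) = true := by
  rw [chkPairs, List.all_eq_true]
  intro i hi
  have hi' : i < 56 := List.mem_range.mp hi
  rw [List.all_eq_true]
  intro j hj
  have hj' : j < i := List.mem_range.mp hj
  have h1 := (List.all_eq_true.mp ((List.all_eq_true.mp h) i hi)) j hj
  rw [List.any_eq_true] at h1 ⊢
  obtain ⟨c, hc, h2⟩ := h1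
  rw [decide_eq_true_eq] at h2
  refine ⟨decRow c, List.mem_map.mpr ⟨c, hc, rfl⟩, ?_⟩
  rw [decide_eq_true_eq, getD_decRow _ _ hi', getD_decRow _ _ (by omega)]
  omega

/-! ### closure under a signed permutation -/

def sgnOK (sgn : List ℤ) (negs : List Bool) : Bool :=
  (List.range 56).all (fun i => decide (sgn.getD i 0 = if negs.getD i false then -1 else 1))

def chkOpGo (colsC : List ℕ) (perm : List ℕ) (negs : List Bool) : List ℕ → List ℕ → Bool
  | rc :: rs, ac :: as =>
    chkLCgo ac (fun i => dig rc (perm.getD i 0)) (fun i => negs.getD i false) colsC 0 &&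
      chkOpGo colsC perm negs rs as
  | [], [] => true
  | _, _ => false

theorem chkOpGo_sound (colsC perm : List ℕ) (negs : List Bool) : ∀ (rs as : List ℕ),
    chkOpGo colsC perm negs rs as = true → rs.length = as.length ∧ ∀ k, k < rs.length →
      chkLCgo (as.getD k 0) (fun i => dig (rs.getD k 0) (perm.getD i 0))
        (fun i => negs.getD i false) colsC 0 = true := by
  intro rs
  induction rs with
  | nil =>
    intro as h
    cases as with
    | nil => simp
    | cons a as => simp [chkOpGo] at h
  | cons rc rs ih =>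
    intro as h
    cases as with
    | nil => simp [chkOpGo] at h
    | cons ac as =>
      simp only [chkOpGo, Bool.and_eq_true] at h
      obtain ⟨hl, hk⟩ := ih as h.2
      refine ⟨by simp [hl], ?_⟩
      intro k hk'
      cases k with
      | zero => simpa using h.1
      | succ k => simpa using hk k (by simpa using hk')

theorem chkOp_of {colsC perm rowsC certC : List ℕ} {negs : List Bool} {sgn : List ℤ}
    (hlen : colsC.length = 56) (hp : permOK perm = true) (hs : sgnOK sgn negs = true)
    (h : chkOpGo colsC perm negs rowsC certC = true) :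
    chkOp (decMat colsC) perm sgn (decMat rowsC) (decMat certC) = true := by
  obtain ⟨hl, hk⟩ := chkOpGo_sound colsC perm negs rowsC certC h
  rw [chkOp, List.all_eq_true]
  intro k hk'
  have hk'' : k < rowsC.length := by simpa [decMat] using hk'
  rw [getD_decMat _ _ (by omega), getD_decMat _ _ hk'']
  apply chkLC_of hlen (hk k hk'')
  intro i hi
  have hi' : i ∈ List.range 56 := List.mem_range.mpr hi
  have h1 := (List.all_eq_true.mp hp) i hi'
  have h2 := (List.all_eq_true.mp hs) i hi'
  rw [decide_eq_true_eq] at h1 h2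
  rw [opL, getD_map_range _ _ _ hi, h2, getD_decRow _ _ h1]

/-! ### linear combination check against an integer target -/

def chkLCZ (ac : ℕ) (t : ℕ → ℤ) : List ℕ → ℕ → Bool
  | [], _ => true
  | cc :: rest, i =>
    decide (((dotD ac cc + 57344 : ℕ) : ℤ) = t i + ((32 * sumD ac + 32 * sumD cc : ℕ) : ℤ)) &&
      chkLCZ ac t rest (i + 1)

theorem chkLCZ_sound (ac : ℕ) (t : ℕ → ℤ) : ∀ (cs : List ℕ) (i₀ : ℕ),
    chkLCZ ac t cs i₀ = true → ∀ j, j < cs.length →
      dotL (decRow ac) (decRow (cs.getD j 0)) = t (i₀ + j) := by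
  intro cs
  induction cs with
  | nil => intro i₀ _ j hj; simp at hj
  | cons cc rest ih =>
    intro i₀ h j hj
    simp only [chkLCZ, Bool.and_eq_true, decide_eq_true_eq] at h
    cases j with
    | zero =>
      simp only [List.getD_cons_zero, Nat.add_zero]
      rw [dotL_decRow]
      have h1 := h.1
      push_cast at h1
      linarith
    | succ j =>
      simp only [List.getD_cons_succ]
      have := ih (i₀ + 1) h.2 j (by simpa using hj)
      rw [show i₀ + (j + 1) = i₀ + 1 + j by omega]
      exact this

theorem chkLCZ_of {colsC : List ℕ} {ac : ℕ} {t : ℕ → ℤ} {target : List ℤ}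
    (hlen : colsC.length = 56) (h : chkLCZ ac t colsC 0 = true)
    (ht : ∀ i, i < 56 → target.getD i 0 = t i) :
    chkLC (decMat colsC) (decRow ac) target = true := by
  rw [chkLC, List.all_eq_true]
  intro i hi
  have hi' : i < 56 := List.mem_range.mp hi
  rw [decide_eq_true_eq, getD_decMat _ _ (by omega), ht i hi']
  have := chkLCZ_sound ac t colsC 0 h i (by omega)
  simpa using this

/-! ### chunked evaluation helpers -/

/-- evaluate the argument to a numeral before it is used (kernel evaluation is call-by-name) -/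
def force (r : ℕ) (f : ℕ → Bool) : Bool :=
  match r with
  | 0 => f 0
  | n + 1 => f (n + 1)

theorem force_eq (r : ℕ) (f : ℕ → Bool) : force r f = f r := by cases r <;> rfl

theorem all56 (p : ℕ → Bool)
    (h0 : (List.range' 0 7).all p = true) (h1 : (List.range' 7 7).all p = true)
    (h2 : (List.range' 14 7).all p = true) (h3 : (List.range' 21 7).all p = true)
    (h4 : (List.range' 28 7).all p = true) (h5 : (List.range' 35 7).all p = true)
    (h6 : (List.range' 42 7).all p = true) (h7 : (List.range' 49 7).all p = true) :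
    ∀ k, k < 56 → p k = true := by
  intro k hk
  have hcases : k < 7 ∨ (7 ≤ k ∧ k < 14) ∨ (14 ≤ k ∧ k < 21) ∨ (21 ≤ k ∧ k < 28) ∨
      (28 ≤ k ∧ k < 35) ∨ (35 ≤ k ∧ k < 42) ∨ (42 ≤ k ∧ k < 49) ∨ (49 ≤ k ∧ k < 56) := by omega
  rcases hcases with h | h | h | h | h | h | h | h
  · exact (List.all_eq_true.mp h0) k (List.mem_range'_1.mpr ⟨by omega, by omega⟩)
  · exact (List.all_eq_true.mp h1) k (List.mem_range'_1.mpr ⟨by omega, by omega⟩)
  · exact (List.all_eq_true.mp h2) k (List.mem_range'_1.mpr ⟨by omega, by omega⟩)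
  · exact (List.all_eq_true.mp h3) k (List.mem_range'_1.mpr ⟨by omega, by omega⟩)
  · exact (List.all_eq_true.mp h4) k (List.mem_range'_1.mpr ⟨by omega, by omega⟩)
  · exact (List.all_eq_true.mp h5) k (List.mem_range'_1.mpr ⟨by omega, by omega⟩)
  · exact (List.all_eq_true.mp h6) k (List.mem_range'_1.mpr ⟨by omega, by omega⟩)
  · exact (List.all_eq_true.mp h7) k (List.mem_range'_1.mpr ⟨by omega, by omega⟩)

def gramAt (rowsC : List ℕ) (k : ℕ) : Bool :=
  force (rowsC.getD k 0) (fun r =>
    decide (dotD r r % 8 = 0) && rowsC.all (fun s => decide (dotD r s % 4 = 0)))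

theorem chkGramN_of_at {rowsC : List ℕ} (h : ∀ k, k < rowsC.length → gramAt rowsC k = true) :
    chkGramN rowsC = true := by
  rw [chkGramN, List.all_eq_true]
  intro r hr
  obtain ⟨k, hk, rfl⟩ := mem_getD (d := 0) hr
  have := h k hk
  rwa [gramAt, force_eq] at this

def opAt (colsC perm : List ℕ) (negs : List Bool) (rowsC certC : List ℕ) (k : ℕ) : Bool :=
  force (rowsC.getD k 0) (fun rc => force (certC.getD k 0) (fun ac =>
    chkLCgo ac (fun i => dig rc (perm.getD i 0)) (fun i => negs.getD i false) colsC 0))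

theorem chkOp_of_at {colsC perm rowsC certC : List ℕ} {negs : List Bool} {sgn : List ℤ}
    (hlen : colsC.length = 56) (hp : permOK perm = true) (hs : sgnOK sgn negs = true)
    (hl : rowsC.length = certC.length)
    (h : ∀ k, k < rowsC.length → opAt colsC perm negs rowsC certC k = true) :
    chkOp (decMat colsC) perm sgn (decMat rowsC) (decMat certC) = true := by
  rw [chkOp, List.all_eq_true]
  intro k hk'
  have hk'' : k < rowsC.length := by simpa [decMat] using hk'
  rw [getD_decMat _ _ (by omega), getD_decMat _ _ hk'']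
  have hk := h k hk''
  rw [opAt, force_eq, force_eq] at hk
  apply chkLC_of hlen hk
  intro i hi
  have hi' : i ∈ List.range 56 := List.mem_range.mpr hi
  have h1 := (List.all_eq_true.mp hp) i hi'
  have h2 := (List.all_eq_true.mp hs) i hi'
  rw [decide_eq_true_eq] at h1 h2
  rw [opL, getD_map_range _ _ _ hi, h2, getD_decRow _ _ h1]

def tabAt (colsC tabCC : List ℕ) (t : ℕ → ℕ → ℤ) (k : ℕ) : Bool :=
  force (tabCC.getD k 0) (fun ac => chkLCZ ac (t k) colsC 0)

theorem tabAt_of {colsC tabCC : List ℕ} {t : ℕ → ℕ → ℤ} {k : ℕ} {target : List ℤ}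
    (hlen : colsC.length = 56) (h : tabAt colsC tabCC t k = true)
    (ht : ∀ i, i < 56 → target.getD i 0 = t k i) :
    chkLC (decMat colsC) (decRow (tabCC.getD k 0)) target = true := by
  rw [tabAt, force_eq] at h
  exact chkLCZ_of hlen h ht

end Cfsg.Agent.Helper5.RuLat
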