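import Mathlib
import Cfsg.Agent.Helper7.S4017Defs

/-!
# S4017, piece (P8) `caseB2_false`, part A (helper5): the structure of `C(t) = P ⋊ Q`
-/

set_option autoImplicit false
set_option linter.unusedVariables false
set_option linter.unusedSectionVars false
set_option linter.style.haveILetI false

namespace Cfsg.Agent.Helper7.S4017

universe u

variable {G : Type u} [Group G] [Finite G] {p : ℕ}

/-- the local data of case B2: `t ∈ Q` an involution centralizing the Sylow `p`-subgroup `P`,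
the other involutions of `Q` inverting `P`. -/
structure B2Tri (Q : Sylow 2 G) (t : G) (P : Sylow p G) : Prop where
  htQ : t ∈ Q
  ht1 : t ≠ 1
  hc : ∀ x ∈ (P : Subgroup G), t * x * t⁻¹ = x
  hi : ∀ s ∈ Q, s ≠ 1 → s ≠ t → ∀ x ∈ (P : Subgroup G), s * x * s⁻¹ = x⁻¹

theorem b2_mem_cent {t g : G} : g ∈ Cent t ↔ t * g = g * t := by
  simp [Cent, Subgroup.mem_centralizer_iff]

theorem b2_p3 (h : MinCE G p 2) : p = 3 := by
  have := h.hpa
  norm_num at this
  omega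

theorem b2_sq_of_mem (fa : FactsA G p 2) (Q : Sylow 2 G) {s : G} (hs : s ∈ Q) : s * s = 1 :=
  fa.two_exp Q Q.isPGroup' s hs

theorem b2_inv_eq_of_mem (fa : FactsA G p 2) (Q : Sylow 2 G) {s : G} (hs : s ∈ Q) : s⁻¹ = s :=
  inv_eq_of_mul_eq_one_left (b2_sq_of_mem fa Q hs)

theorem b2_comm_of_mem (fa : FactsA G p 2) (Q : Sylow 2 G) {x y : G} (hx : x ∈ Q) (hy : y ∈ Q) :
    x * y = y * x := by
  have h1 := b2_sq_of_mem fa Q (Q.mul_mem hx hy)
  have hx' := b2_inv_eq_of_mem fa Q hx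
  have hy' := b2_inv_eq_of_mem fa Q hy
  have h2 : x * y = (x * y)⁻¹ := (inv_eq_of_mul_eq_one_left h1).symm
  rw [mul_inv_rev, hx', hy'] at h2
  exact h2

theorem b2_cardQ (h : MinCE G p 2) (Q : Sylow 2 G) : Nat.card Q = 4 := by
  haveI : Fact (2 : ℕ).Prime := ⟨Nat.prime_two⟩
  rw [Sylow.card_eq_multiplicity Q, h.h2]
  norm_num

theorem b2_cardP (h : MinCE G p 2) (P : Sylow p G) :
    Nat.card P = p ^ (Nat.card G).factorization p := by
  haveI : Fact p.Prime := ⟨h.hp⟩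
  exact Sylow.card_eq_multiplicity P

theorem b2_three_le_cardP (h : MinCE G p 2) (P : Sylow p G) : 3 ≤ Nat.card P := by
  rw [b2_cardP h P]
  have hp3 := b2_p3 h
  have hpos : 1 ≤ (Nat.card G).factorization p :=
    (h.hp.dvd_iff_one_le_factorization Nat.card_pos.ne').mp h.hpG
  calc 3 = p ^ 1 := by rw [hp3]
    _ ≤ p ^ (Nat.card G).factorization p := Nat.pow_le_pow_right h.hp.pos hpos

/-- an element of `P` of order dividing `2` is trivial. -/
theorem b2_odd_elt (h : MinCE G p 2) (P : Sylow p G) {x : G} (hx : x ∈ (P : Subgroup G))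
    (hxx : x * x = 1) : x = 1 := by
  obtain ⟨k, hk⟩ := P.isPGroup' ⟨x, hx⟩
  have hk' : x ^ p ^ k = 1 := by
    have := congrArg Subtype.val hk
    simpa using this
  have h1 : orderOf x ∣ p ^ k := orderOf_dvd_of_pow_eq_one hk'
  have h2 : orderOf x ∣ 2 := orderOf_dvd_of_pow_eq_one (by rw [pow_two]; exact hxx)
  have hp3 := b2_p3 h
  have hcop : Nat.Coprime (p ^ k) 2 := by
    rw [hp3]; exact Nat.Coprime.pow_left k (by norm_num)
  have h3 : orderOf x ∣ 1 := by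
    have := Nat.dvd_gcd h1 h2
    rwa [hcop] at this
  exact orderOf_eq_one_iff.mp (Nat.dvd_one.mp h3)

theorem b2_disj (h : MinCE G p 2) (fa : FactsA G p 2) (Q : Sylow 2 G) (P : Sylow p G) {x : G}
    (hxP : x ∈ (P : Subgroup G)) (hxQ : x ∈ Q) : x = 1 :=
  b2_odd_elt h P hxP (b2_sq_of_mem fa Q hxQ)

variable {Q : Sylow 2 G} {t : G} {P : Sylow p G}

theorem b2_isInv_t (fa : FactsA G p 2) (T : B2Tri Q t P) : IsInv t :=
  ⟨T.ht1, b2_sq_of_mem fa Q T.htQ⟩

theorem b2_exists_s0 (h : MinCE G p 2) (T : B2Tri Q t P) : ∃ s₀ ∈ Q, s₀ ≠ 1 ∧ s₀ ≠ t := by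
  by_contra hcon
  push Not at hcon
  have hsub : ((Q : Subgroup G) : Set G) ⊆ {1, t} := by
    intro s hs
    by_cases h1 : s = 1
    · simp [h1]
    · simp [hcon s hs h1]
  have hcard : ((Q : Subgroup G) : Set G).ncard ≤ ({1, t} : Set G).ncard :=
    Set.ncard_le_ncard hsub (Set.toFinite _)
  have h2 : ({1, t} : Set G).ncard ≤ 2 := Set.ncard_insert_le _ _ |>.trans (by simp)
  have h4 : ((Q : Subgroup G) : Set G).ncard = 4 := by
    rw [← b2_cardQ h Q]; exact (Nat.card_coe_set_eq _).symm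
  omega

theorem b2_P_le_cent (T : B2Tri Q t P) : (P : Subgroup G) ≤ Cent t := by
  intro x hx
  rw [b2_mem_cent]
  have := T.hc x hx
  calc t * x = t * x * t⁻¹ * t := by group
    _ = x * t := by rw [this]

theorem b2_Q_le_cent (fa : FactsA G p 2) (T : B2Tri Q t P) : (Q : Subgroup G) ≤ Cent t := by
  intro x hx
  rw [b2_mem_cent]
  exact b2_comm_of_mem fa Q T.htQ hx

theorem b2_dsub (h : MinCE G p 2) (fa : FactsA G p 2) (fb : FactsB G p 2) (T : B2Tri Q t P) :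
    Dsub p t = (P : Subgroup G) := by
  haveI : Fact p.Prime := ⟨h.hp⟩
  apply P.is_maximal' (fb.dsub_pgroup t (b2_isInv_t fa T))
  intro x hx
  apply Subgroup.subset_closure
  refine ⟨b2_P_le_cent T hx, ?_⟩
  obtain ⟨k, hk⟩ := (IsPGroup.iff_orderOf.mp P.isPGroup') ⟨x, hx⟩
  refine ⟨k, ?_⟩
  rw [← hk]
  exact (Subgroup.orderOf_mk x hx).symm

theorem b2_cent_card (h : MinCE G p 2) (fa : FactsA G p 2) (fb : FactsB G p 2)
    (T : B2Tri Q t P) : Nat.card (Cent t) = 4 * Nat.card P := by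
  rw [fb.cent_card t (b2_isInv_t fa T), b2_dsub h fa fb T]
  norm_num

/-- `C(t) = P Q`. -/
theorem b2_decomp (h : MinCE G p 2) (fa : FactsA G p 2) (fb : FactsB G p 2) (T : B2Tri Q t P)
    {g : G} (hg : g ∈ Cent t) : ∃ x ∈ (P : Subgroup G), ∃ s ∈ Q, g = x * s := by
  let f : ↥(P : Subgroup G) × ↥(Q : Subgroup G) → Cent t := fun a =>
    ⟨a.1.1 * a.2.1, (Cent t).mul_mem (b2_P_le_cent T a.1.2) (b2_Q_le_cent fa T a.2.2)⟩
  have hinj : Function.Injective f := by
    rintro ⟨⟨x, hx⟩, ⟨s, hs⟩⟩ ⟨⟨x', hx'⟩, ⟨s', hs'⟩⟩ hff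
    have h1 : x * s = x' * s' := congrArg Subtype.val hff
    have h2 : x'⁻¹ * x = s' * s⁻¹ := by
      calc x'⁻¹ * x = x'⁻¹ * (x * s) * s⁻¹ := by group
        _ = x'⁻¹ * (x' * s') * s⁻¹ := by rw [h1]
        _ = s' * s⁻¹ := by group
    have h3 : x'⁻¹ * x = 1 :=
      b2_disj h fa Q P (P.mul_mem (P.inv_mem hx') hx)
        (by rw [h2]; exact Q.mul_mem hs' (Q.inv_mem hs))
    have hxx : x = x' := by
      have := congrArg (fun y => x' * y) h3
      simpa using this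
    have hss : s = s' := by
      rw [hxx] at h1
      exact mul_left_cancel h1
    subst hxx; subst hss
    rfl
  have hcard : Nat.card (Cent t) ≤ Nat.card (↥(P : Subgroup G) × ↥(Q : Subgroup G)) := by
    rw [Nat.card_prod, b2_cent_card h fa fb T, b2_cardQ h Q, mul_comm]
  have hbij := Function.Injective.bijective_of_nat_card_le hinj hcard
  obtain ⟨⟨⟨x, hx⟩, ⟨s, hs⟩⟩, hxs⟩ := hbij.2 ⟨g, hg⟩
  exact ⟨x, hx, s, hs, (congrArg Subtype.val hxs).symm⟩

/-- the involutions of `C(t)` other than `t`. -/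
theorem b2_invol_cent (h : MinCE G p 2) (fa : FactsA G p 2) (fb : FactsB G p 2)
    (T : B2Tri Q t P) {z : G} (hz : z ∈ Cent t) (hzi : IsInv z) (hzt : z ≠ t) :
    ∃ x ∈ (P : Subgroup G), ∃ s ∈ Q, s ≠ 1 ∧ s ≠ t ∧ z = x * s := by
  obtain ⟨x, hx, s, hs, rfl⟩ := b2_decomp h fa fb T hz
  refine ⟨x, hx, s, hs, ?_, ?_, rfl⟩
  · rintro rfl
    rw [mul_one] at hzi
    exact hzi.1 (b2_odd_elt h P hx hzi.2)
  · rintro rfl
    have hcomm : s * x = x * s := b2_mem_cent.mp (b2_P_le_cent T hx)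
    have hss := b2_sq_of_mem fa Q hs
    have h1 : x * x = 1 := by
      have h2 := hzi.2
      calc x * x = x * x * (s * s) := by rw [hss, mul_one]
        _ = x * (x * s) * s := by group
        _ = x * (s * x) * s := by rw [hcomm]
        _ = (x * s) * (x * s) := by group
        _ = 1 := h2
    have hx1 := b2_odd_elt h P hx h1
    apply hzt
    rw [hx1, one_mul]

/-- an involution of `C(t)` other than `t` inverts `P`. -/
theorem b2_inverts (h : MinCE G p 2) (fa : FactsA G p 2) (fb : FactsB G p 2)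
    (T : B2Tri Q t P) {z : G} (hz : z ∈ Cent t) (hzi : IsInv z) (hzt : z ≠ t) :
    ∀ v ∈ (P : Subgroup G), z * v * z⁻¹ = v⁻¹ := by
  obtain ⟨x, hx, s, hs, hs1, hst, rfl⟩ := b2_invol_cent h fa fb T hz hzi hzt
  intro v hv
  have h1 := T.hi s hs hs1 hst v hv
  have h2 : x * v⁻¹ = v⁻¹ * x := h.hab P x hx v⁻¹ (P.inv_mem hv)
  calc x * s * v * (x * s)⁻¹ = x * (s * v * s⁻¹) * x⁻¹ := by group
    _ = x * v⁻¹ * x⁻¹ := by rw [h1]
    _ = v⁻¹ * x * x⁻¹ := by rw [h2]
    _ = v⁻¹ := by group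

/-- the elements of `C(t)` centralizing `P` lie in `P ∪ P t`. -/
theorem b2_centP_of_cent (h : MinCE G p 2) (fa : FactsA G p 2) (fb : FactsB G p 2)
    (T : B2Tri Q t P) {u : G} (hu : u ∈ Cent t) (huc : ∀ v ∈ (P : Subgroup G), u * v * u⁻¹ = v) :
    ∃ x ∈ (P : Subgroup G), u = x ∨ u = x * t := by
  obtain ⟨x, hx, s, hs, rfl⟩ := b2_decomp h fa fb T hu
  refine ⟨x, hx, ?_⟩
  by_cases hs1 : s = 1
  · left; rw [hs1, mul_one]
  by_cases hst : s = t
  · right; rw [hst]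
  exfalso
  -- `s` centralizes and inverts `P`
  have hP3 := b2_three_le_cardP h P
  have hall : ∀ v ∈ (P : Subgroup G), v = 1 := by
    intro v hv
    have h1 := T.hi s hs hs1 hst v hv
    have h2 := huc v hv
    have h3 : x * v⁻¹ = v⁻¹ * x := h.hab P x hx v⁻¹ (P.inv_mem hv)
    have h4 : v = v⁻¹ := by
      calc v = x * s * v * (x * s)⁻¹ := h2.symm
        _ = x * (s * v * s⁻¹) * x⁻¹ := by group
        _ = x * v⁻¹ * x⁻¹ := by rw [h1]
        _ = v⁻¹ * x * x⁻¹ := by rw [h3]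
        _ = v⁻¹ := by group
    apply b2_odd_elt h P hv
    calc v * v = v * v⁻¹ := by rw [← h4]
      _ = 1 := mul_inv_cancel v
  have hbot : (P : Subgroup G) = ⊥ := (Subgroup.eq_bot_iff_forall _).mpr hall
  have : Nat.card (P : Subgroup G) = 1 := by rw [hbot]; exact Subgroup.card_bot
  omega

end Cfsg.Agent.Helper7.S4017
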