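import Cfsg.Agent.Helper5.S4017_B2A

/-!
# S4017, piece (P8) `caseB2_false`, part B (helper5): orders, `N(P) = C(t)`, uniqueness of the
involution centralizing `P`, transport by conjugation
-/

set_option autoImplicit false
set_option linter.unusedVariables false
set_option linter.unusedSectionVars false
set_option linter.style.haveILetI false

namespace Cfsg.Agent.Helper7.S4017

universe u

variable {G : Type u} [Group G] [Finite G] {p : ℕ}

/-- a proper subgroup of even order has order dividing `4 |P|`. -/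
theorem b2_ord (h : MinCE G p 2) (P : Sylow p G) (H : Subgroup G) (hH : H ≠ ⊤)
    (h2 : 2 ∣ Nat.card H) : Nat.card H ∣ 4 * Nat.card P := by
  have hp3 := b2_p3 h
  have hn : Nat.card G ≠ 0 := Nat.card_pos.ne'
  have hk : Nat.card H ≠ 0 := Nat.card_pos.ne'
  have hdvd : Nat.card H ∣ Nat.card G := Subgroup.card_subgroup_dvd_card H
  have hle := (Nat.factorization_le_iff_dvd hk hn).mpr hdvd
  rw [b2_cardP h P]
  have h4 : (4 : ℕ) = 2 ^ (Nat.card G).factorization 2 := by rw [h.h2]; norm_num
  rw [h4]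
  have hne1 : (2 : ℕ) ^ (Nat.card G).factorization 2 ≠ 0 := by positivity
  have hne2 : p ^ (Nat.card G).factorization p ≠ 0 := pow_ne_zero _ h.hp.ne_zero
  rw [← Nat.factorization_le_iff_dvd hk (mul_ne_zero hne1 hne2)]
  intro q
  rw [Nat.factorization_mul hne1 hne2, Nat.prime_two.factorization_pow, h.hp.factorization_pow,
    Finsupp.add_apply, Finsupp.single_apply, Finsupp.single_apply]
  by_cases hq2 : q = 2
  · subst hq2
    have := hle 2
    simp only [if_true]
    omega
  by_cases hqp : q = p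
  · subst hqp
    have := hle q
    rw [if_neg (Ne.symm hq2), if_pos rfl]
    omega
  rw [if_neg (Ne.symm hq2), if_neg (Ne.symm hqp)]
  by_cases hqprime : q.Prime
  · have hnd : ¬ q ∣ Nat.card H := by
      intro hd
      rcases h.hH1 H hH h2 q hqprime hd with h1 | h1
      · exact hq2 h1
      · exact hqp h1
    rw [Nat.factorization_eq_zero_of_not_dvd hnd]
    omega
  · rw [Nat.factorization_eq_zero_of_not_prime _ hqprime]
    omega

/-- an element whose square is trivial and which is non-trivial makes the order of any subgroup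
containing it even. -/
theorem b2_even_of_inv {H : Subgroup G} {z : G} (hz : IsInv z) (hzH : z ∈ H) : 2 ∣ Nat.card H := by
  have h2 : orderOf z = 2 := by
    apply orderOf_eq_prime
    · rw [pow_two]; exact hz.2
    · exact hz.1
  have h3 : orderOf (⟨z, hzH⟩ : H) = 2 := by
    rw [← h2]; exact Subgroup.orderOf_mk z hzH
  rw [← h3]
  exact orderOf_dvd_natCard _

variable {Q : Sylow 2 G} {t : G} {P : Sylow p G}

theorem b2_P_ne_bot (h : MinCE G p 2) (P : Sylow p G) : (P : Subgroup G) ≠ ⊥ := by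
  intro hbot
  have h3 := b2_three_le_cardP h P
  have : Nat.card (P : Subgroup G) = 1 := by rw [hbot]; exact Subgroup.card_bot
  omega

theorem b2_P_ne_top (h : MinCE G p 2) (fa : FactsA G p 2) (T : B2Tri Q t P) :
    (P : Subgroup G) ≠ ⊤ := by
  intro htop
  have ht : t ∈ (P : Subgroup G) := by rw [htop]; exact Subgroup.mem_top t
  exact T.ht1 (b2_odd_elt h P ht (b2_sq_of_mem fa Q T.htQ))

/-- elements of `C(t)` normalize `P` (one direction). -/
theorem b2_cent_conj_mem (h : MinCE G p 2) (fa : FactsA G p 2) (fb : FactsB G p 2)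
    (T : B2Tri Q t P) {g : G} (hg : g ∈ Cent t) {v : G} (hv : v ∈ (P : Subgroup G)) :
    g * v * g⁻¹ ∈ (P : Subgroup G) := by
  obtain ⟨x, hx, s, hs, rfl⟩ := b2_decomp h fa fb T hg
  have h1 : s * v * s⁻¹ ∈ (P : Subgroup G) := by
    by_cases hs1 : s = 1
    · rw [hs1]; simpa using hv
    by_cases hst : s = t
    · rw [hst, T.hc v hv]; exact hv
    · rw [T.hi s hs hs1 hst v hv]; exact P.inv_mem hv
  have h2 : x * s * v * (x * s)⁻¹ = x * (s * v * s⁻¹) * x⁻¹ := by group
  rw [h2]
  exact P.mul_mem (P.mul_mem hx h1) (P.inv_mem hx)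

/-- `N(P) = C(t)`. -/
theorem b2_normP (h : MinCE G p 2) (fa : FactsA G p 2) (fb : FactsB G p 2) (T : B2Tri Q t P) :
    Subgroup.normalizer ((P : Subgroup G) : Set G) = Cent t := by
  have hle : Cent t ≤ Subgroup.normalizer ((P : Subgroup G) : Set G) := by
    intro g hg
    rw [Subgroup.mem_set_normalizer_iff]
    intro v
    constructor
    · intro hv; exact b2_cent_conj_mem h fa fb T hg hv
    · intro hv
      have := b2_cent_conj_mem h fa fb T ((Cent t).inv_mem hg) hv
      have e : g⁻¹ * (g * v * g⁻¹) * g⁻¹⁻¹ = v := by group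
      rwa [e] at this
  have hne : Subgroup.normalizer ((P : Subgroup G) : Set G) ≠ ⊤ :=
    fa.norm_ne_top P (b2_P_ne_bot h P) (b2_P_ne_top h fa T)
  have htN : t ∈ Subgroup.normalizer ((P : Subgroup G) : Set G) :=
    hle (b2_mem_cent.mpr rfl)
  have hdvd := b2_ord h P _ hne (b2_even_of_inv (b2_isInv_t fa T) htN)
  rw [← b2_cent_card h fa fb T] at hdvd
  exact (Subgroup.eq_of_le_of_card_ge hle (Nat.le_of_dvd Nat.card_pos hdvd)).symm

/-- `t` is the only involution centralizing `P`. -/
theorem b2_unique (h : MinCE G p 2) (fa : FactsA G p 2) (fb : FactsB G p 2) (T : B2Tri Q t P)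
    {w : G} (hw : IsInv w) (hwc : ∀ x ∈ (P : Subgroup G), w * x * w⁻¹ = x) : w = t := by
  have hwinv : w⁻¹ = w := inv_eq_of_mul_eq_one_left hw.2
  have hwN : w ∈ Subgroup.normalizer ((P : Subgroup G) : Set G) := by
    rw [Subgroup.mem_set_normalizer_iff]
    intro v
    constructor
    · intro hv; rw [hwc v hv]; exact hv
    · intro hv
      have h1 := hwc _ hv
      have e : w * (w * v * w⁻¹) * w⁻¹ = v := by
        rw [hwinv]
        calc w * (w * v * w) * w = (w * w) * v * (w * w) := by group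
          _ = v := by rw [hw.2]; group
      rw [e] at h1
      rw [h1]; exact hv
  rw [b2_normP h fa fb T] at hwN
  by_contra hne
  have hinv := b2_inverts h fa fb T hwN hw hne
  have hall : ∀ v ∈ (P : Subgroup G), v = 1 := by
    intro v hv
    apply b2_odd_elt h P hv
    have h1 := hinv v hv
    rw [hwc v hv] at h1
    calc v * v = v * v⁻¹ := by rw [← h1]
      _ = 1 := mul_inv_cancel v
  exact b2_P_ne_bot h P ((Subgroup.eq_bot_iff_forall _).mpr hall)

/-! ### transport by conjugation -/

theorem b2_mem_smul {q : ℕ} {S : Sylow q G} {g x : G} :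
    x ∈ ((g • S : Sylow q G) : Subgroup G) ↔ g⁻¹ * x * g ∈ (S : Subgroup G) := by
  rw [Sylow.coe_subgroup_smul, Subgroup.mem_pointwise_smul_iff_inv_smul_mem, MulAut.smul_def,
    ← map_inv, MulAut.conj_apply, inv_inv]

theorem b2_conj (T : B2Tri Q t P) (g : G) : B2Tri (g • Q) (g * t * g⁻¹) (g • P) where
  htQ := by
    show g * t * g⁻¹ ∈ ((g • Q : Sylow 2 G) : Subgroup G)
    rw [b2_mem_smul]
    have e : g⁻¹ * (g * t * g⁻¹) * g = t := by group
    rw [e]; exact T.htQ
  ht1 := by
    intro h1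
    apply T.ht1
    have e : t = g⁻¹ * (g * t * g⁻¹) * g := by group
    rw [e, h1]; group
  hc := by
    intro x hx
    rw [b2_mem_smul] at hx
    have h1 := T.hc _ hx
    calc g * t * g⁻¹ * x * (g * t * g⁻¹)⁻¹ = g * (t * (g⁻¹ * x * g) * t⁻¹) * g⁻¹ := by group
      _ = g * (g⁻¹ * x * g) * g⁻¹ := by rw [h1]
      _ = x := by group
  hi := by
    intro s hs hs1 hst x hx
    have hs' : g⁻¹ * s * g ∈ (Q : Subgroup G) := b2_mem_smul.mp hs
    rw [b2_mem_smul] at hx
    have hs1' : g⁻¹ * s * g ≠ 1 := by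
      intro h1
      apply hs1
      have e : s = g * (g⁻¹ * s * g) * g⁻¹ := by group
      rw [e, h1]; group
    have hst' : g⁻¹ * s * g ≠ t := by
      intro h1
      apply hst
      have e : s = g * (g⁻¹ * s * g) * g⁻¹ := by group
      rw [e, h1]
    have h1 := T.hi _ hs' hs1' hst' _ hx
    calc s * x * s⁻¹ = g * ((g⁻¹ * s * g) * (g⁻¹ * x * g) * (g⁻¹ * s * g)⁻¹) * g⁻¹ := by group
      _ = g * (g⁻¹ * x * g)⁻¹ * g⁻¹ := by rw [h1]
      _ = x⁻¹ := by group

/-- every involution carries the local data. -/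
theorem b2_exists_tri (fa : FactsA G p 2) (T : B2Tri Q t P) {z : G} (hz : IsInv z) :
    ∃ (Q' : Sylow 2 G) (P' : Sylow p G), B2Tri Q' z P' := by
  obtain ⟨g, hg⟩ := fa.inv_conj t z (b2_isInv_t fa T) hz
  refine ⟨g • Q, g • P, ?_⟩
  have := b2_conj T g
  rwa [hg] at this

end Cfsg.Agent.Helper7.S4017
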