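import Cfsg.Agent.Helper5.S4017_B2B

/-!
# S4017, piece (P8) `caseB2_false`, part C (helper5): the commuting graph on involutions is a
friendship graph (common neighbours)
-/

set_option autoImplicit false
set_option linter.unusedVariables false
set_option linter.unusedSectionVars false
set_option linter.style.haveILetI false

namespace Cfsg.Agent.Helper7.S4017

universe u

variable {G : Type u} [Group G] [Finite G] {p : ℕ}

/-- the context of case B2: every involution carries a triple, and the Sylow `p`-subgroups are TI. -/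
structure B2Ctx (G : Type u) [Group G] [Finite G] (p : ℕ) : Prop where
  h : MinCE G p 2
  fa : FactsA G p 2
  fb : FactsB G p 2
  hTI : ∀ (Q : Sylow 2 G) (t : G) (P : Sylow p G), B2Tri Q t P → ∀ g v : G, v ≠ 1 →
    v ∈ (P : Subgroup G) → g * v * g⁻¹ ∈ (P : Subgroup G) →
    ∀ x ∈ (P : Subgroup G), g * x * g⁻¹ ∈ (P : Subgroup G)
  tri : ∀ z : G, IsInv z → ∃ (Q : Sylow 2 G) (P : Sylow p G), B2Tri Q z P

theorem b2_inv_inv {z : G} (hz : IsInv z) : z⁻¹ = z := inv_eq_of_mul_eq_one_left hz.2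

theorem b2_mul_inv {z z' : G} (hz : IsInv z) (hz' : IsInv z') : (z * z')⁻¹ = z' * z := by
  rw [mul_inv_rev, b2_inv_inv hz, b2_inv_inv hz']

/-- `z` inverts `z z'`. -/
theorem b2_conj_prod {z z' : G} (hz : IsInv z) (hz' : IsInv z') :
    z * (z * z') * z⁻¹ = (z * z')⁻¹ := by
  rw [b2_mul_inv hz hz', b2_inv_inv hz]
  calc z * (z * z') * z = (z * z) * z' * z := by group
    _ = z' * z := by rw [hz.2, one_mul]

/-- `z'` inverts `z z'`. -/
theorem b2_conj_prod' {z z' : G} (hz : IsInv z) (hz' : IsInv z') :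
    z' * (z * z') * z'⁻¹ = (z * z')⁻¹ := by
  rw [b2_mul_inv hz hz', b2_inv_inv hz']
  calc z' * (z * z') * z' = z' * z * (z' * z') := by group
    _ = z' * z := by rw [hz'.2, mul_one]

theorem b2_comm_of_sq {z z' : G} (hz : IsInv z) (hz' : IsInv z')
    (hsq : (z * z') * (z * z') = 1) : z * z' = z' * z := by
  have h1 : z * z' = (z * z')⁻¹ := (inv_eq_of_mul_eq_one_left hsq).symm
  rw [b2_mul_inv hz hz'] at h1
  exact h1

theorem b2_odd_card (h : MinCE G p 2) (P : Sylow p G) : Odd (Nat.card P) := by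
  rw [b2_cardP h P, b2_p3 h]
  exact Odd.pow (by decide)

theorem b2_pow_card_inv (h : MinCE G p 2) (P : Sylow p G) {z : G} (hz : IsInv z) :
    z ^ Nat.card P = z := by
  obtain ⟨k, hk⟩ := b2_odd_card h P
  rw [hk, pow_succ, pow_mul, pow_two, hz.2, one_pow, one_mul]

theorem b2_pow_card_mem (P : Sylow p G) {x : G} (hx : x ∈ (P : Subgroup G)) :
    x ^ Nat.card P = 1 := by
  have h1 := pow_card_eq_one' (G := (P : Subgroup G)) (x := ⟨x, hx⟩)
  have h2 : (((⟨x, hx⟩ : (P : Subgroup G)) ^ Nat.card (P : Subgroup G) : (P : Subgroup G)) : G)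
      = 1 := by rw [h1]; rfl
  rw [SubgroupClass.coe_pow] at h2
  exact h2

theorem b2_card_eq (h : MinCE G p 2) (P P' : Sylow p G) : Nat.card P = Nat.card P' := by
  rw [b2_cardP h P, b2_cardP h P']

/-- **(C1)** two involutions of `C(z₂)` other than `z₂`: their product lies in `P₂ ∪ P₂ z₂`. -/
theorem b2_prod_form (c : B2Ctx G p) {Q₂ : Sylow 2 G} {z₂ : G} {P₂ : Sylow p G}
    (T₂ : B2Tri Q₂ z₂ P₂) {z z' : G} (hz : IsInv z) (hz' : IsInv z')
    (hzc : z₂ * z = z * z₂) (hz'c : z₂ * z' = z' * z₂) (hzn : z ≠ z₂) (hz'n : z' ≠ z₂) :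
    ∃ x ∈ (P₂ : Subgroup G), z * z' = x ∨ z * z' = x * z₂ := by
  have hzC : z ∈ Cent z₂ := b2_mem_cent.mpr hzc
  have hz'C : z' ∈ Cent z₂ := b2_mem_cent.mpr hz'c
  have hi1 := b2_inverts c.h c.fa c.fb T₂ hzC hz hzn
  have hi2 := b2_inverts c.h c.fa c.fb T₂ hz'C hz' hz'n
  apply b2_centP_of_cent c.h c.fa c.fb T₂ ((Cent z₂).mul_mem hzC hz'C)
  intro v hv
  have h1 := hi2 v hv
  have h2 := hi1 v⁻¹ (P₂.inv_mem hv)
  calc z * z' * v * (z * z')⁻¹ = z * (z' * v * z'⁻¹) * z⁻¹ := by group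
    _ = z * v⁻¹ * z⁻¹ := by rw [h1]
    _ = v⁻¹⁻¹ := h2
    _ = v := inv_inv v

/-- power trick: `u = x z₂` gives `u ^ m = z₂`; `u = x` gives `u ^ m = 1`. -/
theorem b2_pow_form (c : B2Ctx G p) {Q₂ : Sylow 2 G} {z₂ : G} {P₂ : Sylow p G}
    (T₂ : B2Tri Q₂ z₂ P₂) {x : G} (hx : x ∈ (P₂ : Subgroup G)) :
    x ^ Nat.card P₂ = 1 ∧ (x * z₂) ^ Nat.card P₂ = z₂ := by
  refine ⟨b2_pow_card_mem P₂ hx, ?_⟩
  have hcomm : Commute x z₂ := (b2_mem_cent.mp (b2_P_le_cent T₂ hx)).symm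
  rw [hcomm.mul_pow, b2_pow_card_mem P₂ hx, one_mul,
    b2_pow_card_inv c.h P₂ (b2_isInv_t c.fa T₂)]

/-- TI in normalizer form. -/
theorem b2_TI_norm (c : B2Ctx G p) {Q₁ : Sylow 2 G} {z₁ : G} {P₁ : Sylow p G}
    (T₁ : B2Tri Q₁ z₁ P₁) {g v : G} (hv1 : v ≠ 1) (hv : v ∈ (P₁ : Subgroup G))
    (hgv : g * v * g⁻¹ ∈ (P₁ : Subgroup G)) :
    g ∈ Subgroup.normalizer ((P₁ : Subgroup G) : Set G) := by
  have h1 := c.hTI Q₁ z₁ P₁ T₁ g v hv1 hv hgv
  have hv1' : g * v * g⁻¹ ≠ 1 := by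
    intro h0
    apply hv1
    have e : v = g⁻¹ * (g * v * g⁻¹) * g := by group
    rw [e, h0]; group
  have h2 := c.hTI Q₁ z₁ P₁ T₁ g⁻¹ (g * v * g⁻¹) hv1' hgv (by
    have e : g⁻¹ * (g * v * g⁻¹) * g⁻¹⁻¹ = v := by group
    rw [e]; exact hv)
  rw [Subgroup.mem_set_normalizer_iff]
  intro x
  constructor
  · intro hx; exact h1 x hx
  · intro hx
    have := h2 _ hx
    have e : g⁻¹ * (g * x * g⁻¹) * g⁻¹⁻¹ = x := by group
    rwa [e] at this

/-- **friendship, commuting case**. -/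
theorem b2_cn_comm (c : B2Ctx G p) {z z' : G} (hz : IsInv z) (hz' : IsInv z') (hne : z ≠ z')
    (hcomm : z * z' = z' * z) :
    (IsInv (z * z') ∧ z * z' ≠ z ∧ z * z' ≠ z' ∧ z * (z * z') = (z * z') * z ∧
      z' * (z * z') = (z * z') * z') ∧
    ∀ z₂ : G, IsInv z₂ → z₂ ≠ z → z₂ ≠ z' → z * z₂ = z₂ * z → z' * z₂ = z₂ * z' →
      z₂ = z * z' := by
  refine ⟨⟨⟨?_, ?_⟩, ?_, ?_, ?_, ?_⟩, ?_⟩
  · intro h1
    apply hne
    have : z' = z⁻¹ := (inv_eq_of_mul_eq_one_right h1).symm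
    rw [this, b2_inv_inv hz]
  · calc z * z' * (z * z') = z * (z' * z) * z' := by group
      _ = z * (z * z') * z' := by rw [hcomm]
      _ = (z * z) * (z' * z') := by group
      _ = 1 := by rw [hz.2, hz'.2, one_mul]
  · intro h1
    exact hz'.1 (mul_left_cancel (a := z) (by rw [h1, mul_one]))
  · intro h1
    exact hz.1 (mul_right_cancel (b := z') (by rw [h1, one_mul]))
  · calc z * (z * z') = z * (z' * z) := by rw [hcomm]
      _ = z * z' * z := by group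
  · calc z' * (z * z') = (z' * z) * z' := by group
      _ = z * z' * z' := by rw [hcomm]
  · intro z₂ hz₂ hz₂z hz₂z' hc1 hc2
    obtain ⟨Qz, Pz, Tz⟩ := c.tri z hz
    -- `z'` and `z₂` are involutions of `C(z)` other than `z`
    obtain ⟨x, hx, hform⟩ := b2_prod_form c Tz hz' hz₂ hcomm hc1 (Ne.symm hne) hz₂z
    have hcomm2 : z' * z₂ = z₂ * z' := hc2
    have hsq : (z' * z₂) * (z' * z₂) = 1 := by
      calc z' * z₂ * (z' * z₂) = z' * (z₂ * z') * z₂ := by group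
        _ = z' * (z' * z₂) * z₂ := by rw [hcomm2]
        _ = (z' * z') * (z₂ * z₂) := by group
        _ = 1 := by rw [hz'.2, hz₂.2, one_mul]
    rcases hform with hf | hf
    · -- `z' z₂ = x ∈ P_z` of order dividing 2: trivial
      have hx1 : x = 1 := b2_odd_elt c.h Pz hx (by rw [← hf]; exact hsq)
      exfalso
      apply hz₂z'
      have : z' * z₂ = 1 := by rw [hf, hx1]
      have h3 : z₂ = z'⁻¹ := (inv_eq_of_mul_eq_one_right this).symm
      rw [h3, b2_inv_inv hz']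
    · have hxz : Commute x z := (b2_mem_cent.mp (b2_P_le_cent Tz hx)).symm
      have hx1 : x = 1 := by
        apply b2_odd_elt c.h Pz hx
        have h4 : (x * z) * (x * z) = 1 := by rw [← hf]; exact hsq
        calc x * x = x * x * (z * z) := by rw [hz.2, mul_one]
          _ = x * (x * z) * z := by group
          _ = x * (z * x) * z := by rw [hxz.eq]
          _ = (x * z) * (x * z) := by group
          _ = 1 := h4
      have h5 : z' * z₂ = z := by rw [hf, hx1, one_mul]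
      calc z₂ = z'⁻¹ * (z' * z₂) := by group
        _ = z' * z := by rw [h5, b2_inv_inv hz']
        _ = z * z' := hcomm.symm

/-- **friendship, non-commuting case: uniqueness**. -/
theorem b2_cn_unique (c : B2Ctx G p) {z z' : G} (hz : IsInv z) (hz' : IsInv z')
    (hnc : z * z' ≠ z' * z) {z₂ z₃ : G} (hz₂ : IsInv z₂) (hz₃ : IsInv z₃)
    (h2z : z₂ ≠ z) (h2z' : z₂ ≠ z') (h2c : z * z₂ = z₂ * z) (h2c' : z' * z₂ = z₂ * z')
    (h3z : z₃ ≠ z) (h3z' : z₃ ≠ z') (h3c : z * z₃ = z₃ * z) (h3c' : z' * z₃ = z₃ * z') :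
    z₂ = z₃ := by
  haveI : Fact p.Prime := ⟨c.h.hp⟩
  obtain ⟨Q₂, P₂, T₂⟩ := c.tri z₂ hz₂
  obtain ⟨Q₃, P₃, T₃⟩ := c.tri z₃ hz₃
  obtain ⟨x₂, hx₂, hf₂⟩ := b2_prod_form c T₂ hz hz' h2c.symm h2c'.symm (Ne.symm h2z) (Ne.symm h2z')
  obtain ⟨x₃, hx₃, hf₃⟩ := b2_prod_form c T₃ hz hz' h3c.symm h3c'.symm (Ne.symm h3z) (Ne.symm h3z')
  have hm : Nat.card P₂ = Nat.card P₃ := b2_card_eq c.h P₂ P₃
  have hu1 : z * z' ≠ 1 := by
    intro h1
    apply hnc
    have : z' = z⁻¹ := (inv_eq_of_mul_eq_one_right h1).symm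
    rw [this, b2_inv_inv hz]
  rcases hf₂ with hf₂ | hf₂ <;> rcases hf₃ with hf₃ | hf₃
  · -- both in Sylow subgroups: TI
    obtain ⟨k, hk⟩ := MulAction.exists_smul_eq G P₂ P₃
    have hu₂ : z * z' ∈ (P₂ : Subgroup G) := by rw [hf₂]; exact hx₂
    have hu₃ : k⁻¹ * (z * z') * k ∈ (P₂ : Subgroup G) := by
      rw [← b2_mem_smul, hk, hf₃]; exact hx₃
    have hkN : k⁻¹ ∈ Subgroup.normalizer ((P₂ : Subgroup G) : Set G) :=
      b2_TI_norm c T₂ hu1 hu₂ (by rw [inv_inv]; exact hu₃)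
    have hkN' : k ∈ Subgroup.normalizer ((P₂ : Subgroup G) : Set G) := by
      have := (Subgroup.normalizer ((P₂ : Subgroup G) : Set G)).inv_mem hkN
      rwa [inv_inv] at this
    have hPP : P₃ = P₂ := by
      rw [← hk]; exact Sylow.smul_eq_iff_mem_normalizer.mpr hkN'
    have := b2_unique c.h c.fa c.fb T₂ hz₃ (by
      intro v hv
      apply T₃.hc
      rw [hPP]; exact hv)
    exact this.symm
  · exfalso
    have h1 := (b2_pow_form c T₂ hx₂).1
    have h2 := (b2_pow_form c T₃ hx₃).2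
    rw [← hf₂] at h1
    rw [← hf₃, ← hm, h1] at h2
    exact hz₃.1 h2.symm
  · exfalso
    have h1 := (b2_pow_form c T₂ hx₂).2
    have h2 := (b2_pow_form c T₃ hx₃).1
    rw [← hf₂] at h1
    rw [← hf₃, ← hm, h1] at h2
    exact hz₂.1 h2
  · have h1 := (b2_pow_form c T₂ hx₂).2
    have h2 := (b2_pow_form c T₃ hx₃).2
    rw [← hf₂] at h1
    rw [← hf₃, ← hm, h1] at h2
    exact h2

end Cfsg.Agent.Helper7.S4017
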