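import Cfsg.Agent.Helper5.S4017_B2C
import Cfsg.Agent.Helper5.S4017_Friend
import Cfsg.Agent.Helper1.S4017_B2TI

/-!
# S4017, piece (P8) `caseB2_false`, part D (helper5): existence of the common neighbour,
regularity, and the final contradiction by the Friendship theorem
-/

set_option autoImplicit false
set_option linter.unusedVariables false
set_option linter.unusedSectionVars false
set_option linter.style.haveILetI false

namespace Cfsg.Agent.Helper7.S4017

universe u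

variable {G : Type u} [Group G] [Finite G] {p : ℕ}

/-- **friendship, non-commuting case: existence**. -/
theorem b2_cn_exists (c : B2Ctx G p) {Q : Sylow 2 G} {t : G} {P : Sylow p G} (T : B2Tri Q t P)
    {z z' : G} (hz : IsInv z) (hz' : IsInv z') (hnc : z * z' ≠ z' * z) :
    ∃ z₂ : G, IsInv z₂ ∧ z₂ ≠ z ∧ z₂ ≠ z' ∧ z * z₂ = z₂ * z ∧ z' * z₂ = z₂ * z' := by
  haveI : Fact p.Prime := ⟨c.h.hp⟩
  obtain ⟨u, hu⟩ : ∃ u, u = z * z' := ⟨_, rfl⟩
  have hzu : z * u * z⁻¹ = u⁻¹ := by rw [hu]; exact b2_conj_prod hz hz'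
  have hz'u : z' * u * z'⁻¹ = u⁻¹ := by rw [hu]; exact b2_conj_prod' hz hz'
  have hu1 : u ≠ 1 := by
    intro h1
    apply hnc
    rw [hu] at h1
    have : z' = z⁻¹ := (inv_eq_of_mul_eq_one_right h1).symm
    rw [this, b2_inv_inv hz]
  have husq : u * u ≠ 1 := by
    intro h1
    apply hnc
    rw [hu] at h1
    exact b2_comm_of_sq hz hz' h1
  -- the normalizer of `⟨u⟩`
  have hXbot : Subgroup.zpowers u ≠ ⊥ := by
    intro h0
    apply hu1
    have : u ∈ (⊥ : Subgroup G) := by rw [← h0]; exact Subgroup.mem_zpowers u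
    exact Subgroup.mem_bot.mp this
  have hXtop : Subgroup.zpowers u ≠ ⊤ := by
    intro h0
    apply hnc
    have h1 : z ∈ Subgroup.zpowers u := by rw [h0]; exact Subgroup.mem_top z
    have h2 : z' ∈ Subgroup.zpowers u := by rw [h0]; exact Subgroup.mem_top z'
    obtain ⟨i, rfl⟩ := Subgroup.mem_zpowers_iff.mp h1
    obtain ⟨j, rfl⟩ := Subgroup.mem_zpowers_iff.mp h2
    rw [← zpow_add, ← zpow_add, add_comm]
  have hNtop := c.fa.norm_ne_top (Subgroup.zpowers u) hXbot hXtop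
  have hconj : ∀ {y : G}, y * u * y⁻¹ = u⁻¹ → ∀ h ∈ Subgroup.zpowers u,
      y * h * y⁻¹ ∈ Subgroup.zpowers u := by
    intro y hy h hh
    obtain ⟨k, rfl⟩ := Subgroup.mem_zpowers_iff.mp hh
    rw [← conj_zpow, hy]
    exact Subgroup.zpow_mem _ (Subgroup.inv_mem _ (Subgroup.mem_zpowers u)) k
  have hzN : z ∈ Subgroup.normalizer ((Subgroup.zpowers u : Subgroup G) : Set G) := by
    rw [Subgroup.mem_set_normalizer_iff]
    intro h
    constructor
    · exact hconj hzu h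
    · intro hh
      have := hconj hzu _ hh
      have e : z * (z * h * z⁻¹) * z⁻¹ = h := by
        rw [b2_inv_inv hz]
        calc z * (z * h * z) * z = (z * z) * h * (z * z) := by group
          _ = h := by rw [hz.2]; group
      rwa [e] at this
  have huN : u ∈ Subgroup.normalizer ((Subgroup.zpowers u : Subgroup G) : Set G) :=
    Subgroup.le_normalizer (Subgroup.mem_zpowers u)
  have hdvd := b2_ord c.h P _ hNtop (b2_even_of_inv hz hzN)
  have hord : orderOf u ∣ 4 * Nat.card P := by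
    have h1 : orderOf (⟨u, huN⟩ :
        Subgroup.normalizer ((Subgroup.zpowers u : Subgroup G) : Set G)) ∣ _ :=
      orderOf_dvd_natCard _
    rw [Subgroup.orderOf_mk] at h1
    exact h1.trans hdvd
  have hpow : u ^ (4 * Nat.card P) = 1 := orderOf_dvd_iff_pow_eq_one.mp hord
  obtain ⟨w, hw⟩ : ∃ w, w = u ^ Nat.card P := ⟨_, rfl⟩
  have hw4 : w ^ 4 = 1 := by rw [hw, ← pow_mul, mul_comm]; exact hpow
  have hwsq : w * w = 1 := by
    apply c.fa.two_exp (Subgroup.zpowers w) _ w (Subgroup.mem_zpowers w)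
    apply IsPGroup.of_card_dvd_pow (n := 2)
    rw [Nat.card_zpowers]
    exact orderOf_dvd_of_pow_eq_one (by norm_num; exact hw4)
  have hwconj : ∀ {y : G}, y * u * y⁻¹ = u⁻¹ → y * w = w * y := by
    intro y hy
    have h1 : y * w * y⁻¹ = w⁻¹ := by
      rw [hw, ← conj_pow, hy, inv_pow]
    have h2 : w⁻¹ = w := inv_eq_of_mul_eq_one_left hwsq
    rw [h2] at h1
    calc y * w = y * w * y⁻¹ * y := by group
      _ = w * y := by rw [h1]
  have hwne : ∀ {y : G}, y * u * y⁻¹ = u⁻¹ → w ≠ y := by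
    intro y hy hwy
    apply husq
    have hc : Commute w u := by rw [hw]; exact (Commute.refl u).pow_left _
    rw [hwy] at hc
    have h1 : y * u * y⁻¹ = u := by
      calc y * u * y⁻¹ = u * y * y⁻¹ := by rw [hc.eq]
        _ = u := by group
    rw [h1] at hy
    calc u * u = u * u⁻¹ := by rw [← hy]
      _ = 1 := mul_inv_cancel u
  by_cases hw1 : w = 1
  · -- `u` is a non-trivial `p`-element
    have hum : u ^ Nat.card P = 1 := by rw [← hw]; exact hw1
    have hpg : IsPGroup p (Subgroup.zpowers u) := by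
      apply IsPGroup.of_card_dvd_pow (n := (Nat.card G).factorization p)
      rw [Nat.card_zpowers, ← b2_cardP c.h P]
      exact orderOf_dvd_of_pow_eq_one hum
    obtain ⟨P₁, hP₁⟩ := hpg.exists_le_sylow
    have huP₁ : u ∈ (P₁ : Subgroup G) := hP₁ (Subgroup.mem_zpowers u)
    obtain ⟨k, hk⟩ := MulAction.exists_smul_eq G P P₁
    have T₁ : B2Tri (k • Q) (k * t * k⁻¹) P₁ := by
      have := b2_conj T k
      rwa [hk] at this
    have hmem : ∀ {y : G}, y * u * y⁻¹ = u⁻¹ → y ∈ Cent (k * t * k⁻¹) := by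
      intro y hy
      rw [← b2_normP c.h c.fa c.fb T₁]
      exact b2_TI_norm c T₁ hu1 huP₁ (by rw [hy]; exact P₁.inv_mem huP₁)
    have hne : ∀ {y : G}, y * u * y⁻¹ = u⁻¹ → k * t * k⁻¹ ≠ y := by
      intro y hy hyy
      apply husq
      have h1 := T₁.hc u huP₁
      rw [hyy, hy] at h1
      calc u * u = u * u⁻¹ := by rw [h1]
        _ = 1 := mul_inv_cancel u
    exact ⟨k * t * k⁻¹, b2_isInv_t c.fa T₁, hne hzu, hne hz'u,
      (b2_mem_cent.mp (hmem hzu)).symm, (b2_mem_cent.mp (hmem hz'u)).symm⟩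
  · exact ⟨w, ⟨hw1, hwsq⟩, hwne hzu, hwne hz'u, hwconj hzu, hwconj hz'u⟩

/-- involutions `x s` of `C(t)`. -/
theorem b2_inv_of_prod (h : MinCE G p 2) (fa : FactsA G p 2) {Q : Sylow 2 G} {t : G}
    {P : Sylow p G} (T : B2Tri Q t P) {x s : G} (hx : x ∈ (P : Subgroup G)) (hs : s ∈ Q)
    (hs1 : s ≠ 1) (hst : s ≠ t) :
    IsInv (x * s) ∧ x * s ≠ t ∧ t * (x * s) = (x * s) * t := by
  have hss := b2_sq_of_mem fa Q hs
  have hsinv := b2_inv_eq_of_mem fa Q hs
  have hxs := T.hi s hs hs1 hst x hx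
  rw [hsinv] at hxs
  refine ⟨⟨?_, ?_⟩, ?_, ?_⟩
  · intro h1
    apply hs1
    have h2 : s = x⁻¹ := (inv_eq_of_mul_eq_one_right h1).symm
    exact b2_disj h fa Q P (by rw [h2]; exact P.inv_mem hx) hs
  · calc x * s * (x * s) = x * (s * x * s) := by group
      _ = x * x⁻¹ := by rw [hxs]
      _ = 1 := mul_inv_cancel x
  · intro h1
    apply hst
    have h2 : x = t * s⁻¹ := by rw [← h1]; group
    have hx1 : x = 1 :=
      b2_disj h fa Q P hx (by rw [h2]; exact Q.mul_mem T.htQ (Q.inv_mem hs))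
    rw [hx1, one_mul] at h1
    exact h1
  · have h1 : t * x = x * t := b2_mem_cent.mp (b2_P_le_cent T hx)
    have h2 : t * s = s * t := b2_comm_of_mem fa Q T.htQ hs
    calc t * (x * s) = (t * x) * s := by group
      _ = x * (t * s) := by rw [h1]; group
      _ = x * s * t := by rw [h2]; group

/-- conjugation on involutions. -/
theorem b2_isInv_conj {z : G} (hz : IsInv z) (g : G) : IsInv (g * z * g⁻¹) := by
  refine ⟨?_, ?_⟩
  · intro h1
    apply hz.1
    have e : z = g⁻¹ * (g * z * g⁻¹) * g := by group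
    rw [e, h1]; group
  · calc g * z * g⁻¹ * (g * z * g⁻¹) = g * (z * z) * g⁻¹ := by group
      _ = 1 := by rw [hz.2]; group

/-- **(P8)**. -/
theorem caseB2_false (h : MinCE G p 2) (fa : FactsA G p 2) (fb : FactsB G p 2)
    (hdich : Dichotomy G p 2)
    (Q : Sylow 2 G) (t : G) (htQ : t ∈ Q) (ht1 : t ≠ 1) (P : Sylow p G)
    (hc : ∀ x ∈ (P : Subgroup G), t * x * t⁻¹ = x)
    (hi : ∀ s ∈ Q, s ≠ 1 → s ≠ t → ∀ x ∈ (P : Subgroup G), s * x * s⁻¹ = x⁻¹) : False := by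
  classical
  have T : B2Tri Q t P := ⟨htQ, ht1, hc, hi⟩
  have c : B2Ctx G p :=
    { h := h, fa := fa, fb := fb
      hTI := fun Q' t' P' T' g v hv1 hv hgv =>
        b2_TI h fa fb hdich Q' t' T'.htQ T'.ht1 P' T'.hc T'.hi g v hv1 hv hgv
      tri := fun z hz => b2_exists_tri fa T hz }
  haveI : Fintype {z : G // IsInv z} := Fintype.ofFinite _
  haveI : Nonempty {z : G // IsInv z} := ⟨⟨t, b2_isInv_t fa T⟩⟩
  let Γ : SimpleGraph {z : G // IsInv z} :=
    { Adj := fun a b => a ≠ b ∧ a.1 * b.1 = b.1 * a.1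
      symm := ⟨fun a b hab => ⟨hab.1.symm, hab.2.symm⟩⟩
      loopless := ⟨fun a ha => ha.1 rfl⟩ }
  have hadj : ∀ a b : {z : G // IsInv z}, Γ.Adj a b ↔ (a ≠ b ∧ a.1 * b.1 = b.1 * a.1) :=
    fun a b => Iff.rfl
  -- friendship
  have hfr : ∀ v w : {z : G // IsInv z}, v ≠ w → ∃! x, Γ.Adj v x ∧ Γ.Adj w x := by
    rintro ⟨z, hz⟩ ⟨z', hz'⟩ hvw
    have hne : z ≠ z' := fun h0 => hvw (Subtype.ext h0)
    by_cases hcomm : z * z' = z' * z
    · obtain ⟨⟨hI, h1, h2, h3, h4⟩, huniq⟩ := b2_cn_comm c hz hz' hne hcomm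
      refine ⟨⟨z * z', hI⟩, ⟨⟨?_, h3⟩, ⟨?_, h4⟩⟩, ?_⟩
      · intro h0; exact h1 (congrArg Subtype.val h0).symm
      · intro h0; exact h2 (congrArg Subtype.val h0).symm
      · rintro ⟨z₂, hz₂⟩ ⟨⟨hn1, hc1⟩, ⟨hn2, hc2⟩⟩
        apply Subtype.ext
        exact huniq z₂ hz₂ (fun h0 => hn1 (Subtype.ext h0.symm))
          (fun h0 => hn2 (Subtype.ext h0.symm)) hc1 hc2
    · obtain ⟨z₂, hz₂, h1, h2, h3, h4⟩ := b2_cn_exists c T hz hz' hcomm
      refine ⟨⟨z₂, hz₂⟩, ⟨⟨?_, h3⟩, ⟨?_, h4⟩⟩, ?_⟩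
      · intro h0; exact h1 (congrArg Subtype.val h0).symm
      · intro h0; exact h2 (congrArg Subtype.val h0).symm
      · rintro ⟨z₃, hz₃⟩ ⟨⟨hn1, hc1⟩, ⟨hn2, hc2⟩⟩
        apply Subtype.ext
        exact b2_cn_unique c hz hz' hcomm hz₃ hz₂
          (fun h0 => hn1 (Subtype.ext h0.symm)) (fun h0 => hn2 (Subtype.ext h0.symm)) hc1 hc2
          h1 h2 h3 h4
  -- regularity
  have hreg : ∀ v : {z : G // IsInv z},
      Nat.card {x // Γ.Adj v x} = Nat.card {x // Γ.Adj ⟨t, b2_isInv_t fa T⟩ x} := by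
    rintro ⟨z, hz⟩
    obtain ⟨g, hg⟩ := fa.inv_conj t z (b2_isInv_t fa T) hz
    let e : {z : G // IsInv z} ≃ {z : G // IsInv z} :=
      { toFun := fun a => ⟨g * a.1 * g⁻¹, b2_isInv_conj a.2 g⟩
        invFun := fun a => ⟨g⁻¹ * a.1 * g, by
          have := b2_isInv_conj a.2 g⁻¹
          rwa [inv_inv] at this⟩
        left_inv := fun a => Subtype.ext (by
          show g⁻¹ * (g * a.1 * g⁻¹) * g = a.1
          group)
        right_inv := fun a => Subtype.ext (by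
          show g * (g⁻¹ * a.1 * g) * g⁻¹ = a.1
          group) }
    symm
    apply Nat.card_congr
    refine Equiv.subtypeEquiv e (fun b => ?_)
    have he : e ⟨t, b2_isInv_t fa T⟩ = ⟨z, hz⟩ := Subtype.ext hg
    rw [hadj, hadj, ← he]
    constructor
    · rintro ⟨hn, hcm⟩
      refine ⟨fun h0 => hn (e.injective h0), ?_⟩
      show g * t * g⁻¹ * (g * b.1 * g⁻¹) = g * b.1 * g⁻¹ * (g * t * g⁻¹)
      have hcm' : t * b.1 = b.1 * t := hcm
      calc g * t * g⁻¹ * (g * b.1 * g⁻¹) = g * (t * b.1) * g⁻¹ := by group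
        _ = g * (b.1 * t) * g⁻¹ := by rw [hcm']
        _ = g * b.1 * g⁻¹ * (g * t * g⁻¹) := by group
    · rintro ⟨hn, hcm⟩
      refine ⟨fun h0 => hn (by rw [h0]), ?_⟩
      have hcm' : g * t * g⁻¹ * (g * b.1 * g⁻¹) = g * b.1 * g⁻¹ * (g * t * g⁻¹) := hcm
      show t * b.1 = b.1 * t
      calc t * b.1 = g⁻¹ * (g * t * g⁻¹ * (g * b.1 * g⁻¹)) * g := by group
        _ = g⁻¹ * (g * b.1 * g⁻¹ * (g * t * g⁻¹)) * g := by rw [hcm']
        _ = b.1 * t := by group
  -- the degree is at least 3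
  have hd : 3 ≤ Nat.card {x // Γ.Adj ⟨t, b2_isInv_t fa T⟩ x} := by
    obtain ⟨s₀, hs₀, hs₀1, hs₀t⟩ := b2_exists_s0 h T
    let f : ↥(P : Subgroup G) → {x // Γ.Adj ⟨t, b2_isInv_t fa T⟩ x} := fun x =>
      ⟨⟨x.1 * s₀, (b2_inv_of_prod h fa T x.2 hs₀ hs₀1 hs₀t).1⟩, by
        rw [hadj]
        refine ⟨fun h0 => (b2_inv_of_prod h fa T x.2 hs₀ hs₀1 hs₀t).2.1
          (congrArg Subtype.val h0).symm, (b2_inv_of_prod h fa T x.2 hs₀ hs₀1 hs₀t).2.2⟩⟩
    have hinj : Function.Injective f := by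
      intro x y hxy
      have h1 : x.1 * s₀ = y.1 * s₀ := congrArg (fun a => a.1.1) hxy
      exact Subtype.ext (mul_right_cancel h1)
    have := Nat.card_le_card_of_injective f hinj
    exact (b2_three_le_cardP h P).trans this
  exact Cfsg.Agent.Helper5.S4017.friendship_regular_false Γ _ hfr hreg hd

end Cfsg.Agent.Helper7.S4017
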