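import Mathlib
import Cfsg.Prelude.Def_BaumannBlocks

set_option autoImplicit false

/-!
Helper5, S2986 (two subnormal `B(T)`-blocks are equal or commute): the ABSTRACT interface.

`Amb p P M`: the ambient data (`P = O_p(G)`, `M = Ω₁Z(P)` in the application).
`Blk p P M E W Z B`: what the proof uses about a subnormal block `E` (`W = Ω₁Z(O_p(E))`, `Z = C_W(E)`, `B = B(T)`), with
`Q = E ⊓ P` (`= O_p(E)`) and `V = ⁅M, E⁆` (`= [W, E]`).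
-/

namespace Cfsg.Agent.Helper5.SB

open scoped commutatorElement

universe u

variable {G : Type u} [Group G]

/-- ambient data: `P` a normal `p`-subgroup with `C_G(P) ≤ P`, and `M ≤ Ω₁Z(P)` normal in `G`. -/
structure Amb (p : ℕ) (P M : Subgroup G) : Prop where
  Pn : P.Normal
  Pp : IsPGroup p P
  CP : Subgroup.centralizer (P : Set G) ≤ P
  Mn : M.Normal
  MP : M ≤ P
  Mc : P ≤ Subgroup.centralizer (M : Set G)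
  Mexp : ∀ x ∈ M, x ^ p = 1

/-- "perfect type": `E / Q` quasisimple (`SL₂(q)`, `q ≥ 4`, or `A_n`, `n ≥ 5`). -/
structure Perf (p : ℕ) (P E : Subgroup G) : Prop where
  perf : ⁅E, E⁆ = E
  PT : ∀ N : Subgroup G, N ≤ E → E ≤ Subgroup.normalizer (N : Set G) →
    E ≤ N ⊔ (E ⊓ P) ∨ ⁅N, E⁆ ≤ P
  pel : ∃ u ∈ E, (∃ k : ℕ, u ^ (p ^ k) = 1) ∧ ∃ e ∈ E, ⁅u, e⁆ ∉ P

/-- "small type" for `p = 2`: `E / Q` of order `3` (`E ≅ A₄`). -/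
structure Small2 (p : ℕ) (P E W Z : Subgroup G) : Prop where
  p2 : p = 2
  idx : Nat.card E = 3 * Nat.card (E ⊓ P : Subgroup G)
  cardW : Nat.card W = 4 * Nat.card Z

/-- "small type" for `p = 3`: `E / Q ≅ Q₈`. -/
structure Small3 (p : ℕ) (P E W Z : Subgroup G) : Prop where
  p3 : p = 3
  idx : Nat.card E = 8 * Nat.card (E ⊓ P : Subgroup G)
  cardW : Nat.card W = 9 * Nat.card Z
  cardQ : E ⊓ P ≠ W → Nat.card (E ⊓ P : Subgroup G) = 9 * Nat.card W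
  tex : ∃ t ∈ E, t ∉ P ∧ t * t ∈ P ∧ (∀ e ∈ E, ⁅t, e⁆ ∈ P) ∧
    (∀ x ∈ E, x ∈ P ∨ x * t⁻¹ ∈ P ∨ x * x * t⁻¹ ∈ P) ∧ ∃ x ∈ E, ∃ y ∈ E, ⁅x, y⁆ ∉ P

/-- the exceptional kind (`p = 3`, `Q / W` a second natural module, `[Q,Q] = Z`). -/
structure Exc (p : ℕ) (P E W Z B : Subgroup G) : Prop where
  p3 : p = 3
  cW : W ≤ Subgroup.centralizer ((E ⊓ P : Subgroup G) : Set G)
  QQ : ⁅E ⊓ P, E ⊓ P⁆ = Z
  QE : ⁅E ⊓ P, E⁆ = E ⊓ P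
  Qexp : ∀ u ∈ E ⊓ P, u ^ 3 ∈ W
  Zne : Z ≠ ⊥
  irrQ : ∀ X : Subgroup G, W ≤ X → X ≤ E ⊓ P → E ≤ Subgroup.normalizer (X : Set G) →
    X = W ∨ X = E ⊓ P
  faithQ : ∀ e ∈ E, (∀ u ∈ E ⊓ P, ⁅e, u⁆ ∈ W) → e ∈ P
  Bp : IsPGroup p B
  BE : ⁅E, B⁆ = E
  Bq : ∀ b ∈ B, b ∉ Subgroup.centralizer (W : Set G) →
    ¬ ⁅⁅E ⊓ P, Subgroup.zpowers b⁆, Subgroup.zpowers b⁆ ≤ Z

/-- a (subnormal) block, abstractly. -/
structure Blk (p : ℕ) (P M E W Z B : Subgroup G) : Prop where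
  sn : E.IsSubnormal
  res : Cfsg.pResidualOf p E = E
  nP : P ≤ Subgroup.normalizer (E : Set G)
  VV : ⁅⁅M, E⁆, E⁆ = ⁅M, E⁆
  Vne : ⁅M, E⁆ ≠ ⊥
  WVZ : W = ⁅M, E⁆ ⊔ Z
  ZC : Z = W ⊓ Subgroup.centralizer (E : Set G)
  WE : W ≤ E ⊓ P
  nW : Subgroup.normalizer (E : Set G) ≤ Subgroup.normalizer (W : Set G)
  irr : ∀ X : Subgroup G, Z ≤ X → X ≤ W → E ≤ Subgroup.normalizer (X : Set G) → X = Z ∨ X = W
  faith : E ⊓ Subgroup.centralizer ((⁅M, E⁆ : Subgroup G) : Set G) ≤ P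
  kind : E ⊓ P = ⁅M, E⁆ ∨ Exc p P E W Z B
  type : Perf p P E ∨ Small2 p P E W Z ∨ Small3 p P E W Z

end Cfsg.Agent.Helper5.SB
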