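import Mathlib
import Cfsg.Agent.Helper5.SBDef
import Cfsg.Agent.Helper9.BBE
import Cfsg.Agent.Helper2.Component
import Cfsg.Agent.Helper4.ThreeSubgroups

set_option autoImplicit false
set_option linter.unusedSectionVars false
set_option linter.style.haveILetI false

/-!
Helper5, S2986: toolkit and first consequences of the abstract block structure `Blk`.
-/

namespace Cfsg.Agent.Helper5.SB

open scoped commutatorElement
open Cfsg.Agent.Helper9.BB

universe u

variable {G : Type u} [Group G]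

/-! ### general tools -/

/-- coprime action, elementwise: a `p'`-element `x` commuting with the `p`-element `[x, e]` commutes with `e`. -/
theorem comm_of_coprime {p : ℕ} {x e : G} (hc : (orderOf x).Coprime p)
    (hcx : x * ⁅x, e⁆ = ⁅x, e⁆ * x) {k : ℕ} (hk : ⁅x, e⁆ ^ (p ^ k) = 1) : x * e = e * x := by
  set w := ⁅x, e⁆ with hw
  have hconj : ∀ m : ℕ, x ^ m * e * (x ^ m)⁻¹ = w ^ m * e := by
    intro m
    induction m with
    | zero => simp
    | succ m ih =>
      have hxw : x * w ^ m = w ^ m * x := by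
        have : Commute x w := hcx
        exact (this.pow_right m).eq
      calc x ^ (m + 1) * e * (x ^ (m + 1))⁻¹ = x * (x ^ m * e * (x ^ m)⁻¹) * x⁻¹ := by
            rw [pow_succ']; group
        _ = x * (w ^ m * e) * x⁻¹ := by rw [ih]
        _ = (x * w ^ m) * e * x⁻¹ := by group
        _ = w ^ m * (x * e * x⁻¹ * e⁻¹) * e := by rw [hxw]; group
        _ = w ^ (m + 1) * e := by
            rw [pow_succ, hw, commutatorElement_def]
  have h1 := hconj (orderOf x)
  rw [pow_orderOf_eq_one] at h1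
  have h2 : w ^ orderOf x = 1 := by
    have : e = w ^ orderOf x * e := by simpa using h1
    exact (mul_eq_right.1 this.symm)
  have hw1 : w = 1 := by
    have hd1 : orderOf w ∣ orderOf x := orderOf_dvd_of_pow_eq_one h2
    have hd2 : orderOf w ∣ p ^ k := orderOf_dvd_of_pow_eq_one hk
    have hcop : (orderOf x).Coprime (p ^ k) := Nat.Coprime.pow_right k hc
    have : orderOf w = 1 := Nat.eq_one_of_dvd_coprimes hcop hd1 hd2
    exact orderOf_eq_one_iff.1 this
  have : x * e * x⁻¹ * e⁻¹ = 1 := by rw [← commutatorElement_def, ← hw, hw1]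
  calc x * e = (x * e * x⁻¹ * e⁻¹) * e * x := by group
    _ = e * x := by rw [this, one_mul]

/-- elements of a `p`-group have `p`-power order, elementwise. -/
theorem exists_pow_eq_one_of_isPGroup {p : ℕ} {K : Subgroup G} (hK : IsPGroup p K) {x : G} (hx : x ∈ K) :
    ∃ k : ℕ, x ^ (p ^ k) = 1 := by
  obtain ⟨k, hk⟩ := hK ⟨x, hx⟩
  refine ⟨k, ?_⟩
  have := congrArg Subtype.val hk
  simpa using this

/-- a `p'`-element which is also a `p`-element is trivial. -/
theorem eq_one_of_coprime_of_pow {p : ℕ} {x : G} (hc : (orderOf x).Coprime p) {k : ℕ}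
    (hk : x ^ (p ^ k) = 1) : x = 1 := by
  have hd : orderOf x ∣ p ^ k := orderOf_dvd_of_pow_eq_one hk
  have : orderOf x = 1 := Nat.eq_one_of_dvd_coprimes (Nat.Coprime.pow_right k hc) dvd_rfl hd
  exact orderOf_eq_one_iff.1 this

theorem commElt_inv_swap (a b : G) : ⁅a, b⁆ = (⁅b, a⁆)⁻¹ := by
  simp only [commutatorElement_def]; group

/-- `N(A) ⊓ N(B) ≤ N(A ⊔ B)`. -/
theorem le_normalizer_sup' {E A B : Subgroup G} (hA : E ≤ Subgroup.normalizer (A : Set G))
    (hB : E ≤ Subgroup.normalizer (B : Set G)) :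
    E ≤ Subgroup.normalizer ((A ⊔ B : Subgroup G) : Set G) := by
  intro g hg
  apply mem_normalizer_of_map_eq
  rw [Subgroup.map_sup, map_eq_of_mem_normalizer (hA hg), map_eq_of_mem_normalizer (hB hg)]

/-- `N(A) ⊓ N(B) ≤ N(A ⊓ B)`. -/
theorem le_normalizer_inf' {E A B : Subgroup G} (hA : E ≤ Subgroup.normalizer (A : Set G))
    (hB : E ≤ Subgroup.normalizer (B : Set G)) :
    E ≤ Subgroup.normalizer ((A ⊓ B : Subgroup G) : Set G) := by
  intro g hg
  exact normalizer_inf_le A B ⟨hA hg, hB hg⟩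

/-- `N(A) ⊓ N(B) ≤ N(⁅A, B⁆)`. -/
theorem le_normalizer_comm' {E A B : Subgroup G} (hA : E ≤ Subgroup.normalizer (A : Set G))
    (hB : E ≤ Subgroup.normalizer (B : Set G)) :
    E ≤ Subgroup.normalizer ((⁅A, B⁆ : Subgroup G) : Set G) := by
  intro g hg
  exact normalizer_inf_le_commutator A B ⟨hA hg, hB hg⟩

theorem le_normalizer_of_normal' (E N : Subgroup G) [hN : N.Normal] :
    E ≤ Subgroup.normalizer (N : Set G) := by
  rw [Subgroup.normalizer_eq_top]; exact le_top


/-! ### first consequences of `Amb`, `Blk` -/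

section Basic

variable {p : ℕ} {P M E W Z B : Subgroup G}

theorem Amb.M_comm (hA : Amb p P M) {x y : G} (hx : x ∈ M) (hy : y ∈ M) : x * y = y * x :=
  (Subgroup.mem_centralizer_iff.1 (hA.Mc (hA.MP hx)) y hy).symm

theorem Amb.nP (hA : Amb p P M) (X : Subgroup G) : X ≤ Subgroup.normalizer (P : Set G) :=
  haveI := hA.Pn; le_normalizer_of_normal' X P

theorem Amb.nM (hA : Amb p P M) (X : Subgroup G) : X ≤ Subgroup.normalizer (M : Set G) :=
  haveI := hA.Mn; le_normalizer_of_normal' X M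

theorem Blk.V_le_M (hA : Amb p P M) : ⁅M, E⁆ ≤ M :=
  haveI := hA.Mn; Subgroup.commutator_le_left M E

theorem Blk.V_le_E (hA : Amb p P M) (hE : Blk p P M E W Z B) : ⁅M, E⁆ ≤ E :=
  commutator_le_of_le_normalizer le_rfl (hA.MP.trans hE.nP)

theorem Blk.V_le_P (hA : Amb p P M) : ⁅M, E⁆ ≤ P :=
  (Blk.V_le_M hA).trans hA.MP

theorem Blk.V_le_Q (hA : Amb p P M) (hE : Blk p P M E W Z B) : ⁅M, E⁆ ≤ E ⊓ P :=
  le_inf (hE.V_le_E hA) (Blk.V_le_P hA)

theorem Blk.nV (hA : Amb p P M) :
    Subgroup.normalizer (E : Set G) ≤ Subgroup.normalizer ((⁅M, E⁆ : Subgroup G) : Set G) :=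
  le_normalizer_comm' (hA.nM _) le_rfl

theorem Blk.P_le_cV (hA : Amb p P M) :
    P ≤ Subgroup.centralizer ((⁅M, E⁆ : Subgroup G) : Set G) :=
  hA.Mc.trans (Subgroup.centralizer_le (Blk.V_le_M hA))

theorem Blk.V_comm (hA : Amb p P M) {x y : G} (hx : x ∈ ⁅M, E⁆) (hy : y ∈ ⁅M, E⁆) :
    x * y = y * x :=
  hA.M_comm (Blk.V_le_M hA hx) (Blk.V_le_M hA hy)

theorem Blk.Z_le_W (hE : Blk p P M E W Z B) : Z ≤ W := by
  have h := hE.ZC
  rw [h]; exact inf_le_left

theorem Blk.Z_le_cE (hE : Blk p P M E W Z B) : Z ≤ Subgroup.centralizer (E : Set G) := by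
  have h := hE.ZC
  rw [h]; exact inf_le_right

theorem Blk.V_le_W (hE : Blk p P M E W Z B) : ⁅M, E⁆ ≤ W := by
  have h := hE.WVZ
  rw [h]; exact le_sup_left

theorem Blk.W_le_E (hE : Blk p P M E W Z B) : W ≤ E := hE.WE.trans inf_le_left

theorem Blk.W_le_P (hE : Blk p P M E W Z B) : W ≤ P := hE.WE.trans inf_le_right

theorem Blk.nZ (hE : Blk p P M E W Z B) :
    Subgroup.normalizer (E : Set G) ≤ Subgroup.normalizer (Z : Set G) := by
  have h := hE.ZC
  rw [h]
  exact le_normalizer_inf' hE.nW (normalizer_le_centralizer E)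

theorem Blk.E_le_nE : E ≤ Subgroup.normalizer (E : Set G) := Subgroup.le_normalizer

theorem Blk.nQ (hA : Amb p P M) :
    Subgroup.normalizer (E : Set G) ≤ Subgroup.normalizer ((E ⊓ P : Subgroup G) : Set G) :=
  le_normalizer_inf' le_rfl (hA.nP _)

/-- `W` is abelian. -/
theorem Blk.W_le_cW (hA : Amb p P M) (hE : Blk p P M E W Z B) :
    W ≤ Subgroup.centralizer (W : Set G) := by
  have hZ : Z ≤ Subgroup.centralizer (W : Set G) :=
    hE.Z_le_cE.trans (Subgroup.centralizer_le hE.W_le_E)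
  have hV : ⁅M, E⁆ ≤ Subgroup.centralizer (W : Set G) := by
    rw [Subgroup.le_centralizer_iff]
    have h := hE.WVZ
    rw [h]
    apply sup_le
    · intro x hx
      rw [Subgroup.mem_centralizer_iff]
      intro y hy
      exact Blk.V_comm hA hy hx
    · exact hE.Z_le_cE.trans (Subgroup.centralizer_le (hE.V_le_E hA))
  have h := hE.WVZ
  calc W = ⁅M, E⁆ ⊔ Z := h
    _ ≤ Subgroup.centralizer (W : Set G) := sup_le hV hZ

theorem Blk.W_comm (hA : Amb p P M) (hE : Blk p P M E W Z B) {x y : G} (hx : x ∈ W) (hy : y ∈ W) :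
    x * y = y * x :=
  (Subgroup.mem_centralizer_iff.1 (hE.W_le_cW hA hx) y hy).symm

/-- irreducibility on `V = [M, E]`: an `E`-invariant subgroup of `V` is centralized by `E` or is all of `V`. -/
theorem Blk.irrV (hA : Amb p P M) (hE : Blk p P M E W Z B) {X : Subgroup G} (hXV : X ≤ ⁅M, E⁆)
    (hEX : E ≤ Subgroup.normalizer (X : Set G)) :
    X ≤ Subgroup.centralizer (E : Set G) ∨ X = ⁅M, E⁆ := by
  have hXW : X ≤ W := hXV.trans hE.V_le_W
  rcases hE.irr (X ⊔ Z) le_sup_right (sup_le hXW hE.Z_le_W)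
    (le_normalizer_sup' hEX (Blk.E_le_nE.trans hE.nZ)) with h | h
  · left
    exact (le_sup_left.trans h.le).trans hE.Z_le_cE
  · right
    apply le_antisymm hXV
    have hZX : Z ≤ Subgroup.normalizer (X : Set G) := by
      intro z hz
      rw [Subgroup.mem_normalizer_iff]
      intro x
      have e : ∀ x ∈ X, z * x * z⁻¹ = x := by
        intro x hx
        rw [hE.W_comm hA (hE.Z_le_W hz) (hXW hx)]; group
      constructor
      · intro hx; rw [e x hx]; exact hx
      · intro hx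
        have h2 : z * x * z⁻¹ ∈ W := hXW hx
        have h3 : x ∈ W := by
          have : x = z⁻¹ * (z * x * z⁻¹) * z := by group
          rw [this]
          exact mul_mem (mul_mem (inv_mem (hE.Z_le_W hz)) h2) (hE.Z_le_W hz)
        have : z * x * z⁻¹ = x := by
          rw [hE.W_comm hA (hE.Z_le_W hz) h3]; group
        rwa [this] at hx
    have key : ⁅W, E⁆ ≤ X := by
      rw [← h, Subgroup.commutator_le]
      intro y hy e he
      have hy' : y ∈ ((Z ⊔ X : Subgroup G) : Set G) := by rw [sup_comm]; exact hy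
      rw [Subgroup.coe_mul_of_left_le_normalizer_right Z X hZX] at hy'
      obtain ⟨z, hz, x, hx, rfl⟩ := hy'
      have hze : ⁅z, e⁆ = 1 := by
        rw [commutatorElement_eq_one_iff_mul_comm]
        exact (Subgroup.mem_centralizer_iff.1 (hE.Z_le_cE hz) e he).symm
      have hxe : ⁅x, e⁆ ∈ X := by
        have : ⁅x, e⁆ = x * (e * x⁻¹ * e⁻¹) := by simp only [commutatorElement_def]; group
        rw [this]
        exact mul_mem hx (conj_mem_of_mem_normalizer (hEX he) (inv_mem hx))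
      have e1 : ⁅z * x, e⁆ = z * ⁅x, e⁆ * z⁻¹ * ⁅z, e⁆ := by
        simp only [commutatorElement_def]; group
      rw [e1, hze, mul_one, hE.W_comm hA (hE.Z_le_W hz) (hXW hxe)]
      simpa using hxe
    calc ⁅M, E⁆ = ⁅⁅M, E⁆, E⁆ := hE.VV.symm
      _ ≤ ⁅W, E⁆ := Subgroup.commutator_mono hE.V_le_W le_rfl
      _ ≤ X := key

/-- `E = O^p(E)`: a subgroup containing all `p'`-elements of `E` contains `E`. -/
theorem Blk.res_le (hE : Blk p P M E W Z B) {N : Subgroup G}
    (h : ∀ g ∈ E, (orderOf g).Coprime p → g ∈ N) : E ≤ N := by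
  have := pResidualOf_le_iff.2 h
  rwa [hE.res] at this

/-- `E` is not a `p`-group: it is not contained in `P`. -/
theorem Blk.not_le_P (hA : Amb p P M) (hE : Blk p P M E W Z B) : ¬ E ≤ P := by
  intro h
  apply hE.Vne
  rw [Subgroup.commutator_eq_bot_iff_le_centralizer, Subgroup.le_centralizer_iff]
  exact h.trans hA.Mc

end Basic

section Fin

variable [Finite G] {p : ℕ} [Fact p.Prime] {P M E W Z B : Subgroup G}

/-- a `p'`-element of `E P` lies in `E`. -/
theorem Blk.mem_of_coprime (hA : Amb p P M) (hE : Blk p P M E W Z B) {g : G} (hg : g ∈ E ⊔ P)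
    (hc : (orderOf g).Coprime p) : g ∈ E := by
  have hg' : g ∈ ((P ⊔ E : Subgroup G) : Set G) := by rw [sup_comm]; exact hg
  rw [Subgroup.coe_mul_of_left_le_normalizer_right P E hE.nP] at hg'
  obtain ⟨x, hx, y, hy, rfl⟩ := hg'
  obtain ⟨k, hk⟩ := exists_pow_eq_one_of_isPGroup hA.Pp hx
  exact mul_mem (mem_of_coprime_mul (hE.nP hx) hy hk hc) hy

/-- `N(E P) ≤ N(E)`. -/
theorem Blk.nEP (hA : Amb p P M) (hE : Blk p P M E W Z B) :
    Subgroup.normalizer ((E ⊔ P : Subgroup G) : Set G) ≤ Subgroup.normalizer (E : Set G) := by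
  apply le_normalizer_of_forall_conj
  intro g hg
  have key : E ≤ E.comap (MulAut.conj g).toMonoidHom := by
    apply hE.res_le
    intro y hy hc
    show g * y * g⁻¹ ∈ E
    apply hE.mem_of_coprime hA (conj_mem_of_mem_normalizer hg (Subgroup.mem_sup_left hy))
    have : g * y * g⁻¹ = MulAut.conj g y := rfl
    rw [this, MulEquiv.orderOf_eq]
    exact hc
  intro n hn
  exact key hn

/-- if `[E, h] ⊆ P` then `h` normalizes `E`. -/
theorem Blk.mem_normalizer_of_comm (hA : Amb p P M) (hE : Blk p P M E W Z B) {h : G}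
    (hh : ∀ y ∈ E, ⁅h, y⁆ ∈ P) : h ∈ Subgroup.normalizer (E : Set G) := by
  have h1 : Subgroup.zpowers h ≤ Subgroup.normalizer (E : Set G) := by
    rw [Subgroup.zpowers_le]
    have h2 := conj_mem_of_comm_mem hE.res hA.Pp hE.nP hh
    have h3 : ∀ y ∈ E, ⁅h⁻¹, y⁆ ∈ P := by
      intro y hy
      have e : ⁅h⁻¹, y⁆ = h⁻¹ * (⁅h, y⁆)⁻¹ * h := by simp only [commutatorElement_def]; group
      rw [e]
      haveI := hA.Pn
      have := hA.Pn.conj_mem _ (inv_mem (hh y hy)) h⁻¹
      simpa using this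
    have h4 := conj_mem_of_comm_mem hE.res hA.Pp hE.nP h3
    rw [Subgroup.mem_normalizer_iff]
    intro n
    constructor
    · exact h2 n
    · intro hn
      have := h4 _ hn
      simpa [mul_assoc] using this
  exact h1 (Subgroup.mem_zpowers h)

end Fin

end Cfsg.Agent.Helper5.SB
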