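import Mathlib
import Cfsg.Agent.Helper5.SBA

set_option autoImplicit false
set_option linter.unusedSectionVars false
set_option linter.style.haveILetI false

/-!
Helper5, S2986, part I: blocks of perfect type behave like components modulo `P`:
`E ≤ H P` or `[H, E] ≤ P` for every subnormal `H`.
-/

namespace Cfsg.Agent.Helper5.SB

open scoped commutatorElement
open Cfsg.Agent.Helper9.BB

universe u

variable {G : Type u} [Group G]

theorem le_normalizer_iterate {E H : Subgroup G} (h : E ≤ Subgroup.normalizer (H : Set G)) (n : ℕ) :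
    E ≤ Subgroup.normalizer (((fun B : Subgroup G => ⁅B, E⁆)^[n] H : Subgroup G) : Set G) := by
  induction n with
  | zero => exact h
  | succ n ih =>
    rw [Function.iterate_succ_apply']
    exact le_normalizer_comm' ih Subgroup.le_normalizer

variable {p : ℕ} {P M E W Z B : Subgroup G}

theorem perf_descend (hA : Amb p P M) (hp : ⁅E, E⁆ = E) (X : Subgroup G) (h : ⁅⁅X, E⁆, E⁆ ≤ P) :
    ⁅X, E⁆ ≤ P := by
  haveI := hA.Pn
  have h1 : ⁅⁅E, X⁆, E⁆ ≤ P := by rw [Subgroup.commutator_comm E X]; exact h
  have h2 := Cfsg.Agent.Helper4.three_subgroups_normal P E E X h1 h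
  rw [hp, Subgroup.commutator_comm] at h2
  exact h2

theorem perf_iter_descend (hA : Amb p P M) (hp : ⁅E, E⁆ = E) (H : Subgroup G) (k : ℕ)
    (h : (fun B : Subgroup G => ⁅B, E⁆)^[k + 1] H ≤ P) : ⁅H, E⁆ ≤ P := by
  induction k with
  | zero => simpa using h
  | succ k ih =>
    apply ih
    rw [Function.iterate_succ_apply'] at h ⊢
    rw [Function.iterate_succ_apply'] at h
    exact perf_descend hA hp _ h

variable [Finite G] [Fact p.Prime]

/-- a block of perfect type normalizing `H`: `E ≤ H Q` or `[H, E] ≤ P`. -/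
theorem Blk.perf_le_or (hA : Amb p P M) (hE : Blk p P M E W Z B) (hp : Perf p P E) {H : Subgroup G}
    (hEH : E ≤ Subgroup.normalizer (H : Set G)) : E ≤ H ⊔ (E ⊓ P) ∨ ⁅H, E⁆ ≤ P := by
  obtain ⟨n, hn⟩ := Cfsg.Agent.Helper2.exists_iterate_commutator_le_of_isSubnormal hE.sn
  set N : Subgroup G := (fun B : Subgroup G => ⁅B, E⁆)^[n] H with hN
  have hNE : N ≤ E := hn H
  have hNH : N ≤ H := Cfsg.Agent.Helper2.iterate_commutator_le_of_le_normalizer hEH n
  have hEN : E ≤ Subgroup.normalizer (N : Set G) := le_normalizer_iterate hEH n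
  rcases hp.PT N hNE hEN with h | h
  · left
    exact h.trans (sup_le_sup_right hNH _)
  · right
    apply perf_iter_descend hA hp.perf H n
    rw [Function.iterate_succ_apply']
    exact h

/-- a block of perfect type and a subnormal subgroup `H`: `E ≤ H P` or `[H, E] ≤ P`. -/
theorem Blk.perf_subnormal (hA : Amb p P M) (hE : Blk p P M E W Z B) (hp : Perf p P E) {H : Subgroup G}
    (hH : H.IsSubnormal) : E ≤ H ⊔ P ∨ ⁅H, E⁆ ≤ P := by
  induction hH with
  | top => left; exact le_sup_of_le_left le_top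
  | step H K h_le hSubn hN ih =>
    rcases ih with h | h
    · have hKH : K ≤ Subgroup.normalizer (H : Set G) :=
        (Subgroup.normal_subgroupOf_iff_le_normalizer h_le).mp hN
      have hKHP : K ⊔ P ≤ Subgroup.normalizer ((H ⊔ P : Subgroup G) : Set G) := by
        apply sup_le
        · exact le_normalizer_sup' hKH (hA.nP K)
        · exact le_sup_right.trans Subgroup.le_normalizer
      rcases hE.perf_le_or hA hp (h.trans hKHP) with h' | h'
      · left
        refine h'.trans (sup_le le_rfl ?_)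
        exact inf_le_right.trans le_sup_right
      · right
        exact (Subgroup.commutator_mono le_sup_left le_rfl).trans h'
    · right
      exact (Subgroup.commutator_mono h_le le_rfl).trans h

/-- for blocks: `E ≤ F P` implies `E ≤ F`. -/
theorem Blk.le_of_le_sup {F W' Z' B' : Subgroup G} (hA : Amb p P M) (hE : Blk p P M E W Z B)
    (hF : Blk p P M F W' Z' B') (h : E ≤ F ⊔ P) : E ≤ F := by
  apply hE.res_le
  intro g hg hc
  exact hF.mem_of_coprime hA (h hg) hc

/-- `p`-elements of `F` lie in `P` when `|F : F ∩ P|` is prime to `p`. -/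
theorem mem_of_pow_of_card {F : Subgroup G} (hPn : P.Normal) {m : ℕ}
    (hm : Nat.card F = m * Nat.card (F ⊓ P : Subgroup G)) (hcop : m.Coprime p) {u : G} (hu : u ∈ F)
    {k : ℕ} (hk : u ^ (p ^ k) = 1) : u ∈ P := by
  haveI : (P.subgroupOf F).Normal := hPn.subgroupOf F
  have hcardN : Nat.card (P.subgroupOf F) = Nat.card (F ⊓ P : Subgroup G) := by
    rw [← Subgroup.inf_subgroupOf_left]
    exact Nat.card_congr (Subgroup.subgroupOfEquivOfLe inf_le_left).toEquiv
  have hidx : (P.subgroupOf F).index = m := by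
    have h1 := Subgroup.index_mul_card (P.subgroupOf F)
    rw [hcardN, hm] at h1
    have hpos : 0 < Nat.card (F ⊓ P : Subgroup G) := Nat.card_pos
    exact Nat.eq_of_mul_eq_mul_right hpos h1
  set q : ↥F ⧸ P.subgroupOf F := QuotientGroup.mk ⟨u, hu⟩ with hq
  have h1 : q ^ (p ^ k) = 1 := by
    rw [hq, ← QuotientGroup.mk_pow]
    have : (⟨u, hu⟩ : ↥F) ^ (p ^ k) = 1 := by
      apply Subtype.ext; simpa using hk
    rw [this]; rfl
  have h2 : q ^ m = 1 := by
    have : Nat.card (↥F ⧸ P.subgroupOf F) = m := by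
      rw [← hidx]; rfl
    rw [← this]
    exact pow_card_eq_one'
  have h3 : q = 1 := by
    have hd1 : orderOf q ∣ p ^ k := orderOf_dvd_of_pow_eq_one h1
    have hd2 : orderOf q ∣ m := orderOf_dvd_of_pow_eq_one h2
    have : orderOf q = 1 :=
      Nat.eq_one_of_dvd_coprimes (Nat.Coprime.pow_right k hcop) hd2 hd1
    exact orderOf_eq_one_iff.1 this
  rw [hq, QuotientGroup.eq_one_iff] at h3
  exact h3

/-- in a block of small type all `p`-elements lie in `P`. -/
theorem Blk.small_pelem (hA : Amb p P M) (hE : Blk p P M E W Z B) (hs : Small2 p P E W Z ∨ Small3 p P E W Z)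
    {u : G} (hu : u ∈ E) {k : ℕ} (hk : u ^ (p ^ k) = 1) : u ∈ P := by
  rcases hs with h | h
  · apply mem_of_pow_of_card hA.Pn h.idx _ hu hk
    rw [h.p2]; decide
  · apply mem_of_pow_of_card hA.Pn h.idx _ hu hk
    rw [h.p3]; decide

/-- a block of perfect type is not contained in a block of small type. -/
theorem Blk.perf_not_le_small {F W' Z' B' : Subgroup G} (hA : Amb p P M) (hE : Blk p P M E W Z B)
    (hF : Blk p P M F W' Z' B') (hp : Perf p P E) (hs : Small2 p P F W' Z' ∨ Small3 p P F W' Z') :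
    ¬ E ≤ F := by
  intro h
  obtain ⟨u, hu, ⟨k, hk⟩, e, he, hne⟩ := hp.pel
  apply hne
  have huP : u ∈ P := hF.small_pelem hA hs (h hu) hk
  have e1 : ⁅u, e⁆ = u * (e * u⁻¹ * e⁻¹) := by simp only [commutatorElement_def]; group
  rw [e1]
  exact mul_mem huP (hA.Pn.conj_mem _ (inv_mem huP) e)

/-- **Part I.** A block of perfect type and any block: equal, or commuting modulo `P`. -/
theorem Blk.perf_eq_or {F W' Z' B' : Subgroup G} (hA : Amb p P M) (hE : Blk p P M E W Z B)
    (hF : Blk p P M F W' Z' B') (hp : Perf p P E) : E = F ∨ ⁅E, F⁆ ≤ P := by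
  rcases hE.perf_subnormal hA hp hF.sn with h | h
  · have hEF : E ≤ F := hE.le_of_le_sup hA hF h
    rcases hF.type with hpF | hsF
    · rcases hF.perf_subnormal hA hpF hE.sn with h' | h'
      · left
        exact le_antisymm hEF (hF.le_of_le_sup hA hE h')
      · exfalso
        apply hE.not_le_P hA
        calc E = ⁅E, E⁆ := hp.perf.symm
          _ ≤ ⁅E, F⁆ := Subgroup.commutator_mono le_rfl hEF
          _ ≤ P := h'
    · exact absurd hEF (hE.perf_not_le_small hA hF hp hsF)
  · right
    rw [Subgroup.commutator_comm]; exact h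

end Cfsg.Agent.Helper5.SB
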