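import Mathlib
import Cfsg.Agent.Helper5.SBB

set_option autoImplicit false
set_option linter.unusedSectionVars false
set_option linter.style.haveILetI false

/-!
Helper5, S2986, part II (beginning): two blocks with `[E, F] ≤ P` normalize each other; the trichotomy
`[V_E, F] ∈ {1, V_F}`; the mixed case is impossible; the case `[V_E, F] = 1 = [V_F, E]` for a non-exceptional member.
-/

namespace Cfsg.Agent.Helper5.SB

open scoped commutatorElement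
open Cfsg.Agent.Helper9.BB

universe u

variable {G : Type u} [Group G] [Finite G] {p : ℕ} [Fact p.Prime]
variable {P M E W Z B F W' Z' B' : Subgroup G}

/-- `[E, F] ≤ P` implies `F ≤ N(E)`. -/
theorem Blk.normalizes_of_comm_le (hA : Amb p P M) (hE : Blk p P M E W Z B) {F : Subgroup G}
    (h : ⁅E, F⁆ ≤ P) : F ≤ Subgroup.normalizer (E : Set G) := by
  intro f hf
  apply hE.mem_normalizer_of_comm hA
  intro y hy
  rw [commElt_inv_swap]
  exact inv_mem (h (Subgroup.commutator_mem_commutator hy hf))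

/-- trichotomy: `[V_E, F] = 1` or `[V_E, F] = V_F`, for a block `F` normalizing `E`. -/
theorem Blk.tri (hA : Amb p P M) (hF : Blk p P M F W' Z' B')
    (hFE : F ≤ Subgroup.normalizer (E : Set G)) :
    ⁅⁅M, E⁆, F⁆ = ⊥ ∨ ⁅⁅M, E⁆, F⁆ = ⁅M, F⁆ := by
  have hX : ⁅⁅M, E⁆, F⁆ ≤ ⁅M, F⁆ := Subgroup.commutator_mono (Blk.V_le_M hA) le_rfl
  have hFX : F ≤ Subgroup.normalizer ((⁅⁅M, E⁆, F⁆ : Subgroup G) : Set G) :=
    le_normalizer_comm' (hFE.trans (Blk.nV hA)) Subgroup.le_normalizer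
  rcases hF.irrV hA hX hFX with h | h
  · left
    rw [Subgroup.commutator_eq_bot_iff_le_centralizer, Subgroup.le_centralizer_iff]
    apply hF.res_le
    intro f hf hc
    rw [Subgroup.mem_centralizer_iff]
    intro v hv
    have hfv : ⁅f, v⁆ ∈ ⁅⁅M, E⁆, F⁆ := by
      rw [commElt_inv_swap]
      exact inv_mem (Subgroup.commutator_mem_commutator hv hf)
    obtain ⟨k, hk⟩ := exists_pow_eq_one_of_isPGroup hA.Pp (Blk.V_le_P hA (hX hfv))
    have hcx : f * ⁅f, v⁆ = ⁅f, v⁆ * f := Subgroup.mem_centralizer_iff.1 (h hfv) f hf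
    exact (comm_of_coprime hc hcx hk).symm
  · right; exact h

/-- **Lemma 2b.** `A ≤ M` with `[A, E] = A`, `[A, F]` centralized by `E`, and `[E, F] ≤ P`: then `[A, F] = 1`. -/
theorem lemma2b (hA : Amb p P M) {A E F : Subgroup G} (hAM : A ≤ M) (hAE : ⁅A, E⁆ = A)
    (hAF : ⁅A, F⁆ ≤ Subgroup.centralizer (E : Set G)) (hEF : ⁅E, F⁆ ≤ P) : ⁅A, F⁆ = ⊥ := by
  rw [Subgroup.commutator_eq_bot_iff_le_centralizer, ← hAE, Subgroup.commutator_le]
  intro a ha e he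
  rw [Subgroup.mem_centralizer_iff]
  intro f hf
  -- `c = [f, a] ∈ [A, F]`, `d = [f, e] ∈ [E, F] ≤ P`
  set c := ⁅f, a⁆ with hc
  set d := ⁅f, e⁆ with hd
  have hcAF : c ∈ ⁅A, F⁆ := by
    rw [hc, commElt_inv_swap]
    exact inv_mem (Subgroup.commutator_mem_commutator ha hf)
  have hcM : c ∈ M := by
    haveI := hA.Mn
    exact (Subgroup.commutator_le_left M F) (Subgroup.commutator_mono hAM le_rfl hcAF)
  have hdP : d ∈ P := by
    rw [hd, commElt_inv_swap]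
    exact hEF (inv_mem (Subgroup.commutator_mem_commutator he hf))
  have hce : c * e = e * c := (Subgroup.mem_centralizer_iff.1 (hAF hcAF) e he).symm
  have hmM : c * a ∈ M := mul_mem hcM (hAM ha)
  have hdm : d * (c * a) = (c * a) * d :=
    (Subgroup.mem_centralizer_iff.1 (hA.Mc hdP) _ hmM).symm
  have hyM : ⁅c * a, e⁆ ∈ M := by
    have e1 : ⁅c * a, e⁆ = (c * a) * (e * (c * a)⁻¹ * e⁻¹) := by
      simp only [commutatorElement_def]; group
    rw [e1]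
    exact mul_mem hmM (hA.Mn.conj_mem _ (inv_mem hmM) e)
  have hdy : d * ⁅c * a, e⁆ = ⁅c * a, e⁆ * d :=
    (Subgroup.mem_centralizer_iff.1 (hA.Mc hdP) _ hyM).symm
  have hxM : ⁅a, e⁆ ∈ M := by
    have e1 : ⁅a, e⁆ = a * (e * a⁻¹ * e⁻¹) := by simp only [commutatorElement_def]; group
    rw [e1]
    exact mul_mem (hAM ha) (hA.Mn.conj_mem _ (inv_mem (hAM ha)) e)
  have hcx : c * ⁅a, e⁆ = ⁅a, e⁆ * c := hA.M_comm hcM hxM
  -- `f x f⁻¹ = [c a, d e] = d [c a, e] d⁻¹ = [c a, e] = c [a, e] c⁻¹ = [a, e]`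
  have s1 : f * ⁅a, e⁆ * f⁻¹ = (c * a) * (d * e) * (c * a)⁻¹ * (d * e)⁻¹ := by
    rw [hc, hd]; simp only [commutatorElement_def]; group
  have s2 : (c * a) * (d * e) * (c * a)⁻¹ * (d * e)⁻¹ = d * ⁅c * a, e⁆ * d⁻¹ := by
    have : (c * a) * (d * e) = d * ((c * a) * e) := by
      rw [← mul_assoc, ← hdm]; group
    rw [this]; simp only [commutatorElement_def]; group
  have s3 : d * ⁅c * a, e⁆ * d⁻¹ = ⁅c * a, e⁆ := by rw [hdy]; group
  have s4 : ⁅c * a, e⁆ = c * ⁅a, e⁆ * c⁻¹ := by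
    have h1 : c⁻¹ * e⁻¹ = e⁻¹ * c⁻¹ := by
      rw [← mul_inv_rev, ← mul_inv_rev, hce]
    calc ⁅c * a, e⁆ = c * a * e * a⁻¹ * (c⁻¹ * e⁻¹) := by
          simp only [commutatorElement_def]; group
      _ = c * a * e * a⁻¹ * (e⁻¹ * c⁻¹) := by rw [h1]
      _ = c * ⁅a, e⁆ * c⁻¹ := by simp only [commutatorElement_def]; group
  have s5 : c * ⁅a, e⁆ * c⁻¹ = ⁅a, e⁆ := by rw [hcx]; group
  have : f * ⁅a, e⁆ * f⁻¹ = ⁅a, e⁆ := by rw [s1, s2, s3, s4, s5]
  calc f * ⁅a, e⁆ = (f * ⁅a, e⁆ * f⁻¹) * f := by group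
    _ = ⁅a, e⁆ * f := by rw [this]

/-- the mixed case `[V_E, F] = V_F`, `[V_F, E] = 1` is impossible. -/
theorem Blk.not_mixed (hA : Amb p P M) (hE : Blk p P M E W Z B) (hF : Blk p P M F W' Z' B')
    (hEF : ⁅E, F⁆ ≤ P) (h1 : ⁅⁅M, E⁆, F⁆ = ⁅M, F⁆) (h2 : ⁅⁅M, F⁆, E⁆ = ⊥) : False := by
  apply hF.Vne
  rw [← h1]
  apply lemma2b hA (Blk.V_le_M hA) hE.VV _ hEF
  rw [h1, ← Subgroup.commutator_eq_bot_iff_le_centralizer]
  exact h2

/-- case `[V_E, F] = 1` with `E` non-exceptional (`Q_E = V_E`) and `[E, F] ≤ P`: `[E, F] = 1`. -/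
theorem Blk.caseC_nonexc (hA : Amb p P M) (hE : Blk p P M E W Z B) (hF : Blk p P M F W' Z' B')
    (hEF : ⁅E, F⁆ ≤ P) (hQ : E ⊓ P = ⁅M, E⁆) (h1 : ⁅⁅M, E⁆, F⁆ = ⊥) : ⁅E, F⁆ = ⊥ := by
  have hFE : F ≤ Subgroup.normalizer (E : Set G) := hE.normalizes_of_comm_le hA hEF
  rw [Subgroup.commutator_eq_bot_iff_le_centralizer, Subgroup.le_centralizer_iff]
  rw [Subgroup.commutator_eq_bot_iff_le_centralizer, Subgroup.le_centralizer_iff] at h1
  apply hF.res_le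
  intro f hf hc
  rw [Subgroup.mem_centralizer_iff]
  intro e he
  have hfe : ⁅f, e⁆ ∈ ⁅M, E⁆ := by
    rw [← hQ]
    refine Subgroup.mem_inf.2 ⟨?_, ?_⟩
    · have e1 : ⁅f, e⁆ = (f * e * f⁻¹) * e⁻¹ := by simp only [commutatorElement_def]
      rw [e1]
      exact mul_mem (conj_mem_of_mem_normalizer (hFE hf) he) (inv_mem he)
    · rw [commElt_inv_swap]
      exact hEF (inv_mem (Subgroup.commutator_mem_commutator he hf))
  obtain ⟨k, hk⟩ := exists_pow_eq_one_of_isPGroup hA.Pp (Blk.V_le_P hA hfe)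
  have hcx : f * ⁅f, e⁆ = ⁅f, e⁆ * f := (Subgroup.mem_centralizer_iff.1 (h1 hf) _ hfe).symm
  exact (comm_of_coprime hc hcx hk).symm

end Cfsg.Agent.Helper5.SB
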