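import Mathlib
import Cfsg.Agent.Helper5.SBA

set_option autoImplicit false
set_option linter.unusedSectionVars false
set_option linter.style.haveILetI false

/-!
Helper5, S2986: sections `U / U₀` as quotient groups, the conjugation action on them, the fixed point lemma for
`p`-elements, and the transfer of the `GL₂(3)` lemma (`Q8Stmt`) to sections.
-/

namespace Cfsg.Agent.Helper5.SB

open scoped commutatorElement
open Cfsg.Agent.Helper9.BB

universe u

variable {G : Type u} [Group G]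

/-- conjugation by `g ∈ N(U)` on `U`. -/
def conjHom (U : Subgroup G) (g : G) (hg : g ∈ Subgroup.normalizer (U : Set G)) : ↥U →* ↥U where
  toFun x := ⟨g * x * g⁻¹, conj_mem_of_mem_normalizer hg x.2⟩
  map_one' := by apply Subtype.ext; simp
  map_mul' x y := by apply Subtype.ext; simp

@[simp] theorem conjHom_coe (U : Subgroup G) (g : G) (hg : g ∈ Subgroup.normalizer (U : Set G)) (x : ↥U) :
    ((conjHom U g hg x : ↥U) : G) = g * x * g⁻¹ := rfl

/-- the action of `g ∈ N(U) ∩ N(U₀)` on the section `U / U₀`. -/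
def secHom (U U₀ : Subgroup G) [(U₀.subgroupOf U).Normal] (g : G)
    (hgU : g ∈ Subgroup.normalizer (U : Set G)) (hg0 : g ∈ Subgroup.normalizer (U₀ : Set G)) :
    (↥U ⧸ U₀.subgroupOf U) →* (↥U ⧸ U₀.subgroupOf U) :=
  QuotientGroup.map _ _ (conjHom U g hgU) (by
    intro x hx
    rw [Subgroup.mem_comap, Subgroup.mem_subgroupOf] at *
    exact conj_mem_of_mem_normalizer hg0 hx)

theorem secHom_mk (U U₀ : Subgroup G) [(U₀.subgroupOf U).Normal] (g : G)
    (hgU : g ∈ Subgroup.normalizer (U : Set G)) (hg0 : g ∈ Subgroup.normalizer (U₀ : Set G)) (x : ↥U) :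
    secHom U U₀ g hgU hg0 (QuotientGroup.mk x) = QuotientGroup.mk (conjHom U g hgU x) := rfl

theorem secHom_one (U U₀ : Subgroup G) [(U₀.subgroupOf U).Normal]
    (h1U : (1 : G) ∈ Subgroup.normalizer (U : Set G)) (h10 : (1 : G) ∈ Subgroup.normalizer (U₀ : Set G))
    (q : ↥U ⧸ U₀.subgroupOf U) : secHom U U₀ 1 h1U h10 q = q := by
  induction q using QuotientGroup.induction_on with
  | H x =>
    rw [secHom_mk]
    congr 1
    apply Subtype.ext; simp

theorem secHom_mul (U U₀ : Subgroup G) [(U₀.subgroupOf U).Normal] (g h : G)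
    (hgU : g ∈ Subgroup.normalizer (U : Set G)) (hg0 : g ∈ Subgroup.normalizer (U₀ : Set G))
    (hhU : h ∈ Subgroup.normalizer (U : Set G)) (hh0 : h ∈ Subgroup.normalizer (U₀ : Set G))
    (q : ↥U ⧸ U₀.subgroupOf U) :
    secHom U U₀ (g * h) (mul_mem hgU hhU) (mul_mem hg0 hh0) q =
      secHom U U₀ g hgU hg0 (secHom U U₀ h hhU hh0 q) := by
  induction q using QuotientGroup.induction_on with
  | H x =>
    rw [secHom_mk, secHom_mk, secHom_mk]
    congr 1
    apply Subtype.ext; simp [mul_assoc]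

/-- equality in the section. -/
theorem sec_mk_eq_iff (U U₀ : Subgroup G) [(U₀.subgroupOf U).Normal] (x y : ↥U) :
    (QuotientGroup.mk x : ↥U ⧸ U₀.subgroupOf U) = QuotientGroup.mk y ↔ (x : G)⁻¹ * y ∈ U₀ := by
  rw [QuotientGroup.eq, Subgroup.mem_subgroupOf]
  simp

/-- the action of a subgroup `A ≤ N(U) ∩ N(U₀)` on the section. -/
@[reducible] def secAction (U U₀ : Subgroup G) [(U₀.subgroupOf U).Normal] (A : Subgroup G)
    (hAU : A ≤ Subgroup.normalizer (U : Set G)) (hA0 : A ≤ Subgroup.normalizer (U₀ : Set G)) :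
    MulAction ↥A (↥U ⧸ U₀.subgroupOf U) where
  smul a q := secHom U U₀ a.1 (hAU a.2) (hA0 a.2) q
  one_smul q := secHom_one U U₀ _ _ q
  mul_smul a b q := secHom_mul U U₀ a.1 b.1 _ _ _ _ q

/-- **fixed point lemma**: a `p`-element `u` normalizing the `p`-group `U` and `U₀ < U` centralizes some
element of `U / U₀` other than `1`. -/
theorem exists_fixed_sec [Finite G] {p : ℕ} [Fact p.Prime] {U U₀ : Subgroup G} (hU0 : U₀ ≤ U) (hne : U₀ ≠ U)
    (hUn : U ≤ Subgroup.normalizer (U₀ : Set G)) (hUp : IsPGroup p U) {u : G}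
    (huU : u ∈ Subgroup.normalizer (U : Set G)) (hu0 : u ∈ Subgroup.normalizer (U₀ : Set G))
    {k : ℕ} (hk : u ^ (p ^ k) = 1) : ∃ x ∈ U, x ∉ U₀ ∧ ⁅u, x⁆ ∈ U₀ := by
  haveI hN : (U₀.subgroupOf U).Normal := (Subgroup.normal_subgroupOf_iff_le_normalizer hU0).2 hUn
  set A : Subgroup G := Subgroup.zpowers u with hA
  have hAU : A ≤ Subgroup.normalizer (U : Set G) := by rw [hA, Subgroup.zpowers_le]; exact huU
  have hA0 : A ≤ Subgroup.normalizer (U₀ : Set G) := by rw [hA, Subgroup.zpowers_le]; exact hu0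
  have hAp : IsPGroup p A := by
    have hd : Nat.card A ∣ p ^ k := by
      rw [hA, Nat.card_zpowers]; exact orderOf_dvd_of_pow_eq_one hk
    obtain ⟨j, -, hj⟩ := (Nat.dvd_prime_pow Fact.out).1 hd
    exact IsPGroup.of_card hj
  letI := secAction U U₀ A hAU hA0
  have hcard : p ∣ Nat.card (↥U ⧸ U₀.subgroupOf U) := by
    obtain ⟨a, ha⟩ := IsPGroup.iff_card.1 hUp
    have h1 := Subgroup.card_eq_card_quotient_mul_card_subgroup (U₀.subgroupOf U)
    have hd : Nat.card (↥U ⧸ U₀.subgroupOf U) ∣ p ^ a := by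
      rw [← ha, h1]; exact dvd_mul_right _ _
    obtain ⟨b, -, hb⟩ := (Nat.dvd_prime_pow Fact.out).1 hd
    rcases Nat.eq_zero_or_pos b with h0 | hpos
    · exfalso
      rw [h0, pow_zero] at hb
      apply hne
      apply le_antisymm hU0
      intro x hx
      have hsub : Subsingleton (↥U ⧸ U₀.subgroupOf U) :=
        (Nat.card_eq_one_iff_unique.1 hb).1
      have : (QuotientGroup.mk ⟨x, hx⟩ : ↥U ⧸ U₀.subgroupOf U) = 1 := Subsingleton.elim _ _
      rw [QuotientGroup.eq_one_iff, Subgroup.mem_subgroupOf] at this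
      exact this
    · rw [hb]; exact dvd_pow_self p (Nat.pos_iff_ne_zero.1 hpos)
  have hfix : (1 : ↥U ⧸ U₀.subgroupOf U) ∈ MulAction.fixedPoints ↥A (↥U ⧸ U₀.subgroupOf U) := by
    intro a
    show secHom U U₀ a.1 _ _ 1 = 1
    exact map_one _
  obtain ⟨q, hq, hq1⟩ := hAp.exists_fixed_point_of_prime_dvd_card_of_fixed_point _ hcard hfix
  induction q using QuotientGroup.induction_on with
  | H x =>
    have h1 := hq ⟨u, Subgroup.mem_zpowers u⟩
    have h2 : secHom U U₀ u (hAU (Subgroup.mem_zpowers u)) (hA0 (Subgroup.mem_zpowers u))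
        (QuotientGroup.mk x) = QuotientGroup.mk x := h1
    rw [secHom_mk, sec_mk_eq_iff] at h2
    refine ⟨x, x.2, ?_, ?_⟩
    · intro hx0
      apply hq1
      symm
      rw [QuotientGroup.eq_one_iff, Subgroup.mem_subgroupOf]
      exact hx0
    · have e : ⁅u, (x : G)⁆ = x * ((conjHom U u (hAU (Subgroup.mem_zpowers u)) x : G)⁻¹ * x)⁻¹ * (x : G)⁻¹ := by
        simp only [conjHom_coe, commutatorElement_def]; group
      rw [e]
      exact conj_mem_of_mem_normalizer (hUn x.2) (inv_mem h2)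


/-! ### trivial action and inversion on a section -/

/-- `g` centralizes the section `U / U₀`. -/
def SecTriv (U U₀ : Subgroup G) (g : G) : Prop := ∀ x ∈ U, ⁅g, x⁆ ∈ U₀

/-- `g` inverts the section `U / U₀`. -/
def SecInv (U U₀ : Subgroup G) (g : G) : Prop := ∀ x ∈ U, g * x * g⁻¹ * x ∈ U₀

theorem secHom_eq_self_iff {U U₀ : Subgroup G} [(U₀.subgroupOf U).Normal]
    (hUn : U ≤ Subgroup.normalizer (U₀ : Set G)) {g : G}
    (hgU : g ∈ Subgroup.normalizer (U : Set G)) (hg0 : g ∈ Subgroup.normalizer (U₀ : Set G)) :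
    (∀ q, secHom U U₀ g hgU hg0 q = q) ↔ SecTriv U U₀ g := by
  constructor
  · intro h x hx
    have h1 := h (QuotientGroup.mk ⟨x, hx⟩)
    rw [secHom_mk, sec_mk_eq_iff] at h1
    have e : ⁅g, x⁆ = x * ((g * x * g⁻¹)⁻¹ * x)⁻¹ * x⁻¹ := by
      simp only [commutatorElement_def]; group
    rw [e]
    exact conj_mem_of_mem_normalizer (hUn hx) (inv_mem h1)
  · intro h q
    induction q using QuotientGroup.induction_on with
    | H x =>
      rw [secHom_mk, sec_mk_eq_iff]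
      have e : ((conjHom U g hgU x : ↥U) : G)⁻¹ * x = (x : G)⁻¹ * (⁅g, (x : G)⁆)⁻¹ * x := by
        simp only [conjHom_coe, commutatorElement_def]; group
      rw [e]
      exact conj_inv_mem_of_mem_normalizer (hUn x.2) (inv_mem (h x x.2))

theorem secHom_eq_of_triv {U U₀ : Subgroup G} [(U₀.subgroupOf U).Normal]
    (hUn : U ≤ Subgroup.normalizer (U₀ : Set G)) {g h : G}
    (hgU : g ∈ Subgroup.normalizer (U : Set G)) (hg0 : g ∈ Subgroup.normalizer (U₀ : Set G))
    (hhU : h ∈ Subgroup.normalizer (U : Set G)) (hh0 : h ∈ Subgroup.normalizer (U₀ : Set G))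
    (ht : SecTriv U U₀ (h⁻¹ * g)) (q : ↥U ⧸ U₀.subgroupOf U) :
    secHom U U₀ g hgU hg0 q = secHom U U₀ h hhU hh0 q := by
  have h1 := (secHom_eq_self_iff hUn (mul_mem (inv_mem hhU) hgU) (mul_mem (inv_mem hh0) hg0)).2 ht q
  have h2 := secHom_mul U U₀ h (h⁻¹ * g) hhU hh0 (mul_mem (inv_mem hhU) hgU)
    (mul_mem (inv_mem hh0) hg0) q
  rw [h1] at h2
  rw [← h2]
  congr 1
  group

theorem triv_of_secHom_eq {U U₀ : Subgroup G} [(U₀.subgroupOf U).Normal]
    (hUn : U ≤ Subgroup.normalizer (U₀ : Set G)) {g h : G}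
    (hgU : g ∈ Subgroup.normalizer (U : Set G)) (hg0 : g ∈ Subgroup.normalizer (U₀ : Set G))
    (hhU : h ∈ Subgroup.normalizer (U : Set G)) (hh0 : h ∈ Subgroup.normalizer (U₀ : Set G))
    (he : ∀ q, secHom U U₀ g hgU hg0 q = secHom U U₀ h hhU hh0 q) : SecTriv U U₀ (h⁻¹ * g) := by
  rw [← secHom_eq_self_iff hUn (mul_mem (inv_mem hhU) hgU) (mul_mem (inv_mem hh0) hg0)]
  intro q
  rw [secHom_mul U U₀ h⁻¹ g (inv_mem hhU) (inv_mem hh0) hgU hg0, he q,
    ← secHom_mul U U₀ h⁻¹ h (inv_mem hhU) (inv_mem hh0) hhU hh0]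
  have : secHom U U₀ (h⁻¹ * h) (mul_mem (inv_mem hhU) hhU) (mul_mem (inv_mem hh0) hh0) q
      = secHom U U₀ 1 (one_mem _) (one_mem _) q := by
    congr 1; group
  rw [this, secHom_one]

theorem secHom_inv_of_secInv {U U₀ : Subgroup G} [(U₀.subgroupOf U).Normal]
    (hUn : U ≤ Subgroup.normalizer (U₀ : Set G)) {g : G}
    (hgU : g ∈ Subgroup.normalizer (U : Set G)) (hg0 : g ∈ Subgroup.normalizer (U₀ : Set G))
    (hi : SecInv U U₀ g) (q : ↥U ⧸ U₀.subgroupOf U) : secHom U U₀ g hgU hg0 q = q⁻¹ := by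
  induction q using QuotientGroup.induction_on with
  | H x =>
    rw [secHom_mk, ← QuotientGroup.mk_inv, sec_mk_eq_iff]
    have e : ((conjHom U g hgU x : ↥U) : G)⁻¹ * ((x⁻¹ : ↥U) : G)
        = ((x : G) * (g * x * g⁻¹ * x) * (x : G)⁻¹)⁻¹ := by
      simp only [conjHom_coe, Subgroup.coe_inv]; group
    rw [e]
    exact inv_mem (conj_mem_of_mem_normalizer (hUn x.2) (hi x x.2))

/-! ### the `GL₂(3)` lemma (piece D1) on sections -/

/-- the statement of piece D1. -/
def Q8Stmt : Prop :=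
  ∀ (V : Type u) [Group V], (∀ x y : V, x * y = y * x) → Nat.card V = 9 → (∀ v : V, v ^ 3 = 1) →
    ∀ a a' b : V →* V, (∀ v, a (a v) = v⁻¹) → (∀ v, a' (a' v) = v⁻¹) → (∀ v, b (b v) = v⁻¹) →
    (∃ v, a (a' v) ≠ a' (a v)) →
    (∀ v, b v = a v) ∨ (∀ v, b v = (a v)⁻¹) ∨ (∀ v, b v = a' v) ∨ (∀ v, b v = (a' v)⁻¹) ∨
      (∀ v, b v = a (a' v)) ∨ (∀ v, b v = (a (a' v))⁻¹)

theorem q8_no_commuting (hD : Q8Stmt.{u}) {V : Type u} [Group V] (hc : ∀ x y : V, x * y = y * x)
    (hV : Nat.card V = 9) (h3 : ∀ v : V, v ^ 3 = 1) (a a' b : V →* V)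
    (ha : ∀ v, a (a v) = v⁻¹) (ha' : ∀ v, a' (a' v) = v⁻¹) (hb : ∀ v, b (b v) = v⁻¹)
    (hne : ∃ v, a (a' v) ≠ a' (a v)) (hba : ∀ v, b (a v) = a (b v))
    (hba' : ∀ v, b (a' v) = a' (b v)) : False := by
  have hinj : Function.Injective a := by
    intro x y hxy
    have := congrArg a hxy
    rw [ha, ha] at this
    exact inv_injective this
  obtain ⟨v₀, hv₀⟩ := hne
  rcases hD V hc hV h3 a a' b ha ha' hb ⟨v₀, hv₀⟩ with h | h | h | h | h | h
  · apply hv₀
    have := hba' v₀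
    rwa [h, h] at this
  · apply hv₀
    have := hba' v₀
    rw [h, h, map_inv] at this
    exact inv_injective this
  · apply hv₀
    have := hba v₀
    rw [h, h] at this
    exact this.symm
  · apply hv₀
    have := hba v₀
    rw [h, h, map_inv] at this
    exact (inv_injective this).symm
  · apply hv₀
    have := hba v₀
    rw [h, h] at this
    exact (hinj this).symm
  · apply hv₀
    have := hba v₀
    rw [h, h, map_inv] at this
    exact (hinj (inv_injective this)).symm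

theorem q8_mem (hD : Q8Stmt.{u}) {V : Type u} [Group V] (hc : ∀ x y : V, x * y = y * x)
    (hV : Nat.card V = 9) (h3 : ∀ v : V, v ^ 3 = 1) (a a' b : V →* V)
    (ha : ∀ v, a (a v) = v⁻¹) (ha' : ∀ v, a' (a' v) = v⁻¹) (hb : ∀ v, b (b v) = v⁻¹)
    (hne : ∃ v, a (a' v) ≠ a' (a v)) :
    (∀ v, b v = a v) ∨ (∀ v, b v = a (a (a v))) ∨ (∀ v, b v = a' v) ∨ (∀ v, b v = a' (a' (a' v))) ∨
      (∀ v, b v = a (a' v)) ∨ (∀ v, b v = a (a (a (a' v)))) := by
  rcases hD V hc hV h3 a a' b ha ha' hb hne with h | h | h | h | h | h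
  · exact Or.inl h
  · right; left; intro v; rw [h, ha]
  · right; right; left; exact h
  · right; right; right; left; intro v; rw [h, ha']
  · right; right; right; right; left; exact h
  · right; right; right; right; right; intro v; rw [h, ha]


/-- a section of order `9`, elementary abelian. -/
structure Sec9 (U U₀ : Subgroup G) : Prop where
  le : U₀ ≤ U
  nor : U ≤ Subgroup.normalizer (U₀ : Set G)
  ab : ⁅U, U⁆ ≤ U₀
  exp : ∀ x ∈ U, x ^ 3 ∈ U₀
  card : Nat.card U = 9 * Nat.card U₀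

theorem Sec9.normal {U U₀ : Subgroup G} (hS : Sec9 U U₀) : (U₀.subgroupOf U).Normal :=
  (Subgroup.normal_subgroupOf_iff_le_normalizer hS.le).2 hS.nor

theorem Sec9.comm {U U₀ : Subgroup G} (hS : Sec9 U U₀) [(U₀.subgroupOf U).Normal]
    (x y : ↥U ⧸ U₀.subgroupOf U) : x * y = y * x := by
  induction x using QuotientGroup.induction_on with
  | H x =>
    induction y using QuotientGroup.induction_on with
    | H y =>
      rw [← QuotientGroup.mk_mul, ← QuotientGroup.mk_mul, sec_mk_eq_iff]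
      have e : ((x * y : ↥U) : G)⁻¹ * ((y * x : ↥U) : G) = ⁅(y : G)⁻¹, (x : G)⁻¹⁆ := by
        simp only [Subgroup.coe_mul, commutatorElement_def]; group
      rw [e]
      exact hS.ab (Subgroup.commutator_mem_commutator (inv_mem y.2) (inv_mem x.2))

theorem Sec9.cardV [Finite G] {U U₀ : Subgroup G} (hS : Sec9 U U₀) [(U₀.subgroupOf U).Normal] :
    Nat.card (↥U ⧸ U₀.subgroupOf U) = 9 := by
  have h1 := Subgroup.card_eq_card_quotient_mul_card_subgroup (U₀.subgroupOf U)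
  have h2 : Nat.card (U₀.subgroupOf U) = Nat.card U₀ :=
    Nat.card_congr (Subgroup.subgroupOfEquivOfLe hS.le).toEquiv
  rw [h2, hS.card] at h1
  have hpos : 0 < Nat.card U₀ := Nat.card_pos
  exact (Nat.eq_of_mul_eq_mul_right hpos h1).symm

theorem Sec9.pow3 {U U₀ : Subgroup G} (hS : Sec9 U U₀) [(U₀.subgroupOf U).Normal]
    (v : ↥U ⧸ U₀.subgroupOf U) : v ^ 3 = 1 := by
  induction v using QuotientGroup.induction_on with
  | H x =>
    rw [← QuotientGroup.mk_pow, QuotientGroup.eq_one_iff, Subgroup.mem_subgroupOf]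
    simpa using hS.exp x x.2

section Q8

variable [Finite G] {U U₀ : Subgroup G} {a a' b : G}

theorem q8_sec_no_commuting (hD : Q8Stmt.{u}) (hS : Sec9 U U₀)
    (haU : a ∈ Subgroup.normalizer (U : Set G)) (ha0 : a ∈ Subgroup.normalizer (U₀ : Set G))
    (ha'U : a' ∈ Subgroup.normalizer (U : Set G)) (ha'0 : a' ∈ Subgroup.normalizer (U₀ : Set G))
    (hbU : b ∈ Subgroup.normalizer (U : Set G)) (hb0 : b ∈ Subgroup.normalizer (U₀ : Set G))
    (hia : SecInv U U₀ (a * a)) (hia' : SecInv U U₀ (a' * a')) (hib : SecInv U U₀ (b * b))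
    (hne : ¬ SecTriv U U₀ ((a' * a)⁻¹ * (a * a')))
    (hba : SecTriv U U₀ ((a * b)⁻¹ * (b * a))) (hba' : SecTriv U U₀ ((a' * b)⁻¹ * (b * a'))) : False := by
  haveI := hS.normal
  have hUn := hS.nor
  apply q8_no_commuting hD hS.comm hS.cardV hS.pow3 (secHom U U₀ a haU ha0) (secHom U U₀ a' ha'U ha'0)
    (secHom U U₀ b hbU hb0)
  · intro v
    rw [← secHom_mul]
    exact secHom_inv_of_secInv hUn _ _ hia v
  · intro v
    rw [← secHom_mul]
    exact secHom_inv_of_secInv hUn _ _ hia' v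
  · intro v
    rw [← secHom_mul]
    exact secHom_inv_of_secInv hUn _ _ hib v
  · by_contra h
    push Not at h
    apply hne
    apply triv_of_secHom_eq hUn (mul_mem haU ha'U) (mul_mem ha0 ha'0) (mul_mem ha'U haU) (mul_mem ha'0 ha0)
    intro q
    rw [secHom_mul, secHom_mul]
    exact h q
  · intro v
    rw [← secHom_mul, ← secHom_mul]
    exact secHom_eq_of_triv hUn _ _ _ _ hba v
  · intro v
    rw [← secHom_mul, ← secHom_mul]
    exact secHom_eq_of_triv hUn _ _ _ _ hba' v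

theorem q8_sec_mem (hD : Q8Stmt.{u}) (hS : Sec9 U U₀)
    (haU : a ∈ Subgroup.normalizer (U : Set G)) (ha0 : a ∈ Subgroup.normalizer (U₀ : Set G))
    (ha'U : a' ∈ Subgroup.normalizer (U : Set G)) (ha'0 : a' ∈ Subgroup.normalizer (U₀ : Set G))
    (hbU : b ∈ Subgroup.normalizer (U : Set G)) (hb0 : b ∈ Subgroup.normalizer (U₀ : Set G))
    (hia : SecInv U U₀ (a * a)) (hia' : SecInv U U₀ (a' * a')) (hib : SecInv U U₀ (b * b))
    (hne : ¬ SecTriv U U₀ ((a' * a)⁻¹ * (a * a'))) :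
    ∃ e : G, (e = a ∨ e = a * (a * a) ∨ e = a' ∨ e = a' * (a' * a') ∨ e = a * a' ∨
      e = a * (a * (a * a'))) ∧ SecTriv U U₀ (e⁻¹ * b) := by
  haveI := hS.normal
  have hUn := hS.nor
  have key := q8_mem hD hS.comm hS.cardV hS.pow3 (secHom U U₀ a haU ha0) (secHom U U₀ a' ha'U ha'0)
    (secHom U U₀ b hbU hb0)
    (by intro v; rw [← secHom_mul]; exact secHom_inv_of_secInv hUn _ _ hia v)
    (by intro v; rw [← secHom_mul]; exact secHom_inv_of_secInv hUn _ _ hia' v)
    (by intro v; rw [← secHom_mul]; exact secHom_inv_of_secInv hUn _ _ hib v)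
    (by
      by_contra h
      push Not at h
      apply hne
      apply triv_of_secHom_eq hUn (mul_mem haU ha'U) (mul_mem ha0 ha'0) (mul_mem ha'U haU)
        (mul_mem ha'0 ha0)
      intro q
      rw [secHom_mul, secHom_mul]
      exact h q)
  rcases key with h | h | h | h | h | h
  · exact ⟨a, Or.inl rfl, triv_of_secHom_eq hUn hbU hb0 haU ha0 h⟩
  · refine ⟨a * (a * a), Or.inr (Or.inl rfl), ?_⟩
    apply triv_of_secHom_eq hUn hbU hb0 (mul_mem haU (mul_mem haU haU)) (mul_mem ha0 (mul_mem ha0 ha0))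
    intro q
    rw [h q, secHom_mul U U₀ a (a * a) haU ha0 (mul_mem haU haU) (mul_mem ha0 ha0),
      secHom_mul U U₀ a a haU ha0 haU ha0]
  · exact ⟨a', Or.inr (Or.inr (Or.inl rfl)), triv_of_secHom_eq hUn hbU hb0 ha'U ha'0 h⟩
  · refine ⟨a' * (a' * a'), Or.inr (Or.inr (Or.inr (Or.inl rfl))), ?_⟩
    apply triv_of_secHom_eq hUn hbU hb0 (mul_mem ha'U (mul_mem ha'U ha'U))
      (mul_mem ha'0 (mul_mem ha'0 ha'0))
    intro q
    rw [h q, secHom_mul U U₀ a' (a' * a') ha'U ha'0 (mul_mem ha'U ha'U) (mul_mem ha'0 ha'0),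
      secHom_mul U U₀ a' a' ha'U ha'0 ha'U ha'0]
  · refine ⟨a * a', Or.inr (Or.inr (Or.inr (Or.inr (Or.inl rfl)))), ?_⟩
    apply triv_of_secHom_eq hUn hbU hb0 (mul_mem haU ha'U) (mul_mem ha0 ha'0)
    intro q
    rw [h q, secHom_mul U U₀ a a' haU ha0 ha'U ha'0]
  · refine ⟨a * (a * (a * a')), Or.inr (Or.inr (Or.inr (Or.inr (Or.inr rfl)))), ?_⟩
    apply triv_of_secHom_eq hUn hbU hb0 (mul_mem haU (mul_mem haU (mul_mem haU ha'U)))
      (mul_mem ha0 (mul_mem ha0 (mul_mem ha0 ha'0)))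
    intro q
    rw [h q, secHom_mul U U₀ a (a * (a * a')) haU ha0 (mul_mem haU (mul_mem haU ha'U))
        (mul_mem ha0 (mul_mem ha0 ha'0)),
      secHom_mul U U₀ a (a * a') haU ha0 (mul_mem haU ha'U) (mul_mem ha0 ha'0),
      secHom_mul U U₀ a a' haU ha0 ha'U ha'0]

end Q8

end Cfsg.Agent.Helper5.SB
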