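import Mathlib
import Cfsg.Agent.Helper5.SBC
import Cfsg.Agent.Helper5.SBS

set_option autoImplicit false
set_option linter.unusedSectionVars false
set_option linter.style.haveILetI false

/-!
Helper5, S2986, part II: the case `V_E = V_F`, `[E, F] ≤ P` with a member of perfect type is impossible.
Also: the fixed subgroup of an element on a section.
-/

namespace Cfsg.Agent.Helper5.SB

open scoped commutatorElement
open Cfsg.Agent.Helper9.BB

universe u

variable {G : Type u} [Group G]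

/-- the fixed points of `u` on the section `U / U₀`, as a subgroup of `U`. -/
def secFix (U U₀ : Subgroup G) (hUn : U ≤ Subgroup.normalizer (U₀ : Set G)) (u : G) : Subgroup G where
  carrier := {w | w ∈ U ∧ ⁅u, w⁆ ∈ U₀}
  one_mem' := ⟨one_mem _, by simp⟩
  mul_mem' := by
    rintro w w' ⟨hw, h1⟩ ⟨hw', h2⟩
    refine ⟨mul_mem hw hw', ?_⟩
    have e : ⁅u, w * w'⁆ = ⁅u, w⁆ * (w * ⁅u, w'⁆ * w⁻¹) := by
      simp only [commutatorElement_def]; group
    rw [e]
    exact mul_mem h1 (conj_mem_of_mem_normalizer (hUn hw) h2)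
  inv_mem' := by
    rintro w ⟨hw, h1⟩
    refine ⟨inv_mem hw, ?_⟩
    have e : ⁅u, w⁻¹⁆ = w⁻¹ * (⁅u, w⁆)⁻¹ * w := by
      simp only [commutatorElement_def]; group
    rw [e]
    exact conj_inv_mem_of_mem_normalizer (hUn hw) (inv_mem h1)

theorem mem_secFix {U U₀ : Subgroup G} {hUn : U ≤ Subgroup.normalizer (U₀ : Set G)} {u w : G} :
    w ∈ secFix U U₀ hUn u ↔ w ∈ U ∧ ⁅u, w⁆ ∈ U₀ := Iff.rfl

theorem secFix_le {U U₀ : Subgroup G} (hUn : U ≤ Subgroup.normalizer (U₀ : Set G)) (u : G) :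
    secFix U U₀ hUn u ≤ U := fun _ h => h.1

theorem le_secFix {U U₀ : Subgroup G} (hUn : U ≤ Subgroup.normalizer (U₀ : Set G)) (hU0 : U₀ ≤ U) {u : G}
    (hu0 : u ∈ Subgroup.normalizer (U₀ : Set G)) : U₀ ≤ secFix U U₀ hUn u := by
  intro z hz
  refine ⟨hU0 hz, ?_⟩
  have e : ⁅u, z⁆ = (u * z * u⁻¹) * z⁻¹ := by simp only [commutatorElement_def]
  rw [e]
  exact mul_mem (conj_mem_of_mem_normalizer hu0 hz) (inv_mem hz)

/-- the fixed subgroup of `u` is invariant under `f` if `f` commutes with `u` on the section. -/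
theorem secFix_conj_mem {U U₀ : Subgroup G} (hUn : U ≤ Subgroup.normalizer (U₀ : Set G)) {u f : G}
    (hfU : f ∈ Subgroup.normalizer (U : Set G)) (hf0 : f ∈ Subgroup.normalizer (U₀ : Set G))
    (hu0 : u ∈ Subgroup.normalizer (U₀ : Set G)) (hc : SecTriv U U₀ (u⁻¹ * (f⁻¹ * u * f)))
    {w : G} (hw : w ∈ secFix U U₀ hUn u) : f * w * f⁻¹ ∈ secFix U U₀ hUn u := by
  obtain ⟨hwU, h1⟩ := hw
  refine ⟨conj_mem_of_mem_normalizer hfU hwU, ?_⟩
  have e : ⁅u, f * w * f⁻¹⁆ =
      f * (u * ⁅u⁻¹ * (f⁻¹ * u * f), w⁆ * u⁻¹ * ⁅u, w⁆) * f⁻¹ := by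
    simp only [commutatorElement_def]; group
  rw [e]
  apply conj_mem_of_mem_normalizer hf0
  exact mul_mem (conj_mem_of_mem_normalizer hu0 (hc w hwU)) h1

theorem le_normalizer_secFix {U U₀ F : Subgroup G} (hUn : U ≤ Subgroup.normalizer (U₀ : Set G)) {u : G}
    (hFU : F ≤ Subgroup.normalizer (U : Set G)) (hF0 : F ≤ Subgroup.normalizer (U₀ : Set G))
    (hu0 : u ∈ Subgroup.normalizer (U₀ : Set G))
    (hc : ∀ f ∈ F, SecTriv U U₀ (u⁻¹ * (f⁻¹ * u * f))) :
    F ≤ Subgroup.normalizer ((secFix U U₀ hUn u : Subgroup G) : Set G) := by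
  apply le_normalizer_of_forall_conj
  intro f hf w hw
  exact secFix_conj_mem hUn (hFU hf) (hF0 hf) hu0 (hc f hf) hw

variable [Finite G] {p : ℕ} [Fact p.Prime]
variable {P M E W Z B F W' Z' B' : Subgroup G}

/-- case `V_E = V_F`, `[E, F] ≤ P`, `E` of perfect type: impossible. -/
theorem Blk.caseA_perf (hA : Amb p P M) (hE : Blk p P M E W Z B) (hF : Blk p P M F W' Z' B')
    (hEF : ⁅E, F⁆ ≤ P) (hV : ⁅M, E⁆ = ⁅M, F⁆) (hp : Perf p P E) : False := by
  have hFE : F ≤ Subgroup.normalizer (E : Set G) := hE.normalizes_of_comm_le hA hEF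
  have hEF' : ⁅F, E⁆ ≤ P := by rw [Subgroup.commutator_comm]; exact hEF
  have hEnF : E ≤ Subgroup.normalizer (F : Set G) := hF.normalizes_of_comm_le hA hEF'
  obtain ⟨u, hu, ⟨k, hk⟩, e₀, he₀, hne⟩ := hp.pel
  set V : Subgroup G := ⁅M, E⁆ with hVdef
  set Y : Subgroup G := V ⊓ Subgroup.centralizer (F : Set G) with hY
  have hYV : Y ≤ V := inf_le_left
  have hVp : IsPGroup p V := hA.Pp.to_le (Blk.V_le_P hA)
  have hVnY : V ≤ Subgroup.normalizer (Y : Set G) := by
    intro v hv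
    rw [Subgroup.mem_normalizer_iff]
    intro y
    have key : ∀ y ∈ V, v * y * v⁻¹ = y := by
      intro y hy
      rw [Blk.V_comm hA hv hy]; group
    constructor
    · intro hy; rw [key y (hYV hy)]; exact hy
    · intro hy
      have hyV : y ∈ V := by
        have h1 : v * y * v⁻¹ ∈ V := hYV hy
        have : y = v⁻¹ * (v * y * v⁻¹) * v := by group
        rw [this]; exact mul_mem (mul_mem (inv_mem hv) h1) hv
      rwa [key y hyV] at hy
  have hEV : E ≤ Subgroup.normalizer (V : Set G) := Blk.E_le_nE.trans (Blk.nV hA)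
  have hFV : F ≤ Subgroup.normalizer (V : Set G) := hFE.trans (Blk.nV hA)
  have hEY : E ≤ Subgroup.normalizer (Y : Set G) :=
    le_normalizer_inf' hEV (hEnF.trans (normalizer_le_centralizer F))
  have hFY : F ≤ Subgroup.normalizer (Y : Set G) :=
    le_normalizer_inf' hFV (Blk.E_le_nE.trans (normalizer_le_centralizer F))
  have hYne : Y ≠ V := by
    intro h
    apply hF.Vne
    have h1 : V ≤ Subgroup.centralizer (F : Set G) := by rw [← h]; exact inf_le_right
    rw [← hF.VV, ← hV, Subgroup.commutator_eq_bot_iff_le_centralizer]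
    exact h1
  -- `u` centralizes `V / Y`
  obtain ⟨x, hxV, hxY, hux⟩ := exists_fixed_sec hYV hYne hVnY hVp (hEV hu) (hEY hu) hk
  have hPc : ∀ c ∈ P, SecTriv V Y c := by
    intro c hc v hv
    have : ⁅c, v⁆ = 1 := by
      rw [commutatorElement_eq_one_iff_mul_comm]
      exact (Subgroup.mem_centralizer_iff.1 (Blk.P_le_cV hA hc) v hv).symm
    rw [this]; exact one_mem _
  have hFC : F ≤ Subgroup.normalizer ((secFix V Y hVnY u : Subgroup G) : Set G) := by
    apply le_normalizer_secFix hVnY hFV hFY (hEY hu)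
    intro f hf
    apply hPc
    have e : u⁻¹ * (f⁻¹ * u * f) = ⁅u⁻¹, f⁻¹⁆ := by simp only [commutatorElement_def]; group
    rw [e]
    exact hEF (Subgroup.commutator_mem_commutator (inv_mem hu) (inv_mem hf))
  have hCV : secFix V Y hVnY u = V := by
    have hle : secFix V Y hVnY u ≤ ⁅M, F⁆ := by rw [← hV]; exact secFix_le hVnY u
    rcases hF.irrV hA hle hFC with h | h
    · exfalso
      apply hxY
      exact ⟨hxV, h ⟨hxV, hux⟩⟩
    · rw [h, ← hV]
  -- `N = C_E(V / Y)` contains `u`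
  set N : Subgroup G := E ⊓ secCent V Y with hN
  have huN : u ∈ N := by
    refine ⟨hu, hEV hu, hEY hu, ?_⟩
    intro v hv
    have : v ∈ secFix V Y hVnY u := by rw [hCV]; exact hv
    exact this.2
  have hEN : E ≤ Subgroup.normalizer (N : Set G) :=
    le_normalizer_inf' Subgroup.le_normalizer (le_normalizer_secCent hEV hEY)
  rcases hp.PT N inf_le_left hEN with h | h
  · -- `E ≤ N Q ≤ C(V / Y)`, so `V = [V, E] ≤ Y ≤ C(F)`
    have hQ : E ⊓ P ≤ secCent V Y := by
      intro q hq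
      exact ⟨hEV hq.1, hEY hq.1, hPc q hq.2⟩
    have hEs : E ≤ secCent V Y := h.trans (sup_le inf_le_right hQ)
    have hVY : ⁅V, E⁆ ≤ Y := by
      rw [Subgroup.commutator_le]
      intro v hv e he
      rw [commElt_inv_swap]
      exact inv_mem ((hEs he).2.2 v hv)
    apply hF.Vne
    rw [← hF.VV, ← hV, Subgroup.commutator_eq_bot_iff_le_centralizer]
    calc V = ⁅V, E⁆ := hE.VV.symm
      _ ≤ Y := hVY
      _ ≤ Subgroup.centralizer (F : Set G) := inf_le_right
  · exact hne (h (Subgroup.commutator_mem_commutator huN he₀))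

end Cfsg.Agent.Helper5.SB
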