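import Mathlib
import Cfsg.Agent.Helper5.SBD

set_option autoImplicit false
set_option linter.unusedSectionVars false
set_option linter.style.haveILetI false

/-!
Helper5, S2986: structure of blocks of small type (`E / Q` of order `3`, resp. `≅ Q₈`).
-/

namespace Cfsg.Agent.Helper5.SB

open scoped commutatorElement
open Cfsg.Agent.Helper9.BB

universe u

variable {G : Type u} [Group G] [Finite G]

/-! ### quotients `F / (F ∩ P)` of given order -/

theorem card_quot_eq {F P : Subgroup G} [(P.subgroupOf F).Normal] {m : ℕ}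
    (hm : Nat.card F = m * Nat.card (F ⊓ P : Subgroup G)) :
    Nat.card (↥F ⧸ P.subgroupOf F) = m := by
  have hcardN : Nat.card (P.subgroupOf F) = Nat.card (F ⊓ P : Subgroup G) := by
    rw [← Subgroup.inf_subgroupOf_left]
    exact Nat.card_congr (Subgroup.subgroupOfEquivOfLe inf_le_left).toEquiv
  have h1 := Subgroup.card_eq_card_quotient_mul_card_subgroup (P.subgroupOf F)
  rw [hcardN, hm] at h1
  have hpos : 0 < Nat.card (F ⊓ P : Subgroup G) := Nat.card_pos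
  exact (Nat.eq_of_mul_eq_mul_right hpos h1).symm

/-- `x ^ m ∈ P` for `x ∈ F` when `|F : F ∩ P| = m`. -/
theorem pow_mem_of_index {F P : Subgroup G} (hPn : P.Normal) {m : ℕ}
    (hm : Nat.card F = m * Nat.card (F ⊓ P : Subgroup G)) {x : G} (hx : x ∈ F) : x ^ m ∈ P := by
  haveI : (P.subgroupOf F).Normal := hPn.subgroupOf F
  have h1 : (QuotientGroup.mk ⟨x, hx⟩ : ↥F ⧸ P.subgroupOf F) ^ m = 1 := by
    rw [← card_quot_eq hm]
    exact pow_card_eq_one'
  rw [← QuotientGroup.mk_pow, QuotientGroup.eq_one_iff, Subgroup.mem_subgroupOf] at h1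
  simpa using h1

/-- cosets of `F ∩ P` in `F` when the index is a prime `r`: powers of any `e ∉ P` represent them. -/
theorem cosets_of_prime_index {F P : Subgroup G} (hPn : P.Normal) {r : ℕ} [hr : Fact r.Prime]
    (hm : Nat.card F = r * Nat.card (F ⊓ P : Subgroup G)) {e x : G} (he : e ∈ F) (heP : e ∉ P)
    (hx : x ∈ F) : ∃ i : ℕ, i < r ∧ (e ^ i)⁻¹ * x ∈ P := by
  haveI : (P.subgroupOf F).Normal := hPn.subgroupOf F
  have hcard : Nat.card (↥F ⧸ P.subgroupOf F) = r := card_quot_eq hm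
  set eb : ↥F ⧸ P.subgroupOf F := QuotientGroup.mk ⟨e, he⟩ with heb
  have heb1 : eb ≠ 1 := by
    intro h
    rw [heb, QuotientGroup.eq_one_iff, Subgroup.mem_subgroupOf] at h
    exact heP h
  have hmem := mem_zpowers_of_prime_card hcard heb1 (g' := (QuotientGroup.mk ⟨x, hx⟩ : ↥F ⧸ P.subgroupOf F))
  obtain ⟨k, hk⟩ := Subgroup.mem_zpowers_iff.1 hmem
  have hebr : eb ^ (r : ℤ) = 1 := by
    rw [zpow_natCast, ← hcard]; exact pow_card_eq_one'
  have hrpos : (0 : ℤ) < r := by exact_mod_cast hr.out.pos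
  have hk' : eb ^ (k % r) = eb ^ k := by
    conv_rhs => rw [← Int.emod_add_mul_ediv k r]
    rw [zpow_add, zpow_mul, hebr, one_zpow, mul_one]
  have h0 : 0 ≤ k % r := Int.emod_nonneg k (ne_of_gt hrpos)
  have hlt : k % r < r := Int.emod_lt_of_pos k hrpos
  refine ⟨(k % r).toNat, ?_, ?_⟩
  · have : ((k % r).toNat : ℤ) < r := by rw [Int.toNat_of_nonneg h0]; exact hlt
    exact_mod_cast this
  · have h1 : eb ^ ((k % r).toNat) = QuotientGroup.mk ⟨x, hx⟩ := by
      rw [← zpow_natCast, Int.toNat_of_nonneg h0, hk', hk]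
    rw [heb, ← QuotientGroup.mk_pow, QuotientGroup.eq, Subgroup.mem_subgroupOf] at h1
    simpa using h1

/-- if `|F : F ∩ P|` is prime then `F / (F ∩ P)` is abelian. -/
theorem comm_mem_of_prime_index {F P : Subgroup G} (hPn : P.Normal) {r : ℕ} [hr : Fact r.Prime]
    (hm : Nat.card F = r * Nat.card (F ⊓ P : Subgroup G)) {x y : G} (hx : x ∈ F) (hy : y ∈ F) :
    ⁅x, y⁆ ∈ P := by
  haveI : (P.subgroupOf F).Normal := hPn.subgroupOf F
  have hcard : Nat.card (↥F ⧸ P.subgroupOf F) = r := card_quot_eq hm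
  haveI : IsCyclic (↥F ⧸ P.subgroupOf F) := isCyclic_of_prime_card hcard
  letI := IsCyclic.commGroup (α := ↥F ⧸ P.subgroupOf F)
  have h1 : (QuotientGroup.mk (⁅(⟨x, hx⟩ : ↥F), ⟨y, hy⟩⁆) : ↥F ⧸ P.subgroupOf F) = 1 := by
    rw [commutatorElement_def, QuotientGroup.mk_mul, QuotientGroup.mk_mul, QuotientGroup.mk_mul,
      QuotientGroup.mk_inv, QuotientGroup.mk_inv]
    rw [mul_comm (QuotientGroup.mk (⟨x, hx⟩ : ↥F) : ↥F ⧸ P.subgroupOf F) (QuotientGroup.mk ⟨y, hy⟩)]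
    group
  rw [QuotientGroup.eq_one_iff, Subgroup.mem_subgroupOf] at h1
  simpa [commutatorElement_def] using h1


/-! ### the norm trick for an automorphism of order `3` -/

/-- For an abelian subgroup `V` and `e ∈ N(V)` with `e³` centralizing `V`: the kernel `N` of `v ↦ v v^e v^{e²}` contains
`[V, e]` and `[V, e²]`, and elements of `N` fixed by `e` have order dividing `3`. -/
theorem norm_trick {V : Subgroup G} (hVc : ∀ x ∈ V, ∀ y ∈ V, x * y = y * x) {e : G}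
    (heV : e ∈ Subgroup.normalizer (V : Set G)) (he3 : ∀ v ∈ V, (e * e * e) * v = v * (e * e * e)) :
    ∃ N : Subgroup G, N ≤ V ∧ (∀ v ∈ V, ⁅v, e⁆ ∈ N) ∧ (∀ v ∈ V, ⁅v, e * e⁆ ∈ N) ∧
      ∀ y ∈ N, e * y = y * e → y ^ 3 = 1 := by
  have c1 : ∀ v ∈ V, e * v * e⁻¹ ∈ V := fun v hv => conj_mem_of_mem_normalizer heV hv
  have c2 : ∀ v ∈ V, (e * e) * v * (e * e)⁻¹ ∈ V := by
    intro v hv
    have := c1 _ (c1 v hv)
    have e1 : e * (e * v * e⁻¹) * e⁻¹ = (e * e) * v * (e * e)⁻¹ := by group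
    rwa [e1] at this
  have c3 : ∀ v ∈ V, (e * e * e) * v * (e * e * e)⁻¹ = v := by
    intro v hv
    rw [he3 v hv]; group
  let nrm : G → G := fun v => v * (e * v * e⁻¹) * ((e * e) * v * (e * e)⁻¹)
  have hnV : ∀ v ∈ V, nrm v ∈ V := fun v hv => mul_mem (mul_mem hv (c1 v hv)) (c2 v hv)
  have hmul : ∀ v ∈ V, ∀ w ∈ V, nrm (v * w) = nrm v * nrm w := by
    intro v hv w hw
    show v * w * (e * (v * w) * e⁻¹) * ((e * e) * (v * w) * (e * e)⁻¹)
      = v * (e * v * e⁻¹) * ((e * e) * v * (e * e)⁻¹) * (w * (e * w * e⁻¹) * ((e * e) * w * (e * e)⁻¹))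
    have a1 : e * (v * w) * e⁻¹ = (e * v * e⁻¹) * (e * w * e⁻¹) := by group
    have a2 : (e * e) * (v * w) * (e * e)⁻¹ = ((e * e) * v * (e * e)⁻¹) * ((e * e) * w * (e * e)⁻¹) := by
      group
    rw [a1, a2]
    set v1 := e * v * e⁻¹
    set v2 := (e * e) * v * (e * e)⁻¹
    set w1 := e * w * e⁻¹
    set w2 := (e * e) * w * (e * e)⁻¹
    have hv1 : v1 ∈ V := c1 v hv
    have hv2 : v2 ∈ V := c2 v hv
    have hw1 : w1 ∈ V := c1 w hw
    calc v * w * (v1 * w1) * (v2 * w2) = v * (w * v1) * w1 * v2 * w2 := by group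
      _ = v * (v1 * w) * w1 * v2 * w2 := by rw [hVc w hw v1 hv1]
      _ = v * v1 * (w * w1 * v2) * w2 := by group
      _ = v * v1 * (v2 * (w * w1)) * w2 := by rw [hVc (w * w1) (mul_mem hw hw1) v2 hv2]
      _ = v * v1 * v2 * (w * w1 * w2) := by group
  have hone : nrm 1 = 1 := by simp [nrm]
  have hinv : ∀ v ∈ V, nrm v⁻¹ = (nrm v)⁻¹ := by
    intro v hv
    have h1 : nrm (v * v⁻¹) = nrm v * nrm v⁻¹ := hmul v hv v⁻¹ (inv_mem hv)
    rw [mul_inv_cancel, hone] at h1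
    exact (eq_inv_of_mul_eq_one_right h1.symm)
  have hconj : ∀ v ∈ V, nrm (e * v * e⁻¹) = nrm v := by
    intro v hv
    show e * v * e⁻¹ * (e * (e * v * e⁻¹) * e⁻¹) * ((e * e) * (e * v * e⁻¹) * (e * e)⁻¹)
      = v * (e * v * e⁻¹) * ((e * e) * v * (e * e)⁻¹)
    have a1 : e * (e * v * e⁻¹) * e⁻¹ = (e * e) * v * (e * e)⁻¹ := by group
    have a2 : (e * e) * (e * v * e⁻¹) * (e * e)⁻¹ = v := by
      have : (e * e) * (e * v * e⁻¹) * (e * e)⁻¹ = (e * e * e) * v * (e * e * e)⁻¹ := by group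
      rw [this, c3 v hv]
    rw [a1, a2, hVc _ (mul_mem (c1 v hv) (c2 v hv)) v hv]
    group
  let N : Subgroup G :=
    { carrier := {v | v ∈ V ∧ nrm v = 1}
      one_mem' := ⟨one_mem _, hone⟩
      mul_mem' := by
        rintro v w ⟨hv, h1⟩ ⟨hw, h2⟩
        exact ⟨mul_mem hv hw, by rw [hmul v hv w hw, h1, h2, one_mul]⟩
      inv_mem' := by
        rintro v ⟨hv, h1⟩
        exact ⟨inv_mem hv, by rw [hinv v hv, h1, inv_one]⟩ }
  refine ⟨N, fun v hv => hv.1, ?_, ?_, ?_⟩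
  · intro v hv
    have e1 : ⁅v, e⁆ = v * (e * v⁻¹ * e⁻¹) := by simp only [commutatorElement_def]; group
    refine ⟨?_, ?_⟩
    · rw [e1]; exact mul_mem hv (c1 _ (inv_mem hv))
    · rw [e1, hmul v hv _ (c1 _ (inv_mem hv)), hconj _ (inv_mem hv), hinv v hv, mul_inv_cancel]
  · intro v hv
    have e1 : ⁅v, e * e⁆ = v * (e * (e * v⁻¹ * e⁻¹) * e⁻¹) := by
      simp only [commutatorElement_def]; group
    refine ⟨?_, ?_⟩
    · rw [e1]; exact mul_mem hv (c1 _ (c1 _ (inv_mem hv)))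
    · rw [e1, hmul v hv _ (c1 _ (c1 _ (inv_mem hv))), hconj _ (c1 _ (inv_mem hv)),
        hconj _ (inv_mem hv), hinv v hv, mul_inv_cancel]
  · rintro y ⟨hy, h1⟩ hey
    have a1 : e * y * e⁻¹ = y := by rw [hey]; group
    have a2 : (e * e) * y * (e * e)⁻¹ = y := by
      have : (e * e) * y * (e * e)⁻¹ = e * (e * y * e⁻¹) * e⁻¹ := by group
      rw [this, a1, a1]
    have h2 : nrm y = y * y * y := by
      show y * (e * y * e⁻¹) * ((e * e) * y * (e * e)⁻¹) = y * y * y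
      rw [a1, a2]
    rw [h2] at h1
    rw [pow_succ, pow_two]; exact h1

/-! ### blocks of small type for `p = 2` -/

variable {p : ℕ} [Fact p.Prime] {P M E W Z B : Subgroup G}

theorem Blk.exists_not_mem_P (hA : Amb p P M) (hE : Blk p P M E W Z B) : ∃ e ∈ E, e ∉ P := by
  by_contra h
  push Not at h
  exact hE.not_le_P hA h

theorem Blk.small2_QV (hE : Blk p P M E W Z B) (hs : Small2 p P E W Z) : E ⊓ P = ⁅M, E⁆ := by
  rcases hE.kind with h | h
  · exact h
  · exfalso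
    have h1 := h.p3
    have h2 := hs.p2
    omega

/-- conjugation by `x ∈ E` on `V` agrees with conjugation by `1`, `e` or `e²`. -/
theorem Blk.small2_conj (hA : Amb p P M) (hE : Blk p P M E W Z B) (hs : Small2 p P E W Z) {e : G}
    (he : e ∈ E) (heP : e ∉ P) {x : G} (hx : x ∈ E) {v : G} (hv : v ∈ ⁅M, E⁆) :
    x * v * x⁻¹ = v ∨ x * v * x⁻¹ = e * v * e⁻¹ ∨ x * v * x⁻¹ = (e * e) * v * (e * e)⁻¹ := by
  haveI : Fact (Nat.Prime 3) := ⟨by norm_num⟩
  obtain ⟨i, hi, hq⟩ := cosets_of_prime_index hA.Pn hs.idx he heP hx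
  have hqv : ((e ^ i)⁻¹ * x) * v = v * ((e ^ i)⁻¹ * x) :=
    (Subgroup.mem_centralizer_iff.1 (Blk.P_le_cV hA hq) v hv).symm
  have key : x * v * x⁻¹ = e ^ i * v * (e ^ i)⁻¹ := by
    have : x * v * x⁻¹ = e ^ i * (((e ^ i)⁻¹ * x) * v) * ((e ^ i)⁻¹ * x)⁻¹ * (e ^ i)⁻¹ := by group
    rw [this, hqv]; group
  interval_cases i
  · left; rw [key]; simp
  · right; left; rw [key]; simp
  · right; right; rw [key, pow_two]

/-- `C_V(E) = 1` for a block of small type, `p = 2`. -/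
theorem Blk.small2_Y (hA : Amb p P M) (hE : Blk p P M E W Z B) (hs : Small2 p P E W Z) :
    ⁅M, E⁆ ⊓ Subgroup.centralizer (E : Set G) = ⊥ := by
  obtain ⟨e, he, heP⟩ := hE.exists_not_mem_P hA
  have he3 : e * e * e ∈ P := by
    have := pow_mem_of_index hA.Pn hs.idx he
    rwa [pow_succ, pow_two] at this
  obtain ⟨N, hNV, hN1, hN2, hN3⟩ := norm_trick (V := ⁅M, E⁆)
    (fun x hx y hy => Blk.V_comm hA hx hy) (Blk.nV hA (Blk.E_le_nE he))
    (fun v hv => (Subgroup.mem_centralizer_iff.1 (Blk.P_le_cV hA he3) v hv).symm)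
  have hVN : ⁅M, E⁆ ≤ N := by
    rw [← hE.VV, Subgroup.commutator_le]
    intro v hv x hx
    have e0 : ⁅v, x⁆ = v * (x * v⁻¹ * x⁻¹) := by simp only [commutatorElement_def]; group
    rcases hE.small2_conj hA hs he heP hx (inv_mem hv) with h | h | h
    · rw [e0, h, mul_inv_cancel]; exact one_mem _
    · have : ⁅v, x⁆ = ⁅v, e⁆ := by
        rw [e0, h]; simp only [commutatorElement_def]; group
      rw [this]; exact hN1 v hv
    · have : ⁅v, x⁆ = ⁅v, e * e⁆ := by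
        rw [e0, h]; simp only [commutatorElement_def]; group
      rw [this]; exact hN2 v hv
  rw [eq_bot_iff]
  rintro y ⟨hyV, hyC⟩
  rw [Subgroup.mem_bot]
  have h3 : y ^ 3 = 1 := hN3 y (hVN hyV) (Subgroup.mem_centralizer_iff.1 hyC e he)
  obtain ⟨k, hk⟩ := exists_pow_eq_one_of_isPGroup hA.Pp (Blk.V_le_P hA hyV)
  apply eq_one_of_coprime_of_pow (p := p) _ hk
  have hd : orderOf y ∣ 3 := orderOf_dvd_of_pow_eq_one h3
  rw [hs.p2]
  exact Nat.Coprime.coprime_dvd_left hd (by decide)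


theorem Blk.small2_WV (hA : Amb p P M) (hE : Blk p P M E W Z B) (hs : Small2 p P E W Z) :
    W = ⁅M, E⁆ :=
  le_antisymm (hE.WE.trans (hE.small2_QV hs).le) hE.V_le_W

theorem Blk.small2_cardV (hA : Amb p P M) (hE : Blk p P M E W Z B) (hs : Small2 p P E W Z) :
    Nat.card (⁅M, E⁆ : Subgroup G) = 4 := by
  have hW := hE.small2_WV hA hs
  have hZ : Z = ⊥ := by
    have h := hE.ZC
    rw [hW, hE.small2_Y hA hs] at h
    exact h
  have h := hs.cardW
  rw [hZ, Subgroup.card_bot, hW] at h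
  exact h

/-! ### blocks of small type for `p = 3` -/

/-- the central involution `t` of `E / Q` inverts `V`. -/
theorem Blk.small3_inv (hA : Amb p P M) (hE : Blk p P M E W Z B) (hp3 : p = 3) {t : G} (htE : t ∈ E)
    (htP : t ∉ P) (ht2 : t * t ∈ P) (htc : ∀ e ∈ E, ⁅t, e⁆ ∈ P) :
    ∀ v ∈ ⁅M, E⁆, t * v * t⁻¹ = v⁻¹ := by
  have htV : t ∈ Subgroup.normalizer ((⁅M, E⁆ : Subgroup G) : Set G) := Blk.nV hA (Blk.E_le_nE htE)
  have hcV : ∀ c ∈ P, ∀ v ∈ ⁅M, E⁆, c * v * c⁻¹ = v := by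
    intro c hc v hv
    rw [(Subgroup.mem_centralizer_iff.1 (Blk.P_le_cV hA hc) v hv).symm]; group
  let A : Subgroup G :=
    { carrier := {v | v ∈ ⁅M, E⁆ ∧ t * v * t⁻¹ = v⁻¹}
      one_mem' := ⟨one_mem _, by simp⟩
      mul_mem' := by
        rintro v w ⟨hv, h1⟩ ⟨hw, h2⟩
        refine ⟨mul_mem hv hw, ?_⟩
        have : t * (v * w) * t⁻¹ = (t * v * t⁻¹) * (t * w * t⁻¹) := by group
        rw [this, h1, h2, mul_inv_rev]
        exact Blk.V_comm hA (inv_mem hv) (inv_mem hw)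
      inv_mem' := by
        rintro v ⟨hv, h1⟩
        refine ⟨inv_mem hv, ?_⟩
        have : t * v⁻¹ * t⁻¹ = (t * v * t⁻¹)⁻¹ := by group
        rw [this, h1] }
  have hAV : A ≤ ⁅M, E⁆ := fun v hv => hv.1
  have hEA : E ≤ Subgroup.normalizer (A : Set G) := by
    apply le_normalizer_of_forall_conj
    rintro e he v ⟨hv, h1⟩
    have hev : e * v * e⁻¹ ∈ ⁅M, E⁆ := conj_mem_of_mem_normalizer (Blk.nV hA (Blk.E_le_nE he)) hv
    refine ⟨hev, ?_⟩
    -- `e⁻¹ t e = t c` with `c ∈ P`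
    have hc : ⁅t⁻¹, e⁻¹⁆ ∈ P := by
      have e1 : ⁅t⁻¹, e⁻¹⁆ = (e * t)⁻¹ * ⁅t, e⁆ * (e * t) := by
        simp only [commutatorElement_def]; group
      rw [e1]
      have := hA.Pn.conj_mem _ (htc e he) (e * t)⁻¹
      simpa using this
    have e2 : t * (e * v * e⁻¹) * t⁻¹ =
        e * (t * (⁅t⁻¹, e⁻¹⁆ * v * (⁅t⁻¹, e⁻¹⁆)⁻¹) * t⁻¹) * e⁻¹ := by
      simp only [commutatorElement_def]; group
    rw [e2, hcV _ hc v hv, h1]; group
  have key : ∀ v ∈ ⁅M, E⁆, v⁻¹ * (t * v * t⁻¹) ∈ A := by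
    intro v hv
    have h1 : t * v * t⁻¹ ∈ ⁅M, E⁆ := conj_mem_of_mem_normalizer htV hv
    refine ⟨mul_mem (inv_mem hv) h1, ?_⟩
    have e1 : t * (v⁻¹ * (t * v * t⁻¹)) * t⁻¹ = (t * v * t⁻¹)⁻¹ * ((t * t) * v * (t * t)⁻¹) := by group
    rw [e1, hcV _ ht2 v hv]
    group
  rcases hE.irrV hA hAV hEA with h | h
  · exfalso
    apply htP
    apply hE.faith
    refine Subgroup.mem_inf.2 ⟨htE, ?_⟩
    rw [Subgroup.mem_centralizer_iff]
    intro v hv
    have ha := key v hv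
    set a := v⁻¹ * (t * v * t⁻¹) with hadef
    have h1 : t * a * t⁻¹ = a⁻¹ := ha.2
    have h2 : t * a * t⁻¹ = a := by
      have := Subgroup.mem_centralizer_iff.1 (h ha) t htE
      rw [this]; group
    have h3 : a * a = 1 := by
      have : a⁻¹ = a := by rw [← h1, h2]
      have h := mul_inv_cancel a
      rwa [this] at h
    obtain ⟨k, hk⟩ := exists_pow_eq_one_of_isPGroup hA.Pp (Blk.V_le_P hA ha.1)
    have ha1 : a = 1 := by
      apply eq_one_of_coprime_of_pow (p := p) _ hk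
      have hd : orderOf a ∣ 2 := orderOf_dvd_of_pow_eq_one (by rw [pow_two]; exact h3)
      rw [hp3]
      exact Nat.Coprime.coprime_dvd_left hd (by decide)
    have h4 : t * v * t⁻¹ = v := by
      have : v * a = t * v * t⁻¹ := by rw [hadef]; group
      rw [← this, ha1, mul_one]
    calc v * t = (t * v * t⁻¹)⁻¹⁻¹ * t := by rw [h4, inv_inv]
      _ = t * v := by group
  · intro v hv
    have : v ∈ A := by rw [h]; exact hv
    exact this.2

/-- the data of a block of small type, `p = 3`, unpacked. -/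
theorem Blk.small3_Y (hA : Amb p P M) (hE : Blk p P M E W Z B) (hs : Small3 p P E W Z) :
    ⁅M, E⁆ ⊓ Subgroup.centralizer (E : Set G) = ⊥ := by
  obtain ⟨t, htE, htP, ht2, htc, -, -⟩ := hs.tex
  have hinv := hE.small3_inv hA hs.p3 htE htP ht2 htc
  rw [eq_bot_iff]
  intro y hy
  have hyV : y ∈ ⁅M, E⁆ := (Subgroup.mem_inf.1 hy).1
  have hyC : y ∈ Subgroup.centralizer (E : Set G) := (Subgroup.mem_inf.1 hy).2
  rw [Subgroup.mem_bot]
  have h1 : t * y * t⁻¹ = y := by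
    have := Subgroup.mem_centralizer_iff.1 hyC t htE
    rw [this]; group
  have h2 : y * y = 1 := by
    have : y⁻¹ = y := by rw [← hinv y hyV, h1]
    have h := mul_inv_cancel y
    rwa [this] at h
  obtain ⟨k, hk⟩ := exists_pow_eq_one_of_isPGroup hA.Pp (Blk.V_le_P hA hyV)
  apply eq_one_of_coprime_of_pow (p := p) _ hk
  have hd : orderOf y ∣ 2 := orderOf_dvd_of_pow_eq_one (by rw [pow_two]; exact h2)
  rw [hs.p3]
  exact Nat.Coprime.coprime_dvd_left hd (by decide)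

theorem Blk.small3_cardV (hA : Amb p P M) (hE : Blk p P M E W Z B) (hs : Small3 p P E W Z) :
    Nat.card (⁅M, E⁆ : Subgroup G) = 9 := by
  have hZV : Z ≤ Subgroup.normalizer ((⁅M, E⁆ : Subgroup G) : Set G) :=
    (hE.Z_le_W.trans hE.W_le_E).trans (Blk.E_le_nE.trans (Blk.nV hA))
  have hdisj : Z ⊓ ⁅M, E⁆ = ⊥ := by
    rw [eq_bot_iff, ← hE.small3_Y hA hs]
    intro x hx
    exact ⟨hx.2, hE.Z_le_cE hx.1⟩
  have h1 := Cfsg.Agent.Helper1.card_sup_of_le_normalizer hZV hdisj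
  rw [← hE.WVZ, hs.cardW] at h1
  have hpos : 0 < Nat.card Z := Nat.card_pos
  have : 9 * Nat.card Z = Nat.card (⁅M, E⁆ : Subgroup G) * Nat.card Z := by rw [h1, mul_comm]
  exact (Nat.eq_of_mul_eq_mul_right hpos this).symm

/-- `V` is a section of order `9` (over `⊥`). -/
theorem Blk.small3_sec9 (hA : Amb p P M) (hE : Blk p P M E W Z B) (hs : Small3 p P E W Z) :
    Sec9 (⁅M, E⁆ : Subgroup G) ⊥ where
  le := bot_le
  nor := by
    intro x _
    rw [Subgroup.mem_normalizer_iff]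
    intro y
    simp only [Subgroup.mem_bot]
    constructor
    · intro h; rw [h]; group
    · intro h
      have : y = x⁻¹ * (x * y * x⁻¹) * x := by group
      rw [this, h]; group
  ab := by
    rw [Subgroup.commutator_le]
    intro x hx y hy
    rw [Subgroup.mem_bot, commutatorElement_eq_one_iff_mul_comm]
    exact Blk.V_comm hA hx hy
  exp := by
    intro x hx
    rw [Subgroup.mem_bot]
    have := hA.Mexp x (Blk.V_le_M hA hx)
    rwa [hs.p3] at this
  card := by rw [hE.small3_cardV hA hs, Subgroup.card_bot]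

end Cfsg.Agent.Helper5.SB
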