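import Mathlib
import Cfsg.Agent.Helper5.SBA

set_option autoImplicit false
set_option linter.unusedSectionVars false
set_option linter.style.haveILetI false

/-!
Helper5, S2986: the block structure `Blk` is invariant under automorphisms of `G` fixing `P` and `M`
(in particular under conjugation).
-/

namespace Cfsg.Agent.Helper5.SB

open scoped commutatorElement
open Cfsg.Agent.Helper9.BB Cfsg.Agent.Helper9

universe u

variable {G : Type u} [Group G] (φ : G ≃* G)

theorem tmap_le_iff {A C : Subgroup G} : A.map φ.toMonoidHom ≤ C.map φ.toMonoidHom ↔ A ≤ C :=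
  Subgroup.map_le_map_iff_of_injective φ.injective

theorem tmap_eq_iff {A C : Subgroup G} : A.map φ.toMonoidHom = C.map φ.toMonoidHom ↔ A = C :=
  (Subgroup.map_injective φ.injective).eq_iff

theorem tmap_surj (X : Subgroup G) : ∃ X₀ : Subgroup G, X = X₀.map φ.toMonoidHom :=
  ⟨X.map φ.symm.toMonoidHom, (map_map_symm φ X).symm⟩

theorem tmap_normalizer (X : Subgroup G) :
    Subgroup.normalizer ((X.map φ.toMonoidHom : Subgroup G) : Set G) =
      (Subgroup.normalizer (X : Set G)).map φ.toMonoidHom :=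
  (Subgroup.map_equiv_normalizer_eq X φ).symm

theorem tmap_le_normalizer_iff {A X : Subgroup G} :
    A.map φ.toMonoidHom ≤ Subgroup.normalizer ((X.map φ.toMonoidHom : Subgroup G) : Set G) ↔
      A ≤ Subgroup.normalizer (X : Set G) := by
  rw [tmap_normalizer, tmap_le_iff]

theorem tmap_le_centralizer_iff {A X : Subgroup G} :
    A.map φ.toMonoidHom ≤ Subgroup.centralizer ((X.map φ.toMonoidHom : Subgroup G) : Set G) ↔
      A ≤ Subgroup.centralizer (X : Set G) := by
  rw [BB.centralizer_map, tmap_le_iff]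

theorem tmap_mem_iff {A : Subgroup G} {x : G} : φ x ∈ A.map φ.toMonoidHom ↔ x ∈ A :=
  Subgroup.mem_map_iff_mem (f := φ.toMonoidHom) φ.injective

theorem tmap_mem_fixed {P : Subgroup G} (hP : P.map φ.toMonoidHom = P) {x : G} : φ x ∈ P ↔ x ∈ P := by
  conv_lhs => rw [← hP]
  exact tmap_mem_iff φ

theorem tmap_pResidualOf (p : ℕ) (E : Subgroup G) :
    Cfsg.pResidualOf p (E.map φ.toMonoidHom) = (Cfsg.pResidualOf p E).map φ.toMonoidHom := by
  apply le_antisymm
  · rw [pResidualOf_le_iff]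
    rintro _ ⟨e, he, rfl⟩ hc
    refine ⟨e, mem_pResidualOf he ?_, rfl⟩
    have : orderOf (φ.toMonoidHom e) = orderOf e := MulEquiv.orderOf_eq φ e
    rwa [← this]
  · rw [Subgroup.map_le_iff_le_comap, pResidualOf_le_iff]
    intro e he hc
    show φ.toMonoidHom e ∈ Cfsg.pResidualOf p (E.map φ.toMonoidHom)
    have hmem : φ.toMonoidHom e ∈ E.map φ.toMonoidHom := Subgroup.mem_map_of_mem _ he
    apply mem_pResidualOf hmem
    have : orderOf (φ.toMonoidHom e) = orderOf e := MulEquiv.orderOf_eq φ e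
    rwa [this]

variable {φ} {p : ℕ} {P M E W Z B : Subgroup G}

theorem Perf.tmap (hP : P.map φ.toMonoidHom = P) (h : Perf p P E) : Perf p P (E.map φ.toMonoidHom) where
  perf := by rw [← Subgroup.map_commutator, h.perf]
  PT := by
    intro N hN hEN
    obtain ⟨N₀, rfl⟩ := tmap_surj φ N
    rcases h.PT N₀ ((tmap_le_iff φ).1 hN) ((tmap_le_normalizer_iff φ).1 hEN) with h1 | h1
    · left
      have := (tmap_le_iff φ).2 h1
      rwa [Subgroup.map_sup, Subgroup.map_inf _ _ _ φ.injective, hP] at this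
    · right
      have := (tmap_le_iff φ).2 h1
      rwa [Subgroup.map_commutator, hP] at this
  pel := by
    obtain ⟨u, hu, ⟨k, hk⟩, e, he, hne⟩ := h.pel
    refine ⟨φ u, (tmap_mem_iff φ).2 hu, ⟨k, ?_⟩, φ e, (tmap_mem_iff φ).2 he, ?_⟩
    · rw [← map_pow, hk, map_one]
    · rw [← map_commutatorElement, tmap_mem_fixed φ hP]
      exact hne

theorem Small2.tmap (hP : P.map φ.toMonoidHom = P) (h : Small2 p P E W Z) :
    Small2 p P (E.map φ.toMonoidHom) (W.map φ.toMonoidHom) (Z.map φ.toMonoidHom) where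
  p2 := h.p2
  idx := by
    have h1 : (E.map φ.toMonoidHom ⊓ P : Subgroup G) = (E ⊓ P).map φ.toMonoidHom := by
      rw [Subgroup.map_inf _ _ _ φ.injective, hP]
    rw [h1, Subgroup.card_map_of_injective φ.injective, Subgroup.card_map_of_injective φ.injective]
    exact h.idx
  cardW := by
    rw [Subgroup.card_map_of_injective φ.injective, Subgroup.card_map_of_injective φ.injective]
    exact h.cardW

theorem Small3.tmap (hP : P.map φ.toMonoidHom = P) (h : Small3 p P E W Z) :
    Small3 p P (E.map φ.toMonoidHom) (W.map φ.toMonoidHom) (Z.map φ.toMonoidHom) where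
  p3 := h.p3
  idx := by
    have h1 : (E.map φ.toMonoidHom ⊓ P : Subgroup G) = (E ⊓ P).map φ.toMonoidHom := by
      rw [Subgroup.map_inf _ _ _ φ.injective, hP]
    rw [h1, Subgroup.card_map_of_injective φ.injective, Subgroup.card_map_of_injective φ.injective]
    exact h.idx
  cardW := by
    rw [Subgroup.card_map_of_injective φ.injective, Subgroup.card_map_of_injective φ.injective]
    exact h.cardW
  cardQ := by
    have h1 : (E.map φ.toMonoidHom ⊓ P : Subgroup G) = (E ⊓ P).map φ.toMonoidHom := by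
      rw [Subgroup.map_inf _ _ _ φ.injective, hP]
    intro hne
    rw [h1] at hne ⊢
    rw [Subgroup.card_map_of_injective φ.injective, Subgroup.card_map_of_injective φ.injective]
    apply h.cardQ
    intro heq
    exact hne (by rw [heq])
  tex := by
    obtain ⟨t, htE, htP, ht2, htc, hcos, x, hx, y, hy, hxy⟩ := h.tex
    refine ⟨φ t, (tmap_mem_iff φ).2 htE, ?_, ?_, ?_, ?_, φ x, (tmap_mem_iff φ).2 hx, φ y,
      (tmap_mem_iff φ).2 hy, ?_⟩
    · rw [tmap_mem_fixed φ hP]; exact htP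
    · rw [← map_mul, tmap_mem_fixed φ hP]; exact ht2
    · rintro _ ⟨e, he, rfl⟩
      show ⁅φ t, φ e⁆ ∈ P
      rw [← map_commutatorElement, tmap_mem_fixed φ hP]
      exact htc e he
    · rintro _ ⟨x, hx, rfl⟩
      show φ x ∈ P ∨ φ x * (φ t)⁻¹ ∈ P ∨ φ x * φ x * (φ t)⁻¹ ∈ P
      rw [← map_inv, ← map_mul, ← map_mul, ← map_mul, tmap_mem_fixed φ hP, tmap_mem_fixed φ hP,
        tmap_mem_fixed φ hP]
      exact hcos x hx
    · rw [← map_commutatorElement, tmap_mem_fixed φ hP]
      exact hxy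

theorem Exc.tmap (hP : P.map φ.toMonoidHom = P) (h : Exc p P E W Z B) :
    Exc p P (E.map φ.toMonoidHom) (W.map φ.toMonoidHom) (Z.map φ.toMonoidHom) (B.map φ.toMonoidHom) := by
  have h1 : (E.map φ.toMonoidHom ⊓ P : Subgroup G) = (E ⊓ P).map φ.toMonoidHom := by
    rw [Subgroup.map_inf _ _ _ φ.injective, hP]
  refine ⟨h.p3, ?_, ?_, ?_, ?_, ?_, ?_, ?_, ?_, ?_, ?_⟩
  · rw [h1, tmap_le_centralizer_iff]; exact h.cW
  · rw [h1, ← Subgroup.map_commutator, h.QQ]
  · rw [h1, ← Subgroup.map_commutator, h.QE]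
  · rw [h1]
    rintro _ ⟨u, hu, rfl⟩
    show φ u ^ 3 ∈ W.map φ.toMonoidHom
    rw [← map_pow, tmap_mem_iff]
    exact h.Qexp u hu
  · intro hb
    apply h.Zne
    rw [← tmap_eq_iff φ, hb, Subgroup.map_bot]
  · intro X hWX hXQ hEX
    obtain ⟨X₀, rfl⟩ := tmap_surj φ X
    rw [h1] at hXQ ⊢
    rcases h.irrQ X₀ ((tmap_le_iff φ).1 hWX) ((tmap_le_iff φ).1 hXQ)
      ((tmap_le_normalizer_iff φ).1 hEX) with h2 | h2
    · left; rw [h2]
    · right; rw [h2]
  · rintro _ ⟨e, he, rfl⟩ hu
    show φ e ∈ P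
    rw [tmap_mem_fixed φ hP]
    apply h.faithQ e he
    intro u hu'
    have := hu (φ u) (by rw [h1]; exact (tmap_mem_iff φ).2 hu')
    have e2 : ⁅φ.toMonoidHom e, φ u⁆ = φ ⁅e, u⁆ := (map_commutatorElement φ e u).symm
    rw [e2] at this
    exact (tmap_mem_iff φ).1 this
  · exact h.Bp.map φ.toMonoidHom
  · rw [← Subgroup.map_commutator, h.BE]
  · rintro _ ⟨b, hb, rfl⟩ hbc hle
    apply h.Bq b hb
    · intro hb'
      apply hbc
      rw [BB.centralizer_map]
      exact ⟨b, hb', rfl⟩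
    · have hz : Subgroup.zpowers (φ.toMonoidHom b) = (Subgroup.zpowers b).map φ.toMonoidHom :=
        (MonoidHom.map_zpowers φ.toMonoidHom b).symm
      rw [hz, h1, ← Subgroup.map_commutator, ← Subgroup.map_commutator, tmap_le_iff] at hle
      exact hle

/-- **Transport.** -/
theorem Blk.tmap (hP : P.map φ.toMonoidHom = P) (hM : M.map φ.toMonoidHom = M)
    (h : Blk p P M E W Z B) :
    Blk p P M (E.map φ.toMonoidHom) (W.map φ.toMonoidHom) (Z.map φ.toMonoidHom)
      (B.map φ.toMonoidHom) := by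
  have h1 : (E.map φ.toMonoidHom ⊓ P : Subgroup G) = (E ⊓ P).map φ.toMonoidHom := by
    rw [Subgroup.map_inf _ _ _ φ.injective, hP]
  have hV : ⁅M, E.map φ.toMonoidHom⁆ = (⁅M, E⁆).map φ.toMonoidHom := by
    rw [Subgroup.map_commutator, hM]
  refine ⟨h.sn.map φ.surjective, ?_, ?_, ?_, ?_, ?_, ?_, ?_, ?_, ?_, ?_, ?_, ?_⟩
  · rw [tmap_pResidualOf, h.res]
  · have := (tmap_le_normalizer_iff φ (A := P) (X := E)).2 h.nP
    rwa [hP] at this
  · rw [hV, ← Subgroup.map_commutator, h.VV]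
  · rw [hV]
    intro hb
    apply h.Vne
    rw [← tmap_eq_iff φ, hb, Subgroup.map_bot]
  · rw [hV, ← Subgroup.map_sup, ← h.WVZ]
  · rw [BB.centralizer_map, ← Subgroup.map_inf _ _ _ φ.injective, ← h.ZC]
  · rw [h1, tmap_le_iff]; exact h.WE
  · rw [tmap_normalizer, tmap_normalizer, tmap_le_iff]; exact h.nW
  · intro X hZX hXW hEX
    obtain ⟨X₀, rfl⟩ := tmap_surj φ X
    rcases h.irr X₀ ((tmap_le_iff φ).1 hZX) ((tmap_le_iff φ).1 hXW)
      ((tmap_le_normalizer_iff φ).1 hEX) with h2 | h2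
    · left; rw [h2]
    · right; rw [h2]
  · rw [hV, BB.centralizer_map, ← Subgroup.map_inf _ _ _ φ.injective]
    have := (tmap_le_iff φ).2 h.faith
    rwa [hP] at this
  · rcases h.kind with h2 | h2
    · left; rw [h1, hV, h2]
    · right; exact h2.tmap hP
  · rcases h.type with h2 | h2 | h2
    · exact Or.inl (h2.tmap hP)
    · exact Or.inr (Or.inl (h2.tmap hP))
    · exact Or.inr (Or.inr (h2.tmap hP))

/-- conjugates of blocks are blocks. -/
theorem Blk.conj (hA : Amb p P M) (h : Blk p P M E W Z B) (g : G) :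
    Blk p P M (E.map (MulAut.conj g).toMonoidHom) (W.map (MulAut.conj g).toMonoidHom)
      (Z.map (MulAut.conj g).toMonoidHom) (B.map (MulAut.conj g).toMonoidHom) := by
  apply Blk.tmap _ _ h
  · haveI := hA.Pn
    exact map_eq_of_mem_normalizer (le_normalizer_of_normal' ⊤ P (Subgroup.mem_top g))
  · haveI := hA.Mn
    exact map_eq_of_mem_normalizer (le_normalizer_of_normal' ⊤ M (Subgroup.mem_top g))

end Cfsg.Agent.Helper5.SB
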