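import Mathlib
import Cfsg.Agent.Helper5.SBE
import Cfsg.Agent.Helper5.SBF

set_option autoImplicit false
set_option linter.unusedSectionVars false
set_option linter.style.haveILetI false

/-!
Helper5, S2986: two non-exceptional blocks with the same `V` which induce the same automorphisms on `V` are equal.
-/

namespace Cfsg.Agent.Helper5.SB

open scoped commutatorElement
open Cfsg.Agent.Helper9.BB

universe u

variable {G : Type u} [Group G] [Finite G] {p : ℕ} [Fact p.Prime]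
variable {P M E W Z B F W' Z' B' : Subgroup G}

/-- `E ≤ secCent P V` for a non-exceptional block. -/
theorem Blk.le_secCent_P (hA : Amb p P M) (hE : Blk p P M E W Z B) (hQE : E ⊓ P = ⁅M, E⁆) :
    E ≤ secCent P ⁅M, E⁆ := by
  intro e he
  refine ⟨hA.nP E he, Blk.nV hA (Blk.E_le_nE he), ?_⟩
  intro q hq
  rw [← hQE]
  refine Subgroup.mem_inf.2 ⟨?_, ?_⟩
  · have e1 : ⁅e, q⁆ = e * (q * e⁻¹ * q⁻¹) := by simp only [commutatorElement_def]; group
    rw [e1]
    exact mul_mem he (conj_mem_of_mem_normalizer (hE.nP hq) (inv_mem he))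
  · have e1 : ⁅e, q⁆ = (e * q * e⁻¹) * q⁻¹ := by simp only [commutatorElement_def]
    rw [e1]
    exact mul_mem (hA.Pn.conj_mem q hq e) (inv_mem hq)

/-- a `p'`-element centralizing `V` and `P / V` is trivial. -/
theorem Amb.eq_one_of_stab (hA : Amb p P M) {V : Subgroup G} (hVP : V ≤ P) {k : G}
    (hc : (orderOf k).Coprime p) (hkV : k ∈ Subgroup.centralizer (V : Set G))
    (hkP : ∀ g ∈ P, ⁅k, g⁆ ∈ V) : k = 1 := by
  have h1 := commute_of_stab_chain hA.Pp hVP hc
    (fun w hw => (Subgroup.mem_centralizer_iff.1 hkV w hw).symm) hkP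
  have hkCP : k ∈ Subgroup.centralizer (P : Set G) := by
    rw [Subgroup.mem_centralizer_iff]
    intro g hg
    exact (h1 g hg).symm
  obtain ⟨n, hn⟩ := exists_pow_eq_one_of_isPGroup hA.Pp (hA.CP hkCP)
  exact eq_one_of_coprime_of_pow hc hn

/-- `C_{EF}(V)` is a `p`-group for non-exceptional blocks with the same `V`. -/
theorem Blk.K_pgroup (hA : Amb p P M) (hE : Blk p P M E W Z B) (hF : Blk p P M F W' Z' B')
    (hQE : E ⊓ P = ⁅M, E⁆) (hQF : F ⊓ P = ⁅M, F⁆) (hV : ⁅M, E⁆ = ⁅M, F⁆) :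
    IsPGroup p ((E ⊔ F) ⊓ Subgroup.centralizer ((⁅M, E⁆ : Subgroup G) : Set G) : Subgroup G) := by
  have hL : E ⊔ F ≤ secCent P ⁅M, E⁆ := by
    apply sup_le (hE.le_secCent_P hA hQE)
    rw [hV]; exact hF.le_secCent_P hA hQF
  rintro ⟨k, hk⟩
  obtain ⟨n, m, hm, hnm⟩ := Nat.exists_eq_pow_mul_and_not_dvd (orderOf_pos k).ne' p
    (Fact.out : p.Prime).ne_one
  refine ⟨n, ?_⟩
  apply Subtype.ext
  show k ^ (p ^ n) = 1
  have hK' : k ^ (p ^ n) ∈ (E ⊔ F) ⊓ Subgroup.centralizer ((⁅M, E⁆ : Subgroup G) : Set G) :=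
    pow_mem hk _
  have hord : (k ^ (p ^ n)) ^ m = 1 := by
    rw [← pow_mul, ← hnm, pow_orderOf_eq_one]
  have hc : (orderOf (k ^ (p ^ n))).Coprime p := by
    have hd : orderOf (k ^ (p ^ n)) ∣ m := orderOf_dvd_of_pow_eq_one hord
    have hmp : m.Coprime p := ((Fact.out : p.Prime).coprime_iff_not_dvd.2 hm).symm
    exact Nat.Coprime.coprime_dvd_left hd hmp
  exact hA.eq_one_of_stab (Blk.V_le_P hA) hc hK'.2 (hL hK'.1).2.2

/-- `F ≤ E K` with `K` a `p`-group normalizing `E` implies `F ≤ E`. -/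
theorem Blk.le_of_le_sup_pgroup (hE : Blk p P M E W Z B) (hF : Blk p P M F W' Z' B') {K : Subgroup G}
    (hKp : IsPGroup p K) (hKE : K ≤ Subgroup.normalizer (E : Set G)) (h : F ≤ E ⊔ K) : F ≤ E := by
  apply hF.res_le
  intro g hg hc
  have := mem_pResidualOf (h hg) hc
  rwa [pResidualOf_sup_eq hE.res hKp hKE] at this

/-- two non-exceptional blocks normalizing each other, with the same `V`, inducing the same automorphisms
of `V`, are equal. -/
theorem Blk.le_of_cover (hA : Amb p P M) (hE : Blk p P M E W Z B) (hF : Blk p P M F W' Z' B')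
    (hFE : F ≤ Subgroup.normalizer (E : Set G))
    (hQE : E ⊓ P = ⁅M, E⁆) (hQF : F ⊓ P = ⁅M, F⁆) (hV : ⁅M, E⁆ = ⁅M, F⁆)
    (c1 : ∀ f ∈ F, ∃ g ∈ E, g⁻¹ * f ∈ Subgroup.centralizer ((⁅M, E⁆ : Subgroup G) : Set G)) :
    F ≤ E := by
  apply hE.le_of_le_sup_pgroup hF (hE.K_pgroup hA hF hQE hQF hV)
  · exact inf_le_left.trans (sup_le Subgroup.le_normalizer hFE)
  · intro f hf
    obtain ⟨g, hg, hgf⟩ := c1 f hf
    have : f = g * (g⁻¹ * f) := by group
    rw [this]
    apply mul_mem (Subgroup.mem_sup_left hg)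
    apply Subgroup.mem_sup_right
    exact ⟨mul_mem (Subgroup.mem_sup_left (inv_mem hg)) (Subgroup.mem_sup_right hf), hgf⟩


/-! ### small type, `p = 2` -/

theorem Blk.small2_fpf (hA : Amb p P M) (hE : Blk p P M E W Z B) (hs : Small2 p P E W Z) {e : G}
    (he : e ∈ E) (heP : e ∉ P) {v : G} (hv : v ∈ ⁅M, E⁆) (h : e * v * e⁻¹ = v) : v = 1 := by
  have h2 : (e * e) * v * (e * e)⁻¹ = v := by
    have : (e * e) * v * (e * e)⁻¹ = e * (e * v * e⁻¹) * e⁻¹ := by group
    rw [this, h, h]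
  have hvC : v ∈ Subgroup.centralizer (E : Set G) := by
    rw [Subgroup.mem_centralizer_iff]
    intro x hx
    have h3 : x * v * x⁻¹ = v := by
      rcases hE.small2_conj hA hs he heP hx hv with h' | h' | h'
      · exact h'
      · rw [h', h]
      · rw [h', h2]
    calc x * v = (x * v * x⁻¹) * x := by group
      _ = v * x := by rw [h3]
  have : v ∈ ⁅M, E⁆ ⊓ Subgroup.centralizer (E : Set G) := ⟨hv, hvC⟩
  rw [hE.small2_Y hA hs] at this
  exact Subgroup.mem_bot.1 this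

/-- `V = {1, v, v^e, v^{e²}}`. -/
theorem Blk.small2_V_eq (hA : Amb p P M) (hE : Blk p P M E W Z B) (hs : Small2 p P E W Z) {e : G}
    (he : e ∈ E) (heP : e ∉ P) {v : G} (hv : v ∈ ⁅M, E⁆) (hv1 : v ≠ 1) :
    ∀ w ∈ ⁅M, E⁆, w = 1 ∨ w = v ∨ w = e * v * e⁻¹ ∨ w = (e * e) * v * (e * e)⁻¹ := by
  classical
  have heV : e ∈ Subgroup.normalizer ((⁅M, E⁆ : Subgroup G) : Set G) := Blk.nV hA (Blk.E_le_nE he)
  have he3 : e * e * e ∈ P := by
    have := pow_mem_of_index hA.Pn hs.idx he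
    rwa [pow_succ, pow_two] at this
  have hc3 : (e * e * e) * v * (e * e * e)⁻¹ = v := by
    rw [(Subgroup.mem_centralizer_iff.1 (Blk.P_le_cV hA he3) v hv).symm]; group
  set v₁ := e * v * e⁻¹ with hv₁
  set v₂ := (e * e) * v * (e * e)⁻¹ with hv₂
  have hv₁V : v₁ ∈ ⁅M, E⁆ := conj_mem_of_mem_normalizer heV hv
  have hv₂V : v₂ ∈ ⁅M, E⁆ := conj_mem_of_mem_normalizer (mul_mem heV heV) hv
  have n1 : v₁ ≠ v := fun h => hv1 (hE.small2_fpf hA hs he heP hv h)
  have n2 : v₂ ≠ v := by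
    intro h
    apply n1
    have : v₁ = e * v₂ * e⁻¹ := by
      rw [h]
    have e1 : e * v₂ * e⁻¹ = (e * e * e) * v * (e * e * e)⁻¹ := by rw [hv₂]; group
    rw [this, e1, hc3]
  have n3 : v₁ ≠ v₂ := by
    intro h
    apply n1
    have e1 : v₂ = e * v₁ * e⁻¹ := by rw [hv₂, hv₁]; group
    rw [e1] at h
    have : v = e⁻¹ * v₁ * e := by rw [hv₁]; group
    calc v₁ = e⁻¹ * (e * v₁ * e⁻¹) * e := by group
      _ = e⁻¹ * v₁ * e := by rw [← h]
      _ = v := this.symm
  have n4 : v₁ ≠ 1 := by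
    intro h
    apply hv1
    have : v = e⁻¹ * v₁ * e := by rw [hv₁]; group
    rw [this, h]; group
  have n5 : v₂ ≠ 1 := by
    intro h
    apply hv1
    have : v = (e * e)⁻¹ * v₂ * (e * e) := by rw [hv₂]; group
    rw [this, h]; group
  let S : Finset G := {1, v, v₁, v₂}
  have hS : S.card = 4 := by
    show (insert 1 (insert v (insert v₁ ({v₂} : Finset G)))).card = 4
    rw [Finset.card_insert_of_notMem, Finset.card_insert_of_notMem, Finset.card_insert_of_notMem,
      Finset.card_singleton]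
    · simp only [Finset.mem_singleton]; exact n3
    · simp only [Finset.mem_insert, Finset.mem_singleton, not_or]
      exact ⟨fun h => n1 h.symm, fun h => n2 h.symm⟩
    · simp only [Finset.mem_insert, Finset.mem_singleton, not_or]
      exact ⟨fun h => hv1 h.symm, fun h => n4 h.symm, fun h => n5 h.symm⟩
  have hsub : (↑S : Set G) ⊆ ((⁅M, E⁆ : Subgroup G) : Set G) := by
    intro x hx
    simp only [S, Finset.coe_insert, Finset.coe_singleton, Set.mem_insert_iff,
      Set.mem_singleton_iff] at hx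
    rcases hx with rfl | rfl | rfl | rfl
    · exact one_mem _
    · exact hv
    · exact hv₁V
    · exact hv₂V
  have hcard : (((⁅M, E⁆ : Subgroup G) : Set G)).ncard ≤ (↑S : Set G).ncard := by
    rw [Set.ncard_coe_finset, hS]
    have : (((⁅M, E⁆ : Subgroup G) : Set G)).ncard = Nat.card (⁅M, E⁆ : Subgroup G) :=
      (Nat.card_coe_set_eq _).symm
    rw [this, hE.small2_cardV hA hs]
  have heq := Set.eq_of_subset_of_ncard_le hsub hcard (Set.toFinite _)
  intro w hw
  have : w ∈ (↑S : Set G) := by rw [heq]; exact hw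
  simpa only [S, Finset.coe_insert, Finset.coe_singleton, Set.mem_insert_iff,
    Set.mem_singleton_iff] using this


theorem Blk.exists_V_ne_one (hE : Blk p P M E W Z B) : ∃ v ∈ ⁅M, E⁆, v ≠ 1 := by
  by_contra h
  push Not at h
  apply hE.Vne
  rw [eq_bot_iff]
  intro x hx
  rw [Subgroup.mem_bot]
  exact h x hx

/-- two blocks of small type (`p = 2`) with the same `V` and `[E, F] ≤ P`: every element of `F` acts on `V` like
an element of `E`. -/
theorem Blk.small2_cover (hA : Amb p P M) (hE : Blk p P M E W Z B) (hF : Blk p P M F W' Z' B')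
    (hsE : Small2 p P E W Z) (hsF : Small2 p P F W' Z') (hEF : ⁅E, F⁆ ≤ P) (hV : ⁅M, E⁆ = ⁅M, F⁆) :
    ∀ f ∈ F, ∃ g ∈ E, g⁻¹ * f ∈ Subgroup.centralizer ((⁅M, E⁆ : Subgroup G) : Set G) := by
  intro f hf
  by_cases hfP : f ∈ P
  · exact ⟨1, one_mem _, by simpa using Blk.P_le_cV hA hfP⟩
  obtain ⟨e, he, heP⟩ := hE.exists_not_mem_P hA
  obtain ⟨v, hv, hv1⟩ := hE.exists_V_ne_one
  have heV : e ∈ Subgroup.normalizer ((⁅M, E⁆ : Subgroup G) : Set G) := Blk.nV hA (Blk.E_le_nE he)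
  have hfV : f ∈ Subgroup.normalizer ((⁅M, E⁆ : Subgroup G) : Set G) := by
    rw [hV]; exact Blk.nV hA (Blk.E_le_nE hf)
  set w := f * v * f⁻¹ with hw
  have hwV : w ∈ ⁅M, E⁆ := conj_mem_of_mem_normalizer hfV hv
  have hwv : w ≠ v := by
    intro h
    exact hv1 (hF.small2_fpf hA hsF hf hfP (hV ▸ hv) h)
  have hw1 : w ≠ 1 := by
    intro h
    apply hv1
    have : v = f⁻¹ * w * f := by rw [hw]; group
    rw [this, h]; group
  -- `g ∈ {e, e²}` with `g v g⁻¹ = w`
  obtain ⟨g, hg, hge, hgv⟩ : ∃ g ∈ E, g * e = e * g ∧ g * v * g⁻¹ = w := by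
    rcases hE.small2_V_eq hA hsE he heP hv hv1 w hwV with h | h | h | h
    · exact absurd h hw1
    · exact absurd h hwv
    · exact ⟨e, he, rfl, h.symm⟩
    · exact ⟨e * e, mul_mem he he, by group, h.symm⟩
  refine ⟨g, hg, ?_⟩
  set k := g⁻¹ * f with hk
  have hgV : g ∈ Subgroup.normalizer ((⁅M, E⁆ : Subgroup G) : Set G) := Blk.nV hA (Blk.E_le_nE hg)
  have hkV : k ∈ Subgroup.normalizer ((⁅M, E⁆ : Subgroup G) : Set G) := mul_mem (inv_mem hgV) hfV
  have hkv : k * v * k⁻¹ = v := by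
    have : k * v * k⁻¹ = g⁻¹ * (f * v * f⁻¹) * g := by rw [hk]; group
    rw [this, ← hw, ← hgv]; group
  have hcP : ⁅k, e⁆ ∈ P := by
    have e1 : ⁅k, e⁆ = g⁻¹ * ⁅f, e⁆ * (e * g * e⁻¹) := by
      rw [hk]; simp only [commutatorElement_def]; group
    have e2 : e * g * e⁻¹ = g := by rw [← hge]; group
    rw [e1, e2]
    have h1 : ⁅f, e⁆ ∈ P := by
      rw [commElt_inv_swap]
      exact inv_mem (hEF (Subgroup.commutator_mem_commutator he hf))
    have := hA.Pn.conj_mem _ h1 g⁻¹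
    simpa using this
  have hstep : ∀ y ∈ ⁅M, E⁆, k * y * k⁻¹ = y → k * (e * y * e⁻¹) * k⁻¹ = e * y * e⁻¹ := by
    intro y hy hfix
    have e1 : k * (e * y * e⁻¹) * k⁻¹ = ⁅k, e⁆ * (e * (k * y * k⁻¹) * e⁻¹) * (⁅k, e⁆)⁻¹ := by
      simp only [commutatorElement_def]; group
    rw [e1, hfix]
    have hy' : e * y * e⁻¹ ∈ ⁅M, E⁆ := conj_mem_of_mem_normalizer heV hy
    rw [(Subgroup.mem_centralizer_iff.1 (Blk.P_le_cV hA hcP) _ hy').symm]; group
  rw [Subgroup.mem_centralizer_iff]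
  intro x hx
  have hfix : k * x * k⁻¹ = x := by
    rcases hE.small2_V_eq hA hsE he heP hv hv1 x hx with h | h | h | h
    · rw [h]; group
    · rw [h]; exact hkv
    · rw [h]; exact hstep v hv hkv
    · have e1 : (e * e) * v * (e * e)⁻¹ = e * (e * v * e⁻¹) * e⁻¹ := by group
      rw [h, e1]
      exact hstep _ (conj_mem_of_mem_normalizer heV hv) (hstep v hv hkv)
  calc x * k = (k * x * k⁻¹) * k := by rw [hfix]
    _ = k * x := by group

/-- two blocks of small type, `p = 2`, normalizing each other. -/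
theorem Blk.nn_small2 (hA : Amb p P M) (hE : Blk p P M E W Z B) (hF : Blk p P M F W' Z' B')
    (hsE : Small2 p P E W Z) (hsF : Small2 p P F W' Z')
    (hFE : F ≤ Subgroup.normalizer (E : Set G)) (hEF : E ≤ Subgroup.normalizer (F : Set G)) :
    E = F ∨ ⁅E, F⁆ = ⊥ := by
  haveI : Fact (Nat.Prime 3) := ⟨by norm_num⟩
  by_cases hI : E ⊓ F ≤ P
  · -- `[E, F] ≤ P`
    have hc : ⁅E, F⁆ ≤ P := by
      refine le_trans (le_inf ?_ ?_) hI
      · rw [Subgroup.commutator_comm]
        exact commutator_le_of_le_normalizer le_rfl hFE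
      · exact commutator_le_of_le_normalizer le_rfl hEF
    have hc' : ⁅F, E⁆ ≤ P := by rw [Subgroup.commutator_comm]; exact hc
    have hQE := hE.small2_QV hsE
    have hQF := hF.small2_QV hsF
    rcases Blk.tri hA hF hFE with h1 | h1
    · right; exact hE.caseC_nonexc hA hF hc hQE h1
    rcases Blk.tri hA hE hEF with h2 | h2
    · right
      rw [Subgroup.commutator_comm]
      exact hF.caseC_nonexc hA hE hc' hQF h2
    -- `V_E = V_F`
    have hV : ⁅M, E⁆ = ⁅M, F⁆ := by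
      apply le_antisymm
      · rw [← h2, Subgroup.commutator_comm]
        exact commutator_le_of_le_normalizer le_rfl (hEF.trans (Blk.nV hA))
      · rw [← h1, Subgroup.commutator_comm]
        exact commutator_le_of_le_normalizer le_rfl (hFE.trans (Blk.nV hA))
    left
    apply le_antisymm
    · exact hF.le_of_cover hA hE hEF hQF hQE hV.symm (hF.small2_cover hA hE hsF hsE hc' hV.symm)
    · exact hE.le_of_cover hA hF hFE hQE hQF hV (hE.small2_cover hA hF hsE hsF hc hV)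
  · -- some `x ∈ E ∩ F` outside `P`: then `E = F`
    left
    obtain ⟨x, hx, hxP⟩ := SetLike.not_le_iff_exists.1 hI
    apply le_antisymm
    · apply hE.le_of_le_sup hA hF
      intro y hy
      obtain ⟨i, -, hq⟩ := cosets_of_prime_index hA.Pn hsE.idx hx.1 hxP hy
      have : y = x ^ i * ((x ^ i)⁻¹ * y) := by group
      rw [this]
      exact mul_mem (Subgroup.mem_sup_left (pow_mem hx.2 i)) (Subgroup.mem_sup_right hq)
    · apply hF.le_of_le_sup hA hE
      intro y hy
      obtain ⟨i, -, hq⟩ := cosets_of_prime_index hA.Pn hsF.idx hx.2 hxP hy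
      have : y = x ^ i * ((x ^ i)⁻¹ * y) := by group
      rw [this]
      exact mul_mem (Subgroup.mem_sup_left (pow_mem hx.1 i)) (Subgroup.mem_sup_right hq)

end Cfsg.Agent.Helper5.SB
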