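import Mathlib
import Cfsg.Agent.Helper5.SBG

set_option autoImplicit false
set_option linter.unusedSectionVars false
set_option linter.style.haveILetI false

/-!
Helper5, S2986: blocks of small type for `p = 3` (`E / Q ≅ Q₈`): the action on `V`, using the `GL₂(3)` lemma.
-/

namespace Cfsg.Agent.Helper5.SB

open scoped commutatorElement
open Cfsg.Agent.Helper9.BB

universe u

variable {G : Type u} [Group G]

theorem mem_normalizer_bot (g : G) : g ∈ Subgroup.normalizer (((⊥ : Subgroup G) : Subgroup G) : Set G) := by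
  rw [Subgroup.mem_normalizer_iff]
  intro y
  simp only [Subgroup.mem_bot]
  constructor
  · intro h; rw [h]; group
  · intro h
    have : y = g⁻¹ * (g * y * g⁻¹) * g := by group
    rw [this, h]; group

/-- unpacked data of a block of small type, `p = 3`. -/
structure S3Data (P E : Subgroup G) (t a a' : G) : Prop where
  tE : t ∈ E
  tP : t ∉ P
  t2 : t * t ∈ P
  tc : ∀ e ∈ E, ⁅t, e⁆ ∈ P
  cos : ∀ x ∈ E, x ∈ P ∨ x * t⁻¹ ∈ P ∨ x * x * t⁻¹ ∈ P
  aE : a ∈ E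
  a'E : a' ∈ E
  nc : ⁅a, a'⁆ ∉ P

variable {p : ℕ} {P M E W Z B F W' Z' B' : Subgroup G}

theorem Small3.data (hs : Small3 p P E W Z) : ∃ t a a' : G, S3Data P E t a a' := by
  obtain ⟨t, htE, htP, ht2, htc, hcos, x, hx, y, hy, hxy⟩ := hs.tex
  exact ⟨t, x, y, htE, htP, ht2, htc, hcos, hx, hy, hxy⟩

section

variable {t a a' : G}

theorem S3Data.sq_of_comm (hPn : P.Normal) (d : S3Data P E t a a') {x y : G} (hx : x ∈ E) (hy : y ∈ E)
    (hxy : ⁅x, y⁆ ∉ P) : x * x * t⁻¹ ∈ P := by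
  rcases d.cos x hx with h | h | h
  · exfalso
    apply hxy
    have e1 : ⁅x, y⁆ = x * (y * x⁻¹ * y⁻¹) := by simp only [commutatorElement_def]; group
    rw [e1]
    exact mul_mem h (hPn.conj_mem _ (inv_mem h) y)
  · exfalso
    apply hxy
    -- `x = q t`
    have e1 : ⁅x, y⁆ = (x * t⁻¹) * ⁅t, y⁆ * (y * (x * t⁻¹)⁻¹ * y⁻¹) := by
      simp only [commutatorElement_def]; group
    rw [e1]
    exact mul_mem (mul_mem h (d.tc y hy)) (hPn.conj_mem _ (inv_mem h) y)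
  · exact h

theorem S3Data.a_sq (hPn : P.Normal) (d : S3Data P E t a a') : a * a * t⁻¹ ∈ P :=
  d.sq_of_comm hPn d.aE d.a'E d.nc

theorem S3Data.a'_sq (hPn : P.Normal) (d : S3Data P E t a a') : a' * a' * t⁻¹ ∈ P := by
  apply d.sq_of_comm hPn d.a'E d.aE
  intro h
  apply d.nc
  rw [commElt_inv_swap]
  exact inv_mem h

end

variable [Finite G] [Fact p.Prime] {t a a' : G}

/-- `t` inverts `V`. -/
theorem Blk.s3_inv (hA : Amb p P M) (hE : Blk p P M E W Z B) (hs : Small3 p P E W Z)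
    (d : S3Data P E t a a') : ∀ v ∈ ⁅M, E⁆, t * v * t⁻¹ = v⁻¹ :=
  hE.small3_inv hA hs.p3 d.tE d.tP d.t2 d.tc

/-- if `x² ∈ t P` then `x²` inverts `V`. -/
theorem Blk.s3_sq_inv (hA : Amb p P M) (hE : Blk p P M E W Z B) (hs : Small3 p P E W Z)
    (d : S3Data P E t a a') {x : G} (hx : x * x * t⁻¹ ∈ P) :
    SecInv (⁅M, E⁆ : Subgroup G) ⊥ (x * x) := by
  intro v hv
  rw [Subgroup.mem_bot]
  have h1 : (x * x) * v * (x * x)⁻¹ = (x * x * t⁻¹) * (t * v * t⁻¹) * (x * x * t⁻¹)⁻¹ := by group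
  have h2 : t * v * t⁻¹ ∈ ⁅M, E⁆ := by rw [hE.s3_inv hA hs d v hv]; exact inv_mem hv
  rw [h1, (Subgroup.mem_centralizer_iff.1 (Blk.P_le_cV hA hx) _ h2).symm, hE.s3_inv hA hs d v hv]
  group

/-- `a, a'` do not commute on `V`. -/
theorem Blk.s3_ncomm (hA : Amb p P M) (hE : Blk p P M E W Z B) (d : S3Data P E t a a') :
    ¬ SecTriv (⁅M, E⁆ : Subgroup G) ⊥ ((a' * a)⁻¹ * (a * a')) := by
  intro h
  apply d.nc
  have hc : (a' * a)⁻¹ * (a * a') ∈ P := by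
    apply hE.faith
    refine Subgroup.mem_inf.2 ⟨mul_mem (inv_mem (mul_mem d.a'E d.aE)) (mul_mem d.aE d.a'E), ?_⟩
    rw [Subgroup.mem_centralizer_iff]
    intro v hv
    have := h v hv
    rw [Subgroup.mem_bot, commutatorElement_eq_one_iff_mul_comm] at this
    exact this.symm
  have e1 : ⁅a, a'⁆ = (a' * a) * ((a' * a)⁻¹ * (a * a')) * (a' * a)⁻¹ := by
    simp only [commutatorElement_def]; group
  rw [e1]
  exact hA.Pn.conj_mem _ hc _

/-- elements of `P` act trivially on `V`. -/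
theorem Blk.secTriv_of_mem_P (hA : Amb p P M) {c : G} (hc : c ∈ P) :
    SecTriv (⁅M, E⁆ : Subgroup G) ⊥ c := by
  intro v hv
  rw [Subgroup.mem_bot, commutatorElement_eq_one_iff_mul_comm]
  exact (Subgroup.mem_centralizer_iff.1 (Blk.P_le_cV hA hc) v hv).symm

theorem mem_centralizer_of_secTriv {V : Subgroup G} {c : G} (h : SecTriv V ⊥ c) :
    c ∈ Subgroup.centralizer (V : Set G) := by
  rw [Subgroup.mem_centralizer_iff]
  intro v hv
  have := h v hv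
  rw [Subgroup.mem_bot, commutatorElement_eq_one_iff_mul_comm] at this
  exact this.symm

/-- case `V_E = V_F`, `[E, F] ≤ P`, both of small type (`p = 3`): impossible. -/
theorem Blk.caseA_small3 (hD : Q8Stmt.{u}) (hA : Amb p P M) (hE : Blk p P M E W Z B)
    (hF : Blk p P M F W' Z' B') (hsE : Small3 p P E W Z) (hsF : Small3 p P F W' Z')
    (hEF : ⁅E, F⁆ ≤ P) (hV : ⁅M, E⁆ = ⁅M, F⁆) : False := by
  obtain ⟨t, a, a', d⟩ := hsE.data
  obtain ⟨s, b, b', d'⟩ := hsF.data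
  have hnV : ∀ x ∈ E, x ∈ Subgroup.normalizer ((⁅M, E⁆ : Subgroup G) : Set G) :=
    fun x hx => Blk.nV hA (Blk.E_le_nE hx)
  have hnV' : ∀ x ∈ F, x ∈ Subgroup.normalizer ((⁅M, E⁆ : Subgroup G) : Set G) := by
    intro x hx; rw [hV]; exact Blk.nV hA (Blk.E_le_nE hx)
  have hcomm : ∀ x ∈ E, SecTriv (⁅M, E⁆ : Subgroup G) ⊥ ((x * b)⁻¹ * (b * x)) := by
    intro x hx
    apply Blk.secTriv_of_mem_P hA
    have e1 : (x * b)⁻¹ * (b * x) = (⁅x⁻¹, b⁻¹⁆)⁻¹ := by simp only [commutatorElement_def]; group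
    rw [e1]
    exact inv_mem (hEF (Subgroup.commutator_mem_commutator (inv_mem hx) (inv_mem d'.aE)))
  have hib : SecInv (⁅M, E⁆ : Subgroup G) ⊥ (b * b) := by
    rw [hV]; exact hF.s3_sq_inv hA hsF d' (d'.a_sq hA.Pn)
  exact q8_sec_no_commuting hD (hE.small3_sec9 hA hsE) (hnV a d.aE) (mem_normalizer_bot a)
    (hnV a' d.a'E) (mem_normalizer_bot a') (hnV' b d'.aE) (mem_normalizer_bot b)
    (hE.s3_sq_inv hA hsE d (d.a_sq hA.Pn)) (hE.s3_sq_inv hA hsE d (d.a'_sq hA.Pn)) hib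
    (hE.s3_ncomm hA d) (hcomm a d.aE) (hcomm a' d.a'E)

/-- two blocks of small type (`p = 3`) with the same `V`: every element of `F` acts on `V` like an element of `E`. -/
theorem Blk.small3_cover (hD : Q8Stmt.{u}) (hA : Amb p P M) (hE : Blk p P M E W Z B)
    (hF : Blk p P M F W' Z' B') (hsE : Small3 p P E W Z) (hsF : Small3 p P F W' Z')
    (hV : ⁅M, E⁆ = ⁅M, F⁆) :
    ∀ f ∈ F, ∃ g ∈ E, g⁻¹ * f ∈ Subgroup.centralizer ((⁅M, E⁆ : Subgroup G) : Set G) := by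
  obtain ⟨t, a, a', d⟩ := hsE.data
  obtain ⟨s, b, b', d'⟩ := hsF.data
  have hnV : ∀ x ∈ E, x ∈ Subgroup.normalizer ((⁅M, E⁆ : Subgroup G) : Set G) :=
    fun x hx => Blk.nV hA (Blk.E_le_nE hx)
  have hnV' : ∀ x ∈ F, x ∈ Subgroup.normalizer ((⁅M, E⁆ : Subgroup G) : Set G) := by
    intro x hx; rw [hV]; exact Blk.nV hA (Blk.E_le_nE hx)
  intro f hf
  rcases d'.cos f hf with h | h | h
  · exact ⟨1, one_mem _, by simpa using Blk.P_le_cV hA h⟩
  · -- `f = q s`, and `s` acts like `t`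
    refine ⟨t, d.tE, ?_⟩
    rw [Subgroup.mem_centralizer_iff]
    intro v hv
    have hvF : v ∈ ⁅M, F⁆ := hV ▸ hv
    have h1 : s * v * s⁻¹ = v⁻¹ := hF.s3_inv hA hsF d' v hvF
    have h2 : t * v * t⁻¹ = v⁻¹ := hE.s3_inv hA hsE d v hv
    have h3 : (f * s⁻¹) * v⁻¹ = v⁻¹ * (f * s⁻¹) :=
      (Subgroup.mem_centralizer_iff.1 (Blk.P_le_cV hA h) _ (inv_mem hv)).symm
    have h4 : (t⁻¹ * f) * v * (t⁻¹ * f)⁻¹ = v := by
      have e1 : (t⁻¹ * f) * v * (t⁻¹ * f)⁻¹ = t⁻¹ * ((f * s⁻¹) * (s * v * s⁻¹) * (f * s⁻¹)⁻¹) * t := by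
        group
      rw [e1, h1, h3]
      have e2 : t⁻¹ * (v⁻¹ * (f * s⁻¹) * (f * s⁻¹)⁻¹) * t = t⁻¹ * (t * v * t⁻¹) * t := by
        rw [h2]; group
      rw [e2]; group
    calc v * (t⁻¹ * f) = ((t⁻¹ * f) * v * (t⁻¹ * f)⁻¹) * (t⁻¹ * f) := by rw [h4]
      _ = (t⁻¹ * f) * v := by group
  · have hif : SecInv (⁅M, E⁆ : Subgroup G) ⊥ (f * f) := by
      rw [hV]; exact hF.s3_sq_inv hA hsF d' h
    obtain ⟨e, he, hte⟩ := q8_sec_mem hD (hE.small3_sec9 hA hsE) (hnV a d.aE) (mem_normalizer_bot a)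
      (hnV a' d.a'E) (mem_normalizer_bot a') (hnV' f hf) (mem_normalizer_bot f)
      (hE.s3_sq_inv hA hsE d (d.a_sq hA.Pn)) (hE.s3_sq_inv hA hsE d (d.a'_sq hA.Pn)) hif
      (hE.s3_ncomm hA d)
    refine ⟨e, ?_, mem_centralizer_of_secTriv hte⟩
    have ha := d.aE
    have ha' := d.a'E
    rcases he with rfl | rfl | rfl | rfl | rfl | rfl
    · exact ha
    · exact mul_mem ha (mul_mem ha ha)
    · exact ha'
    · exact mul_mem ha' (mul_mem ha' ha')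
    · exact mul_mem ha ha'
    · exact mul_mem ha (mul_mem ha (mul_mem ha ha'))

end Cfsg.Agent.Helper5.SB
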