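import Mathlib
import Cfsg.Agent.Helper5.SBH

set_option autoImplicit false
set_option linter.unusedSectionVars false
set_option linter.style.haveILetI false

/-!
Helper5, S2986: exceptional blocks (`p = 3`): basics about the section `Q / W`.
-/

namespace Cfsg.Agent.Helper5.SB

open scoped commutatorElement
open Cfsg.Agent.Helper9.BB

universe u

variable {G : Type u} [Group G] {p : ℕ} {P M E W Z B F W' Z' B' : Subgroup G}

/-- `[Q, Q] ≤ W`, elementwise. -/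
theorem Exc.comm_mem_Z (hx : Exc p P E W Z B) {q u : G} (hq : q ∈ E ⊓ P) (hu : u ∈ E ⊓ P) :
    ⁅q, u⁆ ∈ Z := by
  rw [← hx.QQ]; exact Subgroup.commutator_mem_commutator hq hu

theorem Exc.comm_mem_W (hE : Blk p P M E W Z B) (hx : Exc p P E W Z B) {q u : G} (hq : q ∈ E ⊓ P)
    (hu : u ∈ E ⊓ P) : ⁅q, u⁆ ∈ W :=
  hE.Z_le_W (hx.comm_mem_Z hq hu)

/-- `W` is central in `Q`. -/
theorem Exc.conj_W (hx : Exc p P E W Z B) {q w : G} (hq : q ∈ E ⊓ P) (hw : w ∈ W) : q * w * q⁻¹ = w := by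
  have := Subgroup.mem_centralizer_iff.1 (hx.cW hw) q hq
  rw [this]; group

theorem Exc.Q_le_nW (hx : Exc p P E W Z B) : E ⊓ P ≤ Subgroup.normalizer (W : Set G) := by
  apply le_normalizer_of_forall_conj
  intro q hq w hw
  rw [hx.conj_W hq hw]; exact hw

/-- `Q` acts trivially on `Q / W`. -/
theorem Exc.Q_secTriv (hE : Blk p P M E W Z B) (hx : Exc p P E W Z B) {q : G} (hq : q ∈ E ⊓ P) :
    SecTriv (E ⊓ P) W q := fun _ hu => hx.comm_mem_W hE hq hu

theorem Exc.Q_ne_W (hx : Exc p P E W Z B) : E ⊓ P ≠ W := by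
  intro h
  apply hx.Zne
  rw [← hx.QQ, Subgroup.commutator_eq_bot_iff_le_centralizer]
  have := hx.cW
  rwa [← h] at this

theorem Exc.nQ (hA : Amb p P M) :
    Subgroup.normalizer (E : Set G) ≤ Subgroup.normalizer ((E ⊓ P : Subgroup G) : Set G) :=
  Blk.nQ hA

/-- `C_{Q/W}(E) = 1`. -/
theorem Exc.fixQ (hA : Amb p P M) (hE : Blk p P M E W Z B) (hx : Exc p P E W Z B) {u : G}
    (hu : u ∈ E ⊓ P) (hfix : ∀ e ∈ E, ⁅u, e⁆ ∈ W) : u ∈ W := by
  have hEW : E ≤ Subgroup.normalizer (W : Set G) := Blk.E_le_nE.trans hE.nW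
  let C : Subgroup G :=
    { carrier := {u | u ∈ E ⊓ P ∧ ∀ e ∈ E, ⁅u, e⁆ ∈ W}
      one_mem' := ⟨one_mem _, fun e _ => by simp⟩
      mul_mem' := by
        rintro a b ⟨ha, h1⟩ ⟨hb, h2⟩
        refine ⟨mul_mem ha hb, fun e he => ?_⟩
        have e1 : ⁅a * b, e⁆ = a * ⁅b, e⁆ * a⁻¹ * ⁅a, e⁆ := by
          simp only [commutatorElement_def]; group
        rw [e1, hx.conj_W ha (h2 e he)]
        exact mul_mem (h2 e he) (h1 e he)
      inv_mem' := by
        rintro a ⟨ha, h1⟩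
        refine ⟨inv_mem ha, fun e he => ?_⟩
        have e1 : ⁅a⁻¹, e⁆ = a⁻¹ * (⁅a, e⁆)⁻¹ * a⁻¹⁻¹ := by
          simp only [commutatorElement_def]; group
        rw [e1, hx.conj_W (inv_mem ha) (inv_mem (h1 e he))]
        exact inv_mem (h1 e he) }
  have hWC : W ≤ C := by
    intro w hw
    refine ⟨hE.WE hw, fun e he => ?_⟩
    have e1 : ⁅w, e⁆ = w * (e * w⁻¹ * e⁻¹) := by simp only [commutatorElement_def]; group
    rw [e1]
    exact mul_mem hw (conj_mem_of_mem_normalizer (hEW he) (inv_mem hw))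
  have hCQ : C ≤ E ⊓ P := fun u hu => hu.1
  have hEC : E ≤ Subgroup.normalizer (C : Set G) := by
    apply le_normalizer_of_forall_conj
    rintro x hx' a ⟨ha, h1⟩
    refine ⟨conj_mem_of_mem_normalizer (Blk.nQ hA (Blk.E_le_nE hx')) ha, fun e he => ?_⟩
    have e1 : ⁅x * a * x⁻¹, e⁆ = x * ⁅a, x⁻¹ * e * x⁆ * x⁻¹ := by
      simp only [commutatorElement_def]; group
    rw [e1]
    exact conj_mem_of_mem_normalizer (hEW hx')
      (h1 _ (mul_mem (mul_mem (inv_mem hx') he) hx'))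
  rcases hx.irrQ C hWC hCQ hEC with h | h
  · have : u ∈ C := ⟨hu, hfix⟩
    rwa [h] at this
  · exfalso
    apply hx.Q_ne_W
    apply le_antisymm _ hE.WE
    rw [← hx.QE, Subgroup.commutator_le]
    intro a ha e he
    have : a ∈ C := by rw [h]; exact ha
    exact this.2 e he

/-- the section `Q / W` of an exceptional block of small type. -/
theorem Exc.sec9 (hE : Blk p P M E W Z B) (hx : Exc p P E W Z B) (hs : Small3 p P E W Z) :
    Sec9 (E ⊓ P : Subgroup G) W where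
  le := hE.WE
  nor := hx.Q_le_nW
  ab := by rw [hx.QQ]; exact hE.Z_le_W
  exp := hx.Qexp
  card := hs.cardQ hx.Q_ne_W


variable {t a a' : G}

theorem S3Data.comm_inv_mem (hPn : P.Normal) (d : S3Data P E t a a') {e : G} (he : e ∈ E) :
    t⁻¹ * (e⁻¹ * t * e) ∈ E ⊓ P := by
  refine Subgroup.mem_inf.2 ⟨?_, ?_⟩
  · exact mul_mem (inv_mem d.tE) (mul_mem (mul_mem (inv_mem he) d.tE) he)
  · have e1 : t⁻¹ * (e⁻¹ * t * e) = (e * t)⁻¹ * ⁅t, e⁆ * (e * t) := by
      simp only [commutatorElement_def]; group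
    rw [e1]
    have := hPn.conj_mem _ (d.tc e he) (e * t)⁻¹
    simpa using this

/-- the central involution `t` of `E / Q` inverts `Q / W`. -/
theorem Exc.t_inv (hA : Amb p P M) (hE : Blk p P M E W Z B) (hx : Exc p P E W Z B)
    (d : S3Data P E t a a') : SecInv (E ⊓ P : Subgroup G) W t := by
  have hUn := hx.Q_le_nW
  have hEQ : E ≤ Subgroup.normalizer ((E ⊓ P : Subgroup G) : Set G) := Blk.E_le_nE.trans (Blk.nQ hA)
  have hEW : E ≤ Subgroup.normalizer (W : Set G) := Blk.E_le_nE.trans hE.nW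
  have hEC : E ≤ Subgroup.normalizer ((secFix (E ⊓ P) W hUn t : Subgroup G) : Set G) := by
    apply le_normalizer_secFix hUn hEQ hEW (hEW d.tE)
    intro e he
    exact hx.Q_secTriv hE (d.comm_inv_mem hA.Pn he)
  have key : ∀ u ∈ E ⊓ P, u * (t * u * t⁻¹) ∈ secFix (E ⊓ P) W hUn t := by
    intro u hu
    have hs : t * u * t⁻¹ ∈ E ⊓ P := conj_mem_of_mem_normalizer (hEQ d.tE) hu
    refine ⟨mul_mem hu hs, ?_⟩
    have e1 : ⁅t, u * (t * u * t⁻¹)⁆ =
        (t * u * t⁻¹) * ⁅t * t, u⁆ * (t * u * t⁻¹)⁻¹ * ⁅t * u * t⁻¹, u⁆ := by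
      simp only [commutatorElement_def]; group
    have ht2 : t * t ∈ E ⊓ P := Subgroup.mem_inf.2 ⟨mul_mem d.tE d.tE, d.t2⟩
    rw [e1, hx.conj_W hs (hx.comm_mem_W hE ht2 hu)]
    exact mul_mem (hx.comm_mem_W hE ht2 hu) (hx.comm_mem_W hE hs hu)
  rcases hx.irrQ _ (le_secFix hUn hE.WE (hEW d.tE)) (secFix_le hUn t) hEC with h | h
  · intro u hu
    have h1 : u * (t * u * t⁻¹) ∈ W := by rw [← h]; exact key u hu
    have e1 : t * u * t⁻¹ * u = u⁻¹ * (u * (t * u * t⁻¹)) * u⁻¹⁻¹ := by group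
    rw [e1, hx.conj_W (inv_mem hu) h1]
    exact h1
  · exfalso
    apply d.tP
    apply hx.faithQ t d.tE
    intro u hu
    have : u ∈ secFix (E ⊓ P) W hUn t := by rw [h]; exact hu
    exact this.2

/-- if `x² ∈ t P` then `x²` inverts `Q / W`. -/
theorem Exc.sq_inv (hA : Amb p P M) (hE : Blk p P M E W Z B) (hx : Exc p P E W Z B)
    (d : S3Data P E t a a') {x : G} (hxE : x ∈ E) (hq : x * x * t⁻¹ ∈ P) :
    SecInv (E ⊓ P : Subgroup G) W (x * x) := by
  intro u hu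
  have hEQ : E ≤ Subgroup.normalizer ((E ⊓ P : Subgroup G) : Set G) := Blk.E_le_nE.trans (Blk.nQ hA)
  have hs : t * u * t⁻¹ ∈ E ⊓ P := conj_mem_of_mem_normalizer (hEQ d.tE) hu
  have hqQ : x * x * t⁻¹ ∈ E ⊓ P :=
    Subgroup.mem_inf.2 ⟨mul_mem (mul_mem hxE hxE) (inv_mem d.tE), hq⟩
  have e1 : (x * x) * u * (x * x)⁻¹ * u = ⁅x * x * t⁻¹, t * u * t⁻¹⁆ * (t * u * t⁻¹ * u) := by
    simp only [commutatorElement_def]; group
  rw [e1]
  exact mul_mem (hx.comm_mem_W hE hqQ hs) (hx.t_inv hA hE d u hu)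

/-- `a, a'` do not commute on `Q / W`. -/
theorem Exc.ncomm (hA : Amb p P M) (hx : Exc p P E W Z B) (d : S3Data P E t a a') :
    ¬ SecTriv (E ⊓ P : Subgroup G) W ((a' * a)⁻¹ * (a * a')) := by
  intro h
  apply d.nc
  have hc : (a' * a)⁻¹ * (a * a') ∈ P :=
    hx.faithQ _ (mul_mem (inv_mem (mul_mem d.a'E d.aE)) (mul_mem d.aE d.a'E)) h
  have e1 : ⁅a, a'⁆ = (a' * a) * ((a' * a)⁻¹ * (a * a')) * (a' * a)⁻¹ := by
    simp only [commutatorElement_def]; group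
  rw [e1]
  exact hA.Pn.conj_mem _ hc _

end Cfsg.Agent.Helper5.SB
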