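import Mathlib
import Cfsg.Agent.Helper5.SBI

set_option autoImplicit false
set_option linter.unusedSectionVars false
set_option linter.style.haveILetI false

/-!
Helper5, S2986, part II: the case `[V_E, F] = 1 = [V_F, E]`, `[E, F] ≤ P` for two exceptional blocks.
-/

namespace Cfsg.Agent.Helper5.SB

open scoped commutatorElement
open Cfsg.Agent.Helper9.BB

universe u

variable {G : Type u} [Group G]

theorem comm_mul_left_of_comm {c a b : G} (h : c * b = b * c) : ⁅c * a, b⁆ = c * ⁅a, b⁆ * c⁻¹ := by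
  have e1 : ⁅c * a, b⁆ = c * ⁅a, b⁆ * c⁻¹ * ⁅c, b⁆ := by simp only [commutatorElement_def]; group
  have e2 : ⁅c, b⁆ = 1 := by rw [commutatorElement_eq_one_iff_mul_comm]; exact h
  rw [e1, e2, mul_one]

theorem comm_mul_right_of_comm {c a b : G} (h : a * c = c * a) : ⁅a, c * b⁆ = c * ⁅a, b⁆ * c⁻¹ := by
  have e1 : ⁅a, c * b⁆ = ⁅a, c⁆ * (c * ⁅a, b⁆ * c⁻¹) := by simp only [commutatorElement_def]; group
  have e2 : ⁅a, c⁆ = 1 := by rw [commutatorElement_eq_one_iff_mul_comm]; exact h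
  rw [e1, e2, one_mul]

variable {p : ℕ} {P M E W Z B F W' Z' B' : Subgroup G}

/-- `[w a, w' b] = [a, b]` for `w, w' ∈ W`, `a, b ∈ Q`. -/
theorem Exc.comm_central (hE : Blk p P M E W Z B) (hx : Exc p P E W Z B) {w w' a b : G} (hw : w ∈ W)
    (hw' : w' ∈ W) (ha : a ∈ E ⊓ P) (hb : b ∈ E ⊓ P) : ⁅w * a, w' * b⁆ = ⁅a, b⁆ := by
  have cw : ∀ q ∈ E ⊓ P, w * q = q * w := fun q hq =>
    (Subgroup.mem_centralizer_iff.1 (hx.cW hw) q hq).symm
  have cw' : ∀ q ∈ E ⊓ P, w' * q = q * w' := fun q hq =>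
    (Subgroup.mem_centralizer_iff.1 (hx.cW hw') q hq).symm
  have hw'b : w' * b ∈ E ⊓ P := mul_mem (hE.WE hw') hb
  have hab : ⁅a, b⁆ ∈ E ⊓ P := by
    rw [commutatorElement_def]
    exact mul_mem (mul_mem (mul_mem ha hb) (inv_mem ha)) (inv_mem hb)
  rw [comm_mul_left_of_comm (cw _ hw'b), comm_mul_right_of_comm (cw' a ha).symm]
  have h1 : w' * ⁅a, b⁆ * w'⁻¹ = ⁅a, b⁆ := by rw [cw' _ hab]; group
  rw [h1]
  rw [cw _ hab]; group

/-- `[Q, Q] = [X, X]` if `Q = X W`. -/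
theorem Exc.Z_eq_of_sup (hE : Blk p P M E W Z B) (hx : Exc p P E W Z B) {X : Subgroup G}
    (hXQ : X ≤ E ⊓ P) (hsup : X ⊔ W = E ⊓ P) : Z = ⁅X, X⁆ := by
  apply le_antisymm
  · rw [← hx.QQ, Subgroup.commutator_le]
    intro a ha b hb
    have hWX : W ≤ Subgroup.normalizer (X : Set G) := by
      apply le_normalizer_of_forall_conj
      intro w hw x hx'
      have := (Subgroup.mem_centralizer_iff.1 (hx.cW hw) x (hXQ hx')).symm
      rw [this]; simpa using hx'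
    rw [← hsup] at ha hb
    obtain ⟨x, hx', w, hw, rfl⟩ := Cfsg.Agent.Helper1.mem_sup_of_le_normalizer hWX ha
    obtain ⟨x', hx'', w', hw', rfl⟩ := Cfsg.Agent.Helper1.mem_sup_of_le_normalizer hWX hb
    have cw : x * w = w * x := (Subgroup.mem_centralizer_iff.1 (hx.cW hw) x (hXQ hx'))
    have cw' : x' * w' = w' * x' := (Subgroup.mem_centralizer_iff.1 (hx.cW hw') x' (hXQ hx''))
    rw [cw, cw', hx.comm_central hE hw hw' (hXQ hx') (hXQ hx'')]
    exact Subgroup.commutator_mem_commutator hx' hx''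
  · rw [← hx.QQ]
    exact Subgroup.commutator_mono hXQ hXQ


variable [Finite G] [Fact p.Prime]

/-- a `p'`-element `f` normalizing `E` with `[E, f] ⊆ P`, centralizing `V` and `Q / W`, centralizes `E`. -/
theorem Exc.centralizes (hA : Amb p P M) (hE : Blk p P M E W Z B) (hx : Exc p P E W Z B) {f : G}
    (hc : (orderOf f).Coprime p) (hfE : f ∈ Subgroup.normalizer (E : Set G))
    (hfEP : ∀ e ∈ E, ⁅f, e⁆ ∈ P) (hfV : ∀ v ∈ ⁅M, E⁆, f * v = v * f)
    (hfQ : ∀ u ∈ E ⊓ P, ⁅f, u⁆ ∈ W) : ∀ e ∈ E, f * e = e * f := by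
  have hfZ : Z ≤ Subgroup.centralizer ({f} : Set G) := by
    rw [← hx.QQ, Subgroup.commutator_le]
    intro u hu u' hu'
    rw [Subgroup.mem_centralizer_iff]
    intro h hh
    rw [Set.mem_singleton_iff] at hh
    subst hh
    have e1 : h * ⁅u, u'⁆ * h⁻¹ = ⁅⁅h, u⁆ * u, ⁅h, u'⁆ * u'⁆ := by
      simp only [commutatorElement_def]; group
    have e2 : h * ⁅u, u'⁆ * h⁻¹ = ⁅u, u'⁆ := by
      rw [e1, hx.comm_central hE (hfQ u hu) (hfQ u' hu') hu hu']
    calc h * ⁅u, u'⁆ = (h * ⁅u, u'⁆ * h⁻¹) * h := by group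
      _ = ⁅u, u'⁆ * h := by rw [e2]
  have hfVc : ⁅M, E⁆ ≤ Subgroup.centralizer ({f} : Set G) := by
    intro v hv
    rw [Subgroup.mem_centralizer_iff]
    intro h hh
    rw [Set.mem_singleton_iff] at hh
    subst hh
    exact hfV v hv
  have hfW : ∀ w ∈ W, f * w = w * f := by
    intro w hw
    have hW : W ≤ Subgroup.centralizer ({f} : Set G) := by
      have h := hE.WVZ
      calc W = ⁅M, E⁆ ⊔ Z := h
        _ ≤ Subgroup.centralizer ({f} : Set G) := sup_le hfVc hfZ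
    exact Subgroup.mem_centralizer_iff.1 (hW hw) f rfl
  have hQp : IsPGroup p (E ⊓ P : Subgroup G) := hA.Pp.to_le inf_le_right
  have hfQ' := commute_of_stab_chain hQp hE.WE hc hfW hfQ
  intro e he
  have hfe : ⁅f, e⁆ ∈ E ⊓ P := by
    refine Subgroup.mem_inf.2 ⟨?_, hfEP e he⟩
    have e1 : ⁅f, e⁆ = (f * e * f⁻¹) * e⁻¹ := by simp only [commutatorElement_def]
    rw [e1]
    exact mul_mem (conj_mem_of_mem_normalizer hfE he) (inv_mem he)
  obtain ⟨k, hk⟩ := exists_pow_eq_one_of_isPGroup hQp hfe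
  exact comm_of_coprime hc (hfQ' _ hfe) hk


/-- `X W = Q` as soon as `X = Q_E ∩ Q_F` is not contained in `W`. -/
theorem Exc.sup_X (hA : Amb p P M) (hE : Blk p P M E W Z B) (hx : Exc p P E W Z B)
    (hEnF : E ≤ Subgroup.normalizer (F : Set G)) (hX : ¬ (E ⊓ P) ⊓ (F ⊓ P) ≤ W) :
    ((E ⊓ P) ⊓ (F ⊓ P)) ⊔ W = E ⊓ P := by
  have hEQ : E ≤ Subgroup.normalizer ((E ⊓ P : Subgroup G) : Set G) := Blk.E_le_nE.trans (Blk.nQ hA)
  have hEQF : E ≤ Subgroup.normalizer ((F ⊓ P : Subgroup G) : Set G) := hEnF.trans (Blk.nQ hA)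
  have hEW : E ≤ Subgroup.normalizer (W : Set G) := Blk.E_le_nE.trans hE.nW
  rcases hx.irrQ _ le_sup_right (sup_le inf_le_left hE.WE)
    (le_normalizer_sup' (le_normalizer_inf' hEQ hEQF) hEW) with h | h
  · exfalso
    apply hX
    rw [← h]; exact le_sup_left
  · exact h

/-- if `Q_E = X W_E` then `X` is not contained in `W_F`. -/
theorem Exc.X_not_le (hA : Amb p P M) (hE : Blk p P M E W Z B) (hF : Blk p P M F W' Z' B')
    (hx : Exc p P E W Z B) (hsup : ((E ⊓ P) ⊓ (F ⊓ P)) ⊔ W = E ⊓ P) :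
    ¬ (E ⊓ P) ⊓ (F ⊓ P) ≤ W' := by
  intro h
  apply hx.Zne
  rw [hx.Z_eq_of_sup hE inf_le_left hsup, Subgroup.commutator_eq_bot_iff_le_centralizer]
  exact h.trans ((hF.W_le_cW hA).trans (Subgroup.centralizer_le h))


/-- the configuration `Q_E = X W_E`, `Q_F = X W_F` with `[V_E, F] = 1 = [V_F, E]`, `[E, F] ≤ P`. -/
structure XCfg (p : ℕ) (P M E W Z B F W' Z' B' : Subgroup G) : Prop where
  hE : Blk p P M E W Z B
  hF : Blk p P M F W' Z' B'
  xE : Exc p P E W Z B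
  xF : Exc p P F W' Z' B'
  hEF : ⁅E, F⁆ ≤ P
  hFE : F ≤ Subgroup.normalizer (E : Set G)
  hEnF : E ≤ Subgroup.normalizer (F : Set G)
  supE : ((E ⊓ P) ⊓ (F ⊓ P)) ⊔ W = E ⊓ P
  supF : ((E ⊓ P) ⊓ (F ⊓ P)) ⊔ W' = F ⊓ P
  cVF : ⁅M, F⁆ ≤ Subgroup.centralizer (E : Set G)

namespace XCfg

variable (c : XCfg p P M E W Z B F W' Z' B')

include c

theorem symm (hcVE : ⁅M, E⁆ ≤ Subgroup.centralizer (F : Set G)) :
    XCfg p P M F W' Z' B' E W Z B where
  hE := c.hF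
  hF := c.hE
  xE := c.xF
  xF := c.xE
  hEF := by rw [Subgroup.commutator_comm]; exact c.hEF
  hFE := c.hEnF
  hEnF := c.hFE
  supE := by rw [inf_comm]; exact c.supF
  supF := by rw [inf_comm]; exact c.supE
  cVF := hcVE

theorem ZZ : Z = Z' := by
  rw [c.xE.Z_eq_of_sup c.hE inf_le_left c.supE, c.xF.Z_eq_of_sup c.hF inf_le_right c.supF]

/-- `X ∩ W_F = Z_F`. -/
theorem X_inf_W' (hA : Amb p P M) : ((E ⊓ P) ⊓ (F ⊓ P)) ⊓ W' ≤ Z' := by
  set X : Subgroup G := (E ⊓ P) ⊓ (F ⊓ P) with hX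
  have hFQ : F ≤ Subgroup.normalizer ((F ⊓ P : Subgroup G) : Set G) := Blk.E_le_nE.trans (Blk.nQ hA)
  have hFQE : F ≤ Subgroup.normalizer ((E ⊓ P : Subgroup G) : Set G) := c.hFE.trans (Blk.nQ hA)
  have hFW : F ≤ Subgroup.normalizer (W' : Set G) := Blk.E_le_nE.trans c.hF.nW
  have hZX : Z' ≤ X := by
    rw [c.xF.Z_eq_of_sup c.hF inf_le_right c.supF]
    exact commutator_le_of_le_normalizer le_rfl Subgroup.le_normalizer
  rcases c.hF.irr (X ⊓ W') (le_inf hZX c.hF.Z_le_W) inf_le_right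
    (le_normalizer_inf' (le_normalizer_inf' hFQE hFQ) hFW) with h | h
  · exact h.le
  · exfalso
    -- `W_F ≤ X ≤ Q_E`, so `V_F ≤ Q_E` is centralized by `E`, hence lies in `Z_E = Z_F ≤ C(F)`
    have hW'X : W' ≤ X := by rw [← h]; exact inf_le_left
    have hVZ : ⁅M, F⁆ ≤ Z := by
      intro v hv
      have hvQ : v ∈ E ⊓ P := (Subgroup.mem_inf.1 (hW'X (c.hF.V_le_W hv))).1
      have hvC : v ∈ Subgroup.centralizer (E : Set G) := c.cVF hv
      have hvW : v ∈ W := by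
        apply c.xE.fixQ hA c.hE hvQ
        intro e he
        have : ⁅v, e⁆ = 1 := by
          rw [commutatorElement_eq_one_iff_mul_comm]
          exact (Subgroup.mem_centralizer_iff.1 hvC e he).symm
        rw [this]; exact one_mem _
      have h := c.hE.ZC
      rw [h]
      exact Subgroup.mem_inf.2 ⟨hvW, hvC⟩
    apply c.hF.Vne
    rw [← c.hF.VV, Subgroup.commutator_eq_bot_iff_le_centralizer]
    rw [c.ZZ] at hVZ
    exact hVZ.trans c.hF.Z_le_cE

/-- elements of `Q_E` as products. -/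
theorem mem_QE {g : G} (hg : g ∈ E ⊓ P) : ∃ x ∈ (E ⊓ P) ⊓ (F ⊓ P), ∃ w ∈ W, g = x * w := by
  have hWX : W ≤ Subgroup.normalizer (((E ⊓ P) ⊓ (F ⊓ P) : Subgroup G) : Set G) := by
    apply le_normalizer_of_forall_conj
    intro w hw x hx'
    have := (Subgroup.mem_centralizer_iff.1 (c.xE.cW hw) x (Subgroup.mem_inf.1 hx').1).symm
    rw [this]; simpa using hx'
  rw [← c.supE] at hg
  exact Cfsg.Agent.Helper1.mem_sup_of_le_normalizer hWX hg

/-- an element normalizing everything which centralizes `Q_F / W_F` centralizes `Q_E / W_E`. -/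
theorem triv_transfer (hA : Amb p P M) {u : G} (huE : u ∈ Subgroup.normalizer (E : Set G))
    (huF : u ∈ Subgroup.normalizer (F : Set G)) (h : SecTriv (F ⊓ P) W' u) :
    SecTriv (E ⊓ P) W u := by
  intro g hg
  obtain ⟨x, hx, w, hw, rfl⟩ := c.mem_QE hg
  have huX : u ∈ Subgroup.normalizer (((E ⊓ P) ⊓ (F ⊓ P) : Subgroup G) : Set G) :=
    normalizer_inf_le _ _ (Subgroup.mem_inf.2 ⟨Blk.nQ hA huE, Blk.nQ hA huF⟩)
  have h1 : ⁅u, x⁆ ∈ W := by
    apply c.hE.Z_le_W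
    rw [c.ZZ]
    apply c.X_inf_W' hA
    refine Subgroup.mem_inf.2 ⟨?_, h x (Subgroup.mem_inf.1 hx).2⟩
    have e1 : ⁅u, x⁆ = (u * x * u⁻¹) * x⁻¹ := by simp only [commutatorElement_def]
    rw [e1]
    exact mul_mem (conj_mem_of_mem_normalizer huX hx) (inv_mem hx)
  have h2 : ⁅u, w⁆ ∈ W := by
    have e1 : ⁅u, w⁆ = (u * w * u⁻¹) * w⁻¹ := by simp only [commutatorElement_def]
    rw [e1]
    exact mul_mem (conj_mem_of_mem_normalizer (c.hE.nW huE) hw) (inv_mem hw)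
  have e1 : ⁅u, x * w⁆ = ⁅u, x⁆ * (x * ⁅u, w⁆ * x⁻¹) := by
    simp only [commutatorElement_def]; group
  rw [e1, c.xE.conj_W (Subgroup.mem_inf.1 hx).1 h2]
  exact mul_mem h1 h2

/-- an element normalizing everything which inverts `Q_F / W_F` inverts `Q_E / W_E`. -/
theorem inv_transfer (hA : Amb p P M) {s : G} (hsE : s ∈ Subgroup.normalizer (E : Set G))
    (hsF : s ∈ Subgroup.normalizer (F : Set G)) (h : SecInv (F ⊓ P) W' s) :
    SecInv (E ⊓ P) W s := by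
  intro g hg
  obtain ⟨x, hx, w, hw, rfl⟩ := c.mem_QE hg
  have hsX : s ∈ Subgroup.normalizer (((E ⊓ P) ⊓ (F ⊓ P) : Subgroup G) : Set G) :=
    normalizer_inf_le _ _ (Subgroup.mem_inf.2 ⟨Blk.nQ hA hsE, Blk.nQ hA hsF⟩)
  have h1 : s * x * s⁻¹ * x ∈ W := by
    apply c.hE.Z_le_W
    rw [c.ZZ]
    apply c.X_inf_W' hA
    exact Subgroup.mem_inf.2 ⟨mul_mem (conj_mem_of_mem_normalizer hsX hx) hx, h x (Subgroup.mem_inf.1 hx).2⟩
  have h2 : s * w * s⁻¹ ∈ W := conj_mem_of_mem_normalizer (c.hE.nW hsE) hw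
  have e1 : s * (x * w) * s⁻¹ * (x * w) = (s * x * s⁻¹ * x) * (x⁻¹ * (s * w * s⁻¹) * x⁻¹⁻¹) * w := by
    group
  rw [e1, c.xE.conj_W (inv_mem (Subgroup.mem_inf.1 hx).1) h2]
  exact mul_mem (mul_mem h1 h2) hw

/-- a block of perfect type cannot occur in an `XCfg`. -/
theorem not_perf (hA : Amb p P M) (hp : Perf p P E) : False := by
  obtain ⟨u, hu, ⟨k, hk⟩, e₀, he₀, hne⟩ := hp.pel
  have huF : u ∈ Subgroup.normalizer (F : Set G) := c.hEnF hu
  have huE : u ∈ Subgroup.normalizer (E : Set G) := Blk.E_le_nE hu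
  have hUn := c.xF.Q_le_nW
  have hFQ : F ≤ Subgroup.normalizer ((F ⊓ P : Subgroup G) : Set G) := Blk.E_le_nE.trans (Blk.nQ hA)
  have hFW : F ≤ Subgroup.normalizer (W' : Set G) := Blk.E_le_nE.trans c.hF.nW
  have huQ : u ∈ Subgroup.normalizer ((F ⊓ P : Subgroup G) : Set G) := Blk.nQ hA huF
  have huW : u ∈ Subgroup.normalizer (W' : Set G) := c.hF.nW huF
  obtain ⟨x, hxQ, hxW, hux⟩ := exists_fixed_sec c.hF.WE c.xF.Q_ne_W.symm hUn
    (hA.Pp.to_le inf_le_right) huQ huW hk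
  have hFC : F ≤ Subgroup.normalizer ((secFix (F ⊓ P) W' hUn u : Subgroup G) : Set G) := by
    apply le_normalizer_secFix hUn hFQ hFW huW
    intro f hf
    apply c.xF.Q_secTriv c.hF
    refine Subgroup.mem_inf.2 ⟨?_, ?_⟩
    · have e1 : u⁻¹ * (f⁻¹ * u * f) = (u⁻¹ * f⁻¹ * u⁻¹⁻¹) * f := by group
      rw [e1]
      exact mul_mem (conj_mem_of_mem_normalizer (inv_mem huF) (inv_mem hf)) hf
    · have e1 : u⁻¹ * (f⁻¹ * u * f) = ⁅u⁻¹, f⁻¹⁆ := by simp only [commutatorElement_def]; group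
      rw [e1]
      exact c.hEF (Subgroup.commutator_mem_commutator (inv_mem hu) (inv_mem hf))
  rcases c.xF.irrQ _ (le_secFix hUn c.hF.WE huW) (secFix_le hUn u) hFC with h | h
  · apply hxW
    rw [← h]; exact ⟨hxQ, hux⟩
  · apply hne
    have huP : u ∈ P := by
      apply c.xE.faithQ u hu
      apply c.triv_transfer hA huE huF
      intro y hy
      have : y ∈ secFix (F ⊓ P) W' hUn u := by rw [h]; exact hy
      exact this.2
    have e1 : ⁅u, e₀⁆ = u * (e₀ * u⁻¹ * e₀⁻¹) := by simp only [commutatorElement_def]; group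
    rw [e1]
    exact mul_mem huP (hA.Pn.conj_mem _ (inv_mem huP) _)

/-- an `XCfg` does not exist. -/
theorem false (hD : Q8Stmt.{u}) (hA : Amb p P M)
    (hcVE : ⁅M, E⁆ ≤ Subgroup.centralizer (F : Set G)) : False := by
  have hsE : Small3 p P E W Z := by
    rcases c.hE.type with h | h | h
    · exact (c.not_perf hA h).elim
    · exfalso
      have h2 := h.p2
      have h3 := c.xE.p3
      omega
    · exact h
  have hsF : Small3 p P F W' Z' := by
    rcases c.hF.type with h | h | h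
    · exact ((c.symm hcVE).not_perf hA h).elim
    · exfalso
      have h2 := h.p2
      have h3 := c.xE.p3
      omega
    · exact h
  obtain ⟨t, a, a', d⟩ := hsE.data
  obtain ⟨s, b, b', d'⟩ := hsF.data
  have hnQ : ∀ x ∈ E, x ∈ Subgroup.normalizer ((E ⊓ P : Subgroup G) : Set G) :=
    fun x hx => Blk.nQ hA (Blk.E_le_nE hx)
  have hnW : ∀ x ∈ E, x ∈ Subgroup.normalizer (W : Set G) := fun x hx => c.hE.nW (Blk.E_le_nE hx)
  have hbE : b ∈ Subgroup.normalizer (E : Set G) := c.hFE d'.aE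
  have hcomm : ∀ x ∈ E, SecTriv (E ⊓ P) W ((x * b)⁻¹ * (b * x)) := by
    intro x hx
    apply c.xE.Q_secTriv c.hE
    refine Subgroup.mem_inf.2 ⟨?_, ?_⟩
    · have e1 : (x * b)⁻¹ * (b * x) = (b⁻¹ * x⁻¹ * b⁻¹⁻¹) * x := by group
      rw [e1]
      exact mul_mem (conj_mem_of_mem_normalizer (inv_mem hbE) (inv_mem hx)) hx
    · have e1 : (x * b)⁻¹ * (b * x) = (⁅x⁻¹, b⁻¹⁆)⁻¹ := by
        simp only [commutatorElement_def]; group
      rw [e1]
      exact inv_mem (c.hEF (Subgroup.commutator_mem_commutator (inv_mem hx) (inv_mem d'.aE)))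
  have hib : SecInv (E ⊓ P) W (b * b) :=
    c.inv_transfer hA (mul_mem hbE hbE) (Blk.E_le_nE (mul_mem d'.aE d'.aE))
      (c.xF.sq_inv hA c.hF d' d'.aE (d'.a_sq hA.Pn))
  exact q8_sec_no_commuting hD (c.xE.sec9 c.hE hsE) (hnQ a d.aE) (hnW a d.aE) (hnQ a' d.a'E)
    (hnW a' d.a'E) (Blk.nQ hA hbE) (c.hE.nW hbE) (c.xE.sq_inv hA c.hE d d.aE (d.a_sq hA.Pn))
    (c.xE.sq_inv hA c.hE d d.a'E (d.a'_sq hA.Pn)) hib (c.xE.ncomm hA d) (hcomm a d.aE)
    (hcomm a' d.a'E)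

end XCfg

/-- case C for two exceptional blocks. -/
theorem Blk.caseC_exc (hD : Q8Stmt.{u}) (hA : Amb p P M) (hE : Blk p P M E W Z B)
    (hF : Blk p P M F W' Z' B') (xE : Exc p P E W Z B) (xF : Exc p P F W' Z' B')
    (hEF : ⁅E, F⁆ ≤ P) (h1 : ⁅⁅M, E⁆, F⁆ = ⊥) (h2 : ⁅⁅M, F⁆, E⁆ = ⊥) : ⁅E, F⁆ = ⊥ := by
  have hFE : F ≤ Subgroup.normalizer (E : Set G) := hE.normalizes_of_comm_le hA hEF
  have hEF' : ⁅F, E⁆ ≤ P := by rw [Subgroup.commutator_comm]; exact hEF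
  have hEnF : E ≤ Subgroup.normalizer (F : Set G) := hF.normalizes_of_comm_le hA hEF'
  rw [Subgroup.commutator_eq_bot_iff_le_centralizer] at h1 h2
  by_cases hX : (E ⊓ P) ⊓ (F ⊓ P) ≤ W
  · rw [Subgroup.commutator_eq_bot_iff_le_centralizer, Subgroup.le_centralizer_iff]
    apply hF.res_le
    intro f hf hc
    rw [Subgroup.mem_centralizer_iff]
    intro e he
    have hfP : ∀ e ∈ E, ⁅f, e⁆ ∈ P := by
      intro e he
      exact hEF' (Subgroup.commutator_mem_commutator hf he)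
    have key := Exc.centralizes hA hE xE hc (hFE hf) hfP
      (fun v hv => Subgroup.mem_centralizer_iff.1 (h1 hv) f hf)
      (fun u hu => by
        apply hX
        have huE : u ∈ E := (Subgroup.mem_inf.1 hu).1
        refine Subgroup.mem_inf.2 ⟨?_, Subgroup.mem_inf.2 ⟨?_, hfP u huE⟩⟩
        · have e1 : ⁅f, u⁆ = (f * u * f⁻¹) * u⁻¹ := by simp only [commutatorElement_def]
          rw [e1]
          exact mul_mem (conj_mem_of_mem_normalizer (Blk.nQ hA (hFE hf)) hu) (inv_mem hu)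
        · have e1 : ⁅f, u⁆ = f * (u * f⁻¹ * u⁻¹) := by simp only [commutatorElement_def]; group
          rw [e1]
          exact mul_mem hf (conj_mem_of_mem_normalizer (hEnF huE) (inv_mem hf))) e he
    exact key.symm
  · exfalso
    have supE := xE.sup_X hA hE hEnF hX
    have hX' := xE.X_not_le hA hE hF supE
    have supF : ((E ⊓ P) ⊓ (F ⊓ P)) ⊔ W' = F ⊓ P := by
      have h3 := xF.sup_X hA hF hFE (by rw [inf_comm]; exact hX')
      rw [inf_comm] at h3; exact h3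
    exact XCfg.false ⟨hE, hF, xE, xF, hEF, hFE, hEnF, supE, supF, h2⟩ hD hA h1

end Cfsg.Agent.Helper5.SB
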