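import Mathlib
import Cfsg.Agent.Helper5.SBJ

set_option autoImplicit false
set_option linter.unusedSectionVars false
set_option linter.style.haveILetI false

/-!
Helper5, S2986, part II assembled: `[E, F] ≤ P` implies `E = F` or `[E, F] = 1`.
-/

namespace Cfsg.Agent.Helper5.SB

open scoped commutatorElement
open Cfsg.Agent.Helper9.BB

universe u

variable {G : Type u} [Group G] [Finite G] {p : ℕ} [Fact p.Prime]
variable {P M E W Z B F W' Z' B' : Subgroup G}

/-- if `[V_E, F] = V_F` and `[V_F, E] = V_E` then `V_E = V_F`. -/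
theorem Blk.V_eq_of_tri (hA : Amb p P M) (hFE : F ≤ Subgroup.normalizer (E : Set G))
    (hEnF : E ≤ Subgroup.normalizer (F : Set G)) (h1 : ⁅⁅M, E⁆, F⁆ = ⁅M, F⁆)
    (h2 : ⁅⁅M, F⁆, E⁆ = ⁅M, E⁆) : ⁅M, E⁆ = ⁅M, F⁆ := by
  apply le_antisymm
  · rw [← h2, Subgroup.commutator_comm]
    exact commutator_le_of_le_normalizer le_rfl (hEnF.trans (Blk.nV hA))
  · rw [← h1, Subgroup.commutator_comm]
    exact commutator_le_of_le_normalizer le_rfl (hFE.trans (Blk.nV hA))

/-- the case `V_E = V_F`, `[E, F] ≤ P`. -/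
theorem Blk.caseA (hD : Q8Stmt.{u}) (hA : Amb p P M) (hE : Blk p P M E W Z B)
    (hF : Blk p P M F W' Z' B') (hEF : ⁅E, F⁆ ≤ P) (hV : ⁅M, E⁆ = ⁅M, F⁆) : E = F := by
  have hFE : F ≤ Subgroup.normalizer (E : Set G) := hE.normalizes_of_comm_le hA hEF
  have hEF' : ⁅F, E⁆ ≤ P := by rw [Subgroup.commutator_comm]; exact hEF
  have hEnF : E ≤ Subgroup.normalizer (F : Set G) := hF.normalizes_of_comm_le hA hEF'
  rcases hE.type with hpE | hsE | hsE
  · exact (hE.caseA_perf hA hF hEF hV hpE).elim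
  · rcases hF.type with hpF | hsF | hsF
    · exact (hF.caseA_perf hA hE hEF' hV.symm hpF).elim
    · have hQE := hE.small2_QV hsE
      have hQF := hF.small2_QV hsF
      apply le_antisymm
      · exact hF.le_of_cover hA hE hEnF hQF hQE hV.symm (hF.small2_cover hA hE hsF hsE hEF' hV.symm)
      · exact hE.le_of_cover hA hF hFE hQE hQF hV (hE.small2_cover hA hF hsE hsF hEF hV)
    · exfalso
      have h2 := hsE.p2
      have h3 := hsF.p3
      omega
  · rcases hF.type with hpF | hsF | hsF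
    · exact (hF.caseA_perf hA hE hEF' hV.symm hpF).elim
    · exfalso
      have h2 := hsF.p2
      have h3 := hsE.p3
      omega
    · exact (hE.caseA_small3 hD hA hF hsE hsF hEF hV).elim

/-- Part II: `[E, F] ≤ P` implies `E = F` or `[E, F] = 1`. -/
theorem Blk.partII (hD : Q8Stmt.{u}) (hA : Amb p P M) (hE : Blk p P M E W Z B)
    (hF : Blk p P M F W' Z' B') (hEF : ⁅E, F⁆ ≤ P) : E = F ∨ ⁅E, F⁆ = ⊥ := by
  have hFE : F ≤ Subgroup.normalizer (E : Set G) := hE.normalizes_of_comm_le hA hEF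
  have hEF' : ⁅F, E⁆ ≤ P := by rw [Subgroup.commutator_comm]; exact hEF
  have hEnF : E ≤ Subgroup.normalizer (F : Set G) := hF.normalizes_of_comm_le hA hEF'
  rcases Blk.tri hA hF hFE with h1 | h1 <;> rcases Blk.tri hA hE hEnF with h2 | h2
  · right
    rcases hE.kind with hQ | xE
    · exact hE.caseC_nonexc hA hF hEF hQ h1
    rcases hF.kind with hQ | xF
    · rw [Subgroup.commutator_comm]; exact hF.caseC_nonexc hA hE hEF' hQ h2
    exact hE.caseC_exc hD hA hF xE xF hEF h1 h2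
  · exact (hF.not_mixed hA hE hEF' h2 h1).elim
  · exact (hE.not_mixed hA hF hEF h1 h2).elim
  · left
    exact hE.caseA hD hA hF hEF (Blk.V_eq_of_tri hA hFE hEnF h1 h2)

/-- two distinct commuting blocks: `[V_E, F] = 1`. -/
theorem Blk.comm_distinct (hD : Q8Stmt.{u}) (hA : Amb p P M) (hE : Blk p P M E W Z B)
    (hF : Blk p P M F W' Z' B') (hc : ⁅E, F⁆ = ⊥) (hne : E ≠ F) : ⁅⁅M, E⁆, F⁆ = ⊥ := by
  have hEF : ⁅E, F⁆ ≤ P := by rw [hc]; exact bot_le
  have hFE : F ≤ Subgroup.normalizer (E : Set G) := hE.normalizes_of_comm_le hA hEF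
  have hEF' : ⁅F, E⁆ ≤ P := by rw [Subgroup.commutator_comm]; exact hEF
  have hEnF : E ≤ Subgroup.normalizer (F : Set G) := hF.normalizes_of_comm_le hA hEF'
  rcases Blk.tri hA hF hFE with h1 | h1
  · exact h1
  rcases Blk.tri hA hE hEnF with h2 | h2
  · exact (hE.not_mixed hA hF hEF h1 h2).elim
  · exact (hne (hE.caseA hD hA hF hEF (Blk.V_eq_of_tri hA hFE hEnF h1 h2))).elim

end Cfsg.Agent.Helper5.SB
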