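import Mathlib
import Cfsg.Agent.Helper5.SBK

set_option autoImplicit false
set_option linter.unusedSectionVars false
set_option linter.style.haveILetI false

/-!
Helper5, S2986: two exceptional blocks of small type (`p = 3`) with the same `Q, W, Z, V`, normalizing each other:
every element of `F` acts like an element of `E`, or there is a "twisted" element.
-/

namespace Cfsg.Agent.Helper5.SB

open scoped commutatorElement
open Cfsg.Agent.Helper9.BB

universe u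

variable {G : Type u} [Group G] [Finite G] {p : ℕ} [Fact p.Prime]
variable {P M E W Z B F W' Z' B' : Subgroup G} {t a a' : G}

/-- an element of `E` central modulo `P` lies in `P ∪ tP`. -/
theorem Blk.s3_central (hD : Q8Stmt.{u}) (hA : Amb p P M) (hE : Blk p P M E W Z B)
    (hs : Small3 p P E W Z) (d : S3Data P E t a a') {c : G} (hc : c ∈ E)
    (hcen : ∀ x ∈ E, ⁅c, x⁆ ∈ P) : c ∈ P ∨ c * t⁻¹ ∈ P := by
  rcases d.cos c hc with h | h | h
  · exact Or.inl h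
  · exact Or.inr h
  · exfalso
    have hnV : ∀ x ∈ E, x ∈ Subgroup.normalizer ((⁅M, E⁆ : Subgroup G) : Set G) :=
      fun x hx => Blk.nV hA (Blk.E_le_nE hx)
    have hcomm : ∀ x ∈ E, SecTriv (⁅M, E⁆ : Subgroup G) ⊥ ((x * c)⁻¹ * (c * x)) := by
      intro x hx
      apply Blk.secTriv_of_mem_P hA
      have e1 : (x * c)⁻¹ * (c * x) = c⁻¹ * (⁅c, x⁻¹⁆)⁻¹ * c⁻¹⁻¹ := by
        simp only [commutatorElement_def]; group
      rw [e1]
      exact hA.Pn.conj_mem _ (inv_mem (hcen x⁻¹ (inv_mem hx))) c⁻¹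
    exact q8_sec_no_commuting hD (hE.small3_sec9 hA hs) (hnV a d.aE) (mem_normalizer_bot a)
      (hnV a' d.a'E) (mem_normalizer_bot a') (hnV c hc) (mem_normalizer_bot c)
      (hE.s3_sq_inv hA hs d (d.a_sq hA.Pn)) (hE.s3_sq_inv hA hs d (d.a'_sq hA.Pn))
      (hE.s3_sq_inv hA hs d h) (hE.s3_ncomm hA d) (hcomm a d.aE) (hcomm a' d.a'E)

/-- `E ≤ secCent P Q`. -/
theorem Blk.le_secCent_P_Q (hA : Amb p P M) (hE : Blk p P M E W Z B) : E ≤ secCent P (E ⊓ P) := by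
  intro e he
  refine ⟨hA.nP E he, Blk.nQ hA (Blk.E_le_nE he), ?_⟩
  intro q hq
  refine Subgroup.mem_inf.2 ⟨?_, ?_⟩
  · have e1 : ⁅e, q⁆ = e * (q * e⁻¹ * q⁻¹) := by simp only [commutatorElement_def]; group
    rw [e1]
    exact mul_mem he (conj_mem_of_mem_normalizer (hE.nP hq) (inv_mem he))
  · have e1 : ⁅e, q⁆ = (e * q * e⁻¹) * q⁻¹ := by simp only [commutatorElement_def]
    rw [e1]
    exact mul_mem (hA.Pn.conj_mem _ hq _) (inv_mem hq)

/-- an element normalizing `E` and centralizing `V` centralizes `E / Q`. -/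
theorem Blk.comm_mem_Q_of_cV (hA : Amb p P M) (hE : Blk p P M E W Z B) {k : G}
    (hkE : k ∈ Subgroup.normalizer (E : Set G))
    (hkV : k ∈ Subgroup.centralizer ((⁅M, E⁆ : Subgroup G) : Set G)) :
    ∀ x ∈ E, ⁅k, x⁆ ∈ E ⊓ P := by
  intro x hx
  have h1 : ⁅k, x⁆ ∈ E := by
    have e1 : ⁅k, x⁆ = (k * x * k⁻¹) * x⁻¹ := by simp only [commutatorElement_def]
    rw [e1]
    exact mul_mem (conj_mem_of_mem_normalizer hkE hx) (inv_mem hx)
  refine Subgroup.mem_inf.2 ⟨h1, ?_⟩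
  apply hE.faith
  refine Subgroup.mem_inf.2 ⟨h1, ?_⟩
  have e1 : ⁅k, x⁆ = k * (x * k⁻¹ * x⁻¹) := by simp only [commutatorElement_def]; group
  rw [e1]
  exact mul_mem hkV (conj_mem_of_mem_normalizer
    (normalizer_le_centralizer _ (Blk.nV hA (Blk.E_le_nE hx))) (inv_mem hkV))

theorem secInv_of_mul {U U₀ : Subgroup G} {t k : G}
    (ht0 : t ∈ Subgroup.normalizer (U₀ : Set G)) (hi : SecInv U U₀ t)
    (hσU : t⁻¹ * k ∈ Subgroup.normalizer (U : Set G)) (hσ : SecTriv U U₀ (t⁻¹ * k)) :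
    SecInv U U₀ k := by
  intro u hu
  set σ := t⁻¹ * k with hσdef
  have e1 : k * u * k⁻¹ * u = (t * ⁅σ, u⁆ * t⁻¹) * (t * u * t⁻¹ * u) := by
    rw [hσdef]; simp only [commutatorElement_def]; group
  rw [e1]
  exact mul_mem (conj_mem_of_mem_normalizer ht0 (hσ u hu)) (hi u hu)

/-- two exceptional blocks of small type with the same `Q, W, Z, V`, normalizing each other. -/
structure NCfg (p : ℕ) (P M E W Z B F B' : Subgroup G) : Prop where
  hE : Blk p P M E W Z B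
  hF : Blk p P M F W Z B'
  xE : Exc p P E W Z B
  xF : Exc p P F W Z B'
  sE : Small3 p P E W Z
  sF : Small3 p P F W Z
  hFE : F ≤ Subgroup.normalizer (E : Set G)
  hEnF : E ≤ Subgroup.normalizer (F : Set G)
  hQ : E ⊓ P = F ⊓ P
  hV : ⁅M, E⁆ = ⁅M, F⁆

/-- the kernel of the action of `E F` on `V` and on `Q / W`. -/
def K0 (P M E W F : Subgroup G) : Subgroup G :=
  (E ⊔ F) ⊓ Subgroup.centralizer ((⁅M, E⁆ : Subgroup G) : Set G) ⊓ secCent (E ⊓ P) W

namespace NCfg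

variable (c : NCfg p P M E W Z B F B')

include c

theorem symm : NCfg p P M F W Z B' E B where
  hE := c.hF
  hF := c.hE
  xE := c.xF
  xF := c.xE
  sE := c.sF
  sF := c.sE
  hFE := c.hEnF
  hEnF := c.hFE
  hQ := c.hQ.symm
  hV := c.hV.symm

theorem L_le_nE : E ⊔ F ≤ Subgroup.normalizer (E : Set G) := sup_le Blk.E_le_nE c.hFE

theorem Q_le_secCent : E ⊓ P ≤ secCent (E ⊓ P) W := by
  intro q hq
  exact ⟨Subgroup.le_normalizer hq, c.xE.Q_le_nW hq, c.xE.Q_secTriv c.hE hq⟩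

theorem K0_pgroup (hA : Amb p P M) : IsPGroup p (K0 P M E W F) := by
  have hL : E ⊔ F ≤ secCent P (E ⊓ P) := by
    apply sup_le (c.hE.le_secCent_P_Q hA)
    rw [c.hQ]; exact c.hF.le_secCent_P_Q hA
  rintro ⟨k, hk⟩
  obtain ⟨n, m, hm, hnm⟩ := Nat.exists_eq_pow_mul_and_not_dvd (orderOf_pos k).ne' p
    (Fact.out : p.Prime).ne_one
  refine ⟨n, ?_⟩
  apply Subtype.ext
  show k ^ (p ^ n) = 1
  have hK' : k ^ (p ^ n) ∈ K0 P M E W F := pow_mem hk _
  have hord : (k ^ (p ^ n)) ^ m = 1 := by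
    rw [← pow_mul, ← hnm, pow_orderOf_eq_one]
  have hc : (orderOf (k ^ (p ^ n))).Coprime p := by
    have hd : orderOf (k ^ (p ^ n)) ∣ m := orderOf_dvd_of_pow_eq_one hord
    have hmp : m.Coprime p := ((Fact.out : p.Prime).coprime_iff_not_dvd.2 hm).symm
    exact Nat.Coprime.coprime_dvd_left hd hmp
  set k' := k ^ (p ^ n) with hk'
  obtain ⟨hk12, hk3⟩ := Subgroup.mem_inf.1 hK'
  obtain ⟨hk1, hk2⟩ := Subgroup.mem_inf.1 hk12
  have hkE : k' ∈ Subgroup.normalizer (E : Set G) := c.L_le_nE hk1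
  have hcE : ∀ e ∈ E, k' * e = e * k' :=
    Exc.centralizes hA c.hE c.xE hc hkE
      (fun e he => (Subgroup.mem_inf.1 (c.hE.comm_mem_Q_of_cV hA hkE hk2 e he)).2)
      (fun v hv => (Subgroup.mem_centralizer_iff.1 hk2 v hv).symm) hk3.2.2
  apply hA.eq_one_of_stab (inf_le_right : E ⊓ P ≤ P) hc
  · rw [Subgroup.mem_centralizer_iff]
    intro q hq
    exact (hcE q (Subgroup.mem_inf.1 hq).1).symm
  · exact (hL hk1).2.2

/-- cover or twist. -/
theorem cover_or_twist (hD : Q8Stmt.{u}) (hA : Amb p P M) {f : G} (hf : f ∈ F) :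
    (∃ g ∈ E, g⁻¹ * f ∈ K0 P M E W F) ∨
    (∃ k ∈ E ⊔ F, k ∈ Subgroup.centralizer ((⁅M, E⁆ : Subgroup G) : Set G) ∧
      SecInv (E ⊓ P) W k) := by
  obtain ⟨t, a, a', d⟩ := c.sE.data
  obtain ⟨s, b, b', d'⟩ := c.sF.data
  have hnQ : ∀ x ∈ E ⊔ F, x ∈ Subgroup.normalizer ((E ⊓ P : Subgroup G) : Set G) :=
    fun x hx => Blk.nQ hA (c.L_le_nE hx)
  have hnW : ∀ x ∈ E ⊔ F, x ∈ Subgroup.normalizer (W : Set G) := fun x hx => c.hE.nW (c.L_le_nE hx)
  have hEL : E ≤ E ⊔ F := le_sup_left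
  have hFL : F ≤ E ⊔ F := le_sup_right
  obtain ⟨e₂, he₂, h2⟩ := c.hE.small3_cover hD hA c.hF c.sE c.sF c.hV f hf
  -- the action on `Q / W`
  have key : ∃ e ∈ E, SecTriv (E ⊓ P) W (e⁻¹ * f) := by
    rcases d'.cos f hf with h | h | h
    · refine ⟨f, ?_, ?_⟩
      · have : f ∈ F ⊓ P := Subgroup.mem_inf.2 ⟨hf, h⟩
        rw [← c.hQ] at this
        exact (Subgroup.mem_inf.1 this).1
      · intro u hu
        simp
    · -- `f ≡ s`: acts like `t`
      refine ⟨t, d.tE, ?_⟩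
      have h1 : SecInv (E ⊓ P) W s := by
        have := c.xF.t_inv hA c.hF d'
        rwa [← c.hQ] at this
      have h1f : SecInv (E ⊓ P) W f := by
        apply secInv_of_mul (hnW s (hFL d'.tE)) h1
        · exact mul_mem (inv_mem (hnQ s (hFL d'.tE))) (hnQ f (hFL hf))
        · have : s⁻¹ * f ∈ F ⊓ P := by
            refine Subgroup.mem_inf.2 ⟨mul_mem (inv_mem d'.tE) hf, ?_⟩
            have e1 : s⁻¹ * f = s⁻¹ * (f * s⁻¹) * s⁻¹⁻¹ := by group
            rw [e1]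
            exact hA.Pn.conj_mem _ h _
          rw [← c.hQ] at this
          exact c.xE.Q_secTriv c.hE this
      have h2t : SecInv (E ⊓ P) W t := c.xE.t_inv hA c.hE d
      intro u hu
      have e1 : ⁅t⁻¹ * f, u⁆ =
          t⁻¹ * ((f * u * f⁻¹ * u) * (u⁻¹ * (t * u⁻¹ * t⁻¹ * u⁻¹) * u⁻¹⁻¹)) * t⁻¹⁻¹ := by
        simp only [commutatorElement_def]; group
      rw [e1]
      apply conj_mem_of_mem_normalizer (inv_mem (hnW t (hEL d.tE)))
      exact mul_mem (h1f u hu) (conj_mem_of_mem_normalizer (c.xE.Q_le_nW (inv_mem hu))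
        (h2t u⁻¹ (inv_mem hu)))
    · have hib : SecInv (E ⊓ P) W (f * f) := by
        have := c.xF.sq_inv hA c.hF d' hf h
        rwa [← c.hQ] at this
      obtain ⟨e, he, hte⟩ := q8_sec_mem hD (c.xE.sec9 c.hE c.sE) (hnQ a (hEL d.aE)) (hnW a (hEL d.aE))
        (hnQ a' (hEL d.a'E)) (hnW a' (hEL d.a'E)) (hnQ f (hFL hf)) (hnW f (hFL hf))
        (c.xE.sq_inv hA c.hE d d.aE (d.a_sq hA.Pn)) (c.xE.sq_inv hA c.hE d d.a'E (d.a'_sq hA.Pn)) hib
        (c.xE.ncomm hA d)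
      refine ⟨e, ?_, hte⟩
      have ha := d.aE
      have ha' := d.a'E
      rcases he with rfl | rfl | rfl | rfl | rfl | rfl
      · exact ha
      · exact mul_mem ha (mul_mem ha ha)
      · exact ha'
      · exact mul_mem ha' (mul_mem ha' ha')
      · exact mul_mem ha ha'
      · exact mul_mem ha (mul_mem ha (mul_mem ha ha'))
  obtain ⟨e, he, hte⟩ := key
  set k := e₂⁻¹ * f with hk
  set cc := e₂⁻¹ * e with hcc
  have hkL : k ∈ E ⊔ F := mul_mem (hEL (inv_mem he₂)) (hFL hf)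
  have hccE : cc ∈ E := mul_mem (inv_mem he₂) he
  have hτ : e⁻¹ * f ∈ secCent (E ⊓ P) W :=
    ⟨mul_mem (inv_mem (hnQ e (hEL he))) (hnQ f (hFL hf)),
      mul_mem (inv_mem (hnW e (hEL he))) (hnW f (hFL hf)), hte⟩
  have hkcc : k = cc * (e⁻¹ * f) := by rw [hk, hcc]; group
  have hSn : E ⊔ F ≤ Subgroup.normalizer ((secCent (E ⊓ P) W : Subgroup G) : Set G) :=
    le_normalizer_secCent (fun x hx => hnQ x hx) (fun x hx => hnW x hx)
  have hkQ := c.hE.comm_mem_Q_of_cV hA (c.L_le_nE hkL) h2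
  have hcen : ∀ x ∈ E, ⁅cc, x⁆ ∈ P := by
    intro x hx
    apply c.xE.faithQ
    · have e1 : ⁅cc, x⁆ = (cc * x * cc⁻¹) * x⁻¹ := by simp only [commutatorElement_def]
      rw [e1]
      exact mul_mem (mul_mem (mul_mem hccE hx) (inv_mem hccE)) (inv_mem hx)
    · -- `[cc, x] ∈ secCent`
      have hmem : ⁅cc, x⁆ ∈ secCent (E ⊓ P) W := by
        have e1 : ⁅cc, x⁆ = k * ((e⁻¹ * f)⁻¹ * (x * (e⁻¹ * f) * x⁻¹)) * k⁻¹ * ⁅k, x⁆ := by
          rw [hkcc]; simp only [commutatorElement_def]; group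
        rw [e1]
        apply mul_mem _ (c.Q_le_secCent (hkQ x hx))
        apply conj_mem_of_mem_normalizer (hSn hkL)
        exact mul_mem (inv_mem hτ) (conj_mem_of_mem_normalizer (hSn (hEL hx)) hτ)
      exact hmem.2.2
  rcases c.hE.s3_central hD hA c.sE d hccE hcen with h | h
  · left
    refine ⟨e₂, he₂, ?_⟩
    have hk3 : k ∈ secCent (E ⊓ P) W := by
      rw [hkcc]
      exact mul_mem (c.Q_le_secCent (Subgroup.mem_inf.2 ⟨hccE, h⟩)) hτ
    exact Subgroup.mem_inf.2 ⟨Subgroup.mem_inf.2 ⟨hkL, h2⟩, hk3⟩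
  · right
    refine ⟨k, hkL, h2, ?_⟩
    have hσ : t⁻¹ * k ∈ secCent (E ⊓ P) W := by
      have e1 : t⁻¹ * k = (t⁻¹ * (cc * t⁻¹) * t⁻¹⁻¹) * (e⁻¹ * f) := by rw [hkcc]; group
      rw [e1]
      refine mul_mem (c.Q_le_secCent (Subgroup.mem_inf.2 ⟨?_, hA.Pn.conj_mem _ h _⟩)) hτ
      exact mul_mem (mul_mem (inv_mem d.tE) (mul_mem hccE (inv_mem d.tE))) (inv_mem (inv_mem d.tE))
    exact secInv_of_mul (hnW t (hEL d.tE)) (c.xE.t_inv hA c.hE d) hσ.1 hσ.2.2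

end NCfg

end Cfsg.Agent.Helper5.SB
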