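import Mathlib
import Cfsg.Agent.Helper5.SBL
import Cfsg.Agent.Helper4.SubnormalPRad

set_option autoImplicit false
set_option linter.unusedSectionVars false
set_option linter.style.haveILetI false

/-!
Helper5, S2986: general lemmas for the "twisted" case:
* subnormal subgroups which are `q`-groups modulo `K ⊴ H` generate (with their `H`-conjugates) a `q`-group modulo `K`;
* an element stabilizing a chain `Q ≥ W ≥ Z` has `|W|`-th power centralizing `Q / Z`;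
* a `3`-element acts quadratically on an abelian section of order `9`.
-/

namespace Cfsg.Agent.Helper5.SB

open scoped commutatorElement
open Cfsg.Agent.Helper9.BB

universe u

variable {G : Type u} [Group G]

section O2

variable [Finite G]

theorem exists_pgroup_closure {q : ℕ} [Fact q.Prime] {H K E F : Subgroup G} (hKH : K ≤ H)
    (hHK : H ≤ Subgroup.normalizer (K : Set G)) (hEH : E ≤ H) (hFH : F ≤ H)
    (hEs : E.IsSubnormal) (hFs : F.IsSubnormal) (hEq : ∀ e ∈ E, ∃ n : ℕ, e ^ (q ^ n) ∈ K)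
    (hFq : ∀ f ∈ F, ∃ n : ℕ, f ^ (q ^ n) ∈ K) :
    ∃ R : Subgroup G, E ≤ R ∧ F ≤ R ∧ R ≤ H ∧ H ≤ Subgroup.normalizer (R : Set G) ∧
      ∀ x ∈ R, ∃ n : ℕ, x ^ (q ^ n) ∈ K := by
  haveI hN : (K.subgroupOf H).Normal := (Subgroup.normal_subgroupOf_iff_le_normalizer hKH).2 hHK
  set π := QuotientGroup.mk' (K.subgroupOf H) with hπ
  have hsurj : Function.Surjective π := QuotientGroup.mk'_surjective _
  set O : Subgroup (↥H ⧸ K.subgroupOf H) := Cfsg.pCore q (↥H ⧸ K.subgroupOf H) with hO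
  haveI hOn : O.Normal := Cfsg.Agent.Helper9.pCore_normal
  have hOp : IsPGroup q O := Cfsg.Agent.Helper9.pCore_isPGroup
  have hker : ∀ y : ↥H, π y = 1 ↔ (y : G) ∈ K := by
    intro y
    rw [hπ, QuotientGroup.mk'_apply, QuotientGroup.eq_one_iff, Subgroup.mem_subgroupOf]
  have key : ∀ X : Subgroup G, X ≤ H → X.IsSubnormal → (∀ e ∈ X, ∃ n : ℕ, e ^ (q ^ n) ∈ K) →
      ∀ e (he : e ∈ X) (heH : e ∈ H), π ⟨e, heH⟩ ∈ O := by
    intro X hXH hXs hXq e he heH
    have hsub : ((X.subgroupOf H).map π).IsSubnormal := (hXs.subgroupOf).map hsurj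
    have hp : IsPGroup q ((X.subgroupOf H).map π) := by
      rintro ⟨g, hg⟩
      obtain ⟨x, hx, rfl⟩ := Subgroup.mem_map.1 hg
      rw [Subgroup.mem_subgroupOf] at hx
      obtain ⟨n, hn⟩ := hXq _ hx
      refine ⟨n, ?_⟩
      apply Subtype.ext
      show (π x) ^ (q ^ n) = 1
      rw [← map_pow, hker]
      simpa using hn
    have hle := Cfsg.Agent.Helper4.SubnormalPRad.le_pCore_of_isSubnormal q hsub hp
    apply hle
    exact Subgroup.mem_map.2 ⟨⟨e, heH⟩, Subgroup.mem_subgroupOf.2 he, rfl⟩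
  refine ⟨(O.comap π).map H.subtype, ?_, ?_, ?_, ?_, ?_⟩
  · intro e he
    exact Subgroup.mem_map.2 ⟨⟨e, hEH he⟩, Subgroup.mem_comap.2 (key E hEH hEs hEq e he _), rfl⟩
  · intro e he
    exact Subgroup.mem_map.2 ⟨⟨e, hFH he⟩, Subgroup.mem_comap.2 (key F hFH hFs hFq e he _), rfl⟩
  · rintro x hx
    obtain ⟨y, -, rfl⟩ := Subgroup.mem_map.1 hx
    exact y.2
  · apply le_normalizer_of_forall_conj
    intro h hh x hx
    obtain ⟨y, hy, rfl⟩ := Subgroup.mem_map.1 hx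
    rw [Subgroup.mem_comap] at hy
    refine Subgroup.mem_map.2 ⟨⟨h, hh⟩ * y * ⟨h, hh⟩⁻¹, ?_, by simp⟩
    rw [Subgroup.mem_comap, map_mul, map_mul, map_inv]
    exact hOn.conj_mem _ hy _
  · intro x hx
    obtain ⟨y, hy, rfl⟩ := Subgroup.mem_map.1 hx
    rw [Subgroup.mem_comap] at hy
    obtain ⟨n, hn⟩ := hOp ⟨π y, hy⟩
    refine ⟨n, ?_⟩
    have h1 : (π y) ^ (q ^ n) = 1 := by
      have := congrArg Subtype.val hn
      simpa using this
    rw [← map_pow, hker] at h1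
    simpa using h1

end O2

section Chain

variable {Q W Z : Subgroup G}

/-- an element stabilizing the chain `Q ≥ W ≥ Z` has its `|W|`-th power centralizing `Q / Z`. -/
theorem pow_card_secTriv [Finite G] (hZQ : Z ≤ Q) (hQZ : Q ≤ Subgroup.normalizer (Z : Set G)) {g : G}
    (hgQ : g ∈ Subgroup.normalizer (Q : Set G)) (hgZ : g ∈ Subgroup.normalizer (Z : Set G))
    (h1 : SecTriv Q W g) (hWQ : W ≤ Q) (h2 : SecTriv W Z g) : SecTriv Q Z (g ^ Nat.card W) := by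
  haveI hN : (Z.subgroupOf Q).Normal := (Subgroup.normal_subgroupOf_iff_le_normalizer hZQ).2 hQZ
  set φ := secHom Q Z g hgQ hgZ with hφ
  -- step a
  have ha : ∀ x, ∃ w : G, ∃ hw : w ∈ W, φ x * x⁻¹ = QuotientGroup.mk ⟨w, hWQ hw⟩ ∧
      φ (φ x * x⁻¹) = φ x * x⁻¹ := by
    intro x
    induction x using QuotientGroup.induction_on with
    | H u =>
      have hw : ⁅g, (u : G)⁆ ∈ W := h1 u u.2
      have e0 : φ (QuotientGroup.mk u) * (QuotientGroup.mk u)⁻¹ =
          QuotientGroup.mk (⟨⁅g, (u : G)⁆, hWQ hw⟩ : ↥Q) := by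
        rw [hφ, secHom_mk, ← QuotientGroup.mk_inv, ← QuotientGroup.mk_mul]
        congr 1
      refine ⟨⁅g, (u : G)⁆, hw, e0, ?_⟩
      rw [e0, hφ, secHom_mk, sec_mk_eq_iff]
      simp only [conjHom_coe]
      have hz : ⁅g, ⁅g, (u : G)⁆⁆ ∈ Z := h2 _ hw
      have e1 : (g * ⁅g, (u : G)⁆ * g⁻¹)⁻¹ * ⁅g, (u : G)⁆ =
          (⁅g, (u : G)⁆)⁻¹ * (⁅g, ⁅g, (u : G)⁆⁆)⁻¹ * (⁅g, (u : G)⁆)⁻¹⁻¹ := by
        simp only [commutatorElement_def]; group
      rw [e1]
      exact conj_mem_of_mem_normalizer (hQZ (inv_mem (hWQ hw))) (inv_mem hz)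
  -- step b
  have hb : ∀ (j : ℕ) x, (φ^[j]) x = (φ x * x⁻¹) ^ j * x := by
    intro j
    induction j with
    | zero => intro x; simp
    | succ j ih =>
      intro x
      rw [Function.iterate_succ_apply', ih, map_mul, map_pow, (ha x).choose_spec.choose_spec.2,
        pow_succ, mul_assoc, mul_assoc]
      congr 1
      simp
  -- step c
  have hc : ∀ (j : ℕ) (hjQ : g ^ j ∈ Subgroup.normalizer (Q : Set G))
      (hjZ : g ^ j ∈ Subgroup.normalizer (Z : Set G)) x, secHom Q Z (g ^ j) hjQ hjZ x = (φ^[j]) x := by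
    intro j
    induction j with
    | zero =>
      intro hjQ hjZ x
      have := secHom_one Q Z (one_mem _) (one_mem _) x
      simpa using this
    | succ j ih =>
      intro hjQ hjZ x
      have hjQ' : g ^ j ∈ Subgroup.normalizer (Q : Set G) := pow_mem hgQ j
      have hjZ' : g ^ j ∈ Subgroup.normalizer (Z : Set G) := pow_mem hgZ j
      have h3 := secHom_mul Q Z g (g ^ j) hgQ hgZ hjQ' hjZ' x
      rw [Function.iterate_succ_apply', ← ih hjQ' hjZ', ← h3]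
      have hgen : ∀ (g₁ g₂ : G) (_ : g₁ = g₂) (hU : g₁ ∈ Subgroup.normalizer (Q : Set G))
          (h0 : g₁ ∈ Subgroup.normalizer (Z : Set G)) (hU' : g₂ ∈ Subgroup.normalizer (Q : Set G))
          (h0' : g₂ ∈ Subgroup.normalizer (Z : Set G)),
          secHom Q Z g₁ hU h0 = secHom Q Z g₂ hU' h0' := by
        intro g₁ g₂ h
        subst h
        intros
        rfl
      rw [hgen _ _ (pow_succ' g j)]
  rw [← secHom_eq_self_iff hQZ (pow_mem hgQ _) (pow_mem hgZ _)]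
  intro x
  rw [hc, hb]
  obtain ⟨w, hw, e0, -⟩ := ha x
  rw [e0, ← QuotientGroup.mk_pow]
  have hw1 : w ^ Nat.card W = 1 := by
    calc w ^ Nat.card W = (((⟨w, hw⟩ : ↥W) ^ Nat.card W : ↥W) : G) := rfl
      _ = ((1 : ↥W) : G) := by rw [pow_card_eq_one']
      _ = 1 := rfl
  have : (⟨w, hWQ hw⟩ : ↥Q) ^ Nat.card W = 1 := by
    apply Subtype.ext
    simpa using hw1
  rw [this, QuotientGroup.mk_one, one_mul]

theorem mem_of_pow_mem_of_coprime {K : Subgroup G} {g : G} {a b : ℕ} (hab : a.Coprime b)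
    (ha : g ^ a ∈ K) (hb : g ^ b ∈ K) : g ∈ K := by
  have h1 := Nat.gcd_eq_gcd_ab a b
  rw [hab.gcd_eq_one] at h1
  have h2 : g = (g ^ a) ^ (Nat.gcdA a b) * (g ^ b) ^ (Nat.gcdB a b) := by
    rw [← zpow_natCast g a, ← zpow_natCast g b, ← zpow_mul, ← zpow_mul, ← zpow_add, ← h1]
    simp
  rw [h2]
  exact mul_mem (zpow_mem ha _) (zpow_mem hb _)

/-- an element stabilizing the chain `Q ≥ W ≥ Z` (`W` a `3`-group) which is a `2`-element modulo `C(Q / Z)`
centralizes `Q / Z`. -/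
theorem secTriv_of_chain [Finite G] (hZQ : Z ≤ Q) (hQZ : Q ≤ Subgroup.normalizer (Z : Set G)) {g : G}
    (hgQ : g ∈ Subgroup.normalizer (Q : Set G)) (hgZ : g ∈ Subgroup.normalizer (Z : Set G))
    (h1 : SecTriv Q W g) (hWQ : W ≤ Q) (h2 : SecTriv W Z g) (hW3 : IsPGroup 3 W) {n : ℕ}
    (hn : g ^ (2 ^ n) ∈ secCent Q Z) : g ∈ secCent Q Z := by
  haveI : Fact (Nat.Prime 3) := ⟨by norm_num⟩
  obtain ⟨m, hm⟩ := IsPGroup.iff_card.1 hW3
  have h3 : g ^ (3 ^ m) ∈ secCent Q Z := by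
    refine ⟨pow_mem hgQ _, pow_mem hgZ _, ?_⟩
    rw [← hm]
    exact pow_card_secTriv hZQ hQZ hgQ hgZ h1 hWQ h2
  have hco : (2 ^ n).Coprime (3 ^ m) := Nat.Coprime.pow _ _ (by norm_num)
  exact mem_of_pow_mem_of_coprime hco hn h3

end Chain

section Quad

variable [Finite G]

theorem secTriv_one (U U₀ : Subgroup G) : SecTriv U U₀ 1 := by
  intro u _
  simp [commutatorElement_def]

/-- `b` normalizes its own fixed points on a section. -/
theorem mem_normalizer_secFix_self {U U₀ : Subgroup G} (hUn : U ≤ Subgroup.normalizer (U₀ : Set G)) {b : G}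
    (hbU : b ∈ Subgroup.normalizer (U : Set G)) (hb0 : b ∈ Subgroup.normalizer (U₀ : Set G)) :
    b ∈ Subgroup.normalizer ((secFix U U₀ hUn b : Subgroup G) : Set G) := by
  have hz : Subgroup.zpowers b ≤ Subgroup.normalizer ((secFix U U₀ hUn b : Subgroup G) : Set G) := by
    apply le_normalizer_secFix hUn ((Subgroup.zpowers_le).2 hbU) ((Subgroup.zpowers_le).2 hb0) hb0
    intro f hf
    obtain ⟨i, rfl⟩ := Subgroup.mem_zpowers_iff.1 hf
    have e1 : b⁻¹ * ((b ^ i)⁻¹ * b * b ^ i) = 1 := by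
      have : (b ^ i)⁻¹ * b * b ^ i = b := by
        rw [mul_assoc, ← zpow_one_add, add_comm, zpow_add_one, ← mul_assoc, inv_mul_cancel, one_mul]
      rw [this, inv_mul_cancel]
    rw [e1]
    exact secTriv_one _ _
  exact hz (Subgroup.mem_zpowers b)

/-- a subgroup of `U` containing `U₀ ≥ [U, U]` is normal in `U`. -/
theorem le_normalizer_of_comm_le {U U₀ U₁ : Subgroup G} (hab : ⁅U, U⁆ ≤ U₀) (h01 : U₀ ≤ U₁) (h1U : U₁ ≤ U) :
    U ≤ Subgroup.normalizer (U₁ : Set G) := by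
  apply le_normalizer_of_forall_conj
  intro u hu y hy
  have e1 : u * y * u⁻¹ = ⁅u, y⁆ * y := by simp only [commutatorElement_def]; group
  rw [e1]
  exact mul_mem (h01 (hab (Subgroup.commutator_mem_commutator hu (h1U hy)))) hy

/-- a `3`-element acts quadratically on an abelian section of order `9`. -/
theorem quadratic_sec9 {U U₀ : Subgroup G} (hle : U₀ ≤ U) (hnor : U ≤ Subgroup.normalizer (U₀ : Set G))
    (hab : ⁅U, U⁆ ≤ U₀) (hcard : Nat.card U = 9 * Nat.card U₀) (hUp : IsPGroup 3 U) {b : G}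
    (hbU : b ∈ Subgroup.normalizer (U : Set G)) (hb0 : b ∈ Subgroup.normalizer (U₀ : Set G)) {k : ℕ}
    (hk : b ^ (3 ^ k) = 1) : ∀ u ∈ U, ⁅b, u⁆ ∈ U ∧ ⁅b, ⁅b, u⁆⁆ ∈ U₀ := by
  haveI : Fact (Nat.Prime 3) := ⟨by norm_num⟩
  have hne : U₀ ≠ U := by
    intro h
    rw [h] at hcard
    have := Nat.card_pos (α := U)
    omega
  have h01 : U₀ ≤ secFix U U₀ hnor b := le_secFix hnor hle hb0
  have h1U : secFix U U₀ hnor b ≤ U := secFix_le hnor b
  obtain ⟨x, hxU, hx0, hbx⟩ := exists_fixed_sec hle hne hnor hUp hbU hb0 hk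
  have hx1 : x ∈ secFix U U₀ hnor b := ⟨hxU, hbx⟩
  by_cases h1 : secFix U U₀ hnor b = U
  · intro u hu
    have hu1 : u ∈ secFix U U₀ hnor b := by rw [h1]; exact hu
    exact h01 hu1.2
  · have hU1n : U ≤ Subgroup.normalizer ((secFix U U₀ hnor b : Subgroup G) : Set G) :=
      le_normalizer_of_comm_le hab h01 h1U
    have hb1 := mem_normalizer_secFix_self hnor hbU hb0
    obtain ⟨y, hyU, hy1, hby⟩ := exists_fixed_sec h1U h1 hU1n hUp hbU hb1 hk
    have h12 : secFix U U₀ hnor b ≤ secFix U (secFix U U₀ hnor b) hU1n b := le_secFix hU1n h1U hb1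
    have h2U : secFix U (secFix U U₀ hnor b) hU1n b ≤ U := secFix_le hU1n b
    have hy2 : y ∈ secFix U (secFix U U₀ hnor b) hU1n b := ⟨hyU, hby⟩
    have hU2 : secFix U (secFix U U₀ hnor b) hU1n b = U := by
      obtain ⟨x', hx'⟩ := Subgroup.card_dvd_of_le h01
      obtain ⟨y', hy'⟩ := Subgroup.card_dvd_of_le h12
      obtain ⟨z', hz'⟩ := Subgroup.card_dvd_of_le h2U
      have hpos : 0 < Nat.card U₀ := Nat.card_pos
      have hx1' : x' ≠ 1 := by
        intro h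
        rw [h, mul_one] at hx'
        have := Subgroup.eq_of_le_of_card_ge h01 hx'.le
        apply hx0
        rw [this]; exact hx1
      have hy1' : y' ≠ 1 := by
        intro h
        rw [h, mul_one] at hy'
        have := Subgroup.eq_of_le_of_card_ge h12 hy'.le
        apply hy1
        rw [this]; exact hy2
      have h9 : x' * (y' * z') = 9 := by
        apply Nat.eq_of_mul_eq_mul_left hpos
        have h5 : Nat.card U₀ * 9 = Nat.card U := by rw [hcard]; ring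
        rw [h5, hz', hy', hx']
        ring
      have hx'le : x' ≤ 9 := Nat.le_of_dvd (by norm_num) ⟨_, h9.symm⟩
      have hy'le : y' ≤ 9 := Nat.le_of_dvd (by norm_num) ⟨x' * z', by rw [← h9]; ring⟩
      have hz1 : z' = 1 := by
        interval_cases x' <;> interval_cases y' <;> omega
      rw [hz1, mul_one] at hz'
      exact Subgroup.eq_of_le_of_card_ge h2U hz'.le
    intro u hu
    have hu2 : u ∈ secFix U (secFix U U₀ hnor b) hU1n b := by rw [hU2]; exact hu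
    exact hu2.2

/-- quadratic action on `D / Z` and `W / Z` with `Q = D W` gives `[Q, b, b] ≤ Z`. -/
theorem quadratic_comm {Q Z D W : Subgroup G} (hZQ : Z ≤ Q) (hQZ : Q ≤ Subgroup.normalizer (Z : Set G))
    (hab : ⁅Q, Q⁆ ≤ Z) {b : G} (hbQ : b ∈ Subgroup.normalizer (Q : Set G))
    (hbZ : b ∈ Subgroup.normalizer (Z : Set G))
    (hdec : ∀ u ∈ Q, ∃ d ∈ D, ∃ w ∈ W, u = d * w) (hDQ : D ≤ Q)
    (hD : ∀ d ∈ D, ⁅b, d⁆ ∈ Q ∧ ⁅b, ⁅b, d⁆⁆ ∈ Z) (hW : ∀ w ∈ W, ⁅b, w⁆ ∈ Q ∧ ⁅b, ⁅b, w⁆⁆ ∈ Z) :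
    ⁅⁅Q, Subgroup.zpowers b⁆, Subgroup.zpowers b⁆ ≤ Z := by
  have hZF : Z ≤ secFix Q Z hQZ b := le_secFix hQZ hZQ hbZ
  have hFQ : secFix Q Z hQZ b ≤ Q := secFix_le hQZ b
  have hFn : Q ≤ Subgroup.normalizer ((secFix Q Z hQZ b : Subgroup G) : Set G) :=
    le_normalizer_of_comm_le hab hZF hFQ
  have hbF := mem_normalizer_secFix_self hQZ hbQ hbZ
  have hall : ∀ u ∈ Q, ⁅b, u⁆ ∈ secFix Q Z hQZ b := by
    intro u hu
    obtain ⟨d, hd, w, hw, rfl⟩ := hdec u hu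
    have e1 : ⁅b, d * w⁆ = ⁅b, d⁆ * (d * ⁅b, w⁆ * d⁻¹) := by
      simp only [commutatorElement_def]; group
    rw [e1]
    exact mul_mem (hD d hd) (conj_mem_of_mem_normalizer (hFn (hDQ hd)) (hW w hw))
  have hb : b ∈ secCent Q (secFix Q Z hQZ b) ⊓ secCent (secFix Q Z hQZ b) Z :=
    Subgroup.mem_inf.2 ⟨⟨hbQ, hbF, hall⟩, ⟨hbF, hbZ, fun x hx => hx.2⟩⟩
  have hz : Subgroup.zpowers b ≤ secCent Q (secFix Q Z hQZ b) ⊓ secCent (secFix Q Z hQZ b) Z :=
    (Subgroup.zpowers_le).2 hb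
  have h1 : ⁅Q, Subgroup.zpowers b⁆ ≤ secFix Q Z hQZ b := by
    rw [Subgroup.commutator_le]
    intro u hu y hy
    rw [commElt_inv_swap]
    exact inv_mem ((Subgroup.mem_inf.1 (hz hy)).1.2.2 u hu)
  rw [Subgroup.commutator_le]
  intro x hx y hy
  rw [commElt_inv_swap]
  exact inv_mem ((Subgroup.mem_inf.1 (hz hy)).2.2.2 x (h1 hx))

end Quad

end Cfsg.Agent.Helper5.SB
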