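import Mathlib
import Cfsg.Agent.Helper5.SBM
import Cfsg.Agent.Helper1.Card

set_option autoImplicit false
set_option linter.unusedSectionVars false
set_option linter.style.haveILetI false

/-!
Helper5, S2986: the "twisted" case is impossible.
-/

namespace Cfsg.Agent.Helper5.SB

open scoped commutatorElement
open Cfsg.Agent.Helper9.BB

universe u

variable {G : Type u} [Group G]

section General

variable {U U₀ : Subgroup G}

theorem SecInv.inv' (hUn : U ≤ Subgroup.normalizer (U₀ : Set G)) {k : G}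
    (hkU : k ∈ Subgroup.normalizer (U : Set G)) (h : SecInv U U₀ k) : SecInv U U₀ k⁻¹ := by
  intro u hu
  have hx : k⁻¹ * u * k⁻¹⁻¹ ∈ U := conj_mem_of_mem_normalizer (inv_mem hkU) hu
  have h1 := h _ hx
  have e1 : k⁻¹ * u * k⁻¹⁻¹ * u =
      u⁻¹ * (k * (k⁻¹ * u * k⁻¹⁻¹) * k⁻¹ * (k⁻¹ * u * k⁻¹⁻¹)) * u⁻¹⁻¹ := by group
  rw [e1]
  exact conj_mem_of_mem_normalizer (hUn (inv_mem hu)) h1

theorem secTriv_of_secInv_secInv (hUn : U ≤ Subgroup.normalizer (U₀ : Set G)) {k k' : G}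
    (hkU : k ∈ Subgroup.normalizer (U : Set G)) (hk0 : k ∈ Subgroup.normalizer (U₀ : Set G))
    (h : SecInv U U₀ k) (h' : SecInv U U₀ k') : SecTriv U U₀ (k⁻¹ * k') := by
  intro u hu
  have hi := SecInv.inv' hUn hkU h
  have e1 : ⁅k⁻¹ * k', u⁆ =
      (k⁻¹ * (k' * u * k'⁻¹ * u) * k⁻¹⁻¹) * (k⁻¹ * u⁻¹ * k⁻¹⁻¹ * u⁻¹) := by
    simp only [commutatorElement_def]; group
  rw [e1]
  exact mul_mem (conj_mem_of_mem_normalizer (inv_mem hk0) (h' u hu)) (hi u⁻¹ (inv_mem hu))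

theorem SecInv.conj {k b : G} (hbU : b ∈ Subgroup.normalizer (U : Set G))
    (hb0 : b ∈ Subgroup.normalizer (U₀ : Set G)) (h : SecInv U U₀ k) :
    SecInv U U₀ (b * k * b⁻¹) := by
  intro u hu
  have hx : b⁻¹ * u * b⁻¹⁻¹ ∈ U := conj_mem_of_mem_normalizer (inv_mem hbU) hu
  have e1 : (b * k * b⁻¹) * u * (b * k * b⁻¹)⁻¹ * u =
      b * (k * (b⁻¹ * u * b⁻¹⁻¹) * k⁻¹ * (b⁻¹ * u * b⁻¹⁻¹)) * b⁻¹ := by group
  rw [e1]
  exact conj_mem_of_mem_normalizer hb0 (h _ hx)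

/-- the `(-1)`-eigenspace of `k` on the abelian section `U / U₀`. -/
def secNeg (U U₀ : Subgroup G) (hUn : U ≤ Subgroup.normalizer (U₀ : Set G)) (hab : ⁅U, U⁆ ≤ U₀)
    (k : G) : Subgroup G where
  carrier := {u | u ∈ U ∧ k * u * k⁻¹ * u ∈ U₀}
  one_mem' := ⟨one_mem _, by simp⟩
  mul_mem' := by
    rintro u u' ⟨hu, ha⟩ ⟨hu', ha'⟩
    refine ⟨mul_mem hu hu', ?_⟩
    have e1 : k * (u * u') * k⁻¹ * (u * u') =
        (k * u * k⁻¹ * u) * (u⁻¹ * (k * u' * k⁻¹ * u') * u⁻¹⁻¹) * ⁅u⁻¹, u'⁻¹⁆ := by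
      simp only [commutatorElement_def]; group
    rw [e1]
    exact mul_mem (mul_mem ha (conj_mem_of_mem_normalizer (hUn (inv_mem hu)) ha'))
      (hab (Subgroup.commutator_mem_commutator (inv_mem hu) (inv_mem hu')))
  inv_mem' := by
    rintro u ⟨hu, ha⟩
    refine ⟨inv_mem hu, ?_⟩
    have e1 : k * u⁻¹ * k⁻¹ * u⁻¹ = (u * (k * u * k⁻¹ * u) * u⁻¹)⁻¹ := by group
    rw [e1]
    exact inv_mem (conj_mem_of_mem_normalizer (hUn hu) ha)

theorem mem_secNeg {hUn : U ≤ Subgroup.normalizer (U₀ : Set G)} {hab : ⁅U, U⁆ ≤ U₀} {k u : G} :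
    u ∈ secNeg U U₀ hUn hab k ↔ u ∈ U ∧ k * u * k⁻¹ * u ∈ U₀ := Iff.rfl

end General

variable [Finite G] {p : ℕ} [Fact p.Prime]
variable {P M E W Z B F B' : Subgroup G}

/-- `B` normalizes `E`. -/
theorem Exc.B_le_nE (hx : Exc p P E W Z B) : B ≤ Subgroup.normalizer (E : Set G) := by
  have h := le_normalizer_commutator_right E B
  rwa [hx.BE] at h

/-- some element of `B` does not centralize `W`. -/
theorem Exc.exists_b (hA : Amb p P M) (hE : Blk p P M E W Z B) (hx : Exc p P E W Z B) :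
    ∃ b ∈ B, b ∉ Subgroup.centralizer (W : Set G) := by
  by_contra hcon
  push Not at hcon
  have hBW : B ≤ Subgroup.centralizer (W : Set G) := hcon
  have hEn : E ≤ Subgroup.normalizer ((Subgroup.centralizer (W : Set G) : Subgroup G) : Set G) :=
    (Blk.E_le_nE.trans hE.nW).trans (normalizer_le_centralizer W)
  have h1 : ⁅E, B⁆ ≤ Subgroup.centralizer (W : Set G) := commutator_le_of_le_normalizer hBW hEn
  rw [hx.BE] at h1
  apply hE.Vne
  rw [← hE.VV, Subgroup.commutator_eq_bot_iff_le_centralizer]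
  intro v hv
  rw [Subgroup.mem_centralizer_iff]
  intro e he
  exact (Subgroup.mem_centralizer_iff.1 (h1 he) v (hE.V_le_W hv)).symm

/-- an element centralizing `V` and normalizing `Z` centralizes `W / Z`. -/
theorem Blk.secTriv_W_of_cV (hA : Amb p P M) (hE : Blk p P M E W Z B) {g : G}
    (hgV : g ∈ Subgroup.centralizer ((⁅M, E⁆ : Subgroup G) : Set G))
    (hgZ : g ∈ Subgroup.normalizer (Z : Set G)) : SecTriv W Z g := by
  intro w hw
  have hW := hE.WVZ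
  rw [hW] at hw
  have hZV : Z ≤ Subgroup.normalizer ((⁅M, E⁆ : Subgroup G) : Set G) := by
    apply le_normalizer_of_forall_conj
    intro z hz v hv
    have := hE.W_comm hA (hE.Z_le_W hz) (hE.V_le_W hv)
    rw [this]; simpa using hv
  obtain ⟨v, hv, z, hz, rfl⟩ := Cfsg.Agent.Helper1.mem_sup_of_le_normalizer hZV hw
  have hgv : g * v = v * g := (Subgroup.mem_centralizer_iff.1 hgV v hv).symm
  have e1 : ⁅g, v * z⁆ = v * ⁅g, z⁆ * v⁻¹ := by
    have : ⁅g, v * z⁆ = (g * v) * z * g⁻¹ * z⁻¹ * v⁻¹ := by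
      simp only [commutatorElement_def]; group
    rw [this, hgv]
    simp only [commutatorElement_def]; group
  rw [e1]
  have hzz : ⁅g, z⁆ ∈ Z := by
    have e2 : ⁅g, z⁆ = (g * z * g⁻¹) * z⁻¹ := by simp only [commutatorElement_def]
    rw [e2]
    exact mul_mem (conj_mem_of_mem_normalizer hgZ hz) (inv_mem hz)
  have hvz : v * ⁅g, z⁆ = ⁅g, z⁆ * v := hE.W_comm hA (hE.V_le_W hv) (hE.Z_le_W hzz)
  rw [hvz]
  simpa using hzz

namespace NCfg

variable (c : NCfg p P M E W Z B F B')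

include c

/-- the twisted case is impossible. -/
theorem twisted_false (hA : Amb p P M) {k : G} (hkL : k ∈ E ⊔ F)
    (hkV : k ∈ Subgroup.centralizer ((⁅M, E⁆ : Subgroup G) : Set G))
    (hkinv : SecInv (E ⊓ P) W k) : False := by
  have hp3 := c.xE.p3
  subst hp3
  haveI : Fact (Nat.Prime 2) := ⟨by norm_num⟩
  -- basic normalizer facts
  have hQp : IsPGroup 3 (E ⊓ P : Subgroup G) := hA.Pp.to_le inf_le_right
  have hnQ : ∀ x ∈ E ⊔ F, x ∈ Subgroup.normalizer ((E ⊓ P : Subgroup G) : Set G) :=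
    fun x hx => Blk.nQ hA (c.L_le_nE hx)
  have hnW : ∀ x ∈ E ⊔ F, x ∈ Subgroup.normalizer (W : Set G) := fun x hx => c.hE.nW (c.L_le_nE hx)
  have hnZ : ∀ x ∈ E ⊔ F, x ∈ Subgroup.normalizer (Z : Set G) := fun x hx => c.hE.nZ (c.L_le_nE hx)
  have hZQ : Z ≤ E ⊓ P := c.hE.Z_le_W.trans c.hE.WE
  have hQZ : E ⊓ P ≤ Subgroup.normalizer (Z : Set G) := by
    apply le_normalizer_of_forall_conj
    intro q hq z hz
    rw [c.xE.conj_W hq (c.hE.Z_le_W hz)]; exact hz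
  have hQW : E ⊓ P ≤ Subgroup.normalizer (W : Set G) := c.xE.Q_le_nW
  have hab : ⁅E ⊓ P, E ⊓ P⁆ ≤ Z := c.xE.QQ.le
  -- the group `H` and its normal subgroup `K`
  set H : Subgroup G := Subgroup.normalizer ((E ⊓ P : Subgroup G) : Set G) ⊓
    Subgroup.normalizer (Z : Set G) with hH
  set K : Subgroup G := secCent (E ⊓ P) Z with hK
  have hKH : K ≤ H := fun g hg => Subgroup.mem_inf.2 ⟨hg.1, hg.2.1⟩
  have hHK : H ≤ Subgroup.normalizer (K : Set G) := le_normalizer_secCent inf_le_left inf_le_right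
  have hLH : E ⊔ F ≤ H := fun x hx => Subgroup.mem_inf.2 ⟨hnQ x hx, hnZ x hx⟩
  have hQK : E ⊓ P ≤ K := by
    intro q hq
    exact ⟨Subgroup.le_normalizer hq, hQZ hq, fun u hu => c.xE.comm_mem_Z hq hu⟩
  have hE2 : ∀ e ∈ E, ∃ n : ℕ, e ^ (2 ^ n) ∈ K := by
    intro e he
    refine ⟨3, hQK (Subgroup.mem_inf.2 ⟨pow_mem he _, ?_⟩)⟩
    have := pow_mem_of_index hA.Pn c.sE.idx he
    simpa using this
  have hF2 : ∀ e ∈ F, ∃ n : ℕ, e ^ (2 ^ n) ∈ K := by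
    intro e he
    refine ⟨3, hQK ?_⟩
    rw [c.hQ]
    refine Subgroup.mem_inf.2 ⟨pow_mem he _, ?_⟩
    have := pow_mem_of_index hA.Pn c.sF.idx he
    simpa using this
  obtain ⟨R, hER, hFR, hRH, hHR, hR2⟩ := exists_pgroup_closure (q := 2) hKH hHK
    (le_sup_left.trans hLH) (le_sup_right.trans hLH) c.hE.sn c.hF.sn hE2 hF2
  have hkR : k ∈ R := (sup_le hER hFR) hkL
  have hkH : k ∈ H := hLH hkL
  -- the element `b`
  obtain ⟨b, hbB, hbW⟩ := c.xE.exists_b hA c.hE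
  have hbE : b ∈ Subgroup.normalizer (E : Set G) := c.xE.B_le_nE hbB
  have hbQ : b ∈ Subgroup.normalizer ((E ⊓ P : Subgroup G) : Set G) := Blk.nQ hA hbE
  have hbZ : b ∈ Subgroup.normalizer (Z : Set G) := c.hE.nZ hbE
  have hbW' : b ∈ Subgroup.normalizer (W : Set G) := c.hE.nW hbE
  have hbH : b ∈ H := Subgroup.mem_inf.2 ⟨hbQ, hbZ⟩
  obtain ⟨j, hj⟩ := exists_pow_eq_one_of_isPGroup c.xE.Bp hbB
  -- `V` and centralizers
  have hbV : b ∈ Subgroup.normalizer ((Subgroup.centralizer ((⁅M, E⁆ : Subgroup G) : Set G) :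
      Subgroup G) : Set G) := normalizer_le_centralizer _ (Blk.nV hA hbE)
  have hW3 : IsPGroup 3 W := hA.Pp.to_le c.hE.W_le_P
  -- `k * k ∈ K`
  have hkk : k * k ∈ K := by
    obtain ⟨n, hn⟩ := hR2 (k * k) (mul_mem hkR hkR)
    have h1 : SecTriv (E ⊓ P) W (k * k) := by
      have := secTriv_of_secInv_secInv hQW (inv_mem (hnQ k hkL)) (inv_mem (hnW k hkL))
        (SecInv.inv' hQW (hnQ k hkL) hkinv) hkinv
      rwa [inv_inv] at this
    have h2 : SecTriv W Z (k * k) :=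
      c.hE.secTriv_W_of_cV hA (mul_mem hkV hkV) (mul_mem (hnZ k hkL) (hnZ k hkL))
    exact secTriv_of_chain hZQ hQZ (mul_mem (hnQ k hkL) (hnQ k hkL))
      (mul_mem (hnZ k hkL) (hnZ k hkL)) h1 c.hE.WE h2 hW3 hn
  -- `c₀ = k⁻¹ (b k b⁻¹) ∈ K`
  have hc0 : k⁻¹ * (b * k * b⁻¹) ∈ K := by
    have hbk : b * k * b⁻¹ ∈ R := conj_mem_of_mem_normalizer (hHR hbH) hkR
    obtain ⟨n, hn⟩ := hR2 _ (mul_mem (inv_mem hkR) hbk)
    have hbkH : b * k * b⁻¹ ∈ H := hRH hbk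
    have h1 : SecTriv (E ⊓ P) W (k⁻¹ * (b * k * b⁻¹)) :=
      secTriv_of_secInv_secInv hQW (hnQ k hkL) (hnW k hkL) hkinv (SecInv.conj hbQ hbW' hkinv)
    have h2 : SecTriv W Z (k⁻¹ * (b * k * b⁻¹)) := by
      apply c.hE.secTriv_W_of_cV hA
      · exact mul_mem (inv_mem hkV) (conj_mem_of_mem_normalizer hbV hkV)
      · exact mul_mem (inv_mem (hnZ k hkL)) (Subgroup.mem_inf.1 hbkH).2
    exact secTriv_of_chain hZQ hQZ (mul_mem (inv_mem (hnQ k hkL)) (Subgroup.mem_inf.1 hbkH).1)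
      (mul_mem (inv_mem (hnZ k hkL)) (Subgroup.mem_inf.1 hbkH).2) h1 c.hE.WE h2 hW3 hn
  -- the eigenspace `D`
  set D : Subgroup G := secNeg (E ⊓ P) Z hQZ hab k with hD
  have hDQ : D ≤ E ⊓ P := fun u hu => hu.1
  have hZD : Z ≤ D := by
    intro z hz
    exact ⟨hZQ hz, mul_mem (conj_mem_of_mem_normalizer (hnZ k hkL) hz) hz⟩
  -- decomposition
  have hdec : ∀ u ∈ E ⊓ P, ∃ d ∈ D, ∃ w ∈ W, u = d * w := by
    intro u hu
    have hu1 : k * u * k⁻¹ ∈ E ⊓ P := conj_mem_of_mem_normalizer (hnQ k hkL) hu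
    have hd0 : u * (k * u * k⁻¹)⁻¹ ∈ D := by
      refine ⟨mul_mem hu (inv_mem hu1), ?_⟩
      have hz : ⁅k * k, u⁻¹⁆ ∈ Z := hkk.2.2 _ (inv_mem hu)
      have e1 : k * (u * (k * u * k⁻¹)⁻¹) * k⁻¹ * (u * (k * u * k⁻¹)⁻¹) =
          (k * u * k⁻¹) * ⁅k * k, u⁻¹⁆ * (k * u * k⁻¹)⁻¹ := by
        simp only [commutatorElement_def]; group
      rw [e1]
      exact conj_mem_of_mem_normalizer (hQZ hu1) hz
    have hw0 : k * u * k⁻¹ * u ∈ W := hkinv u hu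
    have hcomm : (u * (k * u * k⁻¹)⁻¹) * (k * u * k⁻¹ * u) =
        (k * u * k⁻¹ * u) * (u * (k * u * k⁻¹)⁻¹) :=
      (Subgroup.mem_centralizer_iff.1 (c.xE.cW hw0) _ (hDQ hd0))
    have h2 : (u * (k * u * k⁻¹)⁻¹) * (k * u * k⁻¹ * u) = u * u := by group
    have hu3 : u ^ 3 ∈ W := c.xE.Qexp u hu
    refine ⟨(u * (k * u * k⁻¹)⁻¹) * (u * (k * u * k⁻¹)⁻¹), mul_mem hd0 hd0,
      (k * u * k⁻¹ * u) * (k * u * k⁻¹ * u) * (u ^ 3)⁻¹, mul_mem (mul_mem hw0 hw0) (inv_mem hu3), ?_⟩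
    set d₀ := u * (k * u * k⁻¹)⁻¹ with hd₀
    set w₀ := k * u * k⁻¹ * u with hw₀
    calc u = (u * u) * (u * u) * (u ^ 3)⁻¹ := by group
      _ = (d₀ * w₀) * (d₀ * w₀) * (u ^ 3)⁻¹ := by rw [h2]
      _ = d₀ * (w₀ * d₀) * w₀ * (u ^ 3)⁻¹ := by group
      _ = d₀ * (d₀ * w₀) * w₀ * (u ^ 3)⁻¹ := by rw [hcomm]
      _ = d₀ * d₀ * (w₀ * w₀ * (u ^ 3)⁻¹) := by group
  -- `D ⊓ W = Z`
  have hkWZ : SecTriv W Z k := c.hE.secTriv_W_of_cV hA hkV (hnZ k hkL)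
  have hDW : D ⊓ W = Z := by
    apply le_antisymm _ (le_inf hZD c.hE.Z_le_W)
    intro d hd
    obtain ⟨hdD, hdW⟩ := Subgroup.mem_inf.1 hd
    have h1 : ⁅k, d⁆ ∈ Z := hkWZ d hdW
    have h2 : k * d * k⁻¹ * d ∈ Z := hdD.2
    have hdd : d ^ 2 ∈ Z := by
      have e1 : d ^ 2 = d⁻¹ * ((⁅k, d⁆)⁻¹ * (k * d * k⁻¹ * d)) * d⁻¹⁻¹ := by
        rw [pow_two]; simp only [commutatorElement_def]; group
      rw [e1]
      exact conj_mem_of_mem_normalizer (hQZ (inv_mem hdD.1)) (mul_mem (inv_mem h1) h2)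
    obtain ⟨n, hn⟩ := exists_pow_eq_one_of_isPGroup hW3 hdW
    have hco : (2 : ℕ).Coprime (orderOf d) := by
      have hdvd : orderOf d ∣ 3 ^ n := orderOf_dvd_of_pow_eq_one hn
      exact Nat.Coprime.coprime_dvd_right hdvd (Nat.Coprime.pow_right n (by norm_num))
    obtain ⟨m, hm⟩ := exists_pow_eq_self_of_coprime hco
    rw [← hm]
    exact pow_mem hdd m
  have hDsupW : D ⊔ W = E ⊓ P := by
    apply le_antisymm (sup_le hDQ c.hE.WE)
    intro u hu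
    obtain ⟨d, hd, w, hw, rfl⟩ := hdec u hu
    exact mul_mem (Subgroup.mem_sup_left hd) (Subgroup.mem_sup_right hw)
  have hcardD : Nat.card D = 9 * Nat.card Z := by
    have hWD : W ≤ Subgroup.normalizer (D : Set G) := by
      apply le_normalizer_of_forall_conj
      intro w hw d hd
      have := (Subgroup.mem_centralizer_iff.1 (c.xE.cW hw) d (hDQ hd)).symm
      rw [this]; simpa using hd
    have h1 := Cfsg.Agent.Helper1.card_sup_mul_card_inf hWD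
    rw [hDsupW, hDW, c.sE.cardQ c.xE.Q_ne_W] at h1
    have hpos : 0 < Nat.card W := Nat.card_pos
    have h2 : Nat.card W * (9 * Nat.card Z) = Nat.card W * Nat.card D := by
      rw [← mul_comm (Nat.card D), ← h1]; ring
    exact (Nat.eq_of_mul_eq_mul_left hpos h2).symm
  -- `b` normalizes `D`
  have hbD : b ∈ Subgroup.normalizer (D : Set G) := by
    apply Cfsg.Agent.Helper4.SubnormalPRad.mem_normalizer_of_conj_mem'
    intro d hd
    refine ⟨conj_mem_of_mem_normalizer hbQ hd.1, ?_⟩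
    -- `c₁ = k⁻¹ b⁻¹ k b ∈ K`
    have hc1 : k⁻¹ * (b⁻¹ * k * b) ∈ K := by
      have e1 : k⁻¹ * (b⁻¹ * k * b) = b⁻¹ * (k⁻¹ * (b * k * b⁻¹))⁻¹ * b⁻¹⁻¹ := by group
      rw [e1]
      exact conj_mem_of_mem_normalizer (hHK (inv_mem hbH)) (inv_mem hc0)
    have hz1 : ⁅k⁻¹ * (b⁻¹ * k * b), d⁆ ∈ Z := hc1.2.2 d hd.1
    have e2 : k * (b * d * b⁻¹) * k⁻¹ * (b * d * b⁻¹) =
        b * ((k * ⁅k⁻¹ * (b⁻¹ * k * b), d⁆ * k⁻¹) * (k * d * k⁻¹ * d)) * b⁻¹ := by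
      simp only [commutatorElement_def]; group
    rw [e2]
    exact conj_mem_of_mem_normalizer hbZ
      (mul_mem (conj_mem_of_mem_normalizer (hnZ k hkL) hz1) hd.2)
  -- quadratic action
  have hqD := quadratic_sec9 hZD (hDQ.trans hQZ) ((Subgroup.commutator_mono hDQ hDQ).trans hab) hcardD
    (hQp.to_le hDQ) hbD hbZ hj
  have hqW := quadratic_sec9 c.hE.Z_le_W (c.hE.WE.trans hQZ)
    (by
      rw [Subgroup.commutator_le]
      intro x hx y hy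
      have : ⁅x, y⁆ = 1 := by
        rw [commutatorElement_eq_one_iff_mul_comm]; exact c.hE.W_comm hA hx hy
      rw [this]; exact one_mem _) c.sE.cardW hW3 hbW' hbZ hj
  have hfin := quadratic_comm hZQ hQZ hab hbQ hbZ hdec hDQ
    (fun d hd => ⟨hDQ (hqD d hd).1, (hqD d hd).2⟩)
    (fun w hw => ⟨c.hE.WE (hqW w hw).1, (hqW w hw).2⟩)
  exact c.xE.Bq b hbB hbW hfin

end NCfg

end Cfsg.Agent.Helper5.SB
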