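import Mathlib
import Cfsg.Agent.Helper5.SBN

set_option autoImplicit false
set_option linter.unusedSectionVars false
set_option linter.style.haveILetI false

/-!
Helper5, S2986: two blocks of small type (`p = 3`) normalizing each other are equal or commute.
-/

namespace Cfsg.Agent.Helper5.SB

open scoped commutatorElement
open Cfsg.Agent.Helper9.BB

universe u

variable {G : Type u} [Group G] [Finite G] {p : ℕ} [Fact p.Prime]
variable {P M E W Z B F W' Z' B' : Subgroup G} {t a a' : G}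

theorem NCfg.le (c : NCfg p P M E W Z B F B') (hD : Q8Stmt.{u}) (hA : Amb p P M) : F ≤ E := by
  apply c.hE.le_of_le_sup_pgroup c.hF (c.K0_pgroup hA)
  · intro x hx
    exact c.L_le_nE (Subgroup.mem_inf.1 (Subgroup.mem_inf.1 hx).1).1
  · intro f hf
    rcases c.cover_or_twist hD hA hf with ⟨g, hg, hgf⟩ | ⟨k, hkL, hkV, hkinv⟩
    · have : f = g * (g⁻¹ * f) := by group
      rw [this]
      exact mul_mem (Subgroup.mem_sup_left hg) (Subgroup.mem_sup_right hgf)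
    · exact (c.twisted_false hA hkL hkV hkinv).elim

/-- an element congruent to `t` modulo `P` inverts `V`. -/
theorem Blk.s3_inv' (hA : Amb p P M) (hE : Blk p P M E W Z B) (hs : Small3 p P E W Z)
    (d : S3Data P E t a a') {t' : G} (h : t' * t⁻¹ ∈ P) : ∀ v ∈ ⁅M, E⁆, t' * v * t'⁻¹ = v⁻¹ := by
  intro v hv
  have h1 : t * v * t⁻¹ = v⁻¹ := hE.s3_inv hA hs d v hv
  have h3 : (t' * t⁻¹) * v⁻¹ = v⁻¹ * (t' * t⁻¹) :=
    (Subgroup.mem_centralizer_iff.1 (Blk.P_le_cV hA h) _ (inv_mem hv)).symm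
  calc t' * v * t'⁻¹ = (t' * t⁻¹) * (t * v * t⁻¹) * (t' * t⁻¹)⁻¹ := by group
    _ = (t' * t⁻¹) * v⁻¹ * (t' * t⁻¹)⁻¹ := by rw [h1]
    _ = v⁻¹ := by rw [h3]; group

/-- if an element of `F` inverts `V_E` (`p = 3`) then `V_E ≤ V_F`. -/
theorem Blk.V_le_of_inv (hA : Amb p P M) (hp : p = 3) {t' : G} (ht'F : t' ∈ F)
    (hinv : ∀ v ∈ ⁅M, E⁆, t' * v * t'⁻¹ = v⁻¹) : ⁅M, E⁆ ≤ ⁅M, F⁆ := by
  intro v hv
  have hvM : v ∈ M := Blk.V_le_M hA hv
  have h1 : ⁅v, t'⁆ ∈ ⁅M, F⁆ := Subgroup.commutator_mem_commutator hvM ht'F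
  have e1 : ⁅v, t'⁆ = v * v := by
    have : ⁅v, t'⁆ = v * (t' * v * t'⁻¹)⁻¹ := by simp only [commutatorElement_def]; group
    rw [this, hinv v hv, inv_inv]
  rw [e1] at h1
  have h3 : v ^ 3 = 1 := by
    have := hA.Mexp v hvM
    rwa [hp] at this
  have e2 : v = (v * v) * (v * v) * (v ^ 3)⁻¹ := by group
  rw [e2, h3, inv_one, mul_one]
  exact mul_mem h1 h1

/-- the mixed case (`E` exceptional, `F` not) is impossible when `E ∩ F ⊄ P`. -/
theorem Blk.mixed_false (hE : Blk p P M E W Z B) (xE : Exc p P E W Z B)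
    (hQF : F ⊓ P = ⁅M, F⁆) (hV : ⁅M, E⁆ = ⁅M, F⁆) {t' : G} (ht'E : t' ∈ E) (ht'F : t' ∈ F)
    (ht'P : t' ∉ P) (hPn : P.Normal) (hEnF : E ≤ Subgroup.normalizer (F : Set G)) : False := by
  apply ht'P
  apply xE.faithQ t' ht'E
  intro u hu
  apply hE.V_le_W
  rw [hV, ← hQF]
  obtain ⟨huE, huP⟩ := Subgroup.mem_inf.1 hu
  refine Subgroup.mem_inf.2 ⟨?_, ?_⟩
  · have e1 : ⁅t', u⁆ = t' * (u * t'⁻¹ * u⁻¹) := by simp only [commutatorElement_def]; group
    rw [e1]
    exact mul_mem ht'F (conj_mem_of_mem_normalizer (hEnF huE) (inv_mem ht'F))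
  · have e1 : ⁅t', u⁆ = (t' * u * t'⁻¹) * u⁻¹ := by simp only [commutatorElement_def]
    rw [e1]
    exact mul_mem (hPn.conj_mem _ huP _) (inv_mem huP)

/-- `X = Q_E ∩ Q_F` is not contained in `W_E` when `E ∩ F ⊄ P`. -/
theorem Blk.X_not_le_W (hA : Amb p P M) (xE : Exc p P E W Z B) {t' : G} (ht'E : t' ∈ E)
    (ht'F : t' ∈ F) (ht'P : t' ∉ P) (hEnF : E ≤ Subgroup.normalizer (F : Set G)) :
    ¬ (E ⊓ P) ⊓ (F ⊓ P) ≤ W := by
  intro hX
  apply ht'P
  apply xE.faithQ t' ht'E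
  intro u hu
  apply hX
  obtain ⟨huE, huP⟩ := Subgroup.mem_inf.1 hu
  have hP : ⁅t', u⁆ ∈ P := by
    have e1 : ⁅t', u⁆ = (t' * u * t'⁻¹) * u⁻¹ := by simp only [commutatorElement_def]
    rw [e1]
    exact mul_mem (hA.Pn.conj_mem _ huP _) (inv_mem huP)
  refine Subgroup.mem_inf.2 ⟨Subgroup.mem_inf.2 ⟨?_, hP⟩, Subgroup.mem_inf.2 ⟨?_, hP⟩⟩
  · have e1 : ⁅t', u⁆ = (t' * u * t'⁻¹) * u⁻¹ := by simp only [commutatorElement_def]
    rw [e1]
    exact mul_mem (mul_mem (mul_mem ht'E huE) (inv_mem ht'E)) (inv_mem huE)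
  · have e1 : ⁅t', u⁆ = t' * (u * t'⁻¹ * u⁻¹) := by simp only [commutatorElement_def]; group
    rw [e1]
    exact mul_mem ht'F (conj_mem_of_mem_normalizer (hEnF huE) (inv_mem ht'F))

/-- two blocks of small type, `p = 3`, normalizing each other. -/
theorem Blk.nn_small3 (hD : Q8Stmt.{u}) (hA : Amb p P M) (hE : Blk p P M E W Z B)
    (hF : Blk p P M F W' Z' B') (hsE : Small3 p P E W Z) (hsF : Small3 p P F W' Z')
    (hFE : F ≤ Subgroup.normalizer (E : Set G)) (hEnF : E ≤ Subgroup.normalizer (F : Set G)) :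
    E = F ∨ ⁅E, F⁆ = ⊥ := by
  by_cases hI : E ⊓ F ≤ P
  · have hc : ⁅E, F⁆ ≤ P := by
      refine le_trans (le_inf ?_ ?_) hI
      · rw [Subgroup.commutator_comm]
        exact commutator_le_of_le_normalizer le_rfl hFE
      · exact commutator_le_of_le_normalizer le_rfl hEnF
    exact hE.partII hD hA hF hc
  · left
    obtain ⟨x, hx, hxP⟩ := SetLike.not_le_iff_exists.1 hI
    obtain ⟨hxE, hxF⟩ := Subgroup.mem_inf.1 hx
    obtain ⟨t, a, a', d⟩ := hsE.data
    obtain ⟨s, b, b', d'⟩ := hsF.data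
    obtain ⟨t', ht'E, ht'F, ht't⟩ : ∃ t', t' ∈ E ∧ t' ∈ F ∧ t' * t⁻¹ ∈ P := by
      rcases d.cos x hxE with h | h | h
      · exact (hxP h).elim
      · exact ⟨x, hxE, hxF, h⟩
      · exact ⟨x * x, mul_mem hxE hxE, mul_mem hxF hxF, h⟩
    have ht'P : t' ∉ P := by
      intro h
      apply d.tP
      have : t = (t' * t⁻¹)⁻¹ * t' := by group
      rw [this]
      exact mul_mem (inv_mem ht't) h
    have ht's : t' * s⁻¹ ∈ P := by
      rcases d'.cos t' ht'F with h | h | h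
      · exact (ht'P h).elim
      · exact h
      · exfalso
        apply d'.tP
        have h2 : t' * t' ∈ P := by
          have e : t' * t' = (t' * t⁻¹) * (t * (t' * t⁻¹) * t⁻¹) * (t * t) := by group
          rw [e]
          exact mul_mem (mul_mem ht't (hA.Pn.conj_mem _ ht't _)) d.t2
        have : s = (t' * t' * s⁻¹)⁻¹ * (t' * t') := by group
        rw [this]
        exact mul_mem (inv_mem h) h2
    have hV : ⁅M, E⁆ = ⁅M, F⁆ := by
      apply le_antisymm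
      · exact Blk.V_le_of_inv hA hsE.p3 ht'F (hE.s3_inv' hA hsE d ht't)
      · exact Blk.V_le_of_inv hA hsE.p3 ht'E (hF.s3_inv' hA hsF d' ht's)
    rcases hE.kind with hQE | xE <;> rcases hF.kind with hQF | xF
    · apply le_antisymm
      · exact hF.le_of_cover hA hE hEnF hQF hQE hV.symm (hF.small3_cover hD hA hE hsF hsE hV.symm)
      · exact hE.le_of_cover hA hF hFE hQE hQF hV (hE.small3_cover hD hA hF hsE hsF hV)
    · exact (hF.mixed_false xF hQE hV.symm ht'F ht'E ht'P hA.Pn hFE).elim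
    · exact (hE.mixed_false xE hQF hV ht'E ht'F ht'P hA.Pn hEnF).elim
    · have hXW : ¬ (E ⊓ P) ⊓ (F ⊓ P) ≤ W := Blk.X_not_le_W hA xE ht'E ht'F ht'P hEnF
      have hXW' : ¬ (E ⊓ P) ⊓ (F ⊓ P) ≤ W' := by
        have := Blk.X_not_le_W hA xF ht'F ht'E ht'P hFE
        rwa [inf_comm] at this
      have supE := xE.sup_X hA hE hEnF hXW
      have supF : ((E ⊓ P) ⊓ (F ⊓ P)) ⊔ W' = F ⊓ P := by
        have h3 := xF.sup_X hA hF hFE (by rw [inf_comm]; exact hXW')
        rw [inf_comm] at h3; exact h3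
      have hZ : Z = Z' := by
        rw [xE.Z_eq_of_sup hE inf_le_left supE, xF.Z_eq_of_sup hF inf_le_right supF]
      have hW : W = W' := by
        have h1 := hE.WVZ
        have h2 := hF.WVZ
        rw [h1, h2, hV, hZ]
      subst hZ
      subst hW
      have hQ : E ⊓ P = F ⊓ P := supE.symm.trans supF
      have c : NCfg p P M E W Z B F B' := ⟨hE, hF, xE, xF, hsE, hsF, hFE, hEnF, hQ, hV⟩
      exact le_antisymm (c.symm.le hD hA) (c.le hD hA)

end Cfsg.Agent.Helper5.SB
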