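import Mathlib
import Cfsg.Agent.Helper5.SBO

set_option autoImplicit false
set_option linter.unusedSectionVars false
set_option linter.style.haveILetI false

/-!
Helper5, S2986: "Lemma Z": two blocks `E, F` of the same small type such that `F` does not normalize `E`, while any two
`F`-conjugates of `E` are equal or commute: impossible.
-/

namespace Cfsg.Agent.Helper5.SB

open scoped commutatorElement
open Cfsg.Agent.Helper9.BB

universe u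

variable {G : Type u} [Group G]

/-- conjugation by `g` as a monoid homomorphism. -/
abbrev cj (g : G) : G →* G := (MulAut.conj g).toMonoidHom

theorem cj_apply (g x : G) : cj g x = g * x * g⁻¹ := rfl

theorem mem_map_cj {E : Subgroup G} {g x : G} : x ∈ E.map (cj g) ↔ g⁻¹ * x * g ∈ E := by
  constructor
  · rintro ⟨e, he, rfl⟩
    have : g⁻¹ * cj g e * g = e := by rw [cj_apply]; group
    rw [this]; exact he
  · intro h
    refine ⟨g⁻¹ * x * g, h, ?_⟩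
    rw [cj_apply]; group

theorem conj_mem_map_cj {E : Subgroup G} {g e : G} (he : e ∈ E) : g * e * g⁻¹ ∈ E.map (cj g) :=
  ⟨e, he, rfl⟩

theorem map_cj_one (E : Subgroup G) : E.map (cj 1) = E := by
  ext x
  rw [mem_map_cj]
  simp

theorem map_cj_mul (E : Subgroup G) (g h : G) : E.map (cj (g * h)) = (E.map (cj h)).map (cj g) := by
  ext x
  simp only [mem_map_cj]
  have : (g * h)⁻¹ * x * (g * h) = h⁻¹ * (g⁻¹ * x * g) * h := by group
  rw [this]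

theorem map_cj_inj {A C : Subgroup G} {g : G} (h : A.map (cj g) = C.map (cj g)) : A = C :=
  Subgroup.map_injective (MulAut.conj g).injective h

variable [Finite G] {p : ℕ} [Fact p.Prime]
variable {P M E W Z B F W' Z' B' : Subgroup G} {f : G}

theorem Amb.map_P (hA : Amb p P M) (g : G) : P.map (cj g) = P :=
  map_eq_of_mem_normalizer (hA.nP ⊤ (Subgroup.mem_top g))

theorem Amb.map_M (hA : Amb p P M) (g : G) : M.map (cj g) = M :=
  map_eq_of_mem_normalizer (hA.nM ⊤ (Subgroup.mem_top g))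

theorem Amb.V_map (hA : Amb p P M) (E : Subgroup G) (g : G) :
    ⁅M, E.map (cj g)⁆ = (⁅M, E⁆).map (cj g) := by
  rw [Subgroup.map_commutator, hA.map_M]

/-- the configuration of Lemma Z. -/
structure ZCfg (p : ℕ) (P M E W Z B F W' Z' B' : Subgroup G) (f : G) : Prop where
  hA : Amb p P M
  hE : Blk p P M E W Z B
  hF : Blk p P M F W' Z' B'
  hf : f ∈ F
  hne : E.map (cj f) ≠ E
  pair : ∀ g ∈ F, ∀ h ∈ F, E.map (cj g) = E.map (cj h) ∨ ⁅E.map (cj g), E.map (cj h)⁆ = ⊥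
  fpf : ∀ v ∈ ⁅M, E⁆, (∀ e ∈ E, e * v = v * e) → v = 1
  card : Nat.card (⁅M, E⁆ : Subgroup G) = Nat.card (⁅M, F⁆ : Subgroup G)

namespace ZCfg

variable (c : ZCfg p P M E W Z B F W' Z' B' f)

include c

/-- distinct conjugates: `E^h` centralizes `V^g`. -/
theorem cV (hD : Q8Stmt.{u}) {g h : G} (hg : g ∈ F) (hh : h ∈ F)
    (hne : E.map (cj g) ≠ E.map (cj h)) :
    ∀ x ∈ E.map (cj h), ∀ v ∈ ⁅M, E.map (cj g)⁆, x * v = v * x := by
  have hc : ⁅E.map (cj g), E.map (cj h)⁆ = ⊥ := by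
    rcases c.pair g hg h hh with h1 | h1
    · exact (hne h1).elim
    · exact h1
  have h2 := Blk.comm_distinct hD c.hA (c.hE.conj c.hA g) (c.hE.conj c.hA h) hc hne
  rw [Subgroup.commutator_eq_bot_iff_le_centralizer] at h2
  intro x hx v hv
  exact Subgroup.mem_centralizer_iff.1 (h2 hv) x hx

theorem cV_E1 (hD : Q8Stmt.{u}) : ∀ x ∈ E.map (cj f), ∀ v ∈ ⁅M, E⁆, x * v = v * x := by
  have h := c.cV hD (one_mem F) c.hf (by rw [map_cj_one]; exact c.hne.symm)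
  rw [map_cj_one] at h
  exact h

theorem cV1_E (hD : Q8Stmt.{u}) : ∀ x ∈ E, ∀ v ∈ ⁅M, E.map (cj f)⁆, x * v = v * x := by
  have h := c.cV hD c.hf (one_mem F) (by rw [map_cj_one]; exact c.hne)
  rw [map_cj_one] at h
  exact h

theorem conj_mem_V1 {v : G} (hv : v ∈ ⁅M, E⁆) : f * v * f⁻¹ ∈ ⁅M, E.map (cj f)⁆ := by
  rw [c.hA.V_map]
  exact conj_mem_map_cj hv

/-- `V ∩ V₁ = 1`. -/
theorem V_inf_V1 (hD : Q8Stmt.{u}) {u : G} (hu : u ∈ ⁅M, E⁆) (hu1 : u ∈ ⁅M, E.map (cj f)⁆) :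
    u = 1 :=
  c.fpf u hu (fun e he => c.cV1_E hD e he u hu1)

theorem comm_mem_VF {v : G} (hv : v ∈ ⁅M, E⁆) : v * (f * v⁻¹ * f⁻¹) ∈ ⁅M, F⁆ := by
  have h1 : ⁅v, f⁆ ∈ ⁅M, F⁆ := Subgroup.commutator_mem_commutator (Blk.V_le_M c.hA hv) c.hf
  have e1 : ⁅v, f⁆ = v * (f * v⁻¹ * f⁻¹) := by simp only [commutatorElement_def]; group
  rwa [e1] at h1

/-- every element of `V_F` is `[v, f]` for some `v ∈ V`. -/
theorem surj (hD : Q8Stmt.{u}) : ∀ w ∈ ⁅M, F⁆, ∃ v ∈ ⁅M, E⁆, w = v * (f * v⁻¹ * f⁻¹) := by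
  let φ : ↥(⁅M, E⁆ : Subgroup G) → ↥(⁅M, F⁆ : Subgroup G) :=
    fun v => ⟨(v : G) * (f * (v : G)⁻¹ * f⁻¹), c.comm_mem_VF v.2⟩
  have hinj : Function.Injective φ := by
    intro v v' h
    have h1 : (v : G) * (f * (v : G)⁻¹ * f⁻¹) = (v' : G) * (f * (v' : G)⁻¹ * f⁻¹) :=
      congrArg Subtype.val h
    have hM : ∀ x ∈ M, ∀ y ∈ M, x * y = y * x := fun x hx y hy => c.hA.M_comm hx hy
    have hvM : (v : G) ∈ M := Blk.V_le_M c.hA v.2
    have hv'M : (v' : G) ∈ M := Blk.V_le_M c.hA v'.2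
    haveI := c.hA.Mn
    have hfv : f * (v : G)⁻¹ * f⁻¹ ∈ M := c.hA.Mn.conj_mem _ (inv_mem hvM) f
    have hfv' : f * (v' : G)⁻¹ * f⁻¹ ∈ M := c.hA.Mn.conj_mem _ (inv_mem hv'M) f
    -- `u = v'⁻¹ v` is fixed by `f`
    have hu : f * ((v' : G)⁻¹ * (v : G)) * f⁻¹ = (v' : G)⁻¹ * (v : G) := by
      have e1 : (v' : G)⁻¹ * (v : G) = (f * (v' : G)⁻¹ * f⁻¹) * (f * (v : G)⁻¹ * f⁻¹)⁻¹ := by
        have e2 : (v' : G)⁻¹ * ((v : G) * (f * (v : G)⁻¹ * f⁻¹)) * (f * (v : G)⁻¹ * f⁻¹)⁻¹ =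
            (v' : G)⁻¹ * (v : G) := by group
        rw [← e2, h1]
        group
      have e3 : f * ((v' : G)⁻¹ * (v : G)) * f⁻¹ =
          (f * (v' : G)⁻¹ * f⁻¹) * (f * (v : G)⁻¹ * f⁻¹)⁻¹ := by group
      rw [e3, ← e1]
    have huV : (v' : G)⁻¹ * (v : G) ∈ ⁅M, E⁆ := mul_mem (inv_mem v'.2) v.2
    have hu1 : (v' : G)⁻¹ * (v : G) ∈ ⁅M, E.map (cj f)⁆ := by
      rw [← hu]; exact c.conj_mem_V1 huV
    have := c.V_inf_V1 hD huV hu1
    apply Subtype.ext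
    calc (v : G) = (v' : G) * ((v' : G)⁻¹ * (v : G)) := by group
      _ = (v' : G) := by rw [this, mul_one]
  have hbij : Function.Bijective φ :=
    Function.Injective.bijective_of_nat_card_le hinj c.card.ge
  intro w hw
  obtain ⟨v, hv⟩ := hbij.2 ⟨w, hw⟩
  exact ⟨v, v.2, (congrArg Subtype.val hv).symm⟩

/-- the orbit of `E` under `F` is `{E, E^f}`. -/
theorem orbit (hD : Q8Stmt.{u}) {g : G} (hg : g ∈ F) :
    E.map (cj g) = E ∨ E.map (cj g) = E.map (cj f) := by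
  by_contra hcon
  push Not at hcon
  obtain ⟨hg0, hg1⟩ := hcon
  -- `E^g` centralizes `V` and `V₁`
  have h0 : ∀ x ∈ E.map (cj g), ∀ v ∈ ⁅M, E⁆, x * v = v * x := by
    have h := c.cV hD (one_mem F) hg (by rw [map_cj_one]; exact hg0.symm)
    rw [map_cj_one] at h
    exact h
  have h1 : ∀ x ∈ E.map (cj g), ∀ v ∈ ⁅M, E.map (cj f)⁆, x * v = v * x :=
    c.cV hD c.hf hg (fun h => hg1 h.symm)
  -- hence `V_F`
  have h2 : ∀ x ∈ E.map (cj g), ∀ w ∈ ⁅M, F⁆, x * w = w * x := by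
    intro x hx w hw
    obtain ⟨v, hv, rfl⟩ := c.surj hD w hw
    have a1 := h0 x hx v hv
    have a2 := h1 x hx _ (c.conj_mem_V1 (inv_mem hv))
    calc x * (v * (f * v⁻¹ * f⁻¹)) = (x * v) * (f * v⁻¹ * f⁻¹) := by group
      _ = v * (x * (f * v⁻¹ * f⁻¹)) := by rw [a1]; group
      _ = v * (f * v⁻¹ * f⁻¹) * x := by rw [a2]; group
  -- so `E` centralizes `V_F`
  have hgVF : g ∈ Subgroup.normalizer ((⁅M, F⁆ : Subgroup G) : Set G) :=
    Blk.nV c.hA (Blk.E_le_nE hg)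
  have h3 : ∀ e ∈ E, ∀ w ∈ ⁅M, F⁆, e * w = w * e := by
    intro e he w hw
    have a1 := h2 _ (conj_mem_map_cj (g := g) he) _ (conj_mem_of_mem_normalizer hgVF hw)
    have e1 : e * w = g⁻¹ * ((g * e * g⁻¹) * (g * w * g⁻¹)) * g := by group
    rw [e1, a1]; group
  -- so `E` centralizes `V`
  apply c.hE.Vne
  rw [eq_bot_iff]
  intro v hv
  rw [Subgroup.mem_bot]
  apply c.fpf v hv
  intro e he
  have a1 := h3 e he _ (c.comm_mem_VF hv)
  have a2 := c.cV1_E hD e he _ (c.conj_mem_V1 (inv_mem hv))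
  have e1 : v = (v * (f * v⁻¹ * f⁻¹)) * (f * v⁻¹ * f⁻¹)⁻¹ := by group
  have a3 : e * (f * v⁻¹ * f⁻¹)⁻¹ = (f * v⁻¹ * f⁻¹)⁻¹ * e :=
    (Commute.inv_right (show Commute e (f * v⁻¹ * f⁻¹) from a2)).eq
  calc e * v = e * ((v * (f * v⁻¹ * f⁻¹)) * (f * v⁻¹ * f⁻¹)⁻¹) := by rw [← e1]
    _ = (e * (v * (f * v⁻¹ * f⁻¹))) * (f * v⁻¹ * f⁻¹)⁻¹ := by group
    _ = (v * (f * v⁻¹ * f⁻¹)) * (e * (f * v⁻¹ * f⁻¹)⁻¹) := by rw [a1]; group
    _ = (v * (f * v⁻¹ * f⁻¹)) * ((f * v⁻¹ * f⁻¹)⁻¹ * e) := by rw [a3]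
    _ = v * e := by group

end ZCfg

end Cfsg.Agent.Helper5.SB
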