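import Mathlib
import Cfsg.Agent.Helper5.SBP

set_option autoImplicit false
set_option linter.unusedSectionVars false
set_option linter.style.haveILetI false

/-!
Helper5, S2986: Lemma Z concluded, the induction, and the abstract main theorem.
-/

namespace Cfsg.Agent.Helper5.SB

open scoped commutatorElement
open Cfsg.Agent.Helper9.BB

universe u

variable {G : Type u} [Group G] [Finite G] {p : ℕ} [Fact p.Prime]
variable {P M E W Z B F W' Z' B' : Subgroup G} {f : G}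

namespace ZCfg

variable (c : ZCfg p P M E W Z B F W' Z' B' f)

include c

/-- Lemma Z, `p = 2`. -/
theorem small2_false (hD : Q8Stmt.{u}) (hsF : Small2 p P F W' Z') : False := by
  have hff : f * f ∈ F := mul_mem c.hf c.hf
  rcases c.orbit hD hff with h | h
  · -- `f² ∈ N(E)`, `f³ ∈ P ≤ N(E)`
    have h2 : f * f ∈ Subgroup.normalizer (E : Set G) := mem_normalizer_of_map_eq h
    have h3 : f ^ 3 ∈ P := pow_mem_of_index c.hA.Pn hsF.idx c.hf
    have hfN : f ∈ Subgroup.normalizer (E : Set G) := by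
      have e1 : f = f ^ 3 * (f * f)⁻¹ := by group
      rw [e1]
      exact mul_mem (c.hE.nP h3) (inv_mem h2)
    exact c.hne (map_eq_of_mem_normalizer hfN)
  · rw [map_cj_mul] at h
    exact c.hne (map_cj_inj h)

/-- Lemma Z, `p = 3`. -/
theorem small3_false (hD : Q8Stmt.{u}) (hsE : Small3 p P E W Z) (hsF : Small3 p P F W' Z') :
    False := by
  obtain ⟨s, b, b', d'⟩ := hsF.data
  have hA := c.hA
  -- squares normalize `E`
  have hsq : ∀ x ∈ F, x * x ∈ Subgroup.normalizer (E : Set G) := by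
    intro x hx
    rcases c.orbit hD hx with h | h
    · have := mem_normalizer_of_map_eq h
      exact mul_mem this this
    · rcases c.orbit hD (mul_mem hx hx) with h2 | h2
      · exact mem_normalizer_of_map_eq h2
      · exfalso
        rw [map_cj_mul, ← h] at h2
        have h3 := map_cj_inj h2
        apply c.hne
        rw [← h, h3]
  have hsE' : s ∈ Subgroup.normalizer (E : Set G) := by
    have e1 : s = (b * b * s⁻¹)⁻¹ * (b * b) := by group
    rw [e1]
    exact mul_mem (inv_mem (c.hE.nP (d'.a_sq hA.Pn))) (hsq b d'.aE)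
  have hsE1 : s ∈ Subgroup.normalizer ((E.map (cj f) : Subgroup G) : Set G) := by
    apply mem_normalizer_of_map_eq
    rcases c.orbit hD (mul_mem d'.tE c.hf) with h | h
    · exfalso
      rw [map_cj_mul] at h
      have h2 : (E.map (cj f)).map (cj s) = E.map (cj s) := by
        rw [h]; exact (map_eq_of_mem_normalizer hsE').symm
      exact c.hne (map_cj_inj h2)
    · rw [map_cj_mul] at h
      exact h
  have hsV : s ∈ Subgroup.normalizer ((⁅M, E⁆ : Subgroup G) : Set G) := Blk.nV hA hsE'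
  have hsV1 : s ∈ Subgroup.normalizer ((⁅M, E.map (cj f)⁆ : Subgroup G) : Set G) := Blk.nV hA hsE1
  have hinvF : ∀ w ∈ ⁅M, F⁆, s * w * s⁻¹ = w⁻¹ := c.hF.s3_inv hA hsF d'
  -- `s` inverts `V`
  have hinv : ∀ v ∈ ⁅M, E⁆, s * v * s⁻¹ = v⁻¹ := by
    intro v hv
    have hv1 : f * v * f⁻¹ ∈ ⁅M, E.map (cj f)⁆ := c.conj_mem_V1 hv
    have hw : v * (f * v⁻¹ * f⁻¹) ∈ ⁅M, F⁆ := c.comm_mem_VF hv
    have h1 := hinvF _ hw
    -- `A = v`, `B = s v s⁻¹`, `C = f v f⁻¹`, `D = s (f v f⁻¹) s⁻¹`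
    have hAC : v * (f * v * f⁻¹) = (f * v * f⁻¹) * v :=
      hA.M_comm (Blk.V_le_M hA hv) (Blk.V_le_M hA hv1)
    have h2 : (s * v * s⁻¹) * (s * (f * v * f⁻¹) * s⁻¹)⁻¹ = (f * v * f⁻¹) * v⁻¹ := by
      have e1 : (s * v * s⁻¹) * (s * (f * v * f⁻¹) * s⁻¹)⁻¹ = s * (v * (f * v⁻¹ * f⁻¹)) * s⁻¹ := by
        group
      rw [e1, h1]; group
    have hxy : v * (s * v * s⁻¹) = (f * v * f⁻¹) * (s * (f * v * f⁻¹) * s⁻¹) := by
      calc v * (s * v * s⁻¹)
          = v * ((s * v * s⁻¹) * (s * (f * v * f⁻¹) * s⁻¹)⁻¹) * (s * (f * v * f⁻¹) * s⁻¹) := by group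
        _ = v * ((f * v * f⁻¹) * v⁻¹) * (s * (f * v * f⁻¹) * s⁻¹) := by rw [h2]
        _ = (v * (f * v * f⁻¹)) * v⁻¹ * (s * (f * v * f⁻¹) * s⁻¹) := by group
        _ = ((f * v * f⁻¹) * v) * v⁻¹ * (s * (f * v * f⁻¹) * s⁻¹) := by rw [hAC]
        _ = (f * v * f⁻¹) * (s * (f * v * f⁻¹) * s⁻¹) := by group
    have hx : v * (s * v * s⁻¹) ∈ ⁅M, E⁆ := mul_mem hv (conj_mem_of_mem_normalizer hsV hv)
    have hy : v * (s * v * s⁻¹) ∈ ⁅M, E.map (cj f)⁆ := by
      rw [hxy]; exact mul_mem hv1 (conj_mem_of_mem_normalizer hsV1 hv1)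
    have h3 := c.V_inf_V1 hD hx hy
    calc s * v * s⁻¹ = v⁻¹ * (v * (s * v * s⁻¹)) := by group
      _ = v⁻¹ := by rw [h3, mul_one]
  -- `V = V_F`
  have hle : ⁅M, E⁆ ≤ ⁅M, F⁆ := Blk.V_le_of_inv hA hsE.p3 d'.tE hinv
  have heq : ⁅M, E⁆ = ⁅M, F⁆ := Subgroup.eq_of_le_of_card_ge hle c.card.ge
  -- contradiction
  have hfV : f ∈ Subgroup.normalizer ((⁅M, E⁆ : Subgroup G) : Set G) := by
    rw [heq]; exact Blk.nV hA (Blk.E_le_nE c.hf)
  apply c.hE.Vne
  rw [eq_bot_iff]
  intro v hv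
  rw [Subgroup.mem_bot]
  have h1 := c.V_inf_V1 hD (conj_mem_of_mem_normalizer hfV hv) (c.conj_mem_V1 hv)
  calc v = f⁻¹ * (f * v * f⁻¹) * f := by group
    _ = 1 := by rw [h1]; group

end ZCfg

/-- `C_V(E) = 1` for blocks of small type. -/
theorem Blk.small_fpf (hA : Amb p P M) (hE : Blk p P M E W Z B)
    (hs : Small2 p P E W Z ∨ Small3 p P E W Z) :
    ∀ v ∈ ⁅M, E⁆, (∀ e ∈ E, e * v = v * e) → v = 1 := by
  intro v hv hc
  rcases hs with hs | hs
  · obtain ⟨e, he, heP⟩ := hE.exists_not_mem_P hA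
    apply hE.small2_fpf hA hs he heP hv
    rw [hc e he]; group
  · obtain ⟨t, a, a', d⟩ := hs.data
    have h1 := hE.s3_inv hA hs d v hv
    rw [hc t d.tE] at h1
    have h2 : v = v⁻¹ := by
      calc v = v * t * t⁻¹ := by group
        _ = v⁻¹ := h1
    have h3 : v ^ 3 = 1 := by
      have := hA.Mexp v (Blk.V_le_M hA hv)
      rwa [hs.p3] at this
    have h4 : v * v = 1 := by
      nth_rewrite 2 [h2]
      group
    calc v = v ^ 3 * (v * v)⁻¹ := by group
      _ = 1 := by rw [h3, h4]; group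

/-- Lemma Z. -/
theorem lemmaZ (hD : Q8Stmt.{u}) (hA : Amb p P M) (hE : Blk p P M E W Z B)
    (hF : Blk p P M F W' Z' B')
    (htype : (Small2 p P E W Z ∧ Small2 p P F W' Z') ∨ (Small3 p P E W Z ∧ Small3 p P F W' Z'))
    (hnot : ¬ F ≤ Subgroup.normalizer (E : Set G))
    (hpair : ∀ g ∈ F, ∀ h ∈ F,
      E.map (cj g) = E.map (cj h) ∨ ⁅E.map (cj g), E.map (cj h)⁆ = ⊥) : False := by
  obtain ⟨f, hf, hfN⟩ := SetLike.not_le_iff_exists.1 hnot
  have hne : E.map (cj f) ≠ E := fun h => hfN (mem_normalizer_of_map_eq h)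
  rcases htype with ⟨hsE, hsF⟩ | ⟨hsE, hsF⟩
  · have c : ZCfg p P M E W Z B F W' Z' B' f :=
      ⟨hA, hE, hF, hf, hne, hpair, hE.small_fpf hA (Or.inl hsE),
        by rw [hE.small2_cardV hA hsE, hF.small2_cardV hA hsF]⟩
    exact c.small2_false hD hsF
  · have c : ZCfg p P M E W Z B F W' Z' B' f :=
      ⟨hA, hE, hF, hf, hne, hpair, hE.small_fpf hA (Or.inr hsE),
        by rw [hE.small3_cardV hA hsE, hF.small3_cardV hA hsF]⟩
    exact c.small3_false hD hsE hsF

/-- conjugates of `E` under `F` generate a smaller group when `F` does not normalize the subnormal `E`. -/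
theorem card_conj_sup_lt (hEs : E.IsSubnormal) (hnot : ¬ F ≤ Subgroup.normalizer (E : Set G)) {g h : G}
    (hg : g ∈ F) (hh : h ∈ F) :
    Nat.card ↥(E.map (cj g) ⊔ E.map (cj h) : Subgroup G) < Nat.card ↥(E ⊔ F : Subgroup G) := by
  set L : Subgroup G := E ⊔ F with hL
  have hEL : E ≤ L := le_sup_left
  have hFL : F ≤ L := le_sup_right
  have hsub : (E.subgroupOf L).IsSubnormal := hEs.subgroupOf
  have hne : E.subgroupOf L ≠ ⊤ := by
    intro h
    apply hnot
    rw [Subgroup.subgroupOf_eq_top] at h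
    exact (hFL.trans h).trans Subgroup.le_normalizer
  obtain ⟨N', hN'n, hEN', hN'lt⟩ := hsub.exists_normal_and_le_and_lt_top_of_ne hne
  have hconj : ∀ x ∈ F, E.map (cj x) ≤ N'.map L.subtype := by
    rintro x hx _ ⟨e, he, rfl⟩
    have h1 : (⟨e, hEL he⟩ : ↥L) ∈ N' := hEN' (Subgroup.mem_subgroupOf.2 he)
    have h2 := hN'n.conj_mem _ h1 ⟨x, hFL hx⟩
    exact ⟨_, h2, rfl⟩
  have h1 : Nat.card ↥(E.map (cj g) ⊔ E.map (cj h) : Subgroup G) ≤ Nat.card ↥(N'.map L.subtype) :=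
    Subgroup.card_le_of_le (sup_le (hconj g hg) (hconj h hh))
  have h2 : Nat.card ↥(N'.map L.subtype) = Nat.card ↥N' :=
    Subgroup.card_map_of_injective L.subtype_injective
  have h3 : Nat.card ↥N' < Nat.card ↥L := by
    apply lt_of_le_of_ne N'.card_le_card_group
    intro h
    exact hN'lt.ne (Subgroup.eq_top_of_card_eq N' h)
  omega

/-- two blocks of the same small type are equal or commute. -/
theorem small_main (hD : Q8Stmt.{u}) (hA : Amb p P M) :
    ∀ (n : ℕ) (E W Z B F W' Z' B' : Subgroup G), Blk p P M E W Z B → Blk p P M F W' Z' B' →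
      ((Small2 p P E W Z ∧ Small2 p P F W' Z') ∨ (Small3 p P E W Z ∧ Small3 p P F W' Z')) →
      Nat.card ↥(E ⊔ F : Subgroup G) = n → E = F ∨ ⁅E, F⁆ = ⊥ := by
  intro n
  induction n using Nat.strong_induction_on with
  | _ n ih =>
    intro E W Z B F W' Z' B' hE hF htype hn
    by_cases h1 : F ≤ Subgroup.normalizer (E : Set G)
    · by_cases h2 : E ≤ Subgroup.normalizer (F : Set G)
      · rcases htype with ⟨hsE, hsF⟩ | ⟨hsE, hsF⟩
        · exact hE.nn_small2 hA hF hsE hsF h1 h2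
        · exact hE.nn_small3 hD hA hF hsE hsF h1 h2
      · exfalso
        apply lemmaZ hD hA hF hE (Or.imp (fun h => ⟨h.2, h.1⟩) (fun h => ⟨h.2, h.1⟩) htype) h2
        · intro g hg h hh
          have hlt := card_conj_sup_lt hF.sn h2 hg hh
          rw [sup_comm F E, hn] at hlt
          refine ih _ hlt _ _ _ _ _ _ _ _ (hF.conj hA g) (hF.conj hA h) ?_ rfl
          rcases htype with ⟨_, hsF⟩ | ⟨_, hsF⟩
          · exact Or.inl ⟨hsF.tmap (hA.map_P g), hsF.tmap (hA.map_P h)⟩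
          · exact Or.inr ⟨hsF.tmap (hA.map_P g), hsF.tmap (hA.map_P h)⟩
    · exfalso
      apply lemmaZ hD hA hE hF htype h1
      intro g hg h hh
      have hlt := card_conj_sup_lt hE.sn h1 hg hh
      rw [hn] at hlt
      refine ih _ hlt _ _ _ _ _ _ _ _ (hE.conj hA g) (hE.conj hA h) ?_ rfl
      rcases htype with ⟨hsE, _⟩ | ⟨hsE, _⟩
      · exact Or.inl ⟨hsE.tmap (hA.map_P g), hsE.tmap (hA.map_P h)⟩
      · exact Or.inr ⟨hsE.tmap (hA.map_P g), hsE.tmap (hA.map_P h)⟩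

/-- **Abstract main theorem**: two (subnormal) blocks are equal or commute. -/
theorem main (hD : Q8Stmt.{u}) (hA : Amb p P M) (hE : Blk p P M E W Z B)
    (hF : Blk p P M F W' Z' B') : E = F ∨ ⁅E, F⁆ = ⊥ := by
  rcases hE.type with hpE | hsE
  · rcases hE.perf_eq_or hA hF hpE with h | h
    · exact Or.inl h
    · exact hE.partII hD hA hF h
  rcases hF.type with hpF | hsF
  · rcases hF.perf_eq_or hA hE hpF with h | h
    · exact Or.inl h.symm
    · rw [Subgroup.commutator_comm] at h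
      exact hE.partII hD hA hF h
  rcases hsE with hsE | hsE <;> rcases hsF with hsF | hsF
  · exact small_main hD hA _ E W Z B F W' Z' B' hE hF (Or.inl ⟨hsE, hsF⟩) rfl
  · exfalso
    have h2 := hsE.p2
    have h3 := hsF.p3
    omega
  · exfalso
    have h2 := hsF.p2
    have h3 := hsE.p3
    omega
  · exact small_main hD hA _ E W Z B F W' Z' B' hE hF (Or.inr ⟨hsE, hsF⟩) rfl

end Cfsg.Agent.Helper5.SB
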