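import Mathlib
import Cfsg.Agent.Helper5.SBS

set_option autoImplicit false
set_option linter.unusedSectionVars false
set_option linter.style.haveILetI false

/-!
Helper5, S2986, piece D1: the elements of `GL₂(3)` with square `-1` (`Q8Stmt`).
-/

namespace Cfsg.Agent.Helper5.SB

universe u

set_option maxRecDepth 100000 in
set_option synthInstance.maxSize 1024 in
set_option synthInstance.maxHeartbeats 0 in
set_option maxHeartbeats 0 in
theorem mat_q8 : ∀ A : Matrix (Fin 2) (Fin 2) (ZMod 3), A * A = -1 →
    ∀ A' : Matrix (Fin 2) (Fin 2) (ZMod 3), A' * A' = -1 → A * A' ≠ A' * A →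
    ∀ B : Matrix (Fin 2) (Fin 2) (ZMod 3), B * B = -1 →
    (B = A ∨ B = -A ∨ B = A' ∨ B = -A' ∨ B = A * A' ∨ B = -(A * A')) := by
  decide

theorem q8_unique : Q8Stmt.{u} := by
  intro V _ hc hV h3 a a' b ha ha' hb hne
  letI : CommGroup V := { ‹Group V› with mul_comm := hc }
  haveI : Finite V := Nat.finite_of_card_ne_zero (by rw [hV]; norm_num)
  haveI : Fact (Nat.Prime 3) := ⟨by norm_num⟩
  letI : Module (ZMod 3) (Additive V) := AddCommGroup.zmodModule (n := 3) (by
    intro x
    show Additive.ofMul (Additive.toMul x ^ 3) = 0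
    rw [h3]; rfl)
  have hr : Module.finrank (ZMod 3) (Additive V) = 2 := by
    letI : Fintype (Additive V) := Fintype.ofFinite _
    have h1 := Module.card_eq_pow_finrank (K := ZMod 3) (V := Additive V)
    have h2 : Nat.card (Additive V) = 9 := hV
    rw [← Nat.card_eq_fintype_card, h2, ZMod.card] at h1
    have : (3 : ℕ) ^ 2 = 3 ^ Module.finrank (ZMod 3) (Additive V) := by rw [← h1]; norm_num
    exact (Nat.pow_right_injective (by norm_num : 2 ≤ 3) this).symm
  let bs : Module.Basis (Fin 2) (ZMod 3) (Additive V) := Module.finBasisOfFinrankEq _ _ hr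
  let L : (V →* V) → (Additive V →ₗ[ZMod 3] Additive V) :=
    fun x => (MonoidHom.toAdditive x).toZModLinearMap 3
  have hL : ∀ (x : V →* V) (v : V), L x (Additive.ofMul v) = Additive.ofMul (x v) := fun _ _ => rfl
  have hsq : ∀ x : V →* V, (∀ v, x (x v) = v⁻¹) →
      LinearMap.toMatrix bs bs (L x) * LinearMap.toMatrix bs bs (L x) = -1 := by
    intro x hx
    rw [← LinearMap.toMatrix_comp bs bs bs]
    have : (L x) ∘ₗ (L x) = -LinearMap.id := by
      apply LinearMap.ext
      intro v
      show L x (L x (Additive.ofMul (Additive.toMul v))) = _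
      rw [hL, hL, hx]
      rfl
    rw [this, map_neg, LinearMap.toMatrix_id]
  have hinj : ∀ x y : Additive V →ₗ[ZMod 3] Additive V,
      LinearMap.toMatrix bs bs x = LinearMap.toMatrix bs bs y → x = y :=
    fun x y h => (LinearMap.toMatrix bs bs).injective h
  have hnc : LinearMap.toMatrix bs bs (L a) * LinearMap.toMatrix bs bs (L a') ≠
      LinearMap.toMatrix bs bs (L a') * LinearMap.toMatrix bs bs (L a) := by
    intro h
    rw [← LinearMap.toMatrix_comp bs bs bs, ← LinearMap.toMatrix_comp bs bs bs] at h
    have h2 := hinj _ _ h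
    obtain ⟨v, hv⟩ := hne
    apply hv
    have h4 := LinearMap.congr_fun h2 (Additive.ofMul v)
    exact h4
  have key := mat_q8 _ (hsq a ha) _ (hsq a' ha') hnc _ (hsq b hb)
  rcases key with h | h | h | h | h | h
  · left
    intro v
    have h2 := hinj _ _ h
    exact LinearMap.congr_fun h2 (Additive.ofMul v)
  · right; left
    intro v
    rw [← map_neg] at h
    have h2 := hinj _ _ h
    exact LinearMap.congr_fun h2 (Additive.ofMul v)
  · right; right; left
    intro v
    have h2 := hinj _ _ h
    exact LinearMap.congr_fun h2 (Additive.ofMul v)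
  · right; right; right; left
    intro v
    rw [← map_neg] at h
    have h2 := hinj _ _ h
    exact LinearMap.congr_fun h2 (Additive.ofMul v)
  · right; right; right; right; left
    intro v
    rw [← LinearMap.toMatrix_comp bs bs bs] at h
    have h2 := hinj _ _ h
    exact LinearMap.congr_fun h2 (Additive.ofMul v)
  · right; right; right; right; right
    intro v
    rw [← LinearMap.toMatrix_comp bs bs bs, ← map_neg] at h
    have h2 := hinj _ _ h
    exact LinearMap.congr_fun h2 (Additive.ofMul v)

end Cfsg.Agent.Helper5.SB
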