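import Mathlib
import Cfsg.Agent.Helper5.SBQ
import Cfsg.Agent.Helper5.SBR

set_option autoImplicit false

/-!
Helper5, S2986: the abstract theorem, with `Q8Stmt` discharged.
-/

namespace Cfsg.Agent.Helper5.SB

open scoped commutatorElement

universe u

variable {G : Type u} [Group G] [Finite G] {p : ℕ} [Fact p.Prime]
variable {P M E W Z B F W' Z' B' : Subgroup G}

/-- two (subnormal) blocks, abstractly, are equal or commute. -/
theorem main' (hA : Amb p P M) (hE : Blk p P M E W Z B) (hF : Blk p P M F W' Z' B') :
    E = F ∨ ⁅E, F⁆ = ⊥ :=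
  main q8_unique hA hE hF

end Cfsg.Agent.Helper5.SB
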