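import Mathlib
import Cfsg.Agent.Lead.DihedralSylowCent

set_option autoImplicit false

namespace Cfsg.Agent.Helper5.SDS

variable {G : Type*} [Group G]

/-- elements of a cyclic group of order four generated by `c` -/
theorem mem_zpowers_four {c q : G} (hc : orderOf c = 4) (hq : q ∈ Subgroup.zpowers c) :
    q = 1 ∨ q = c ∨ q = c * c ∨ q = c * c * c := by
  obtain ⟨k, rfl⟩ := Subgroup.mem_zpowers_iff.mp hq
  rw [← zpow_mod_orderOf, hc]
  have h0 : 0 ≤ k % 4 := Int.emod_nonneg _ (by norm_num)
  have h4 : k % 4 < 4 := Int.emod_lt_of_pos _ (by norm_num)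
  obtain ⟨n, hn⟩ := Int.eq_ofNat_of_zero_le h0
  rw [hn] at h4
  have h4' : n < 4 := by exact_mod_cast h4
  have hk : k % ((4 : ℕ) : ℤ) = (n : ℤ) := by exact_mod_cast hn
  rw [hk, zpow_natCast]
  interval_cases n
  · left; simp
  · right; left; simp
  · right; right; left; rw [pow_two]
  · right; right; right; rw [pow_succ, pow_two]

theorem sq_ne_one_of_orderOf_four {c : G} (hc : orderOf c = 4) : c * c ≠ 1 := by
  intro h
  have : orderOf c ∣ 2 := orderOf_dvd_of_pow_eq_one (by rw [pow_two]; exact h)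
  rw [hc] at this
  omega

theorem pow_four_of_orderOf_four {c : G} (hc : orderOf c = 4) : c ^ 4 = 1 := by
  rw [← hc]; exact pow_orderOf_eq_one c

theorem inv_of_orderOf_four {c : G} (hc : orderOf c = 4) : c⁻¹ = c * c * c := by
  have h := pow_four_of_orderOf_four hc
  apply inv_eq_of_mul_eq_one_right
  calc c * (c * c * c) = c ^ 4 := by rw [pow_succ, pow_succ, pow_two]; group
    _ = 1 := h


/-- The abstract classification: a `2`-subgroup `Q` with a cyclic subgroup `Q ∩ C` of index at most two,
elements outside `C` squaring into `{1, z}` and inverting the elements of order dividing four of `C`, admitting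
a nontrivial automorphism of odd order, is a four-group or a quaternion group of order eight. -/
theorem classify [Finite G] (Q C : Subgroup G) (hQ : IsPGroup 2 Q) (hC : IsCyclic C) (z : G)
    (hzC : z ∈ C) (hzz : z * z = 1)
    (h1 : ∀ t ∈ Q, t ∉ C → t * t = 1 ∨ t * t = z)
    (h2 : ∀ t ∈ Q, t ∉ C → ∀ c ∈ C, c ^ 4 = 1 → t * c * t⁻¹ = c⁻¹)
    (h4 : ∀ s ∈ Q, ∀ t ∈ Q, s ∉ C → t ∉ C → s * t ∈ C)
    (β : MulAut Q) (m : ℕ) (hm : Odd m) (hβ : β ^ m = 1) (hβ1 : β ≠ 1) :
    (Nat.card Q = 4 ∧ ∀ q ∈ Q, q * q = 1) ∨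
    (Nat.card Q = 8 ∧ ∃ c : Q, (c : G) ∈ C ∧ orderOf (c : G) = 4 ∧
      (∀ t ∈ Q, t ∉ C → t * t = (c : G) * c ∧ t * c * t⁻¹ = (c : G)⁻¹) ∧
      (∀ q ∈ Q, q ∈ C → q ∈ Subgroup.zpowers (c : G)) ∧ ((β c : Q) : G) ∉ C) := by
  set A : Subgroup Q := C.subgroupOf Q with hA
  have hAc : IsCyclic A := by
    let f : A →* C :=
      { toFun := fun a => ⟨(a : Q), a.2⟩
        map_one' := rfl
        map_mul' := fun _ _ => rfl }
    apply isCyclic_of_injective f
    intro a b hab
    have : ((a : Q) : G) = ((b : Q) : G) := congrArg (fun c : C => (c : G)) hab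
    exact Subtype.ext (Subtype.ext this)
  have hA2 : IsPGroup 2 A := hQ.to_subgroup A
  have hidx : A = ⊤ ∨ A.index = 2 := by
    by_cases h : A = ⊤
    · left; exact h
    · right
      obtain ⟨s, -, hs⟩ := SetLike.exists_of_lt (lt_top_iff_ne_top.mpr h)
      rw [Subgroup.index_eq_two_iff]
      refine ⟨s, fun b => ?_⟩
      by_cases hb : b ∈ A
      · refine Or.inr ⟨hb, fun hbs => hs ?_⟩
        have := A.mul_mem (A.inv_mem hb) hbs
        simpa using this
      · refine Or.inl ⟨?_, hb⟩
        exact h4 b b.2 s s.2 hb hs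
  have hnot : ¬ ∀ x ∈ A, β x ∈ A := fun h =>
    hβ1 (Cfsg.Agent.Lead.aut_odd_trivial_of_cyclic_index_two A hAc hA2 hidx β h m hm hβ)
  obtain ⟨a₀, ha₀⟩ := hAc.exists_generator
  have hu : β (a₀ : Q) ∉ A := by
    intro hu
    apply hnot
    intro x hx
    obtain ⟨k, hk⟩ := Subgroup.mem_zpowers_iff.mp (ha₀ ⟨x, hx⟩)
    have hk' : (a₀ : Q) ^ k = x := by
      have := congrArg Subtype.val hk
      simpa using this
    rw [← hk', map_zpow]
    exact A.zpow_mem hu k
  set u : Q := β (a₀ : Q) with hudef
  have huC : (u : G) ∉ C := hu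
  have hAtop : A ≠ ⊤ := fun h => hu (h ▸ Subgroup.mem_top _)
  have hidx2 : A.index = 2 := hidx.resolve_left hAtop
  have hord : orderOf (u : G) = orderOf ((a₀ : Q) : G) := by
    rw [Subgroup.orderOf_coe, Subgroup.orderOf_coe, hudef, MulEquiv.orderOf_eq]
  have hcardA : Nat.card A = orderOf ((a₀ : Q) : G) := by
    rw [Subgroup.orderOf_coe, Subgroup.orderOf_coe]
    exact (orderOf_eq_card_of_forall_mem_zpowers ha₀).symm
  have hcardQ : Nat.card Q = 2 * orderOf ((a₀ : Q) : G) := by
    rw [← hcardA, ← hidx2, mul_comm]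
    exact (Subgroup.card_mul_index A).symm
  have hu4 : (u : G) ^ 4 = 1 := by
    have e : (u : G) ^ 4 = ((u : G) * u) * ((u : G) * u) := by
      rw [pow_succ, pow_succ, pow_two]; group
    rw [e]
    rcases h1 u u.2 huC with h | h
    · rw [h, one_mul]
    · rw [h, hzz]
  have hdvd : orderOf ((a₀ : Q) : G) ∣ 4 := by
    rw [← hord]; exact orderOf_dvd_of_pow_eq_one hu4
  have hcases : orderOf ((a₀ : Q) : G) = 1 ∨ orderOf ((a₀ : Q) : G) = 2 ∨ orderOf ((a₀ : Q) : G) = 4 := by
    have hle : orderOf ((a₀ : Q) : G) ≤ 4 := Nat.le_of_dvd (by norm_num) hdvd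
    have hpos : 0 < orderOf ((a₀ : Q) : G) := Nat.pos_of_dvd_of_pos hdvd (by norm_num)
    interval_cases h : orderOf ((a₀ : Q) : G)
    · left; rfl
    · right; left; rfl
    · norm_num at hdvd
    · right; right; rfl
  have hAmem : ∀ q ∈ Q, q ∈ C → q ∈ Subgroup.zpowers ((a₀ : Q) : G) := by
    intro q hq hqC
    obtain ⟨k, hk⟩ := Subgroup.mem_zpowers_iff.mp (ha₀ ⟨⟨q, hq⟩, hqC⟩)
    rw [Subgroup.mem_zpowers_iff]
    refine ⟨k, ?_⟩
    have := congrArg (fun w : A => ((w : Q) : G)) hk
    simpa using this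
  rcases hcases with h | h | h
  · -- trivial `A`
    exfalso
    rw [orderOf_eq_one_iff] at h
    apply huC
    have : (a₀ : Q) = 1 := Subtype.ext h
    rw [hudef, this, map_one]
    exact C.one_mem
  · -- four-group
    left
    have hc4 : Nat.card Q = 4 := by rw [hcardQ, h]
    refine ⟨hc4, ?_⟩
    have hu2 : (u : G) * u = 1 := by
      have : (u : G) ^ 2 = 1 := by rw [← h, ← hord]; exact pow_orderOf_eq_one _
      rwa [pow_two] at this
    have ha2 : ((a₀ : Q) : G) * (a₀ : Q) = 1 := by
      have : ((a₀ : Q) : G) ^ 2 = 1 := by rw [← h]; exact pow_orderOf_eq_one _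
      rwa [pow_two] at this
    have : Fact (Nat.Prime 2) := ⟨Nat.prime_two⟩
    have hcomm : ∀ a b : Q, a * b = b * a := by
      intro a b
      let _ := IsPGroup.commGroupOfCardEqPrimeSq (p := 2) (G := Q) (by rw [hc4]; norm_num)
      exact mul_comm a b
    intro q hq
    by_cases hqC : q ∈ C
    · have hmem := hAmem q hq hqC
      obtain ⟨k, rfl⟩ := Subgroup.mem_zpowers_iff.mp hmem
      rw [← zpow_add]
      have : (((a₀ : Q) : G) ^ (k + k)) = (((a₀ : Q) : G) * (a₀ : Q)) ^ k := by
        rw [(Commute.refl _).mul_zpow, ← zpow_add]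
      rw [this, ha2, one_zpow]
    · -- `q * u ∈ C`
      have hquC := h4 q hq u u.2 hqC huC
      have hmem := hAmem (q * u) (Q.mul_mem hq u.2) hquC
      have hsq : (q * u) * (q * u) = 1 := by
        obtain ⟨k, hk⟩ := Subgroup.mem_zpowers_iff.mp hmem
        rw [← hk, ← zpow_add]
        have : (((a₀ : Q) : G) ^ (k + k)) = (((a₀ : Q) : G) * (a₀ : Q)) ^ k := by
          rw [(Commute.refl _).mul_zpow, ← zpow_add]
        rw [this, ha2, one_zpow]
      have hc := congrArg Subtype.val (hcomm ⟨q, hq⟩ u)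
      simp only [Subgroup.coe_mul] at hc
      have : q * q = (q * u) * (q * u) * ((u : G) * u)⁻¹ := by
        rw [hu2, inv_one, mul_one]
        calc q * q = q * q * ((u : G) * u) := by rw [hu2, mul_one]
          _ = q * (q * u) * u := by group
          _ = q * (u * q) * u := by rw [hc]
          _ = q * u * (q * u) := by group
      rw [this, hsq, hu2, inv_one, mul_one]
  · -- quaternion
    right
    have hc8 : Nat.card Q = 8 := by rw [hcardQ, h]
    refine ⟨hc8, (a₀ : Q), a₀.2, h, ?_, hAmem, huC⟩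
    have hu4' : orderOf (u : G) = 4 := by rw [hord, h]
    have huz : (u : G) * u = z := by
      rcases h1 u u.2 huC with h' | h'
      · exact absurd h' (sq_ne_one_of_orderOf_four hu4')
      · exact h'
    -- `z = c * c`
    have hzQ : z ∈ Q := by rw [← huz]; exact Q.mul_mem u.2 u.2
    have hzc : z = ((a₀ : Q) : G) * (a₀ : Q) := by
      have hz1 : z ≠ 1 := by rw [← huz]; exact sq_ne_one_of_orderOf_four hu4'
      have hne := sq_ne_one_of_orderOf_four h
      have h4' := pow_four_of_orderOf_four h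
      rcases mem_zpowers_four h (hAmem z hzQ hzC) with hz | hz | hz | hz
      · exact absurd hz hz1
      · exfalso; rw [hz] at hzz; exact hne hzz
      · exact hz
      · exfalso
        rw [hz] at hzz
        apply hne
        have e : ((a₀ : Q) : G) * (a₀ : Q) * (a₀ : Q) * (((a₀ : Q) : G) * (a₀ : Q) * (a₀ : Q)) =
            ((a₀ : Q) : G) ^ 4 * (((a₀ : Q) : G) * (a₀ : Q)) := by
          rw [pow_succ, pow_succ, pow_two]; group
        rw [e, h4', one_mul] at hzz
        exact hzz
    intro t ht htC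
    have hinvC : (u : G)⁻¹ ∉ C := fun h' => huC (by simpa using C.inv_mem h')
    have htu := h4 t ht (u : G)⁻¹ (Q.inv_mem u.2) htC hinvC
    have hmem := hAmem _ (Q.mul_mem ht (Q.inv_mem u.2)) htu
    have hc'4 : (t * (u : G)⁻¹) ^ 4 = 1 := by
      obtain ⟨k, hk⟩ := Subgroup.mem_zpowers_iff.mp hmem
      rw [← hk, ← zpow_natCast, ← zpow_mul, mul_comm, zpow_mul, zpow_natCast,
        pow_four_of_orderOf_four h, one_zpow]
    have hconj := h2 u u.2 huC _ htu hc'4
    refine ⟨?_, h2 t ht htC _ a₀.2 (pow_four_of_orderOf_four h)⟩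
    rw [← hzc, ← huz]
    have e : t * t = (t * (u : G)⁻¹) * ((u : G) * (t * (u : G)⁻¹) * (u : G)⁻¹) * ((u : G) * u) := by group
    rw [e, hconj]
    group


/-- A finite group with a self-centralizing normal quaternion subgroup of order eight has order at most `72`. -/
theorem card_le_of_quaternion [Finite G] (Q : Subgroup G) [hQn : Q.Normal] (hcard : Nat.card Q = 8)
    (c : G) (hcQ : c ∈ Q) (hc : orderOf c = 4)
    (hout : ∀ t ∈ Q, t ∉ Subgroup.zpowers c → t * t = c * c ∧ t * c * t⁻¹ = c⁻¹)
    (hcent : Subgroup.centralizer (Q : Set G) ≤ Q) : Nat.card G ≤ 72 := by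
  have hZQ : Subgroup.zpowers c ≤ Q := by rw [Subgroup.zpowers_le]; exact hcQ
  have hcardZ : Nat.card (Subgroup.zpowers c) = 4 := by rw [Nat.card_zpowers, hc]
  have hne := sq_ne_one_of_orderOf_four hc
  have h4 := pow_four_of_orderOf_four hc
  -- an element outside
  obtain ⟨y, hyQ, hyZ⟩ : ∃ y ∈ Q, y ∉ Subgroup.zpowers c := by
    by_contra hcon
    push Not at hcon
    have : Q ≤ Subgroup.zpowers c := fun q hq => hcon q hq
    have := Subgroup.card_le_of_le this
    omega
  obtain ⟨hyy, hyc⟩ := hout y hyQ hyZ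
  -- index two
  have hidx : ((Subgroup.zpowers c).subgroupOf Q).index = 2 := by
    have h1 := Subgroup.card_mul_index ((Subgroup.zpowers c).subgroupOf Q)
    have h2 : Nat.card ((Subgroup.zpowers c).subgroupOf Q) = 4 := by
      rw [← hcardZ]
      exact Nat.card_congr (Subgroup.subgroupOfEquivOfLe hZQ).toEquiv
    rw [h2, hcard] at h1
    omega
  have hdec : ∀ q ∈ Q, q ∈ Subgroup.zpowers c ∨ q * y⁻¹ ∈ Subgroup.zpowers c := by
    intro q hq
    by_cases hqZ : q ∈ Subgroup.zpowers c
    · left; exact hqZ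
    · right
      have h := Subgroup.mul_mem_iff_of_index_two hidx (a := ⟨q, hq⟩) (b := ⟨y⁻¹, Q.inv_mem hyQ⟩)
      simp only [Subgroup.mem_subgroupOf, Subgroup.coe_mul] at h
      rw [h]
      constructor
      · intro h'; exact absurd h' hqZ
      · intro h'; exact absurd (by simpa using (Subgroup.zpowers c).inv_mem h') hyZ
  -- unique involution
  have huniq : ∀ q ∈ Q, q * q = 1 → q = 1 ∨ q = c * c := by
    intro q hq hqq
    by_cases hqZ : q ∈ Subgroup.zpowers c
    · rcases mem_zpowers_four hc hqZ with h | h | h | h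
      · left; exact h
      · exfalso; rw [h] at hqq; exact hne hqq
      · right; exact h
      · exfalso
        rw [h] at hqq
        apply hne
        have e : c * c * c * (c * c * c) = c ^ 4 * (c * c) := by
          rw [pow_succ, pow_succ, pow_two]; group
        rw [e, h4, one_mul] at hqq
        exact hqq
    · exfalso
      rw [(hout q hq hqZ).1] at hqq
      exact hne hqq
  -- the set `Y`
  set Y : Set Q := {q : Q | (q : G) * q = c * c} with hY
  have hYcard : Nat.card Y ≤ 6 := by
    have hsub : Y ⊆ ({1, ⟨c * c, Q.mul_mem hcQ hcQ⟩} : Set Q)ᶜ := by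
      intro q hq h
      rw [hY] at hq
      rcases h with h | h
      · rw [h] at hq
        simp at hq
        exact hne hq.symm
      · rw [h] at hq
        simp only [Set.mem_ofPred_eq] at hq
        apply hne
        have e : c * c * (c * c) = c ^ 4 := by rw [pow_succ, pow_succ, pow_two]; group
        rw [e, h4] at hq
        exact hq.symm
    have h1 : Y.ncard ≤ (({1, ⟨c * c, Q.mul_mem hcQ hcQ⟩} : Set Q)ᶜ).ncard :=
      Set.ncard_le_ncard hsub (Set.toFinite _)
    have h2 : (({1, ⟨c * c, Q.mul_mem hcQ hcQ⟩} : Set Q)ᶜ).ncard = 8 - 2 := by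
      rw [Set.ncard_compl, hcard, Set.ncard_pair]
      intro h
      exact hne (congrArg Subtype.val h).symm
    rw [Nat.card_coe_set_eq]
    omega
  -- the fixed involution
  have hfix : ∀ α : MulAut Q, α ⟨c * c, Q.mul_mem hcQ hcQ⟩ = ⟨c * c, Q.mul_mem hcQ hcQ⟩ := by
    intro α
    set w : Q := ⟨c * c, Q.mul_mem hcQ hcQ⟩ with hw
    have hww : w * w = 1 := by
      apply Subtype.ext
      show c * c * (c * c) = 1
      have e : c * c * (c * c) = c ^ 4 := by rw [pow_succ, pow_succ, pow_two]; group
      rw [e, h4]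
    have h1 : (α w : G) * (α w : G) = 1 := by
      have := congrArg (fun q : Q => (q : G)) (by rw [← map_mul, hww, map_one] : α w * α w = 1)
      simpa using this
    rcases huniq (α w) (α w).2 h1 with h | h
    · exfalso
      have : α w = 1 := Subtype.ext h
      rw [← map_one α] at this
      have := α.injective this
      exact hne (congrArg Subtype.val this)
    · exact Subtype.ext h
  -- the injection
  have hinj : Nat.card (MulAut Q) ≤ 36 := by
    let F : MulAut Q → Y × Y := fun α =>
      (⟨α ⟨c, hcQ⟩, by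
          show ((α ⟨c, hcQ⟩ : Q) : G) * (α ⟨c, hcQ⟩ : Q) = c * c
          have := congrArg (fun q : Q => (q : G)) (hfix α)
          rw [show (⟨c * c, Q.mul_mem hcQ hcQ⟩ : Q) = ⟨c, hcQ⟩ * ⟨c, hcQ⟩ from rfl, map_mul] at this
          simpa using this⟩,
       ⟨α ⟨y, hyQ⟩, by
          show ((α ⟨y, hyQ⟩ : Q) : G) * (α ⟨y, hyQ⟩ : Q) = c * c
          have := congrArg (fun q : Q => (q : G)) (hfix α)
          have e : (⟨c * c, Q.mul_mem hcQ hcQ⟩ : Q) = ⟨y, hyQ⟩ * ⟨y, hyQ⟩ := Subtype.ext hyy.symm
          rw [e, map_mul] at this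
          simp only [Subgroup.coe_mul] at this
          rw [this, hyy]⟩)
    have hF : Function.Injective F := by
      intro α α' h
      have hc' : α ⟨c, hcQ⟩ = α' ⟨c, hcQ⟩ := by
        have := congrArg (fun p : Y × Y => (p.1 : Q)) h
        exact this
      have hy' : α ⟨y, hyQ⟩ = α' ⟨y, hyQ⟩ := by
        have := congrArg (fun p : Y × Y => (p.2 : Q)) h
        exact this
      have hpow : ∀ q : Q, (q : G) ∈ Subgroup.zpowers c → α q = α' q := by
        intro q hq
        obtain ⟨k, hk⟩ := Subgroup.mem_zpowers_iff.mp hq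
        have : q = (⟨c, hcQ⟩ : Q) ^ k := by
          apply Subtype.ext
          rw [Subgroup.coe_zpow]
          exact hk.symm
        rw [this, map_zpow, map_zpow, hc']
      apply MulEquiv.ext
      intro q
      rcases hdec q q.2 with hq | hq
      · exact hpow q hq
      · have e : q = (q * (⟨y, hyQ⟩ : Q)⁻¹) * ⟨y, hyQ⟩ := by group
        have e1 : α q = α (q * (⟨y, hyQ⟩ : Q)⁻¹) * α ⟨y, hyQ⟩ := by
          rw [← map_mul, inv_mul_cancel_right]
        have e2 : α' q = α' (q * (⟨y, hyQ⟩ : Q)⁻¹) * α' ⟨y, hyQ⟩ := by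
          rw [← map_mul, inv_mul_cancel_right]
        rw [e1, e2, hy', hpow (q * (⟨y, hyQ⟩ : Q)⁻¹) hq]
    have h1 := Nat.card_le_card_of_injective F hF
    rw [Nat.card_prod] at h1
    calc Nat.card (MulAut Q) ≤ Nat.card Y * Nat.card Y := h1
      _ ≤ 6 * 6 := Nat.mul_le_mul hYcard hYcard
      _ = 36 := by norm_num
  -- the kernel
  have hker : Nat.card (MulAut.conjNormal (H := Q)).ker ≤ 2 := by
    have hsub : ((MulAut.conjNormal (H := Q)).ker : Set G) ⊆ ({1, c * c} : Set G) := by
      intro g hg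
      have hg' : MulAut.conjNormal (H := Q) g = 1 := hg
      have hgq : ∀ q ∈ Q, g * q * g⁻¹ = q := by
        intro q hq
        have := congrArg (fun α : MulAut Q => ((α ⟨q, hq⟩ : Q) : G)) hg'
        simpa using this
      have hgQ : g ∈ Q := by
        apply hcent
        rw [Subgroup.mem_centralizer_iff]
        intro q hq
        have := hgq q hq
        calc q * g = (g * q * g⁻¹) * g := by rw [this]
          _ = g * q := by group
      have hgc := hgq c hcQ
      have hgy := hgq y hyQ
      have hcinv : c⁻¹ ≠ c := by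
        intro h
        apply hne
        calc c * c = c⁻¹ * c := by rw [h]
          _ = 1 := inv_mul_cancel c
      have hgZ : g ∈ Subgroup.zpowers c := by
        by_contra hgZ
        have := (hout g hgQ hgZ).2
        rw [hgc] at this
        exact hcinv this.symm
      have hyg : y * g * y⁻¹ = g := by
        have hcomm : g * y = y * g := by
          calc g * y = (g * y * g⁻¹) * g := by group
            _ = y * g := by rw [hgy]
        calc y * g * y⁻¹ = g * y * y⁻¹ := by rw [hcomm]
          _ = g := by group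
      rcases mem_zpowers_four hc hgZ with h | h | h | h
      · left; exact h
      · exfalso
        rw [h, hyc] at hyg
        exact hcinv hyg
      · right; exact h
      · exfalso
        rw [h, ← inv_of_orderOf_four hc] at hyg
        have : y * c⁻¹ * y⁻¹ = (y * c * y⁻¹)⁻¹ := by group
        rw [this, hyc, inv_inv] at hyg
        exact hcinv hyg.symm
    have h1 : ((MulAut.conjNormal (H := Q)).ker : Set G).ncard ≤ ({1, c * c} : Set G).ncard :=
      Set.ncard_le_ncard hsub (Set.toFinite _)
    have h2 : ({1, c * c} : Set G).ncard ≤ 2 := by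
      have := Set.ncard_insert_le (1 : G) ({c * c} : Set G)
      rw [Set.ncard_singleton] at this
      exact this
    have h3 : Nat.card (MulAut.conjNormal (H := Q)).ker =
        ((MulAut.conjNormal (H := Q)).ker : Set G).ncard := (Nat.card_coe_set_eq _)
    omega
  have h1 := Subgroup.card_mul_index (MulAut.conjNormal (H := Q)).ker
  rw [Subgroup.index_ker] at h1
  have h2 : Nat.card (MulAut.conjNormal (H := Q)).range ≤ 36 :=
    (Subgroup.card_le_card_group _).trans hinj
  calc Nat.card G = Nat.card (MulAut.conjNormal (H := Q)).ker *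
        Nat.card (MulAut.conjNormal (H := Q)).range := h1.symm
    _ ≤ 2 * 36 := Nat.mul_le_mul hker h2
    _ = 72 := by norm_num

end Cfsg.Agent.Helper5.SDS
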