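import Mathlib
import Cfsg.Agent.Helper5.SDStruct
import Cfsg.Agent.Helper5.ProdCard
import Cfsg.Agent.Helper2.QD5
import Cfsg.Agent.Helper2.DihSub
import Cfsg.Agent.Helper1.Fitting2
import Cfsg.Agent.Helper4.PCore
import Cfsg.Agent.Lead.SL23Recog

set_option autoImplicit false

/-!
Helper lemmas (helper5): solvable groups with dihedral / quasidihedral Sylow 2-subgroups,
trivial odd core and `Z(T)` normal contain a normal `SL(2,3)`.
-/

namespace Cfsg.Agent.Helper5.SDS

variable {G : Type*} [Group G]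

open scoped Pointwise

open Cfsg.Agent.Helper2.QD

/-- a section of the same order as the whole finite group is the whole group -/
theorem equiv_of_involves_card {H : Type*} [Group H] {U : Type*} [Group U] [Finite U]
    (h : Cfsg.Involves H U) (hc : Nat.card U = Nat.card H) : Nonempty (U ≃* H) := by
  obtain ⟨K, R, hn, ⟨e⟩⟩ := h
  have h1 : Nat.card (K ⧸ R.subgroupOf K) = Nat.card U := by
    rw [hc]; exact Nat.card_congr e.toEquiv
  have h2 := Subgroup.card_eq_card_quotient_mul_card_subgroup (R.subgroupOf K)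
  have hKle : Nat.card K ≤ Nat.card U := Subgroup.card_le_card_group K
  have hpos : 0 < Nat.card (R.subgroupOf K) := Nat.card_pos
  have hUpos : 0 < Nat.card U := Nat.card_pos
  rw [h1] at h2
  have hR1 : Nat.card (R.subgroupOf K) = 1 := by
    rcases Nat.lt_or_ge 1 (Nat.card (R.subgroupOf K)) with h | h
    · exfalso
      have : Nat.card U * 2 ≤ Nat.card U * Nat.card (R.subgroupOf K) := Nat.mul_le_mul_left _ h
      omega
    · omega
  have hKtop : K = ⊤ := by
    rw [← Subgroup.card_eq_iff_eq_top, h2, hR1, mul_one]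
  have hRbot : R.subgroupOf K = ⊥ := Subgroup.card_eq_one.mp hR1
  refine ⟨?_⟩
  have e1 : U ≃* K := (Subgroup.topEquiv.symm).trans (MulEquiv.subgroupCongr hKtop.symm)
  have e2 : K ≃* K ⧸ (⊥ : Subgroup K) := QuotientGroup.quotientBot.symm
  have e3 : K ⧸ (⊥ : Subgroup K) ≃* K ⧸ R.subgroupOf K :=
    QuotientGroup.quotientMulEquivOfEq hRbot.symm
  exact ((e1.trans e2).trans e3).trans e

/-- the structural data of a quasidihedral group used by `classify` -/
theorem qd_data {S : Type*} [Group S] [Finite S] (hS : Cfsg.IsQuasiDihedral S) :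
    ∃ (C : Subgroup S) (z : S), IsCyclic C ∧ z ∈ C ∧ z * z = 1 ∧
      (∀ t, t ∉ C → t * t = 1 ∨ t * t = z) ∧
      (∀ t, t ∉ C → ∀ c ∈ C, c ^ 4 = 1 → t * c * t⁻¹ = c⁻¹) ∧
      (∀ s t, s ∉ C → t ∉ C → s * t ∈ C) ∧ 16 ≤ Nat.card S := by
  obtain ⟨d⟩ := exists_dat hS
  refine ⟨Subgroup.zpowers d.x, d.z, inferInstance, d.a_mem d.h, d.z_sq, ?_, ?_, ?_, ?_⟩
  · intro t ht
    rcases d.nf' t with ⟨i, rfl⟩ | ⟨i, rfl⟩
    · exact absurd (d.a_mem i) ht
    · rcases d.even_or_odd i with ⟨j, rfl⟩ | ⟨j, rfl⟩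
      · left
        rw [d.b_sq, d.h_mul_even, d.a_zero]
      · right
        exact d.b_odd_sq j
  · intro t ht c hc hc4
    rcases d.nf' t with ⟨i, rfl⟩ | ⟨i, rfl⟩
    · exact absurd (d.a_mem i) ht
    · obtain ⟨k, rfl⟩ := (d.mem_zpowers_iff c).mp hc
      rw [d.conj_b_a, d.a_inv]
      congr 1
      have h4k : ((4 : ℕ) : ZMod (2 ^ d.n)) * k = 0 := by
        have := hc4
        rw [d.a_pow, d.a_eq_one_iff] at this
        exact this
      have hn := d.hn
      have hq : d.q = 2 * ((2 ^ (d.n - 3) : ℕ) : ZMod (2 ^ d.n)) := by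
        unfold QDat.q
        have : 2 ^ (d.n - 2) = 2 * 2 ^ (d.n - 3) := by
          rw [← pow_succ']; congr 1; omega
        rw [this]; push_cast; ring
      have hhk : d.h * k = 0 := by
        rw [← d.two_q, hq]
        calc 2 * (2 * ((2 ^ (d.n - 3) : ℕ) : ZMod (2 ^ d.n))) * k
            = ((2 ^ (d.n - 3) : ℕ) : ZMod (2 ^ d.n)) * (((4 : ℕ) : ZMod (2 ^ d.n)) * k) := by
              push_cast; ring
          _ = 0 := by rw [h4k, mul_zero]
      rw [d.E_eq]
      calc (d.h - 1) * k = d.h * k - k := by ring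
        _ = -k := by rw [hhk, zero_sub]
  · intro s t hs ht
    rw [Subgroup.mul_mem_iff_of_index_two d.hidx]
    exact ⟨fun h => absurd h hs, fun h => absurd h ht⟩
  · rw [d.card]
    have hn := d.hn
    calc 16 = 2 ^ 4 := by norm_num
      _ ≤ 2 ^ (d.n + 1) := Nat.pow_le_pow_right (by norm_num) (by omega)

/-- an automorphism of odd order of a group of order four stabilizing a subgroup of order two
is trivial -/
theorem v4_aut_trivial [Finite G] (Q Z : Subgroup G) (hQ4 : Nat.card Q = 4) (hZQ : Z ≤ Q)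
    (hZ2 : Nat.card Z = 2) (β : MulAut Q) (hβZ : ∀ q : Q, (q : G) ∈ Z → ((β q : Q) : G) ∈ Z)
    (m : ℕ) (hm : Odd m) (hβ : β ^ m = 1) : β = 1 := by
  haveI : Fact (Nat.Prime 2) := ⟨Nat.prime_two⟩
  have hcA : Nat.card (Z.subgroupOf Q) = 2 := by
    rw [← hZ2]; exact Nat.card_congr (Subgroup.subgroupOfEquivOfLe hZQ).toEquiv
  have hAc : IsCyclic (Z.subgroupOf Q) := isCyclic_of_prime_card hcA
  have hA2 : IsPGroup 2 (Z.subgroupOf Q) := IsPGroup.of_card (n := 1) (by rw [hcA, pow_one])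
  have hidx : (Z.subgroupOf Q).index = 2 := by
    have h1 := (Z.subgroupOf Q).card_mul_index
    rw [hcA, hQ4] at h1
    omega
  exact Cfsg.Agent.Lead.aut_odd_trivial_of_cyclic_index_two (Z.subgroupOf Q) hAc hA2 (Or.inr hidx) β
    (fun x hx => Subgroup.mem_subgroupOf.mpr (hβZ x (Subgroup.mem_subgroupOf.mp hx))) m hm hβ

/-- a proper nontrivial subgroup of a group of order four has order two -/
theorem card_two_of_lt_four [Finite G] (Q Z : Subgroup G) (hQ4 : Nat.card Q = 4) (hZQ : Z ≤ Q)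
    (hZ1 : Z ≠ ⊥) (hZne : Z ≠ Q) : Nat.card Z = 2 := by
  have h1 : Nat.card Z ∣ 4 := hQ4 ▸ Subgroup.card_dvd_of_le hZQ
  have h2 : Nat.card Z ≠ 1 := fun h => hZ1 (Subgroup.card_eq_one.mp h)
  have h3 : Nat.card Z ≠ 4 := by
    intro h
    apply hZne
    exact Subgroup.eq_of_le_of_card_ge hZQ (by rw [h, hQ4])
  have h4 : Nat.card Z ≤ 4 := Nat.le_of_dvd (by norm_num) h1
  have hpos : 0 < Nat.card Z := Nat.card_pos
  interval_cases h : Nat.card Z
  · exact absurd rfl h2
  · rfl
  · norm_num at h1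
  · exact absurd rfl h3

open Cfsg.Agent.Lead.SL23Recog in
/-- a group of order 48 with a normal quaternion subgroup acted on by an element of order three
permuting `c → y → c * y` has a normal subgroup isomorphic to `SL(2,3)` -/
theorem sl23_of_data [Finite G] (Q : Subgroup G) [hQn : Q.Normal] (hcard : Nat.card Q = 8)
    (hG : Nat.card G = 48) (c y x : G) (hcQ : c ∈ Q) (hyQ : y ∈ Q) (hc : orderOf c = 4)
    (hyy : y * y = c * c) (hyc : y * c * y⁻¹ = c⁻¹) (hyZ : y ∉ Subgroup.zpowers c)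
    (hx3 : orderOf x = 3) (hxc : x * c * x⁻¹ = y) (hxy : x * y * x⁻¹ = c * y) :
    ∃ U : Subgroup G, U.Normal ∧
      Nonempty (↥U ≃* Matrix.SpecialLinearGroup (Fin 2) (ZMod 3)) := by
  have hcop : Nat.Coprime (Nat.card Q) (Nat.card (Subgroup.zpowers x)) := by
    rw [hcard, Nat.card_zpowers, hx3]; norm_num
  have hinf : Q ⊓ Subgroup.zpowers x = ⊥ := (Subgroup.disjoint_of_coprime_natCard hcop).eq_bot
  obtain ⟨U, hU⟩ : ∃ U : Subgroup G, U = Q ⊔ Subgroup.zpowers x := ⟨_, rfl⟩
  have hQU : Q ≤ U := hU ▸ le_sup_left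
  have hxU : x ∈ U := by
    rw [hU]; exact (le_sup_right : Subgroup.zpowers x ≤ _) (Subgroup.mem_zpowers x)
  have hUcard : Nat.card U = 24 := by
    have h1 := card_mul_set_mul_card_inf Q (Subgroup.zpowers x)
    rw [hinf, Subgroup.card_bot, mul_one, hcard, Nat.card_zpowers, hx3] at h1
    have h2 : Nat.card U = Nat.card ((Q : Set G) * (Subgroup.zpowers x : Set G) : Set G) := by
      have : (U : Set G) = (Q : Set G) * (Subgroup.zpowers x : Set G) := by
        rw [hU]; exact Subgroup.normal_mul Q _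
      exact Nat.card_congr (Equiv.setCongr this)
    rw [h2, h1]
  have hUidx : U.index = 2 := by
    have h1 := U.card_mul_index
    rw [hUcard, hG] at h1
    omega
  have hUn : U.Normal := Subgroup.normal_of_index_eq_two hUidx
  refine ⟨U, hUn, ?_⟩
  have hX : Nat.card X23 = 24 := by
    rw [Nat.card_eq_fintype_card]; decide
  apply equiv_of_involves_card _ (by rw [hUcard, hX])
  have hcU : c ∈ U := hQU hcQ
  have hyU : y ∈ U := hQU hyQ
  have hQ'card : Nat.card (Q.subgroupOf U) = 8 := by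
    rw [← hcard]; exact Nat.card_congr (Subgroup.subgroupOfEquivOfLe hQU).toEquiv
  have hox : orderOf (⟨x, hxU⟩ : U) = 3 := by rw [Subgroup.orderOf_mk, hx3]
  apply involves_of_quaternion (Q.subgroupOf U) hQ'card ⟨c, hcU⟩ ⟨y, hyU⟩
    (Subgroup.mem_subgroupOf.mpr hcQ) (Subgroup.mem_subgroupOf.mpr hyQ)
    (by rw [Subgroup.orderOf_mk, hc]) ?_ ?_ ?_ ⟨x, hxU⟩ ?_ ?_ ?_ ?_ (by rw [hox]; norm_num)
  · apply Subtype.ext
    rw [pow_two]
    exact hyy
  · apply Subtype.ext
    exact hyc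
  · intro h
    apply hyZ
    obtain ⟨k, hk⟩ := Subgroup.mem_zpowers_iff.mp h
    rw [Subgroup.mem_zpowers_iff]
    refine ⟨k, ?_⟩
    have := congrArg (fun u : U => (u : G)) hk
    simpa using this
  · rw [Subgroup.normalizer_eq_top]
    exact Subgroup.mem_top _
  · apply Subtype.ext
    exact hxc
  · apply Subtype.ext
    exact hxy
  · apply Disjoint.eq_bot
    apply Subgroup.disjoint_of_coprime_natCard
    rw [hQ'card, Nat.card_zpowers, hox]
    norm_num

/-- coset decomposition of a group of order eight over a cyclic subgroup of order four -/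
theorem coset_dec [Finite G] (Q : Subgroup G) (hcard : Nat.card Q = 8) (c y : G) (hcQ : c ∈ Q)
    (hc : orderOf c = 4) (hyQ : y ∈ Q) (hyZ : y ∉ Subgroup.zpowers c) :
    ∀ q ∈ Q, q ∈ Subgroup.zpowers c ∨ q * y⁻¹ ∈ Subgroup.zpowers c := by
  have hZQ : Subgroup.zpowers c ≤ Q := Subgroup.zpowers_le.mpr hcQ
  have hidx : ((Subgroup.zpowers c).subgroupOf Q).index = 2 := by
    have h1 := Subgroup.card_mul_index ((Subgroup.zpowers c).subgroupOf Q)
    have h2 : Nat.card ((Subgroup.zpowers c).subgroupOf Q) = 4 := by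
      rw [← hc, ← Nat.card_zpowers]
      exact Nat.card_congr (Subgroup.subgroupOfEquivOfLe hZQ).toEquiv
    rw [h2, hcard] at h1
    omega
  intro q hq
  by_cases hqZ : q ∈ Subgroup.zpowers c
  · left; exact hqZ
  · right
    have h := Subgroup.mul_mem_iff_of_index_two hidx (a := ⟨q, hq⟩) (b := ⟨y⁻¹, Q.inv_mem hyQ⟩)
    simp only [Subgroup.mem_subgroupOf, Subgroup.coe_mul] at h
    rw [h]
    constructor
    · intro h'; exact absurd h' hqZ
    · intro h'; exact absurd (by simpa using (Subgroup.zpowers c).inv_mem h') hyZ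

/-- the quaternion stage -/
theorem q8_stage [Finite G] (Q : Subgroup G) [hQn : Q.Normal] (hcard : Nat.card Q = 8)
    (hG : Nat.card G = 48) (c x : G) (hcQ : c ∈ Q) (hc : orderOf c = 4)
    (hout : ∀ t ∈ Q, t ∉ Subgroup.zpowers c → t * t = c * c ∧ t * c * t⁻¹ = c⁻¹)
    (hx3 : orderOf x = 3) (hxc : x * c * x⁻¹ ∉ Subgroup.zpowers c) :
    ∃ U : Subgroup G, U.Normal ∧
      Nonempty (↥U ≃* Matrix.SpecialLinearGroup (Fin 2) (ZMod 3)) := by
  obtain ⟨y, hy⟩ : ∃ y : G, y = x * c * x⁻¹ := ⟨_, rfl⟩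
  rw [← hy] at hxc
  have hyQ : y ∈ Q := by rw [hy]; exact hQn.conj_mem c hcQ x
  obtain ⟨hyy, hyc⟩ := hout y hyQ hxc
  obtain ⟨w, hw⟩ : ∃ w : G, w = x * y * x⁻¹ := ⟨_, rfl⟩
  have hwQ : w ∈ Q := by rw [hw]; exact hQn.conj_mem y hyQ x
  have h4 : c ^ 4 = 1 := by rw [← hc]; exact pow_orderOf_eq_one c
  have hx3' : x ^ 3 = 1 := by rw [← hx3]; exact pow_orderOf_eq_one x
  have hne : c * c ≠ 1 := sq_ne_one_of_orderOf_four hc
  have hcinv : c⁻¹ = c * c * c := by
    apply inv_eq_of_mul_eq_one_right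
    calc c * (c * c * c) = c ^ 4 := by rw [pow_succ, pow_succ, pow_two]; group
      _ = 1 := h4
  have hyinv : y⁻¹ = c * c * y := by
    apply inv_eq_of_mul_eq_one_right
    calc y * (c * c * y) = y * (y * y * y) := by rw [hyy]
      _ = (y * y) * (y * y) := by group
      _ = c ^ 4 := by rw [hyy, pow_succ, pow_succ, pow_two]; group
      _ = 1 := h4
  have hyc' : y * c = c⁻¹ * y := by
    calc y * c = y * c * y⁻¹ * y := by group
      _ = c⁻¹ * y := by rw [hyc]
  have hoy : orderOf y = 4 := by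
    have : (4 : ℕ) = 2 ^ (1 + 1) := by norm_num
    rw [this]
    apply orderOf_eq_prime_pow
    · rw [pow_one, pow_two, hyy]; exact hne
    · rw [show (2 : ℕ) ^ (1 + 1) = 2 + 2 from rfl, pow_add, pow_two, hyy]
      calc c * c * (c * c) = c ^ 4 := by rw [pow_succ, pow_succ, pow_two]; group
        _ = 1 := h4
  -- x w x⁻¹ = c
  have hxw : x * w * x⁻¹ = c := by
    rw [hw, hy]
    calc x * (x * (x * c * x⁻¹) * x⁻¹) * x⁻¹ = x ^ 3 * c * (x ^ 3)⁻¹ := by
          rw [pow_succ, pow_two]; group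
      _ = c := by rw [hx3']; group
  have hkey : c ∈ Subgroup.zpowers y → False := by
    intro h
    apply hxc
    have hle : Subgroup.zpowers c ≤ Subgroup.zpowers y := Subgroup.zpowers_le.mpr h
    have heq := Subgroup.eq_of_le_of_card_ge hle
      (by rw [Nat.card_zpowers, Nat.card_zpowers, hc, hoy])
    rw [heq]
    exact Subgroup.mem_zpowers y
  have hwc : w ∉ Subgroup.zpowers c := by
    intro h
    apply hkey
    obtain ⟨k, hk⟩ := Subgroup.mem_zpowers_iff.mp h
    rw [← hxw, ← hk, Subgroup.mem_zpowers_iff]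
    refine ⟨k, ?_⟩
    rw [hy, conj_zpow]
  have hwy : w ∉ Subgroup.zpowers y := by
    intro h
    apply hkey
    obtain ⟨k, hk⟩ := Subgroup.mem_zpowers_iff.mp h
    rw [← hxw, ← hk, Subgroup.mem_zpowers_iff]
    refine ⟨k * k, ?_⟩
    rw [← conj_zpow, ← hw, ← hk, zpow_mul]
  rcases (coset_dec Q hcard c y hcQ hc hyQ hxc w hwQ).resolve_left hwc with h
  rcases mem_zpowers_four hc h with h | h | h | h
  · exfalso
    apply hwy
    have : w = y := by
      calc w = w * y⁻¹ * y := by group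
        _ = y := by rw [h, one_mul]
    rw [this]; exact Subgroup.mem_zpowers y
  · have hwcy : w = c * y := by
      calc w = w * y⁻¹ * y := by group
        _ = c * y := by rw [h]
    exact sl23_of_data Q hcard hG c y x hcQ hyQ hc hyy hyc hxc hx3 hy.symm (hw ▸ hwcy)
  · exfalso
    apply hwy
    have : w = y * y * y := by
      calc w = w * y⁻¹ * y := by group
        _ = c * c * y := by rw [h]
        _ = y * y * y := by rw [hyy]
    rw [this]
    exact Subgroup.mul_mem _ (Subgroup.mul_mem _ (Subgroup.mem_zpowers y) (Subgroup.mem_zpowers y))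
      (Subgroup.mem_zpowers y)
  · have hwcy : w = c * c * c * y := by
      calc w = w * y⁻¹ * y := by group
        _ = c * c * c * y := by rw [h]
    have e1 : (c * c * c * y)⁻¹ = c * y := by
      apply inv_eq_of_mul_eq_one_right
      calc c * c * c * y * (c * y) = c * c * c * (y * c) * y := by group
        _ = c * c * c * (c⁻¹ * y) * y := by rw [hyc']
        _ = c * c * (y * y) := by group
        _ = c * c * (c * c) := by rw [hyy]
        _ = c ^ 4 := by rw [pow_succ, pow_succ, pow_two]; group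
        _ = 1 := h4
    have e2 : c⁻¹ * y⁻¹ = c * y := by
      rw [hcinv, hyinv]
      calc c * c * c * (c * c * y) = c ^ 4 * (c * y) := by
            rw [pow_succ, pow_succ, pow_two]; group
        _ = c * y := by rw [h4, one_mul]
    refine sl23_of_data Q hcard hG c⁻¹ y⁻¹ x (Q.inv_mem hcQ) (Q.inv_mem hyQ)
      (by rw [orderOf_inv, hc]) ?_ ?_ ?_ hx3 ?_ ?_
    · rw [← mul_inv_rev, ← mul_inv_rev, hyy]
    · rw [inv_inv, inv_inv]
      calc y⁻¹ * c⁻¹ * y = y⁻¹ * (y * c * y⁻¹) * y := by rw [hyc]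
        _ = c := by group
    · rw [Subgroup.zpowers_inv, Subgroup.inv_mem_iff]
      exact hxc
    · rw [← conj_inv, ← hy]
    · rw [← conj_inv, ← hw, hwcy, e1, e2]

/-- arithmetic: the order is 48 -/
theorem card_eq_48 {a i k : ℕ} (h72 : a * i ≤ 72) (ha : a = 2 ^ k) (h16 : 16 ≤ a)
    (hi1 : i ≠ 1) (hi0 : i ≠ 0) (hi2 : ¬ 2 ∣ i) : a * i = 48 ∧ i = 3 := by
  have hi3 : 3 ≤ i := by
    rcases i with _ | _ | _ | i
    · exact absurd rfl hi0
    · exact absurd rfl hi1
    · exact absurd (dvd_refl 2) hi2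
    · omega
  have ha24 : a ≤ 24 := by
    by_contra h
    have : 25 * 3 ≤ a * i := Nat.mul_le_mul (by omega) hi3
    omega
  have hi4 : i ≤ 4 := by
    by_contra h
    have : 16 * 5 ≤ a * i := Nat.mul_le_mul h16 (by omega)
    omega
  have hi : i = 3 := by
    rcases Nat.lt_or_ge i 4 with h | h
    · omega
    · exfalso
      have : i = 4 := by omega
      apply hi2
      rw [this]
      norm_num
  have hk5 : k < 5 := by
    by_contra h
    have := Nat.pow_le_pow_right (n := 2) (by norm_num) (show 5 ≤ k by omega)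
    norm_num at this
    omega
  have hk4 : 4 ≤ k := by
    by_contra h
    have := Nat.pow_le_pow_right (n := 2) (by norm_num) (show k ≤ 3 by omega)
    norm_num at this
    omega
  have : k = 4 := by omega
  subst this
  subst hi
  constructor
  · rw [ha]; norm_num
  · rfl

theorem main [Finite G] (hsol : IsSolvable G) (hO : Cfsg.oddCore G = ⊥)
    (T : Sylow 2 G)
    (hT : (∃ n : ℕ, 4 ≤ n ∧ Nonempty (↥(T : Subgroup G) ≃* DihedralGroup n)) ∨
      Cfsg.IsQuasiDihedral ↥(T : Subgroup G))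
    (hne : (T : Subgroup G) ≠ ⊤)
    (hZ : ((T : Subgroup G) ⊓ Subgroup.centralizer ((T : Subgroup G) : Set G)).Normal) :
    ∃ U : Subgroup G, U.Normal ∧
      Nonempty (↥U ≃* Matrix.SpecialLinearGroup (Fin 2) (ZMod 3)) := by
  haveI : Fact (Nat.Prime 2) := ⟨Nat.prime_two⟩
  haveI : Group.IsSolvable G := hsol
  obtain ⟨Q, hQdef⟩ : ∃ Q : Subgroup G, Q = Cfsg.pCore 2 G := ⟨_, rfl⟩
  have hQn : Q.Normal := hQdef ▸ Cfsg.Agent.Helper4.pCore_normal
  have hQ2 : IsPGroup 2 Q := hQdef ▸ Cfsg.Agent.Helper4.pCore_isPGroup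
  have hQT : Q ≤ T := hQdef ▸ Cfsg.Agent.Helper4.pCore_le_sylow T
  have hcent : Subgroup.centralizer (Q : Set G) ≤ Q := by
    rw [hQdef]; exact Cfsg.Agent.Helper1.centralizer_pCore_le 2 hO
  -- order of T
  have h8 : 8 ≤ Nat.card (T : Subgroup G) := by
    rcases hT with ⟨n, hn, ⟨e⟩⟩ | hqd
    · rw [Nat.card_congr e.toEquiv, DihedralGroup.nat_card]; omega
    · obtain ⟨n, hn, hc, -⟩ := hqd
      rw [hc]
      calc 8 ≤ 2 ^ 4 := by norm_num
        _ ≤ 2 ^ (n + 1) := Nat.pow_le_pow_right (by norm_num) (by omega)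
  -- the index
  have hi1 : (T : Subgroup G).index ≠ 1 := fun h => hne (Subgroup.index_eq_one.mp h)
  have hi0 : (T : Subgroup G).index ≠ 0 := Subgroup.index_ne_zero_of_finite
  have hi2 : ¬ 2 ∣ (T : Subgroup G).index := T.not_dvd_index
  obtain ⟨r, hr, hrdvd⟩ := Nat.exists_prime_and_dvd hi1
  have hr2 : r ≠ 2 := by
    intro h; rw [h] at hrdvd; exact hi2 hrdvd
  have hrodd : Odd r := hr.odd_of_ne_two hr2
  haveI : Fact r.Prime := ⟨hr⟩
  have hrG : r ∣ Nat.card G := by
    rw [← (T : Subgroup G).card_mul_index]; exact Dvd.dvd.mul_left hrdvd _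
  obtain ⟨x, hx⟩ := exists_prime_orderOf_dvd_card' r hrG
  obtain ⟨β, hβdef⟩ : ∃ β : MulAut Q, β = MulAut.conjNormal x := ⟨_, rfl⟩
  have hβapp : ∀ q : Q, ((β q : Q) : G) = x * q * x⁻¹ := by
    intro q; rw [hβdef]; exact MulAut.conjNormal_apply x q
  have hβr : β ^ r = 1 := by
    rw [hβdef, ← map_pow, ← hx, pow_orderOf_eq_one, map_one]
  have hβ1 : β ≠ 1 := by
    intro h
    have hxC : x ∈ Subgroup.centralizer (Q : Set G) := by
      rw [Subgroup.mem_centralizer_iff]
      intro q hq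
      have h1 := hβapp ⟨q, hq⟩
      rw [h, MulAut.one_apply] at h1
      change q = x * q * x⁻¹ at h1
      calc q * x = (x * q * x⁻¹) * x := by rw [← h1]
        _ = x * q := by group
    have hxQ : x ∈ Q := hcent hxC
    obtain ⟨k, hk⟩ := hQ2 ⟨x, hxQ⟩
    have hk' : x ^ 2 ^ k = 1 := by
      have := congrArg (fun q : Q => (q : G)) hk
      simpa using this
    have h1 : r ∣ 2 ^ k := hx ▸ orderOf_dvd_of_pow_eq_one hk'
    have h2 : r ∣ 2 := hr.dvd_of_dvd_pow h1
    exact hr2 ((Nat.prime_dvd_prime_iff_eq hr Nat.prime_two).mp h2)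
  -- the center of T
  obtain ⟨Z, hZdef⟩ : ∃ Z : Subgroup G,
      Z = (T : Subgroup G) ⊓ Subgroup.centralizer ((T : Subgroup G) : Set G) := ⟨_, rfl⟩
  rw [← hZdef] at hZ
  have hZT : Z ≤ T := hZdef ▸ inf_le_left
  have hZQ : Z ≤ Q := by
    rw [hQdef]
    exact Cfsg.Agent.Helper4.le_pCore Z hZ (T.isPGroup'.to_le hZT)
  have hZ1 : Z ≠ ⊥ := by
    haveI : Nontrivial (T : Subgroup G) := by
      rw [← Finite.one_lt_card_iff_nontrivial]; omega
    haveI : Nontrivial (Subgroup.center (T : Subgroup G)) := T.isPGroup'.center_nontrivial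
    obtain ⟨t, ht1⟩ := exists_ne (1 : Subgroup.center (T : Subgroup G))
    intro h
    apply ht1
    have hmem : ((t : (T : Subgroup G)) : G) ∈ Z := by
      rw [hZdef]
      refine Subgroup.mem_inf.mpr ⟨(t : (T : Subgroup G)).2, ?_⟩
      rw [Subgroup.mem_centralizer_iff]
      intro s hs
      have := Subgroup.mem_center_iff.mp t.2 ⟨s, hs⟩
      exact congrArg (fun u : (T : Subgroup G) => (u : G)) this
    rw [h, Subgroup.mem_bot] at hmem
    apply Subtype.ext
    apply Subtype.ext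
    exact hmem
  -- the four-group case is impossible
  have hV4 : Nat.card Q = 4 → False := by
    intro hQ4
    have hZne : Z ≠ Q := by
      intro h
      have h1 : Q ≤ Subgroup.centralizer ((T : Subgroup G) : Set G) := by
        rw [← h, hZdef]; exact inf_le_right
      have h2 : (T : Subgroup G) ≤ Subgroup.centralizer (Q : Set G) :=
        Subgroup.le_centralizer_iff.mp h1
      have h3 := Subgroup.card_le_of_le (h2.trans hcent)
      omega
    have hZ2 := card_two_of_lt_four Q Z hQ4 hZQ hZ1 hZne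
    apply hβ1
    apply v4_aut_trivial Q Z hQ4 hZQ hZ2 β _ r hrodd hβr
    intro q hq
    rw [hβapp]
    exact hZ.conj_mem _ hq x
  rcases hT with ⟨n, hn, ⟨e⟩⟩ | hqd
  · -- the dihedral case
    exfalso
    haveI : NeZero n := ⟨by omega⟩
    have hf : Function.Injective (e.toMonoidHom.comp (Subgroup.inclusion hQT)) :=
      e.injective.comp (Subgroup.inclusion_injective hQT)
    rcases Cfsg.Agent.Helper2.DihSub.sub_cases hQ2 n _ hf with h | h | h
    · exact hβ1 (Cfsg.Agent.Helper2.DihSub.cyclic_two_aut_odd_trivial h hQ2 β r hrodd hβr)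
    · exact hV4 h.card_four
    · exact hβ1 (h β r hrodd hβr)
  · -- the quasidihedral case
    obtain ⟨C₀, z₀, hC₀, hz₀C, hz₀z, h1, h2, h4, h16⟩ := qd_data hqd
    have hCcyc : IsCyclic (C₀.map (T : Subgroup G).subtype) :=
      isCyclic_of_surjective ((T : Subgroup G).subtype.subgroupMap C₀)
        ((T : Subgroup G).subtype.subgroupMap_surjective C₀)
    have hmemC : ∀ (t : G) (ht : t ∈ (T : Subgroup G)),
        t ∈ C₀.map (T : Subgroup G).subtype ↔ (⟨t, ht⟩ : (T : Subgroup G)) ∈ C₀ := by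
      intro t ht
      constructor
      · rintro ⟨s, hs, hst⟩
        have : s = ⟨t, ht⟩ := Subtype.ext hst
        rw [← this]; exact hs
      · intro h
        exact ⟨⟨t, ht⟩, h, rfl⟩
    have hh1 : ∀ t ∈ Q, t ∉ C₀.map (T : Subgroup G).subtype → t * t = 1 ∨ t * t = (z₀ : G) := by
      intro t ht htC
      have htT : t ∈ (T : Subgroup G) := hQT ht
      rcases h1 ⟨t, htT⟩ (fun h => htC ((hmemC t htT).mpr h)) with h | h
      · left
        exact congrArg (fun u : (T : Subgroup G) => (u : G)) h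
      · right
        exact congrArg (fun u : (T : Subgroup G) => (u : G)) h
    have hh2 : ∀ t ∈ Q, t ∉ C₀.map (T : Subgroup G).subtype →
        ∀ c ∈ C₀.map (T : Subgroup G).subtype, c ^ 4 = 1 → t * c * t⁻¹ = c⁻¹ := by
      intro t ht htC c hc hc4
      have htT : t ∈ (T : Subgroup G) := hQT ht
      obtain ⟨c', hc', rfl⟩ := hc
      have hc4' : c' ^ 4 = 1 := by
        apply Subtype.ext
        rw [Subgroup.coe_pow]
        exact hc4
      have := h2 ⟨t, htT⟩ (fun h => htC ((hmemC t htT).mpr h)) c' hc' hc4'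
      exact congrArg (fun u : (T : Subgroup G) => (u : G)) this
    have hh4 : ∀ s ∈ Q, ∀ t ∈ Q, s ∉ C₀.map (T : Subgroup G).subtype →
        t ∉ C₀.map (T : Subgroup G).subtype → s * t ∈ C₀.map (T : Subgroup G).subtype := by
      intro s hs t ht hsC htC
      have hsT : s ∈ (T : Subgroup G) := hQT hs
      have htT : t ∈ (T : Subgroup G) := hQT ht
      have := h4 ⟨s, hsT⟩ ⟨t, htT⟩ (fun h => hsC ((hmemC s hsT).mpr h))
        (fun h => htC ((hmemC t htT).mpr h))
      exact ⟨_, this, rfl⟩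
    rcases classify Q (C₀.map (T : Subgroup G).subtype) hQ2 hCcyc (z₀ : G)
      ((hmemC _ z₀.2).mpr hz₀C) (by exact_mod_cast congrArg (fun u : (T : Subgroup G) => (u : G)) hz₀z)
      hh1 hh2 hh4 β r hrodd hβr hβ1 with ⟨hQ4, -⟩ | ⟨hQ8, c, hcC, hc, houtC, hCz, hβc⟩
    · exact (hV4 hQ4).elim
    · have hzc : Subgroup.zpowers (c : G) ≤ C₀.map (T : Subgroup G).subtype :=
        Subgroup.zpowers_le.mpr hcC
      have hout : ∀ t ∈ Q, t ∉ Subgroup.zpowers (c : G) →
          t * t = (c : G) * c ∧ t * c * t⁻¹ = (c : G)⁻¹ := by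
        intro t ht htc
        exact houtC t ht (fun h => htc (hCz t ht h))
      have h72 := card_le_of_quaternion Q hQ8 (c : G) c.2 hc hout hcent
      obtain ⟨k, hk⟩ := IsPGroup.iff_card.mp T.isPGroup'
      rw [← (T : Subgroup G).card_mul_index] at h72
      obtain ⟨h48, hi3⟩ := card_eq_48 h72 hk h16 hi1 hi0 hi2
      rw [(T : Subgroup G).card_mul_index] at h48
      have hr3 : r = 3 := by
        rw [hi3] at hrdvd
        exact (Nat.prime_dvd_prime_iff_eq hr Nat.prime_three).mp hrdvd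
      rw [hr3] at hx
      apply q8_stage Q hQ8 h48 (c : G) x c.2 hc hout hx
      intro h
      apply hβc
      rw [hβapp]
      exact hzc h

end Cfsg.Agent.Helper5.SDS
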