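import Mathlib

set_option autoImplicit false
set_option linter.unnecessarySimpa false
set_option linter.style.haveILetI false

/-!
Part F of Ward's theorem (S3796): the form lemma.  `V = Q/N` is an `F₂`-space of order `2^(2n)`,
`p = 2^n + 1` a prime, `a` acts irreducibly and fixed-point-freely, `x` commutes with `a` and both
preserve a non-degenerate form; then `x ^ p` is trivial on `V`.
-/

namespace Cfsg.Agent.Helper5.WardForm

/-- number theory: `p = 2^n+1`, `d ≤ 2n`, `2^d ≡ 1 (mod p)` forces `d = 0` or `d = 2n`. -/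
theorem pow_two_modEq_one {n p d : ℕ} (hpn : p = 2 ^ n + 1) (hd : d ≤ 2 * n)
    (h : 2 ^ d ≡ 1 [MOD p]) : d = 0 ∨ d = 2 * n := by
  have hsmall : ∀ e : ℕ, e ≤ n → 2 ^ e ≡ 1 [MOD p] → e = 0 := by
    intro e he h1
    have hlt : 2 ^ e < p := by
      have : 2 ^ e ≤ 2 ^ n := Nat.pow_le_pow_right (by norm_num) he
      omega
    have h1p : 1 < p := by
      have : 0 < 2 ^ n := Nat.pos_of_ne_zero (by positivity)
      omega
    have h2 : 2 ^ e = 1 := by
      have := h1
      unfold Nat.ModEq at this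
      rwa [Nat.mod_eq_of_lt hlt, Nat.mod_eq_of_lt h1p] at this
    by_contra hne
    have : 2 ≤ 2 ^ e := by
      calc 2 = 2 ^ 1 := by norm_num
        _ ≤ 2 ^ e := Nat.pow_le_pow_right (by norm_num) (Nat.one_le_iff_ne_zero.mpr hne)
    omega
  by_cases hdn : d ≤ n
  · exact Or.inl (hsmall d hdn h)
  · right
    rw [not_le] at hdn
    have h2n : 2 ^ (2 * n) ≡ 1 [MOD p] := by
      have h0 : (2 ^ n + 1) * (2 ^ n - 1) + 1 = 2 ^ (2 * n) := by
        have h1 : 1 ≤ 2 ^ n := Nat.one_le_two_pow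
        have : 2 ^ (2 * n) = 2 ^ n * 2 ^ n := by rw [two_mul, pow_add]
        rw [this]
        obtain ⟨m, hm⟩ : ∃ m, 2 ^ n = m + 1 := ⟨2 ^ n - 1, by omega⟩
        rw [hm]; simp; ring
      rw [← h0, hpn]
      have : (2 ^ n + 1) * (2 ^ n - 1) + 1 ≡ 0 + 1 [MOD 2 ^ n + 1] :=
        Nat.ModEq.add_right 1 ((Nat.modEq_zero_iff_dvd).mpr (dvd_mul_right _ _))
      simpa using this
    have hsplit : 2 ^ (2 * n) = 2 ^ (2 * n - d) * 2 ^ d := by
      rw [← pow_add]; congr 1; omega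
    have h3 : 2 ^ (2 * n - d) ≡ 1 [MOD p] := by
      have h4 : 2 ^ (2 * n - d) * 2 ^ d ≡ 2 ^ (2 * n - d) * 1 [MOD p] := Nat.ModEq.mul_left _ h
      rw [← hsplit, mul_one] at h4
      exact h4.symm.trans h2n
    have := hsmall (2 * n - d) (by omega) h3
    omega

section L0

variable {V : Type*} [AddCommGroup V] [Finite V]

/-- every `α`-invariant subgroup is trivial or everything. -/
theorem irr_of_fpf {n p : ℕ} (hp : p.Prime) (hpn : p = 2 ^ n + 1)
    (hcard : Nat.card V = 2 ^ (2 * n)) (α : V →+ V) (hαp : ∀ v, (α^[p]) v = v)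
    (hfpf : ∀ v, α v = v → v = 0) (U : AddSubgroup V) (hU : ∀ v ∈ U, α v ∈ U) :
    U = ⊥ ∨ U = ⊤ := by
  classical
  have : Fact p.Prime := ⟨hp⟩
  have : Fintype U := Fintype.ofFinite _
  let f : Function.End U := fun v => ⟨α v, hU v v.2⟩
  have hfk : ∀ (k : ℕ) (v : U), ((f ^ k) v : V) = (α^[k]) v := by
    intro k
    induction k with
    | zero => intro v; rw [pow_zero]; rfl
    | succ k ih =>
      intro v
      rw [pow_succ', Function.iterate_succ_apply']
      change ((f ((f ^ k) v) : U) : V) = _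
      change α ((f ^ k) v : V) = _
      rw [ih]
  have hfp : f ^ p ^ 1 = 1 := by
    rw [pow_one]
    funext v
    apply Subtype.ext
    rw [hfk, hαp]; rfl
  have h1 := Equiv.Perm.card_fixedPoints_modEq (p := p) (n := 1) hfp
  have hfix : Fintype.card (Function.fixedPoints f) = 1 := by
    rw [Fintype.card_eq_one_iff]
    refine ⟨⟨0, ?_⟩, ?_⟩
    · change f 0 = 0
      apply Subtype.ext
      change α ((0 : U) : V) = ((0 : U) : V)
      simp
    · rintro ⟨y, hy⟩
      apply Subtype.ext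
      have h2 : f y = y := hy
      have h3 : α (y : V) = y := congrArg Subtype.val h2
      apply Subtype.ext
      exact hfpf _ h3
  rw [hfix] at h1
  have hdvd : Nat.card U ∣ 2 ^ (2 * n) := by
    rw [← hcard]; exact AddSubgroup.card_addSubgroup_dvd_card U
  obtain ⟨d, hd, hUd⟩ := (Nat.dvd_prime_pow Nat.prime_two).mp hdvd
  rw [← Nat.card_eq_fintype_card, hUd] at h1
  rcases pow_two_modEq_one hpn hd h1 with h0 | h2n
  · left
    rw [h0, pow_zero] at hUd
    exact AddSubgroup.eq_bot_of_card_eq U hUd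
  · right
    rw [h2n, ← hcard] at hUd
    exact AddSubgroup.eq_top_of_card_eq U hUd

end L0

section L1

open Polynomial

variable {V : Type*} [AddCommGroup V] [Module (ZMod 2) V] {C : Type*} [CommGroup C]

omit [Module (ZMod 2) V] in
theorem form_zero_left (β : V → V → C) (hβl : ∀ u v w, β (u + v) w = β u w * β v w) (w : V) :
    β 0 w = 1 := by
  have h := hβl 0 0 w
  rw [add_zero] at h
  exact (mul_eq_left.mp h.symm)

omit [Module (ZMod 2) V] in
theorem form_zero_right (β : V → V → C) (hβr : ∀ u v w, β u (v + w) = β u v * β u w) (u : V) :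
    β u 0 = 1 := by
  have h := hβr u 0 0
  rw [add_zero] at h
  exact (mul_eq_left.mp h.symm)

theorem zmod_two_cases (c : ZMod 2) : c = 0 ∨ c = 1 := by
  revert c; decide

/-- adjoint of a polynomial in `α` is the same polynomial in `α⁻¹`. -/
theorem adj_aeval (β : V → V → C)
    (hβl : ∀ u v w, β (u + v) w = β u w * β v w) (hβr : ∀ u v w, β u (v + w) = β u v * β u w)
    (α α' : Module.End (ZMod 2) V) (hαα' : α * α' = 1)
    (hα : ∀ v w, β (α v) (α w) = β v w) (f : (ZMod 2)[X]) :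
    ∀ v w, β (aeval α f v) w = β v (aeval α' f w) := by
  have h1 : ∀ v w, β (α v) w = β v (α' w) := by
    intro v w
    have : α (α' w) = w := by
      rw [← Module.End.mul_apply, hαα']; rfl
    rw [← hα v (α' w), this]
  have hk : ∀ (k : ℕ) (v w : V), β ((α ^ k) v) w = β v ((α' ^ k) w) := by
    intro k
    induction k with
    | zero => intro v w; simp
    | succ k ih =>
      intro v w
      rw [pow_succ' α, Module.End.mul_apply, h1, ih, pow_succ α', Module.End.mul_apply]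
  induction f using Polynomial.induction_on' with
  | add f g hf hg =>
    intro v w
    rw [map_add, map_add, LinearMap.add_apply, LinearMap.add_apply, hβl, hβr, hf, hg]
  | monomial k c =>
    intro v w
    rw [aeval_monomial, aeval_monomial, Module.End.mul_apply, Module.End.mul_apply,
      Module.algebraMap_end_apply, Module.algebraMap_end_apply]
    rcases zmod_two_cases c with rfl | rfl
    · rw [zero_smul, zero_smul, form_zero_left β hβl, form_zero_right β hβr]
    · rw [one_smul, one_smul, hk]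

theorem pow_two_pow_eq_expand (f : (ZMod 2)[X]) (k : ℕ) :
    f ^ 2 ^ k = expand (ZMod 2) (2 ^ k) f := by
  have : Fact (Nat.Prime 2) := ⟨Nat.prime_two⟩
  induction k with
  | zero => simp
  | succ k ih =>
    rw [pow_succ, pow_mul, ih, ← ZMod.expand_card, expand_expand, mul_comm]

theorem xi_pow_eq_one (β : V → V → C)
    (hβl : ∀ u v w, β (u + v) w = β u w * β v w) (hβr : ∀ u v w, β u (v + w) = β u v * β u w)
    (hnd : ∀ v, (∀ w, β v w = 1) → v = 0) (hskew : ∀ v w, β v w * β w v = 1)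
    {n p : ℕ} (hpn : p = 2 ^ n + 1)
    (α ξ : Module.End (ZMod 2) V) (hc : α * ξ = ξ * α) (hαp : α ^ p = 1)
    (hα : ∀ v w, β (α v) (α w) = β v w) (hξ : ∀ v w, β (ξ v) (ξ w) = β v w)
    (hirr : ∀ U : Submodule (ZMod 2) V, (∀ v ∈ U, α v ∈ U) → U = ⊥ ∨ U = ⊤) :
    ξ ^ p = 1 := by
  by_cases hV : ∀ v : V, v = 0
  · apply LinearMap.ext
    intro v
    rw [hV v, map_zero, map_zero]
  rw [not_forall] at hV
  obtain ⟨v₀, hv₀⟩ := hV
  -- the cyclic submodule generated by v₀
  let L : (ZMod 2)[X] →ₗ[ZMod 2] V := (LinearMap.applyₗ v₀).comp (aeval α).toLinearMap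
  have hL : ∀ f, L f = aeval α f v₀ := fun f => rfl
  have hU0 : LinearMap.range L = ⊤ := by
    rcases hirr (LinearMap.range L) (by
      rintro _ ⟨f, rfl⟩
      refine ⟨X * f, ?_⟩
      rw [hL, hL, map_mul, aeval_X, Module.End.mul_apply]) with h | h
    · exfalso
      apply hv₀
      have : v₀ ∈ LinearMap.range L := ⟨1, by rw [hL, map_one]; rfl⟩
      rw [h] at this
      exact (Submodule.mem_bot _).mp this
    · exact h
  obtain ⟨f, hf⟩ : ξ v₀ ∈ LinearMap.range L := by rw [hU0]; trivial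
  rw [hL] at hf
  set φ : Module.End (ZMod 2) V := aeval α f with hφ
  have hcomm : α * φ = φ * α := by
    have := (Polynomial.commute_X f).map (aeval α)
    rw [aeval_X] at this
    exact this.eq
  have hξφ : ξ = φ := by
    have hU1 : LinearMap.eqLocus ξ φ = ⊤ := by
      rcases hirr (LinearMap.eqLocus ξ φ) (by
        intro v hv
        rw [LinearMap.mem_eqLocus] at hv ⊢
        rw [← Module.End.mul_apply, ← hc, Module.End.mul_apply, hv, ← Module.End.mul_apply,
          hcomm, Module.End.mul_apply]) with h | h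
      · exfalso
        apply hv₀
        have : v₀ ∈ LinearMap.eqLocus ξ φ := by
          rw [LinearMap.mem_eqLocus]; exact hf.symm
        rw [h] at this
        exact (Submodule.mem_bot _).mp this
      · exact h
    apply LinearMap.ext
    intro v
    have : v ∈ LinearMap.eqLocus ξ φ := by rw [hU1]; trivial
    exact (LinearMap.mem_eqLocus).mp this
  -- the inverse of α
  have hαα' : α * α ^ 2 ^ n = 1 := by
    rw [← pow_succ', ← hpn, hαp]
  have hadj := adj_aeval β hβl hβr α (α ^ 2 ^ n) hαα' hα f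
  have hφ' : aeval (α ^ 2 ^ n) f = φ ^ 2 ^ n := by
    rw [hφ, ← map_pow, pow_two_pow_eq_expand, expand_aeval]
  rw [hφ'] at hadj
  rw [hξφ] at hξ ⊢
  apply LinearMap.ext
  intro w
  rw [Module.End.one_apply]
  have hkey : ∀ v, β v ((φ ^ p) w) = β v w := by
    intro v
    rw [← hξ v w, hadj, hpn, pow_succ, Module.End.mul_apply]
  have hww : w + w = 0 := by
    have := ZModModule.char_nsmul_eq_zero 2 w
    rwa [two_nsmul] at this
  have hy : (φ ^ p) w + w = 0 := by
    apply hnd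
    intro v
    have h1 : β v ((φ ^ p) w + w) = 1 := by
      rw [hβr, hkey, ← hβr, hww, form_zero_right β hβr]
    have h2 := hskew v ((φ ^ p) w + w)
    rw [h1, one_mul] at h2
    exact h2
  have : (φ ^ p) w = -w := eq_neg_of_add_eq_zero_left hy
  rw [this]
  exact (eq_neg_of_add_eq_zero_left hww).symm

end L1

section L01

variable {V : Type*} [AddCommGroup V] [Finite V] {C : Type*} [CommGroup C]

theorem two_nsmul_eq_zero_of_fpf {n p : ℕ} (hp : p.Prime) (hpn : p = 2 ^ n + 1)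
    (hcard : Nat.card V = 2 ^ (2 * n)) (α : V →+ V) (hαp : ∀ v, (α^[p]) v = v)
    (hfpf : ∀ v, α v = v → v = 0) : ∀ v : V, 2 • v = 0 := by
  rcases irr_of_fpf hp hpn hcard α hαp hfpf (nsmulAddMonoidHom 2 : V →+ V).range (by
    rintro _ ⟨w, rfl⟩
    exact ⟨α w, by simp [map_nsmul]⟩) with h | h
  · intro v
    have : (nsmulAddMonoidHom 2 : V →+ V) v ∈ (nsmulAddMonoidHom 2 : V →+ V).range := ⟨v, rfl⟩
    rw [h] at this
    exact (AddSubgroup.mem_bot).mp this
  · have hsurj : ∀ v : V, ∃ w : V, v = 2 • w := by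
      intro v
      have : v ∈ (nsmulAddMonoidHom 2 : V →+ V).range := by rw [h]; trivial
      obtain ⟨w, hw⟩ := this
      exact ⟨w, hw.symm⟩
    have hk : ∀ (k : ℕ) (v : V), ∃ w : V, v = 2 ^ k • w := by
      intro k
      induction k with
      | zero => intro v; exact ⟨v, by simp⟩
      | succ k ih =>
        intro v
        obtain ⟨w, hw⟩ := ih v
        obtain ⟨w', hw'⟩ := hsurj w
        exact ⟨w', by rw [hw, hw', pow_succ, mul_nsmul']⟩
    have hz : ∀ v : V, v = 0 := by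
      intro v
      obtain ⟨w, hw⟩ := hk (2 * n) v
      rw [hw, ← hcard]
      exact card_nsmul_eq_zero'
    intro v
    rw [hz v, smul_zero]

theorem xi_iterate_eq (β : V → V → C)
    (hβl : ∀ u v w, β (u + v) w = β u w * β v w) (hβr : ∀ u v w, β u (v + w) = β u v * β u w)
    (hnd : ∀ v, (∀ w, β v w = 1) → v = 0) (hskew : ∀ v w, β v w * β w v = 1)
    {n p : ℕ} (hp : p.Prime) (hpn : p = 2 ^ n + 1) (hcard : Nat.card V = 2 ^ (2 * n))
    (α ξ : V →+ V) (hc : ∀ v, α (ξ v) = ξ (α v)) (hαp : ∀ v, (α^[p]) v = v)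
    (hα : ∀ v w, β (α v) (α w) = β v w) (hξ : ∀ v w, β (ξ v) (ξ w) = β v w)
    (hfpf : ∀ v, α v = v → v = 0) : ∀ v, (ξ^[p]) v = v := by
  have h2 := two_nsmul_eq_zero_of_fpf hp hpn hcard α hαp hfpf
  letI : Module (ZMod 2) V := AddCommGroup.zmodModule h2
  have hmain := xi_pow_eq_one β hβl hβr hnd hskew hpn (α.toZModLinearMap 2) (ξ.toZModLinearMap 2)
    (by
      apply LinearMap.ext
      intro v
      exact hc v)
    (by
      apply LinearMap.ext
      intro v
      rw [Module.End.pow_apply]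
      exact hαp v)
    hα hξ
    (by
      intro U hU
      rcases irr_of_fpf hp hpn hcard α hαp hfpf U.toAddSubgroup hU with h | h
      · left
        rw [Submodule.eq_bot_iff]
        intro x hx
        have : x ∈ U.toAddSubgroup := hx
        rw [h] at this
        exact (AddSubgroup.mem_bot).mp this
      · right
        rw [Submodule.eq_top_iff']
        intro x
        have : x ∈ U.toAddSubgroup := by rw [h]; trivial
        exact this)
  intro v
  have := congrArg (fun (g : Module.End (ZMod 2) V) => g v) hmain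
  simp only [Module.End.pow_apply, Module.End.one_apply] at this
  exact this

end L01

section L2

variable {Γ : Type*} [Group Γ]

/-- conjugation by an element of the normalizer, as an endomorphism of `Q`. -/
def conjQ (Q : Subgroup Γ) (c : Γ) (hc : c ∈ Subgroup.normalizer (Q : Set Γ)) : ↥Q →* ↥Q where
  toFun g := ⟨c * g * c⁻¹, (Subgroup.mem_normalizer_iff.mp hc g).mp g.2⟩
  map_one' := by apply Subtype.ext; simp
  map_mul' := by intro g h; apply Subtype.ext; simp

theorem conjQ_coe (Q : Subgroup Γ) (c : Γ) (hc : c ∈ Subgroup.normalizer (Q : Set Γ)) (g : ↥Q) :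
    ((conjQ Q c hc g : ↥Q) : Γ) = c * g * c⁻¹ := rfl

/-- iterating the map induced on a quotient by conjugation. -/
theorem iterate_map_conjQ (Q : Subgroup Γ) (K : Subgroup ↥Q) [K.Normal] (c : Γ)
    (hc : c ∈ Subgroup.normalizer (Q : Set Γ)) (hK : K ≤ K.comap (conjQ Q c hc)) (k : ℕ) (g : ↥Q) :
    ∃ g' : ↥Q, (g' : Γ) = c ^ k * g * (c ^ k)⁻¹ ∧
      ((QuotientGroup.map K K (conjQ Q c hc) hK)^[k]) (g : ↥Q ⧸ K) = (g' : ↥Q ⧸ K) := by
  induction k with
  | zero => exact ⟨g, by simp, rfl⟩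
  | succ k ih =>
    obtain ⟨g', hg', h⟩ := ih
    refine ⟨conjQ Q c hc g', ?_, ?_⟩
    · rw [conjQ_coe, hg', pow_succ', mul_inv_rev]; group
    · rw [Function.iterate_succ_apply', h, QuotientGroup.map_mk]

/-- **Form lemma** (Part F of Ward's theorem). -/
theorem form_lemma {Γ : Type*} [Group Γ] [Finite Γ] {C : Type*} [CommGroup C] (Q N : Subgroup Γ)
    (b : Γ → Γ → C)
    (hbl : ∀ g₁ ∈ Q, ∀ g₂ ∈ Q, ∀ h ∈ Q, b (g₁ * g₂) h = b g₁ h * b g₂ h)
    (hbr : ∀ g ∈ Q, ∀ h₁ ∈ Q, ∀ h₂ ∈ Q, b g (h₁ * h₂) = b g h₁ * b g h₂)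
    (hbs : ∀ g ∈ Q, ∀ h ∈ Q, b g h * b h g = 1)
    (hN : ∀ g, g ∈ N ↔ g ∈ Q ∧ ∀ h ∈ Q, b g h = 1)
    {n p : ℕ} (hp : p.Prime) (hpn : p = 2 ^ n + 1) (hidx : Nat.card Q = 2 ^ (2 * n) * Nat.card N)
    (a x : Γ) (haQ : a ∈ Subgroup.normalizer (Q : Set Γ)) (hxQ : x ∈ Subgroup.normalizer (Q : Set Γ))
    (hax : a * x = x * a) (hap : a ^ p = 1)
    (hba : ∀ g ∈ Q, ∀ h ∈ Q, b (a * g * a⁻¹) (a * h * a⁻¹) = b g h)
    (hbx : ∀ g ∈ Q, ∀ h ∈ Q, b (x * g * x⁻¹) (x * h * x⁻¹) = b g h)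
    (hfpf : ∀ g ∈ Q, a * g * a⁻¹ * g⁻¹ ∈ N → g ∈ N) :
    ∀ g ∈ Q, x ^ p * g * (x ^ p)⁻¹ * g⁻¹ ∈ N := by
  classical
  have hNQ : N ≤ Q := fun g hg => ((hN g).mp hg).1
  have hb1l : ∀ h ∈ Q, b 1 h = 1 := by
    intro h hh
    have := hbl 1 Q.one_mem 1 Q.one_mem h hh
    rw [mul_one] at this
    exact mul_eq_left.mp this.symm
  -- the homomorphism whose kernel is N
  let Φ : ↥Q →* (↥Q → C) :=
    { toFun := fun g h => b g h
      map_one' := funext fun h => hb1l h h.2
      map_mul' := fun g₁ g₂ => funext fun h => hbl g₁ g₁.2 g₂ g₂.2 h h.2 }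
  have hker : ∀ g : ↥Q, g ∈ Φ.ker ↔ (g : Γ) ∈ N := by
    intro g
    rw [MonoidHom.mem_ker, hN]
    constructor
    · intro h
      exact ⟨g.2, fun k hk => congrFun h ⟨k, hk⟩⟩
    · intro h
      funext k
      exact h.2 k k.2
  have hNl : ∀ m ∈ N, ∀ h ∈ Q, b m h = 1 := fun m hm => ((hN m).mp hm).2
  have hNr : ∀ m ∈ N, ∀ g ∈ Q, b g m = 1 := by
    intro m hm g hg
    have := hbs g hg m (hNQ hm)
    rwa [hNl m hm g hg, mul_one] at this
  -- the form on the quotient
  let β : (↥Q ⧸ Φ.ker) → (↥Q ⧸ Φ.ker) → C := fun v w => b (v.out : ↥Q) (w.out : ↥Q)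
  have hβmk : ∀ g h : ↥Q, β (g : ↥Q ⧸ Φ.ker) (h : ↥Q ⧸ Φ.ker) = b g h := by
    intro g h
    obtain ⟨n₁, h1⟩ := QuotientGroup.mk_out_eq_mul Φ.ker g
    obtain ⟨n₂, h2⟩ := QuotientGroup.mk_out_eq_mul Φ.ker h
    have hn₁ : ((n₁ : ↥Q) : Γ) ∈ N := (hker _).mp n₁.2
    have hn₂ : ((n₂ : ↥Q) : Γ) ∈ N := (hker _).mp n₂.2
    change b ((g : ↥Q ⧸ Φ.ker).out : ↥Q) ((h : ↥Q ⧸ Φ.ker).out : ↥Q) = b g h
    rw [h1, h2]
    push_cast
    rw [hbl g g.2 _ (hNQ hn₁) _ (Q.mul_mem h.2 (hNQ hn₂)), hNl _ hn₁ _ (Q.mul_mem h.2 (hNQ hn₂)),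
      mul_one, hbr g g.2 h h.2 _ (hNQ hn₂), hNr _ hn₂ g g.2, mul_one]
  -- commutativity of the quotient
  have hcomm : ∀ v w : ↥Q ⧸ Φ.ker, v * w = w * v := by
    intro v w
    apply QuotientGroup.kerLift_injective Φ
    rw [map_mul, map_mul, mul_comm]
  -- the maps induced by a and x
  have hKa : Φ.ker ≤ Φ.ker.comap (conjQ Q a haQ) := by
    intro m hm
    rw [Subgroup.mem_comap, hker, conjQ_coe, hN]
    have hmN : (m : Γ) ∈ N := (hker m).mp hm
    refine ⟨(Subgroup.mem_normalizer_iff.mp haQ m).mp m.2, ?_⟩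
    intro h hh
    have hh' : a⁻¹ * h * a⁻¹⁻¹ ∈ Q :=
      (Subgroup.mem_normalizer_iff.mp (Subgroup.inv_mem _ haQ) h).mp hh
    have := hba m m.2 _ hh'
    rw [hNl _ hmN _ hh'] at this
    rw [← this]
    congr 1
    group
  have hKx : Φ.ker ≤ Φ.ker.comap (conjQ Q x hxQ) := by
    intro m hm
    rw [Subgroup.mem_comap, hker, conjQ_coe, hN]
    have hmN : (m : Γ) ∈ N := (hker m).mp hm
    refine ⟨(Subgroup.mem_normalizer_iff.mp hxQ m).mp m.2, ?_⟩
    intro h hh
    have hh' : x⁻¹ * h * x⁻¹⁻¹ ∈ Q :=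
      (Subgroup.mem_normalizer_iff.mp (Subgroup.inv_mem _ hxQ) h).mp hh
    have := hbx m m.2 _ hh'
    rw [hNl _ hmN _ hh'] at this
    rw [← this]
    congr 1
    group
  let α₀ : (↥Q ⧸ Φ.ker) →* (↥Q ⧸ Φ.ker) := QuotientGroup.map Φ.ker Φ.ker (conjQ Q a haQ) hKa
  let ξ₀ : (↥Q ⧸ Φ.ker) →* (↥Q ⧸ Φ.ker) := QuotientGroup.map Φ.ker Φ.ker (conjQ Q x hxQ) hKx
  have hα₀mk : ∀ g : ↥Q, α₀ (g : ↥Q ⧸ Φ.ker) = ((conjQ Q a haQ g : ↥Q) : ↥Q ⧸ Φ.ker) :=
    fun g => QuotientGroup.map_mk _ _ _ _ _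
  have hξ₀mk : ∀ g : ↥Q, ξ₀ (g : ↥Q ⧸ Φ.ker) = ((conjQ Q x hxQ g : ↥Q) : ↥Q ⧸ Φ.ker) :=
    fun g => QuotientGroup.map_mk _ _ _ _ _
  -- cardinality
  have hcardV : Nat.card (↥Q ⧸ Φ.ker) = 2 ^ (2 * n) := by
    have h1 : Nat.card ↥Q = Nat.card (↥Q ⧸ Φ.ker) * Nat.card Φ.ker :=
      Subgroup.card_eq_card_quotient_mul_card_subgroup Φ.ker
    have h2 : Nat.card Φ.ker = Nat.card N := by
      have : Φ.ker = N.subgroupOf Q := by
        ext g
        rw [hker, Subgroup.mem_subgroupOf]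
      rw [this]
      exact Nat.card_congr (Subgroup.subgroupOfEquivOfLe hNQ).toEquiv
    rw [h2, hidx] at h1
    exact (Nat.eq_of_mul_eq_mul_right Nat.card_pos h1).symm
  -- apply the additive lemma
  letI : CommGroup (↥Q ⧸ Φ.ker) := { (inferInstance : Group (↥Q ⧸ Φ.ker)) with mul_comm := hcomm }
  have hmain := xi_iterate_eq (V := Additive (↥Q ⧸ Φ.ker)) (C := C)
    (fun v w => β (Additive.toMul v) (Additive.toMul w))
    (by
      intro u v w
      induction' u using Additive.rec with u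
      induction' v using Additive.rec with v
      induction' w using Additive.rec with w
      induction' u using QuotientGroup.induction_on with g₁
      induction' v using QuotientGroup.induction_on with g₂
      induction' w using QuotientGroup.induction_on with h
      change β ((g₁ : ↥Q ⧸ Φ.ker) * (g₂ : ↥Q ⧸ Φ.ker)) h = β g₁ h * β g₂ h
      rw [← QuotientGroup.mk_mul, hβmk, hβmk, hβmk]
      exact hbl g₁ g₁.2 g₂ g₂.2 h h.2)
    (by
      intro u v w
      induction' u using Additive.rec with u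
      induction' v using Additive.rec with v
      induction' w using Additive.rec with w
      induction' u using QuotientGroup.induction_on with g
      induction' v using QuotientGroup.induction_on with h₁
      induction' w using QuotientGroup.induction_on with h₂
      change β g ((h₁ : ↥Q ⧸ Φ.ker) * (h₂ : ↥Q ⧸ Φ.ker)) = β g h₁ * β g h₂
      rw [← QuotientGroup.mk_mul, hβmk, hβmk, hβmk]
      exact hbr g g.2 h₁ h₁.2 h₂ h₂.2)
    (by
      intro v hv
      induction' v using Additive.rec with v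
      induction' v using QuotientGroup.induction_on with g
      have hg : (g : Γ) ∈ N := by
        rw [hN]
        refine ⟨g.2, fun h hh => ?_⟩
        have := hv (Additive.ofMul ((⟨h, hh⟩ : ↥Q) : ↥Q ⧸ Φ.ker))
        change β (g : ↥Q ⧸ Φ.ker) ((⟨h, hh⟩ : ↥Q) : ↥Q ⧸ Φ.ker) = 1 at this
        rwa [hβmk] at this
      change Additive.ofMul (g : ↥Q ⧸ Φ.ker) = Additive.ofMul 1
      congr 1
      exact (QuotientGroup.eq_one_iff g).mpr ((hker g).mpr hg))
    (by
      intro v w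
      induction' v using Additive.rec with v
      induction' w using Additive.rec with w
      induction' v using QuotientGroup.induction_on with g
      induction' w using QuotientGroup.induction_on with h
      change β (g : ↥Q ⧸ Φ.ker) h * β (h : ↥Q ⧸ Φ.ker) g = 1
      rw [hβmk, hβmk]
      exact hbs g g.2 h h.2)
    hp hpn (by rw [← hcardV]; exact Nat.card_congr Additive.toMul)
    (MonoidHom.toAdditive α₀) (MonoidHom.toAdditive ξ₀)
    (by
      intro v
      induction' v using Additive.rec with v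
      induction' v using QuotientGroup.induction_on with g
      change Additive.ofMul (α₀ (ξ₀ (g : ↥Q ⧸ Φ.ker))) = Additive.ofMul (ξ₀ (α₀ (g : ↥Q ⧸ Φ.ker)))
      congr 1
      rw [hξ₀mk, hα₀mk, hα₀mk, hξ₀mk]
      congr 1
      apply Subtype.ext
      rw [conjQ_coe, conjQ_coe, conjQ_coe, conjQ_coe]
      have h1 : a * (x * (g : Γ) * x⁻¹) * a⁻¹ = (a * x) * g * (a * x)⁻¹ := by group
      have h2 : x * (a * (g : Γ) * a⁻¹) * x⁻¹ = (x * a) * g * (x * a)⁻¹ := by group
      rw [h1, h2, hax])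
    (by
      intro v
      induction' v using Additive.rec with v
      induction' v using QuotientGroup.induction_on with g
      obtain ⟨g', hg', h⟩ := iterate_map_conjQ Q Φ.ker a haQ hKa p g
      have hgg' : g' = g := by
        apply Subtype.ext
        rw [hg', hap]; simp
      rw [hgg'] at h
      have hit : ∀ (k : ℕ) (u : ↥Q ⧸ Φ.ker),
          ((MonoidHom.toAdditive α₀)^[k]) (Additive.ofMul u) = Additive.ofMul ((α₀^[k]) u) := by
        intro k
        induction k with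
        | zero => intro u; rfl
        | succ k ih =>
          intro u
          rw [Function.iterate_succ_apply', Function.iterate_succ_apply', ih]; rfl
      rw [hit]
      exact congrArg Additive.ofMul h)
    (by
      intro v w
      induction' v using Additive.rec with v
      induction' w using Additive.rec with w
      induction' v using QuotientGroup.induction_on with g
      induction' w using QuotientGroup.induction_on with h
      change β (α₀ (g : ↥Q ⧸ Φ.ker)) (α₀ (h : ↥Q ⧸ Φ.ker)) = β (g : ↥Q ⧸ Φ.ker) h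
      rw [hα₀mk, hα₀mk, hβmk, hβmk, conjQ_coe, conjQ_coe]
      exact hba g g.2 h h.2)
    (by
      intro v w
      induction' v using Additive.rec with v
      induction' w using Additive.rec with w
      induction' v using QuotientGroup.induction_on with g
      induction' w using QuotientGroup.induction_on with h
      change β (ξ₀ (g : ↥Q ⧸ Φ.ker)) (ξ₀ (h : ↥Q ⧸ Φ.ker)) = β (g : ↥Q ⧸ Φ.ker) h
      rw [hξ₀mk, hξ₀mk, hβmk, hβmk, conjQ_coe, conjQ_coe]
      exact hbx g g.2 h h.2)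
    (by
      intro v hv
      induction' v using Additive.rec with v
      induction' v using QuotientGroup.induction_on with g
      have hv' : α₀ (g : ↥Q ⧸ Φ.ker) = (g : ↥Q ⧸ Φ.ker) := congrArg Additive.toMul hv
      rw [hα₀mk, QuotientGroup.eq, hker] at hv'
      -- hv' : ((conjQ g)⁻¹ * g : Γ) ∈ N
      have h1 : (a * (g : Γ) * a⁻¹)⁻¹ * g ∈ N := by
        simpa [conjQ_coe] using hv'
      have h2 : a * (g : Γ) * a⁻¹ * (g : Γ)⁻¹ ∈ N := by
        have h3 : ((a * (g : Γ) * a⁻¹)⁻¹ * g)⁻¹ ∈ N := N.inv_mem h1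
        have h4 : (⟨((a * (g : Γ) * a⁻¹)⁻¹ * g)⁻¹, hNQ h3⟩ : ↥Q) ∈ Φ.ker := (hker _).mpr h3
        have h5 := (inferInstance : Φ.ker.Normal).conj_mem _ h4 g
        rw [hker] at h5
        have h6 : ((g * (⟨((a * (g : Γ) * a⁻¹)⁻¹ * g)⁻¹, hNQ h3⟩ : ↥Q) * g⁻¹ : ↥Q) : Γ)
            = a * (g : Γ) * a⁻¹ * (g : Γ)⁻¹ := by
          push_cast
          group
        rwa [h6] at h5
      have hgN := hfpf g g.2 h2
      change Additive.ofMul (g : ↥Q ⧸ Φ.ker) = Additive.ofMul 1
      congr 1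
      exact (QuotientGroup.eq_one_iff g).mpr ((hker g).mpr hgN))
  -- translate back
  intro g hg
  have hit : ∀ (k : ℕ) (u : ↥Q ⧸ Φ.ker),
      ((MonoidHom.toAdditive ξ₀)^[k]) (Additive.ofMul u) = Additive.ofMul ((ξ₀^[k]) u) := by
    intro k
    induction k with
    | zero => intro u; rfl
    | succ k ih =>
      intro u
      rw [Function.iterate_succ_apply', Function.iterate_succ_apply', ih]; rfl
  have h1 := hmain (Additive.ofMul ((⟨g, hg⟩ : ↥Q) : ↥Q ⧸ Φ.ker))
  rw [hit] at h1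
  have h2 : (ξ₀^[p]) ((⟨g, hg⟩ : ↥Q) : ↥Q ⧸ Φ.ker) = ((⟨g, hg⟩ : ↥Q) : ↥Q ⧸ Φ.ker) :=
    congrArg Additive.toMul h1
  obtain ⟨g', hg', h3⟩ := iterate_map_conjQ Q Φ.ker x hxQ hKx p ⟨g, hg⟩
  change (ξ₀^[p]) ((⟨g, hg⟩ : ↥Q) : ↥Q ⧸ Φ.ker) = _ at h3
  rw [h3, QuotientGroup.eq, hker] at h2
  -- h2 : (g'⁻¹ * g : Γ) ∈ N
  have h4 : (g' : Γ)⁻¹ * g ∈ N := by simpa using h2
  have h5 : ((g' : Γ)⁻¹ * g)⁻¹ ∈ N := N.inv_mem h4
  have h6 : (⟨((g' : Γ)⁻¹ * g)⁻¹, hNQ h5⟩ : ↥Q) ∈ Φ.ker := (hker _).mpr h5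
  have h7 := (inferInstance : Φ.ker.Normal).conj_mem _ h6 ⟨g, hg⟩
  rw [hker] at h7
  have h8 : (((⟨g, hg⟩ : ↥Q) * (⟨((g' : Γ)⁻¹ * g)⁻¹, hNQ h5⟩ : ↥Q) * (⟨g, hg⟩ : ↥Q)⁻¹ : ↥Q) : Γ)
      = x ^ p * g * (x ^ p)⁻¹ * g⁻¹ := by
    push_cast
    rw [hg']
    group
  rwa [h8] at h7

end L2

end Cfsg.Agent.Helper5.WardForm
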