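import Mathlib
import Cfsg.Agent.Helper5.WardForm
import Cfsg.Agent.Helper8.SqA

set_option autoImplicit false
set_option linter.unnecessarySimpa false
set_option linter.style.haveILetI false
set_option linter.unusedVariables false

/-!
Lemma E of the Shult–Gross theorem (S3793): the exceptional configuration `q = 2`,
`p ^ e' = 2 ^ m + 1` is impossible (index count + free action + lifting the exponent).
-/

namespace Cfsg.Agent.Helper5.SGexc

open Cfsg.Agent.Helper5.WardForm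

theorem two_pow_two_mul_modEq_one (m : ℕ) : 2 ^ (2 * m) ≡ 1 [MOD 2 ^ m + 1] := by
  have h0 : (2 ^ m + 1) * (2 ^ m - 1) + 1 = 2 ^ (2 * m) := by
    have h1 : 1 ≤ 2 ^ m := Nat.one_le_two_pow
    have : 2 ^ (2 * m) = 2 ^ m * 2 ^ m := by rw [two_mul, pow_add]
    rw [this]
    obtain ⟨k, hk⟩ : ∃ k, 2 ^ m = k + 1 := ⟨2 ^ m - 1, by omega⟩
    rw [hk]; simp; ring
  rw [← h0]
  have : (2 ^ m + 1) * (2 ^ m - 1) + 1 ≡ 0 + 1 [MOD 2 ^ m + 1] :=
    Nat.ModEq.add_right 1 ((Nat.modEq_zero_iff_dvd).mpr (dvd_mul_right _ _))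
  simpa using this

/-- number theory: `p` odd, `p^e' = 2^m+1`, `p^n ∣ 2^d - 1`, `d ≥ 1` ⇒ `d ≥ 2m·p^(n-e')`. -/
theorem nt_bound {p n e' m d : ℕ} (hp : p.Prime) (hp2 : p ≠ 2) (he' : 1 ≤ e') (hen : e' ≤ n)
    (hpe : p ^ e' = 2 ^ m + 1) (hd : 1 ≤ d) (hdvd : p ^ n ∣ 2 ^ d - 1) :
    2 * m * p ^ (n - e') ≤ d := by
  haveI : Fact p.Prime := ⟨hp⟩
  have hodd : Odd p := hp.odd_of_ne_two hp2
  have hp3 : 3 ≤ p := by
    have := hp.two_le
    omega
  -- m ≥ 1
  have hm : 1 ≤ m := by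
    by_contra hm0
    have : m = 0 := by omega
    rw [this, pow_zero] at hpe
    have h3 : 3 ≤ p ^ e' := by
      calc 3 ≤ p := hp3
        _ = p ^ 1 := (pow_one p).symm
        _ ≤ p ^ e' := Nat.pow_le_pow_right (by omega) he'
    omega
  -- 2^d ≡ 1 mod P
  have hP : p ^ e' ∣ 2 ^ d - 1 := (pow_dvd_pow p hen).trans hdvd
  have h1d : 1 ≤ 2 ^ d := Nat.one_le_two_pow
  have hmod : 2 ^ d ≡ 1 [MOD 2 ^ m + 1] := by
    rw [← hpe]
    exact ((Nat.modEq_iff_dvd' h1d).mpr hP).symm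
  -- d = 2m * a
  have hdiv : d = 2 * m * (d / (2 * m)) + d % (2 * m) := (Nat.div_add_mod d (2 * m)).symm
  have hb : d % (2 * m) < 2 * m := Nat.mod_lt _ (by omega)
  have hmodb : 2 ^ (d % (2 * m)) ≡ 1 [MOD 2 ^ m + 1] := by
    have h1 : 2 ^ d = (2 ^ (2 * m)) ^ (d / (2 * m)) * 2 ^ (d % (2 * m)) := by
      rw [← pow_mul, ← pow_add, ← hdiv]
    have h2 : (2 ^ (2 * m)) ^ (d / (2 * m)) * 2 ^ (d % (2 * m)) ≡
        1 ^ (d / (2 * m)) * 2 ^ (d % (2 * m)) [MOD 2 ^ m + 1] :=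
      Nat.ModEq.mul_right _ ((two_pow_two_mul_modEq_one m).pow _)
    rw [← h1, one_pow, one_mul] at h2
    exact h2.symm.trans hmod
  have hb0 : d % (2 * m) = 0 := by
    rcases pow_two_modEq_one (n := m) (p := 2 ^ m + 1) rfl hb.le hmodb with h | h
    · exact h
    · omega
  obtain ⟨a, hda⟩ : ∃ a, d = 2 * m * a := ⟨d / (2 * m), by
    rw [hb0, add_zero] at hdiv; exact hdiv⟩
  have ha1 : 1 ≤ a := by
    by_contra h
    have h0 : a = 0 := by omega
    rw [h0, mul_zero] at hda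
    omega
  -- LTE
  have hx1 : 1 < 2 ^ (2 * m) := by
    calc 1 < 2 ^ 1 := by norm_num
      _ ≤ 2 ^ (2 * m) := Nat.pow_le_pow_right (by norm_num) (by omega)
  have hfac : 2 ^ (2 * m) - 1 = (2 ^ m - 1) * (2 ^ m + 1) := by
    have h1 : 1 ≤ 2 ^ m := Nat.one_le_two_pow
    have h2 : 2 ^ (2 * m) = 2 ^ m * 2 ^ m := by rw [two_mul, pow_add]
    obtain ⟨k, hk⟩ : ∃ k, 2 ^ m = k + 1 := ⟨2 ^ m - 1, by omega⟩
    have hk' : 2 ^ m - 1 = k := by omega
    apply Nat.sub_eq_of_eq_add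
    rw [h2, hk', hk]
    ring
  have hpdvd : p ∣ 2 ^ (2 * m) - 1 := by
    rw [hfac, ← hpe]
    exact Dvd.dvd.mul_left (dvd_pow_self p (by omega)) _
  have hpn2 : ¬ p ∣ 2 ^ (2 * m) := by
    intro h
    have := hp.dvd_of_dvd_pow h
    have := (Nat.prime_dvd_prime_iff_eq hp Nat.prime_two).mp this
    exact hp2 this
  have hlte := padicValNat.pow_sub_pow (p := p) hodd hx1 hpdvd hpn2 (n := a) (by omega)
  rw [one_pow, ← pow_mul, ← hda] at hlte
  -- valuation of 2^(2m) - 1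
  have hpm1 : ¬ p ∣ 2 ^ m - 1 := by
    intro h
    have h1 : p ∣ 2 ^ m + 1 := by rw [← hpe]; exact dvd_pow_self p (by omega)
    have h2 : p ∣ (2 ^ m + 1) - (2 ^ m - 1) := Nat.dvd_sub h1 h
    have h3 : (2 ^ m + 1) - (2 ^ m - 1) = 2 := by
      have : 1 ≤ 2 ^ m := Nat.one_le_two_pow
      omega
    rw [h3] at h2
    exact hp2 ((Nat.prime_dvd_prime_iff_eq hp Nat.prime_two).mp h2)
  have hval : padicValNat p (2 ^ (2 * m) - 1) = e' := by
    have hne1 : 2 ^ m - 1 ≠ 0 := by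
      have : 2 ≤ 2 ^ m := by
        calc 2 = 2 ^ 1 := by norm_num
          _ ≤ 2 ^ m := Nat.pow_le_pow_right (by norm_num) hm
      omega
    rw [hfac, padicValNat.mul hne1 (by omega), padicValNat.eq_zero_of_not_dvd hpm1, zero_add,
      ← hpe, padicValNat.prime_pow]
  rw [hval] at hlte
  have hne : 2 ^ d - 1 ≠ 0 := by
    have : 2 ≤ 2 ^ d := by
      calc 2 = 2 ^ 1 := by norm_num
        _ ≤ 2 ^ d := Nat.pow_le_pow_right (by norm_num) hd
    omega
  have hnle : n ≤ padicValNat p (2 ^ d - 1) := (padicValNat_dvd_iff_le hne).mp hdvd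
  rw [hlte] at hnle
  have hva : n - e' ≤ padicValNat p a := by omega
  have hpa : p ^ (n - e') ∣ a := (padicValNat_dvd_iff_le (by omega)).mpr hva
  have hle : p ^ (n - e') ≤ a := Nat.le_of_dvd (by omega) hpa
  rw [hda]
  exact Nat.mul_le_mul_left _ hle

/-- **Lemma E** of the Shult–Gross theorem: the exceptional configuration is impossible. -/
theorem gross_exceptional {Γ : Type*} [Group Γ] [Finite Γ] {p n e' m j : ℕ} (hp : p.Prime)
    (hp2 : p ≠ 2)
    (Q Z R : Subgroup Γ) (hQ : IsPGroup 2 Q) (hZQ : Z ≤ Q)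
    (hZc : ∀ z ∈ Z, ∀ g ∈ Q, z * g = g * z) (hRQ : R ≤ Q)
    (s : Γ) (hs : s ^ (p ^ n) = 1) (hn : 1 ≤ n) (hsQ : s ∈ Subgroup.normalizer (Q : Set Γ))
    (hsZ : s ∈ Subgroup.normalizer (Z : Set Γ))
    (htfree : ∀ g ∈ Q, s ^ (p ^ (n - 1)) * g * (s ^ (p ^ (n - 1)))⁻¹ * g⁻¹ ∈ Z → g ∈ Z)
    (hne : Z ≠ Q) (he' : 1 ≤ e') (hjn : j + e' ≤ n) (hpe : p ^ e' = 2 ^ m + 1)
    (hidx : R.relIndex Q = 2 ^ (2 * m))
    (hint : ∀ g ∈ Q, (∀ i, 1 ≤ i → i < p ^ j → s ^ i * g * (s ^ i)⁻¹ ∈ R) → g ∈ Z) : False := by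
  classical
  haveI : Fact (Nat.Prime 2) := ⟨Nat.prime_two⟩
  have hQZ : ∃ g ∈ Q, g ∉ Z := by
    by_contra h
    apply hne
    refine le_antisymm hZQ ?_
    intro g hg
    by_contra hgZ
    exact h ⟨g, hg, hgZ⟩
  -- the order of s is exactly p^n
  have ht1 : s ^ (p ^ (n - 1)) ≠ 1 := by
    intro h1
    obtain ⟨g, hg, hgZ⟩ := hQZ
    apply hgZ
    apply htfree g hg
    rw [h1]
    simp
  have hord : orderOf s = p ^ ((n - 1) + 1) := by
    obtain ⟨a, ha, hoa⟩ := (Nat.dvd_prime_pow hp).mp (orderOf_dvd_of_pow_eq_one hs)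
    by_cases han : a = n
    · rw [hoa, han]; congr 1; omega
    · exfalso
      apply ht1
      apply orderOf_dvd_iff_pow_eq_one.mp
      rw [hoa]
      exact pow_dvd_pow p (by omega)
  have hcardA : Nat.card (Subgroup.zpowers s) = p ^ n := by
    rw [Nat.card_zpowers, hord]; congr 1; omega
  have hAQ : Subgroup.zpowers s ≤ Subgroup.normalizer (Q : Set Γ) := Subgroup.zpowers_le.mpr hsQ
  have hAZ : Subgroup.zpowers s ≤ Subgroup.normalizer (Z : Set Γ) := Subgroup.zpowers_le.mpr hsZ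
  -- free action on Q \ Z
  have hfreeDvd : p ^ n ∣ Nat.card ↥((Q : Set Γ) \ (Z : Set Γ)) := by
    rw [← hcardA]
    apply Cfsg.Agent.Helper8.Sq.card_dvd_of_free
    · intro k hk v hv
      refine ⟨(Subgroup.mem_normalizer_iff.mp (hAQ hk) v).mp hv.1, ?_⟩
      intro hvZ
      exact hv.2 ((Subgroup.mem_normalizer_iff.mp (hAZ hk) v).mpr hvZ)
    · intro k hk v hv hkv
      by_contra hk1
      have hmem := Cfsg.Agent.Helper8.Sq.pow_mem_zpowers s p (n - 1) hp hord k hk hk1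
      obtain ⟨i, hi⟩ := Subgroup.mem_zpowers_iff.mp hmem
      have hcomm : Commute k v := by
        unfold Commute SemiconjBy
        calc k * v = k * v * k⁻¹ * k := by group
          _ = v * k := by rw [hkv]
      have hcomm' : Commute (s ^ p ^ (n - 1)) v := by
        rw [← hi]
        exact hcomm.zpow_left i
      apply hv.2
      apply htfree v hv.1
      have : s ^ p ^ (n - 1) * v * (s ^ p ^ (n - 1))⁻¹ * v⁻¹ = 1 := by
        rw [hcomm'.eq]; group
      rw [this]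
      exact Z.one_mem
  -- cardinalities
  have hXcard : Nat.card ↥((Q : Set Γ) \ (Z : Set Γ)) = Nat.card Q - Nat.card Z := by
    rw [Nat.card_coe_set_eq, Set.ncard_sdiff (by exact_mod_cast hZQ) (Set.toFinite _),
      ← Nat.card_coe_set_eq, ← Nat.card_coe_set_eq]
    rfl
  obtain ⟨z, hz⟩ := (IsPGroup.iff_card (p := 2)).mp (hQ.to_le hZQ)
  obtain ⟨q₀, hq₀⟩ := (IsPGroup.iff_card (p := 2)).mp hQ
  have hmul : Nat.card Z * Z.relIndex Q = Nat.card Q := by
    have h1 := Subgroup.card_mul_index (Z.subgroupOf Q)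
    have h2 : Nat.card (Z.subgroupOf Q) = Nat.card Z :=
      Nat.card_congr (Subgroup.subgroupOfEquivOfLe hZQ).toEquiv
    rw [h2] at h1
    exact h1
  have hDdvd : Z.relIndex Q ∣ 2 ^ q₀ := by
    rw [← hq₀, ← hmul]; exact dvd_mul_left _ _
  obtain ⟨d, hdq, hd⟩ := (Nat.dvd_prime_pow Nat.prime_two).mp hDdvd
  have hd1 : 1 ≤ d := by
    by_contra h
    have h0 : d = 0 := by omega
    rw [h0, pow_zero, Subgroup.relIndex_eq_one] at hd
    exact hne (le_antisymm hZQ hd)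
  have hdvd2 : p ^ n ∣ 2 ^ d - 1 := by
    have h1 : p ^ n ∣ 2 ^ z * (2 ^ d - 1) := by
      have : 2 ^ z * (2 ^ d - 1) = Nat.card Q - Nat.card Z := by
        rw [← hmul, hz, hd, Nat.mul_sub, mul_one]
      rw [this, ← hXcard]
      exact hfreeDvd
    have hcop : (p ^ n).Coprime (2 ^ z) := by
      apply Nat.Coprime.pow
      rw [Nat.coprime_primes hp Nat.prime_two]
      exact hp2
    exact hcop.dvd_of_dvd_mul_left h1
  -- index bound
  let f : Fin (p ^ j - 1) → Subgroup Γ :=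
    fun i => R.comap (MulAut.conj (s ^ (i.val + 1))).toMonoidHom
  have hIZ : Q ⊓ (⨅ i, f i) ≤ Z := by
    intro g hg
    apply hint g hg.1
    intro i hi1 hi2
    have h1 := (Subgroup.mem_iInf.mp hg.2) ⟨i - 1, by omega⟩
    change (MulAut.conj (s ^ (i - 1 + 1))).toMonoidHom g ∈ R at h1
    have h2 : i - 1 + 1 = i := by omega
    rw [h2] at h1
    exact h1
  have hfi : ∀ i, (f i).relIndex Q = 2 ^ (2 * m) := by
    intro i
    change (R.comap (MulAut.conj (s ^ (i.val + 1))).toMonoidHom).relIndex Q = _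
    rw [Subgroup.relIndex_comap]
    have hmem : s ^ (i.val + 1) ∈ Subgroup.normalizer (Q : Set Γ) :=
      hAQ (Subgroup.pow_mem _ (Subgroup.mem_zpowers s) _)
    have := Subgroup.mem_normalizer_iff_map_conj_eq.mp hmem
    rw [show Subgroup.map (MulAut.conj (s ^ (i.val + 1))).toMonoidHom Q = Q from this, hidx]
  have hbound : 2 ^ d ≤ (2 ^ (2 * m)) ^ (p ^ j - 1) := by
    have h1 : Z.relIndex Q ∣ (Q ⊓ (⨅ i, f i)).relIndex Q := Subgroup.relIndex_dvd_of_le_left Q hIZ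
    rw [Subgroup.inf_relIndex_left] at h1
    have h2 : (⨅ i, f i).relIndex Q ≤ ∏ i, (f i).relIndex Q := Subgroup.relIndex_iInf_le f
    have h3 : ∏ i, (f i).relIndex Q = (2 ^ (2 * m)) ^ (p ^ j - 1) := by
      rw [Finset.prod_congr rfl (fun i _ => hfi i), Finset.prod_const, Finset.card_univ,
        Fintype.card_fin]
    have h4 : (⨅ i, f i).relIndex Q ≠ 0 :=
      Subgroup.index_ne_zero_of_finite (H := (⨅ i, f i).subgroupOf Q)
    rw [← hd]
    exact (Nat.le_of_dvd (Nat.pos_of_ne_zero h4) h1).trans (h2.trans h3.le)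
  have hdle : d ≤ 2 * m * (p ^ j - 1) := by
    rw [← pow_mul] at hbound
    exact (Nat.pow_le_pow_iff_right (by norm_num)).mp hbound
  -- number theory
  have hnt := nt_bound hp hp2 he' (by omega) hpe hd1 hdvd2
  have hm : 1 ≤ m := by
    by_contra hm0
    have h0 : m = 0 := by omega
    rw [h0, pow_zero] at hpe
    have h3 : 3 ≤ p ^ e' := by
      have hp3 : 3 ≤ p := by
        have := hp.two_le
        omega
      calc 3 ≤ p := hp3
        _ = p ^ 1 := (pow_one p).symm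
        _ ≤ p ^ e' := Nat.pow_le_pow_right (by omega) he'
    omega
  have hpj : p ^ j ≤ p ^ (n - e') := Nat.pow_le_pow_right hp.pos (by omega)
  have hpj1 : 1 ≤ p ^ j := Nat.one_le_pow _ _ hp.pos
  obtain ⟨P, hP⟩ : ∃ P, p ^ j = P + 1 := ⟨p ^ j - 1, by omega⟩
  have h5 : 2 * m * (p ^ j) ≤ d := (Nat.mul_le_mul_left _ hpj).trans hnt
  rw [hP] at h5 hdle
  have h6 : P + 1 - 1 = P := by omega
  rw [h6] at hdle
  have h7 : 2 * m * (P + 1) = 2 * m * P + 2 * m := by ring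
  omega

end Cfsg.Agent.Helper5.SGexc
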