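import Mathlib
import Cfsg.Prelude.Def_GeometricClasses
import Cfsg.Prelude.Def_Classical
import Cfsg.Prelude.Def_LieClassical

set_option autoImplicit false
set_option linter.style.haveILetI false
set_option linter.unusedSectionVars false
set_option linter.unusedVariables false
set_option linter.unnecessarySeqFocus false

/-! # S5778, leaf E5, normal form, part A (helper5): the field `F` with 25 elements, its prime
field, and the Gram matrix of a rational structure. -/

namespace Cfsg.Agent.Helper5.SU35NF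

open Matrix Cfsg Cfsg.Geo

instance fact5 : Fact (Nat.Prime 5) := ⟨Nat.prime_five⟩

section field

variable {F : Type*} [Field F] [Fintype F] [CharP F 5]

/-- the prime field inside `F` -/
noncomputable def c5 (F : Type*) [Field F] [CharP F 5] : ZMod 5 →+* F := ZMod.castHom (dvd_refl 5) F

theorem c5_inj : Function.Injective (c5 F) := RingHom.injective _

theorem pow5_zmod : ∀ a : ZMod 5, a ^ 5 = a := by decide

theorem c5_pow (a : ZMod 5) : (c5 F a) ^ 5 = c5 F a := by
  rw [← map_pow, pow5_zmod]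

theorem exists_c5 (F₀ : Subfield F) (h5 : Nat.card F₀ = 5) :
    ∀ x ∈ F₀, ∃ a : ZMod 5, c5 F a = x := by
  have hmem : ∀ a : ZMod 5, c5 F a ∈ F₀ := by
    intro a
    have : c5 F a = ((a.val : ℕ) : F) := by
      rw [← map_natCast (c5 F), ZMod.natCast_zmod_val]
    rw [this]
    exact natCast_mem F₀ _
  have hinj : Function.Injective (fun a : ZMod 5 => (⟨c5 F a, hmem a⟩ : F₀)) :=
    fun a b h => c5_inj (Subtype.ext_iff.mp h)
  have hbij := (Nat.bijective_iff_injective_and_card _).mpr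
    ⟨hinj, by rw [Nat.card_eq_fintype_card, ZMod.card, h5]⟩
  intro x hx
  obtain ⟨a, ha⟩ := hbij.2 ⟨x, hx⟩
  exact ⟨a, congrArg Subtype.val ha⟩

theorem c5_mem (F₀ : Subfield F) (a : ZMod 5) : c5 F a ∈ F₀ := by
  have : c5 F a = ((a.val : ℕ) : F) := by
    rw [← map_natCast (c5 F), ZMod.natCast_zmod_val]
  rw [this]
  exact natCast_mem F₀ _

theorem pow_25 (hF : Fintype.card F = 5 ^ 2) (x : F) : x ^ 25 = x := by
  have := FiniteField.pow_card x
  rw [hF] at this
  exact this

/-- the Gram matrix of the columns of `Pm` -/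
def Gam (Pm : Matrix (Fin 3) (Fin 3) F) : Matrix (Fin 3) (Fin 3) F :=
  Pmᵀ * Pm.map (fun x => x ^ 5)

theorem herm_P (Pm : Matrix (Fin 3) (Fin 3) F) (u v : Fin 3 → F) :
    hermForm 3 F 5 (Pm *ᵥ u) (Pm *ᵥ v) = u ⬝ᵥ (Gam Pm) *ᵥ (fun j => v j ^ 5) := by
  simp only [hermForm, mulVec, dotProduct, Fin.sum_univ_three, Gam, Matrix.mul_apply,
    transpose_apply, map_apply, add_pow_char, mul_pow]
  ring

theorem Gam_apply (Pm : Matrix (Fin 3) (Fin 3) F) (i j : Fin 3) :
    Gam Pm i j = hermForm 3 F 5 (Pm *ᵥ Pi.single i 1) (Pm *ᵥ Pi.single j 1) := by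
  rw [mulVec_single_one, mulVec_single_one]
  simp only [hermForm, Gam, Matrix.mul_apply, transpose_apply, map_apply, Matrix.col_apply]

theorem Gam_symm (hF : Fintype.card F = 5 ^ 2) (Pm : Matrix (Fin 3) (Fin 3) F) (i j : Fin 3) :
    Gam Pm j i = (Gam Pm i j) ^ 5 := by
  have h25 : ∀ x : F, (x ^ 5) ^ 5 = x := fun x => by rw [← pow_mul]; exact pow_25 hF x
  simp only [Gam, Matrix.mul_apply, transpose_apply, map_apply, Fin.sum_univ_three, add_pow_char,
    mul_pow, h25]
  ring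

theorem map_pow5 (M : Matrix (Fin 3) (Fin 3) F) :
    M.map (fun x => x ^ 5) = (frobenius F 5).mapMatrix M := by
  ext i j
  simp [frobenius_def]

theorem Gam_det (Pm : Matrix (Fin 3) (Fin 3) F) : (Gam Pm).det = Pm.det * Pm.det ^ 5 := by
  unfold Gam
  rw [det_mul, det_transpose, map_pow5, ← RingHom.map_det, frobenius_def]

/-- the Gram matrix of a rational structure has entries in the prime field, is symmetric and
non-singular. -/
theorem exists_gram (hF : Fintype.card F = 5 ^ 2) (F₀ : Subfield F) (h5 : Nat.card F₀ = 5)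
    (P : GL (Fin 3) F) (hP : IsFormRationalStructure (hermForm 3 F 5) F₀ 1 P) :
    ∃ G : Matrix (Fin 3) (Fin 3) (ZMod 5), G.IsSymm ∧ G.det ≠ 0 ∧
      Gam (P : Matrix (Fin 3) (Fin 3) F) = (c5 F).mapMatrix G := by
  have hmem : ∀ i j, Gam (P : Matrix (Fin 3) (Fin 3) F) i j ∈ F₀ := by
    intro i j
    rw [Gam_apply]
    have := hP (Pi.single i 1) (Pi.single j 1)
      (fun k => by
        by_cases h : k = i
        · subst h; simp [one_mem]
        · rw [Pi.single_eq_of_ne h]; exact zero_mem _)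
      (fun k => by
        by_cases h : k = j
        · subst h; simp [one_mem]
        · rw [Pi.single_eq_of_ne h]; exact zero_mem _)
    rwa [one_mul] at this
  obtain ⟨G, hG⟩ : ∃ G : Matrix (Fin 3) (Fin 3) (ZMod 5),
      ∀ i j, c5 F (G i j) = Gam (P : Matrix (Fin 3) (Fin 3) F) i j := by
    choose G hG using fun i j => exists_c5 F₀ h5 _ (hmem i j)
    exact ⟨Matrix.of G, hG⟩
  have hGm : Gam (P : Matrix (Fin 3) (Fin 3) F) = (c5 F).mapMatrix G := by
    ext i j
    simp [hG]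
  refine ⟨G, ?_, ?_, hGm⟩
  · ext i j
    apply c5_inj (F := F)
    rw [transpose_apply, hG, hG, Gam_symm hF _ i j, ← hG i j, c5_pow]
  · intro h0
    have hdet : c5 F G.det = (Gam (P : Matrix (Fin 3) (Fin 3) F)).det := by
      rw [RingHom.map_det, hGm]
    rw [h0, map_zero, Gam_det] at hdet
    have hne : (P : Matrix (Fin 3) (Fin 3) F).det ≠ 0 := by
      have := (Matrix.isUnit_iff_isUnit_det _).mp P.isUnit
      exact this.ne_zero
    exact mul_ne_zero hne (pow_ne_zero 5 hne) hdet.symm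

/-- norms: every non-zero element of the prime field is a sixth power in `F` -/
theorem exists_norm (hF : Fintype.card F = 5 ^ 2) (a : ZMod 5) (ha : a ≠ 0) :
    ∃ μ : F, μ ≠ 0 ∧ μ ^ 6 = c5 F a := by
  have hch : ringChar F ≠ 2 := by
    rw [ringChar.eq F 5]
    norm_num
  obtain ⟨μ₀, hμ₀⟩ := FiniteField.exists_nonsquare hch
  have hμ0 : μ₀ ≠ 0 := by
    rintro rfl
    exact hμ₀ ⟨0, by simp⟩
  have h12 : μ₀ ^ 12 = -1 := by
    rcases FiniteField.pow_dichotomy hch hμ0 with h | h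
    · exact absurd ((FiniteField.isSquare_iff hch hμ0).mpr h) hμ₀
    · rw [hF] at h
      exact h
  -- `ν = μ₀ ^ 6` is a square root of `-1`, hence `2` or `3`
  have hν : μ₀ ^ 6 = c5 F 2 ∨ μ₀ ^ 6 = c5 F 3 := by
    have h : (μ₀ ^ 6 - c5 F 2) * (μ₀ ^ 6 - c5 F 3) = 0 := by
      have e5 : c5 F 2 + c5 F 3 = 0 := by
        rw [← map_add]
        have : (2 : ZMod 5) + 3 = 0 := by decide
        rw [this, map_zero]
      have e6 : c5 F 2 * c5 F 3 = 1 := by
        rw [← map_mul]
        have : (2 : ZMod 5) * 3 = 1 := by decide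
        rw [this, map_one]
      have : (μ₀ ^ 6 - c5 F 2) * (μ₀ ^ 6 - c5 F 3) =
          μ₀ ^ 12 - (c5 F 2 + c5 F 3) * μ₀ ^ 6 + c5 F 2 * c5 F 3 := by ring
      rw [this, e5, e6, h12]
      ring
    rcases mul_eq_zero.mp h with h | h
    · left; exact sub_eq_zero.mp h
    · right; exact sub_eq_zero.mp h
  have hpow2 : ∀ a : ZMod 5, a ≠ 0 → ∃ k : Fin 4, (2 : ZMod 5) ^ (k : ℕ) = a := by decide
  have hpow3 : ∀ a : ZMod 5, a ≠ 0 → ∃ k : Fin 4, (3 : ZMod 5) ^ (k : ℕ) = a := by decide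
  rcases hν with h | h
  · obtain ⟨k, hk⟩ := hpow2 a ha
    refine ⟨μ₀ ^ (k : ℕ), pow_ne_zero _ hμ0, ?_⟩
    rw [← pow_mul, mul_comm, pow_mul, h, ← map_pow, hk]
  · obtain ⟨k, hk⟩ := hpow3 a ha
    refine ⟨μ₀ ^ (k : ℕ), pow_ne_zero _ hμ0, ?_⟩
    rw [← pow_mul, mul_comm, pow_mul, h, ← map_pow, hk]

end field

end Cfsg.Agent.Helper5.SU35NF
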