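import Mathlib
import Cfsg.Agent.Helper5.SU35NFA

set_option autoImplicit false
set_option linter.style.haveILetI false
set_option linter.unusedSectionVars false
set_option linter.unusedVariables false
set_option linter.unnecessarySeqFocus false

/-! # S5778, leaf E5, normal form, part B (helper5): a non-singular ternary symmetric form over
`ZMod 5` is a scalar multiple of the sum of three squares. -/

namespace Cfsg.Agent.Helper5.SU35NF

open Matrix

abbrev T5 := ZMod 5 × ZMod 5 × ZMod 5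

/-- the diagonal form -/
def df (d1 d2 d3 : ZMod 5) (x y : T5) : ZMod 5 :=
  d1 * x.1 * y.1 + d2 * x.2.1 * y.2.1 + d3 * x.2.2 * y.2.2

def ok3 (d1 d2 d3 : ZMod 5) (v1 v2 v3 : T5) : Prop :=
  df d1 d2 d3 v1 v3 = 0 ∧ df d1 d2 d3 v2 v3 = 0 ∧ df d1 d2 d3 v3 v3 = d1 * d2 * d3

instance (d1 d2 d3 : ZMod 5) (v1 v2 v3 : T5) : Decidable (ok3 d1 d2 d3 v1 v2 v3) := by
  unfold ok3; infer_instance

def ok2 (d1 d2 d3 : ZMod 5) (v1 v2 : T5) : Prop :=
  (df d1 d2 d3 v1 v2 = 0 ∧ df d1 d2 d3 v2 v2 = d1 * d2 * d3) ∧ ∃ v3 : T5, ok3 d1 d2 d3 v1 v2 v3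

instance (d1 d2 d3 : ZMod 5) (v1 v2 : T5) : Decidable (ok2 d1 d2 d3 v1 v2) := by
  unfold ok2; infer_instance

def ok1 (d1 d2 d3 : ZMod 5) (v1 : T5) : Prop :=
  df d1 d2 d3 v1 v1 = d1 * d2 * d3 ∧ ∃ v2 : T5, ok2 d1 d2 d3 v1 v2

instance (d1 d2 d3 : ZMod 5) (v1 : T5) : Decidable (ok1 d1 d2 d3 v1) := by
  unfold ok1; infer_instance

def ok (d : T5) : Prop :=
  d.1 ≠ 0 → d.2.1 ≠ 0 → d.2.2 ≠ 0 → ∃ v1 : T5, ok1 d.1 d.2.1 d.2.2 v1

instance (d : T5) : Decidable (ok d) := by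
  unfold ok; infer_instance

set_option maxRecDepth 100000 in
theorem diag_claim : ∀ d : T5, ok d := by
  decide +kernel

theorem df_comm (d1 d2 d3 : ZMod 5) (x y : T5) : df d1 d2 d3 x y = df d1 d2 d3 y x := by
  unfold df
  ring

/-- matrix form of the diagonal claim -/
theorem diag_claimM (d : Fin 3 → ZMod 5) (hd : ∀ i, d i ≠ 0) :
    ∃ C : Matrix (Fin 3) (Fin 3) (ZMod 5),
      Cᵀ * Matrix.diagonal d * C = (d 0 * d 1 * d 2) • (1 : Matrix (Fin 3) (Fin 3) (ZMod 5)) := by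
  have h := diag_claim (d 0, d 1, d 2)
  unfold ok at h
  obtain ⟨v1, h11, v2, ⟨h12, h22⟩, v3, h13, h23, h33⟩ := h (hd 0) (hd 1) (hd 2)
  have h21 := h12; rw [df_comm] at h21
  have h31 := h13; rw [df_comm] at h31
  have h32 := h23; rw [df_comm] at h32
  refine ⟨!![v1.1, v2.1, v3.1; v1.2.1, v2.2.1, v3.2.1; v1.2.2, v2.2.2, v3.2.2], ?_⟩
  unfold df at h11 h12 h22 h13 h23 h33 h21 h31 h32
  dsimp only at h11 h12 h22 h13 h23 h33 h21 h31 h32
  ext i j
  fin_cases i <;> fin_cases j <;>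
    simp [Matrix.mul_apply, Fin.sum_univ_three, Matrix.diagonal_apply] <;>
    first
      | linear_combination h11 | linear_combination h22 | linear_combination h33
      | linear_combination h12 | linear_combination h13 | linear_combination h23

/-- diagonalisation of a non-singular symmetric matrix -/
theorem exists_diag (G : Matrix (Fin 3) (Fin 3) (ZMod 5)) (hs : G.IsSymm) (hd : G.det ≠ 0) :
    ∃ (B : Matrix (Fin 3) (Fin 3) (ZMod 5)) (d : Fin 3 → ZMod 5), (∀ i, d i ≠ 0) ∧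
      Bᵀ * G * B = Matrix.diagonal d := by
  haveI : Invertible (2 : ZMod 5) := ⟨3, by decide, by decide⟩
  obtain ⟨v, hv⟩ := LinearMap.BilinForm.exists_orthogonal_basis
    (LinearMap.BilinForm.isSymm_iff.mp (Matrix.isSymm_toBilin'_iff_isSymm.mpr hs))
  have hfr : Module.finrank (ZMod 5) (Fin 3 → ZMod 5) = 3 := by simp
  have hnd := LinearMap.BilinForm.iIsOrtho.not_isOrtho_basis_self_of_nondegenerate hv
    (LinearMap.BilinForm.nondegenerate_toBilin'_iff_det_ne_zero.mpr hd)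
  obtain ⟨e, he⟩ : ∃ e : Fin 3 ≃ Fin (Module.finrank (ZMod 5) (Fin 3 → ZMod 5)), True :=
    ⟨finCongr hfr.symm, trivial⟩
  refine ⟨Matrix.of (fun k i => v (e i) k), fun i => Matrix.toBilin' G (v (e i)) (v (e i)),
    fun i => hnd (e i), ?_⟩
  ext i j
  have hij : (Matrix.of (fun k i => v (e i) k))ᵀ * G * (Matrix.of (fun k i => v (e i) k)) =
      Matrix.of (fun i j => v (e i) ⬝ᵥ G *ᵥ v (e j)) := by
    ext i j
    simp only [Matrix.mul_apply, transpose_apply, of_apply, dotProduct, mulVec, Finset.sum_mul,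
      Finset.mul_sum]
    rw [Finset.sum_comm]
    apply Finset.sum_congr rfl
    intro a _
    apply Finset.sum_congr rfl
    intro b _
    ring
  rw [hij, of_apply, ← Matrix.toBilin'_apply']
  by_cases h : i = j
  · subst h
    rw [Matrix.diagonal_apply_eq]
  · rw [Matrix.diagonal_apply_ne _ h]
    exact hv (fun h' => h (e.injective h'))

/-- the classification -/
theorem claim5 (G : Matrix (Fin 3) (Fin 3) (ZMod 5)) (hs : G.IsSymm) (hd : G.det ≠ 0) :
    ∃ (B : Matrix (Fin 3) (Fin 3) (ZMod 5)) (lam : ZMod 5), lam ≠ 0 ∧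
      Bᵀ * G * B = lam • (1 : Matrix (Fin 3) (Fin 3) (ZMod 5)) := by
  obtain ⟨B, d, hd0, hB⟩ := exists_diag G hs hd
  obtain ⟨C, hC⟩ := diag_claimM d hd0
  refine ⟨B * C, d 0 * d 1 * d 2, mul_ne_zero (mul_ne_zero (hd0 0) (hd0 1)) (hd0 2), ?_⟩
  rw [transpose_mul, ← hC, ← hB]
  simp only [Matrix.mul_assoc]

end Cfsg.Agent.Helper5.SU35NF
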