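import Mathlib
import Cfsg.Agent.Helper5.SU35NFB

set_option autoImplicit false
set_option linter.style.haveILetI false
set_option linter.unusedSectionVars false
set_option linter.unusedVariables false
set_option linter.unnecessarySeqFocus false

/-! # S5778, leaf E5, normal form (helper5): for `q = 5` every index-2 subfield group of `GU_3(5)`
whose structure carries the hermitian form is the conjugate, by an element of `GU_3(5)`, of the
standard one. -/

namespace Cfsg.Agent.Helper5.SU35NF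

open Matrix Cfsg Cfsg.Geo

/-- transport of `IsMaximalIn` along an automorphism -/
theorem isMaximalIn_of_map {G : Type*} [Group G] (φ : G ≃* G) (K H : Subgroup G)
    (h : IsMaximalIn (K.map φ.toMonoidHom) (H.map φ.toMonoidHom)) : IsMaximalIn K H := by
  obtain ⟨h1, h2⟩ := h
  have hinj : Function.Injective φ.toMonoidHom := φ.injective
  refine ⟨?_, ?_⟩
  · exact (Subgroup.map_lt_map_iff_of_injective hinj).mp h1
  · intro M hHM hMK
    rcases h2 (M.map φ.toMonoidHom) (Subgroup.map_mono hHM) (Subgroup.map_mono hMK) with h | h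
    · left; exact Subgroup.map_injective hinj h
    · right; exact Subgroup.map_injective hinj h

/-- a subgroup is stable under conjugation by its elements -/
theorem map_conj_eq {G : Type*} [Group G] (K : Subgroup G) (k : G) (hk : k ∈ K) :
    K.map (MulAut.conj k).toMonoidHom = K := by
  ext x
  constructor
  · rintro ⟨y, hy, rfl⟩
    simp only [MulEquiv.coe_toMonoidHom, MulAut.conj_apply]
    exact K.mul_mem (K.mul_mem hk hy) (K.inv_mem hk)
  · intro hx
    refine ⟨k⁻¹ * x * k, K.mul_mem (K.mul_mem (K.inv_mem hk) hx) hk, ?_⟩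
    simp only [MulEquiv.coe_toMonoidHom, MulAut.conj_apply]
    group

theorem map_conj_mul {G : Type*} [Group G] (K : Subgroup G) (p k : G) :
    K.map (MulAut.conj (p * k)).toMonoidHom =
      (K.map (MulAut.conj k).toMonoidHom).map (MulAut.conj p).toMonoidHom := by
  rw [Subgroup.map_map]
  congr 1
  ext x
  simp only [MulEquiv.coe_toMonoidHom, MulAut.conj_apply, MonoidHom.comp_apply, _root_.mul_inv_rev,
    mul_assoc]

section field

variable {F : Type*} [Field F] [Fintype F]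

theorem Gam_mul [CharP F 5] (Pm M : Matrix (Fin 3) (Fin 3) F) :
    Gam (Pm * M) = Mᵀ * Gam Pm * M.map (fun x => x ^ 5) := by
  unfold Gam
  rw [transpose_mul, map_pow5 (Pm * M), map_mul, ← map_pow5, ← map_pow5]
  simp only [Matrix.mul_assoc]

theorem exists_unitary_structure (hF : Fintype.card F = 5 ^ 2) (F₀ : Subfield F)
    (P : GL (Fin 3) F) (hc : Fintype.card F = Nat.card F₀ ^ 2)
    (hP : IsFormRationalStructure (hermForm 3 F 5) F₀ 1 P) :
    ∃ P' : GL (Fin 3) F, P' ∈ GU 3 F 5 ∧ subfieldSubgroup F₀ P = subfieldSubgroup F₀ P' := by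
  haveI : CharP F 5 := charP_of_card_eq_prime_pow hF
  have h5 : Nat.card F₀ = 5 := by
    rw [hF] at hc
    exact (Nat.pow_left_injective (two_ne_zero) hc).symm
  obtain ⟨G, hGs, hGd, hG⟩ := exists_gram hF F₀ h5 P hP
  obtain ⟨B, lam, hlam, hB⟩ := claim5 G hGs hGd
  obtain ⟨μ, hμ0, hμ⟩ := exists_norm hF lam⁻¹ (inv_ne_zero hlam)
  have hBdet : B.det ≠ 0 := by
    intro h
    have := congrArg Matrix.det hB
    rw [det_mul, det_mul, det_transpose, h, zero_mul, zero_mul, det_smul, det_one, mul_one,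
      Fintype.card_fin] at this
    exact pow_ne_zero 3 hlam this.symm
  -- the rational matrix
  obtain ⟨B₀, hB₀⟩ : ∃ B₀ : Matrix (Fin 3) (Fin 3) F₀,
      (F₀.subtype : F₀ →+* F).mapMatrix B₀ = (c5 F).mapMatrix B :=
    ⟨fun i j => ⟨c5 F (B i j), c5_mem F₀ _⟩, by ext i j; rfl⟩
  have hB₀det : B₀.det ≠ 0 := by
    intro h
    have := congrArg (F₀.subtype : F₀ →+* F) h
    rw [RingHom.map_det, hB₀, ← RingHom.map_det, map_zero] at this
    exact hBdet (c5_inj (by rw [this, map_zero]))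
  obtain ⟨b, hbr, hbm⟩ : ∃ b : GL (Fin 3) F,
      b ∈ (Matrix.GeneralLinearGroup.map (F₀.subtype : F₀ →+* F)).range ∧
      (b : Matrix (Fin 3) (Fin 3) F) = (c5 F).mapMatrix B := by
    refine ⟨Matrix.GeneralLinearGroup.map (F₀.subtype : F₀ →+* F)
      (Matrix.GeneralLinearGroup.mkOfDetNeZero B₀ hB₀det), ⟨_, rfl⟩, ?_⟩
    rw [← hB₀]
    ext i j
    rw [Matrix.GeneralLinearGroup.map_apply]
    rfl
  obtain ⟨z, hzs, hzm⟩ : ∃ z : GL (Fin 3) F, z ∈ scalars (Fin 3) F ∧
      (z : Matrix (Fin 3) (Fin 3) F) = μ • (1 : Matrix (Fin 3) (Fin 3) F) := by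
    refine ⟨Units.map (Matrix.scalar (Fin 3) : F →+* Matrix (Fin 3) (Fin 3) F).toMonoidHom
      (Units.mk0 μ hμ0), ⟨_, rfl⟩, ?_⟩
    simp [Matrix.smul_one_eq_diagonal]
  refine ⟨P * (b * z), ?_, ?_⟩
  · -- unitary
    show ∀ u v, hermForm 3 F 5 ((↑(P * (b * z)) : Matrix (Fin 3) (Fin 3) F) *ᵥ u)
      ((↑(P * (b * z)) : Matrix (Fin 3) (Fin 3) F) *ᵥ v) = hermForm 3 F 5 u v
    intro u v
    rw [herm_P]
    have hM : (↑(b * z) : Matrix (Fin 3) (Fin 3) F) = μ • (c5 F).mapMatrix B := by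
      rw [Matrix.GeneralLinearGroup.coe_mul, hbm, hzm, Matrix.mul_smul, mul_one]
    have hMmap : (μ • (c5 F).mapMatrix B).map (fun x => x ^ 5) = μ ^ 5 • (c5 F).mapMatrix B := by
      ext i j
      simp [mul_pow, c5_pow]
    have hcore : ((c5 F).mapMatrix B)ᵀ * Gam (P : Matrix (Fin 3) (Fin 3) F) * (c5 F).mapMatrix B =
        c5 F lam • (1 : Matrix (Fin 3) (Fin 3) F) := by
      rw [hG]
      have : ((c5 F).mapMatrix B)ᵀ = (c5 F).mapMatrix Bᵀ := by
        ext i j
        simp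
      rw [this, ← map_mul, ← map_mul, hB]
      ext i j
      by_cases h : i = j
      · subst h; simp
      · simp [Matrix.one_apply_ne h]
    have hGam : Gam (↑(P * (b * z)) : Matrix (Fin 3) (Fin 3) F) = 1 := by
      rw [Matrix.GeneralLinearGroup.coe_mul, Gam_mul, hM, hMmap, transpose_smul, Matrix.smul_mul,
        Matrix.smul_mul, Matrix.mul_smul, smul_smul, hcore, smul_smul]
      have : μ * μ ^ 5 * c5 F lam = 1 := by
        have h6 : μ * μ ^ 5 = μ ^ 6 := by ring
        rw [h6, hμ, ← map_mul, inv_mul_cancel₀ hlam, map_one]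
      rw [this, one_smul]
    rw [hGam, one_mulVec]
    simp [hermForm, dotProduct]
  · -- the same group
    unfold subfieldSubgroup
    rw [map_conj_mul, map_conj_eq _ (b * z)
      (Subgroup.mul_mem _ (Subgroup.mem_sup_left hbr) (Subgroup.mem_sup_right hzs))]

theorem conj_SU (P' : GL (Fin 3) F) (hP' : P' ∈ GU 3 F 5) :
    (GU 3 F 5 ⊓ specialLinear (Fin 3) F).map (MulAut.conj P').toMonoidHom =
      GU 3 F 5 ⊓ specialLinear (Fin 3) F := by
  have hn : (specialLinear (Fin 3) F).Normal := by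
    unfold specialLinear
    exact MonoidHom.normal_ker _
  ext x
  constructor
  · rintro ⟨y, hy, rfl⟩
    simp only [MulEquiv.coe_toMonoidHom, MulAut.conj_apply]
    exact Subgroup.mem_inf.mpr ⟨Subgroup.mul_mem _ (Subgroup.mul_mem _ hP' (Subgroup.mem_inf.mp hy).1)
      (Subgroup.inv_mem _ hP'), hn.conj_mem _ (Subgroup.mem_inf.mp hy).2 _⟩
  · intro hx
    refine ⟨P'⁻¹ * x * P', Subgroup.mem_inf.mpr ⟨Subgroup.mul_mem _ (Subgroup.mul_mem _
      (Subgroup.inv_mem _ hP') (Subgroup.mem_inf.mp hx).1) hP', ?_⟩, ?_⟩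
    · have := hn.conj_mem _ (Subgroup.mem_inf.mp hx).2 P'⁻¹
      rwa [inv_inv] at this
    · simp only [MulEquiv.coe_toMonoidHom, MulAut.conj_apply]
      group

/-- **Reduction to the standard structure.** -/
theorem not_maximal_of_standard (hF : Fintype.card F = 5 ^ 2) (F₀ : Subfield F)
    (P : GL (Fin 3) F) (hc : Fintype.card F = Nat.card F₀ ^ 2)
    (hP : IsFormRationalStructure (hermForm 3 F 5) F₀ 1 P)
    (hstd : ¬ IsMaximalIn (GU 3 F 5 ⊓ specialLinear (Fin 3) F)
      (subfieldSubgroup F₀ 1 ⊓ (GU 3 F 5 ⊓ specialLinear (Fin 3) F))) :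
    ¬ IsMaximalIn (GU 3 F 5 ⊓ specialLinear (Fin 3) F)
      (subfieldSubgroup F₀ P ⊓ (GU 3 F 5 ⊓ specialLinear (Fin 3) F)) := by
  obtain ⟨P', hP'U, hP'⟩ := exists_unitary_structure hF F₀ P hc hP
  rw [hP']
  intro hmax
  apply hstd
  apply isMaximalIn_of_map (MulAut.conj P')
  have hX : (subfieldSubgroup F₀ 1 ⊓ (GU 3 F 5 ⊓ specialLinear (Fin 3) F)).map
      (MulAut.conj P').toMonoidHom =
      subfieldSubgroup F₀ P' ⊓ (GU 3 F 5 ⊓ specialLinear (Fin 3) F) := by
    rw [Subgroup.map_inf _ _ _ (MulAut.conj P').injective, conj_SU P' hP'U]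
    congr 1
    have h1 : subfieldSubgroup F₀ P' = subfieldSubgroup F₀ (P' * 1) := by rw [mul_one]
    rw [h1]
    unfold subfieldSubgroup
    rw [map_conj_mul]
  rw [conj_SU P' hP'U, hX]
  exact hmax

end field

end Cfsg.Agent.Helper5.SU35NF
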