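import Mathlib
import Cfsg.Agent.Helper5.SU35NFA

set_option autoImplicit false
set_option linter.style.haveILetI false
set_option linter.unusedSectionVars false
set_option linter.unusedVariables false
set_option linter.unnecessarySeqFocus false

/-! # S5778, leaf E5 (helper5): the elements of the standard index-2 subfield group of `GU_3(5)`
are the products of a scalar of norm one and order dividing 6 and a real orthogonal matrix. -/

namespace Cfsg.Agent.Helper5.SU35NF

open Matrix Cfsg Cfsg.Geo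

theorem pow4_zmod : ∀ s : ZMod 5, s ≠ 0 → s ^ 4 = 1 := by decide

section field

variable {F : Type*} [Field F] [Fintype F]

theorem mapMatrix_c5_inj [CharP F 5] (M N : Matrix (Fin 3) (Fin 3) (ZMod 5))
    (h : (c5 F).mapMatrix M = (c5 F).mapMatrix N) : M = N := by
  ext i j
  apply c5_inj (F := F)
  have := congrFun (congrFun h i) j
  simpa using this

theorem exists_orth_shape [CharP F 5] (hF : Fintype.card F = 5 ^ 2) (F₀ : Subfield F)
    (hc : Fintype.card F = Nat.card F₀ ^ 2) (g : GL (Fin 3) F)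
    (hg : g ∈ subfieldSubgroup F₀ 1) (hgu : g ∈ GU 3 F 5) :
    ∃ (O : Matrix (Fin 3) (Fin 3) (ZMod 5)) (c : F), Oᵀ * O = 1 ∧ c ^ 6 = 1 ∧
      (g : Matrix (Fin 3) (Fin 3) F) = c • (c5 F).mapMatrix O := by
  have h5 : Nat.card F₀ = 5 := by
    rw [hF] at hc
    exact (Nat.pow_left_injective (two_ne_zero) hc).symm
  -- the shape
  unfold subfieldSubgroup at hg
  rw [Subgroup.mem_map] at hg
  obtain ⟨x, hx, rfl⟩ := hg
  rw [Subgroup.mem_sup_of_normal_right] at hx
  obtain ⟨y, ⟨A₀, rfl⟩, z, hz, rfl⟩ := hx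
  rw [mem_scalars_iff] at hz
  obtain ⟨c, hcz⟩ := hz
  obtain ⟨A, hA⟩ : ∃ A : Matrix (Fin 3) (Fin 3) (ZMod 5),
      ∀ i j, c5 F (A i j) = ((A₀ i j : F₀) : F) := by
    choose A hA using fun i j => exists_c5 F₀ h5 _ (A₀ i j).2
    exact ⟨Matrix.of A, hA⟩
  have hAm : ((Matrix.GeneralLinearGroup.map (F₀.subtype : F₀ →+* F) A₀ : GL (Fin 3) F) :
      Matrix (Fin 3) (Fin 3) F) = (c5 F).mapMatrix A := by
    ext i j
    rw [Matrix.GeneralLinearGroup.map_apply, RingHom.mapMatrix_apply, Matrix.map_apply, hA]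
    rfl
  have hgm : ((MulAut.conj (1 : GL (Fin 3) F)).toMonoidHom
      (Matrix.GeneralLinearGroup.map (F₀.subtype : F₀ →+* F) A₀ * z) : GL (Fin 3) F).val =
      (c : F) • (c5 F).mapMatrix A := by
    simp only [MulEquiv.coe_toMonoidHom, MulAut.conj_apply, one_mul, inv_one, mul_one,
      Matrix.GeneralLinearGroup.coe_mul, hcz, hAm, Matrix.mul_smul]
  rw [hgm]
  -- unitarity
  have hGam : Gam ((c : F) • (c5 F).mapMatrix A) = 1 := by
    ext i j
    rw [Gam_apply, ← hgm]
    have h1 : hermForm 3 F 5 (((MulAut.conj (1 : GL (Fin 3) F)).toMonoidHom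
        (Matrix.GeneralLinearGroup.map (F₀.subtype : F₀ →+* F) A₀ * z) : GL (Fin 3) F).val *ᵥ
          Pi.single i 1) (((MulAut.conj (1 : GL (Fin 3) F)).toMonoidHom
        (Matrix.GeneralLinearGroup.map (F₀.subtype : F₀ →+* F) A₀ * z) : GL (Fin 3) F).val *ᵥ
          Pi.single j 1) = hermForm 3 F 5 (Pi.single i 1) (Pi.single j 1) := hgu _ _
    rw [h1]
    simp only [hermForm]
    by_cases h : i = j
    · subst h
      simp [Pi.single_apply]
    · rw [Matrix.one_apply_ne h]
      apply Finset.sum_eq_zero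
      intro k _
      by_cases hk : k = i
      · subst hk
        rw [Pi.single_eq_of_ne h]
        simp
      · rw [Pi.single_eq_of_ne hk, zero_mul]
  have hmap : (((c : F)) • (c5 F).mapMatrix A).map (fun x => x ^ 5) =
      (c : F) ^ 5 • (c5 F).mapMatrix A := by
    ext i j
    simp [mul_pow, c5_pow]
  have hAT : ((c5 F).mapMatrix A)ᵀ = (c5 F).mapMatrix Aᵀ := by
    ext i j
    simp
  have hkey : ((c : F) ^ 6) • (c5 F).mapMatrix (Aᵀ * A) = 1 := by
    rw [← hGam]
    unfold Gam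
    rw [hmap, transpose_smul, Matrix.smul_mul, Matrix.mul_smul, smul_smul, hAT, ← map_mul]
    congr 1
    ring
  -- the multiplier
  obtain ⟨m, hm⟩ : ∃ m : ZMod 5, m = (Aᵀ * A) 0 0 := ⟨_, rfl⟩
  have h00 : (c : F) ^ 6 * c5 F m = 1 := by
    have := congrFun (congrFun hkey 0) 0
    rw [Matrix.smul_apply, RingHom.mapMatrix_apply, Matrix.map_apply, Matrix.one_apply_eq,
      smul_eq_mul] at this
    rw [hm]
    exact this
  have hm0 : m ≠ 0 := by
    rintro rfl
    rw [map_zero, mul_zero] at h00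
    exact zero_ne_one h00
  have hc6 : (c : F) ^ 6 = c5 F m⁻¹ := by
    have h1 : c5 F m⁻¹ * c5 F m = 1 := by rw [← map_mul, inv_mul_cancel₀ hm0, map_one]
    have h2 : c5 F m ≠ 0 := fun h => hm0 (c5_inj (by rw [h, map_zero]))
    exact mul_right_cancel₀ h2 (h00.trans h1.symm)
  have hAA : Aᵀ * A = m • (1 : Matrix (Fin 3) (Fin 3) (ZMod 5)) := by
    apply mapMatrix_c5_inj (F := F)
    have h1 : (c5 F).mapMatrix (m • (1 : Matrix (Fin 3) (Fin 3) (ZMod 5))) =
        c5 F m • (1 : Matrix (Fin 3) (Fin 3) F) := by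
      ext i j
      by_cases h : i = j
      · subst h; simp
      · simp [Matrix.one_apply_ne h]
    rw [h1, ← hkey, smul_smul, mul_comm, h00, one_smul]
  -- `m` is a square
  have hdet : A.det ^ 2 = m ^ 3 := by
    have := congrArg Matrix.det hAA
    rw [det_mul, det_transpose, det_smul, det_one, mul_one, Fintype.card_fin] at this
    rw [← this]
    ring
  obtain ⟨s, hs⟩ : ∃ s : ZMod 5, s = A.det * m⁻¹ := ⟨_, rfl⟩
  have hs2 : s ^ 2 = m := by
    rw [hs, mul_pow, hdet]
    field_simp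
  have hs0 : s ≠ 0 := by
    rintro rfl
    rw [zero_pow two_ne_zero] at hs2
    exact hm0 hs2.symm
  refine ⟨s⁻¹ • A, (c : F) * c5 F s, ?_, ?_, ?_⟩
  · rw [transpose_smul, Matrix.smul_mul, Matrix.mul_smul, smul_smul, hAA, smul_smul, ← hs2]
    have : s⁻¹ * s⁻¹ * s ^ 2 = 1 := by field_simp
    rw [this, one_smul]
  · rw [mul_pow, hc6, ← map_pow, ← map_mul, ← hs2]
    have : (s ^ 2)⁻¹ * s ^ 6 = s ^ 4 := by field_simp
    rw [this, pow4_zmod s hs0, map_one]
  · have : (c5 F).mapMatrix (s⁻¹ • A) = c5 F s⁻¹ • (c5 F).mapMatrix A := by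
      ext i j
      simp
    rw [this, smul_smul, mul_assoc, ← map_mul, mul_inv_cancel₀ hs0, map_one, mul_one]

end field

end Cfsg.Agent.Helper5.SU35NF
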