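import Mathlib

set_option autoImplicit false
set_option linter.style.haveILetI false
set_option linter.unusedSectionVars false
set_option linter.unusedVariables false
set_option linter.unnecessarySeqFocus false

/-! # S5778, leaf E2, part A (helper5): symmetric forms in dimension 3 over `ZMod 3`.

For a non-singular symmetric `3 × 3` matrix `G` over `ZMod 3` with determinant `ε`, the vectors
of norm `ε` are exactly `± b 0, ± b 1, ± b 2` for a `G`-orthogonal triple `b`. -/

namespace Cfsg.Agent.Helper5.SU3E2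

open Matrix

abbrev T3 := ZMod 3 × ZMod 3 × ZMod 3

def bl (a b c d e f : ZMod 3) (x y : T3) : ZMod 3 :=
  x.1 * (a * y.1 + b * y.2.1 + c * y.2.2) + x.2.1 * (b * y.1 + d * y.2.1 + e * y.2.2)
    + x.2.2 * (c * y.1 + e * y.2.1 + f * y.2.2)

def dt (a b c d e f : ZMod 3) : ZMod 3 :=
  a * (d * f - e * e) - b * (b * f - e * c) + c * (b * e - d * c)

def good3 (a b c d e f : ZMod 3) (v1 v2 v3 : T3) : Prop :=
  (bl a b c d e f v1 v3 = 0 ∧ bl a b c d e f v2 v3 = 0 ∧
      bl a b c d e f v3 v3 = dt a b c d e f) ∧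
    ∀ x : T3, bl a b c d e f x x = dt a b c d e f →
      (x = v1 ∨ x = -v1 ∨ x = v2 ∨ x = -v2 ∨ x = v3 ∨ x = -v3)

instance (a b c d e f : ZMod 3) (v1 v2 v3 : T3) : Decidable (good3 a b c d e f v1 v2 v3) := by
  unfold good3; infer_instance

def good2 (a b c d e f : ZMod 3) (v1 v2 : T3) : Prop :=
  (bl a b c d e f v1 v2 = 0 ∧ bl a b c d e f v2 v2 = dt a b c d e f) ∧
    ∃ v3 : T3, good3 a b c d e f v1 v2 v3

instance (a b c d e f : ZMod 3) (v1 v2 : T3) : Decidable (good2 a b c d e f v1 v2) := by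
  unfold good2; infer_instance

def good1 (a b c d e f : ZMod 3) (v1 : T3) : Prop :=
  bl a b c d e f v1 v1 = dt a b c d e f ∧ ∃ v2 : T3, good2 a b c d e f v1 v2

instance (a b c d e f : ZMod 3) (v1 : T3) : Decidable (good1 a b c d e f v1) := by
  unfold good1; infer_instance

def good (p q : T3) : Prop :=
  dt p.1 p.2.1 p.2.2 q.1 q.2.1 q.2.2 ≠ 0 → ∃ v1 : T3, good1 p.1 p.2.1 p.2.2 q.1 q.2.1 q.2.2 v1

instance (p q : T3) : Decidable (good p q) := by
  unfold good; infer_instance

set_option maxRecDepth 100000 in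
theorem claim : ∀ p q : T3, good p q := by
  decide +kernel

end Cfsg.Agent.Helper5.SU3E2
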