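import Mathlib
import Cfsg.Agent.Helper5.SU3E2A

set_option autoImplicit false
set_option linter.style.haveILetI false
set_option linter.unusedSectionVars false
set_option linter.unusedVariables false
set_option linter.unnecessarySeqFocus false

/-! # S5778, leaf E2, part B (helper5): the matrix form of the claim of part A. -/

namespace Cfsg.Agent.Helper5.SU3E2

open Matrix

/-- the vector of a triple -/
def vec (t : T3) : Fin 3 → ZMod 3 := ![t.1, t.2.1, t.2.2]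

theorem vec_0 (t : T3) : vec t 0 = t.1 := rfl
theorem vec_1 (t : T3) : vec t 1 = t.2.1 := rfl
theorem vec_2 (t : T3) : vec t 2 = t.2.2 := rfl

theorem vec_surj (x : Fin 3 → ZMod 3) : x = vec (x 0, x 1, x 2) := by
  funext i
  fin_cases i <;> rfl

theorem vec_neg (t : T3) : vec (-t) = -vec t := by
  funext i
  fin_cases i <;> rfl

theorem bl_eq (G : Matrix (Fin 3) (Fin 3) (ZMod 3)) (hs : ∀ i j, G i j = G j i) (x y : T3) :
    vec x ⬝ᵥ G *ᵥ vec y = bl (G 0 0) (G 0 1) (G 0 2) (G 1 1) (G 1 2) (G 2 2) x y := by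
  simp only [dotProduct, mulVec, Fin.sum_univ_three, bl, vec_0, vec_1, vec_2]
  rw [hs 1 0, hs 2 0, hs 2 1]

theorem bl_comm (a b c d e f : ZMod 3) (x y : T3) : bl a b c d e f x y = bl a b c d e f y x := by
  unfold bl
  ring

theorem claimM (G : Matrix (Fin 3) (Fin 3) (ZMod 3)) (hs : ∀ i j, G i j = G j i)
    (hd : G.det ≠ 0) :
    ∃ b : Fin 3 → Fin 3 → ZMod 3, (∀ i j, i ≠ j → b i ⬝ᵥ G *ᵥ b j = 0) ∧
      (∀ i, b i ⬝ᵥ G *ᵥ b i = G.det) ∧
      ∀ x, x ⬝ᵥ G *ᵥ x = G.det → ∃ i, x = b i ∨ x = - b i := by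
  have hdet : G.det = dt (G 0 0) (G 0 1) (G 0 2) (G 1 1) (G 1 2) (G 2 2) := by
    rw [Matrix.det_fin_three, hs 1 0, hs 2 0, hs 2 1]
    unfold dt
    ring
  have h := claim (G 0 0, G 0 1, G 0 2) (G 1 1, G 1 2, G 2 2)
  unfold good at h
  obtain ⟨v1, h11, v2, ⟨h12, h22⟩, v3, ⟨h13, h23, h33⟩, hcl⟩ := h (by rw [← hdet]; exact hd)
  refine ⟨![vec v1, vec v2, vec v3], ?_, ?_, ?_⟩
  · intro i j hij
    fin_cases i <;> fin_cases j <;> first | exact absurd rfl hij | skip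
    · show vec v1 ⬝ᵥ G *ᵥ vec v2 = 0
      rw [bl_eq G hs]; exact h12
    · show vec v1 ⬝ᵥ G *ᵥ vec v3 = 0
      rw [bl_eq G hs]; exact h13
    · show vec v2 ⬝ᵥ G *ᵥ vec v1 = 0
      rw [bl_eq G hs, bl_comm]; exact h12
    · show vec v2 ⬝ᵥ G *ᵥ vec v3 = 0
      rw [bl_eq G hs]; exact h23
    · show vec v3 ⬝ᵥ G *ᵥ vec v1 = 0
      rw [bl_eq G hs, bl_comm]; exact h13
    · show vec v3 ⬝ᵥ G *ᵥ vec v2 = 0
      rw [bl_eq G hs, bl_comm]; exact h23
  · intro i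
    fin_cases i
    · show vec v1 ⬝ᵥ G *ᵥ vec v1 = _
      rw [bl_eq G hs, hdet]; exact h11
    · show vec v2 ⬝ᵥ G *ᵥ vec v2 = _
      rw [bl_eq G hs, hdet]; exact h22
    · show vec v3 ⬝ᵥ G *ᵥ vec v3 = _
      rw [bl_eq G hs, hdet]; exact h33
  · intro x hx
    rw [vec_surj x, bl_eq G hs, hdet] at hx
    rcases hcl _ hx with h | h | h | h | h | h
    · exact ⟨0, Or.inl (by rw [vec_surj x, h]; rfl)⟩
    · exact ⟨0, Or.inr (by rw [vec_surj x, h, vec_neg]; rfl)⟩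
    · exact ⟨1, Or.inl (by rw [vec_surj x, h]; rfl)⟩
    · exact ⟨1, Or.inr (by rw [vec_surj x, h, vec_neg]; rfl)⟩
    · exact ⟨2, Or.inl (by rw [vec_surj x, h]; rfl)⟩
    · exact ⟨2, Or.inr (by rw [vec_surj x, h, vec_neg]; rfl)⟩

end Cfsg.Agent.Helper5.SU3E2
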