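import Mathlib
import Cfsg.Prelude.Def_GeometricClasses
import Cfsg.Prelude.Def_Classical
import Cfsg.Prelude.Def_LieClassical

set_option autoImplicit false
set_option linter.style.haveILetI false
set_option linter.unusedSectionVars false
set_option linter.unusedVariables false
set_option linter.unnecessarySeqFocus false

/-! # S5778, leaf E2, part C (helper5): the field `F` with nine elements, its prime field, and
the Gram matrix of a rational structure. -/

namespace Cfsg.Agent.Helper5.SU3E2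

open Matrix Cfsg Cfsg.Geo

section field

variable {F : Type*} [Field F] [Fintype F] [CharP F 3]

/-- the prime field inside `F` -/
noncomputable def c3 (F : Type*) [Field F] [CharP F 3] : ZMod 3 →+* F := ZMod.castHom (dvd_refl 3) F

theorem c3_inj : Function.Injective (c3 F) := RingHom.injective _

theorem c3_pow (a : ZMod 3) : (c3 F a) ^ 3 = c3 F a := by
  rw [← map_pow]
  congr 1
  revert a
  decide

/-- vectors over the prime field -/
noncomputable def cv (F : Type*) [Field F] [CharP F 3] (u : Fin 3 → ZMod 3) : Fin 3 → F :=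
  fun i => c3 F (u i)

theorem cv_neg (u : Fin 3 → ZMod 3) : cv F (-u) = -cv F u := by
  funext i
  simp [cv]

theorem exists_c3 (F₀ : Subfield F) (h3 : Nat.card F₀ = 3) :
    ∀ x ∈ F₀, ∃ a : ZMod 3, c3 F a = x := by
  have hmem : ∀ a : ZMod 3, c3 F a ∈ F₀ := by
    intro a
    have : c3 F a = ((a.val : ℕ) : F) := by
      rw [← map_natCast (c3 F), ZMod.natCast_zmod_val]
    rw [this]
    exact natCast_mem F₀ _
  have hinj : Function.Injective (fun a : ZMod 3 => (⟨c3 F a, hmem a⟩ : F₀)) :=
    fun a b h => c3_inj (Subtype.ext_iff.mp h)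
  have hbij := (Nat.bijective_iff_injective_and_card _).mpr
    ⟨hinj, by rw [Nat.card_eq_fintype_card, ZMod.card, h3]⟩
  intro x hx
  obtain ⟨a, ha⟩ := hbij.2 ⟨x, hx⟩
  exact ⟨a, congrArg Subtype.val ha⟩

theorem pow_nine (hF : Fintype.card F = 3 ^ 2) (x : F) : x ^ 9 = x := by
  have := FiniteField.pow_card x
  rw [hF] at this
  exact this

/-! ### the hermitian form -/

theorem herm_smul_left (a : F) (x y : Fin 3 → F) :
    hermForm 3 F 3 (a • x) y = a * hermForm 3 F 3 x y := by
  simp only [hermForm, Pi.smul_apply, smul_eq_mul, Fin.sum_univ_three]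
  ring

theorem herm_smul_right (b : F) (x y : Fin 3 → F) :
    hermForm 3 F 3 x (b • y) = b ^ 3 * hermForm 3 F 3 x y := by
  simp only [hermForm, Pi.smul_apply, smul_eq_mul, Fin.sum_univ_three]
  ring

theorem herm_sum_left (a : Fin 3 → F) (x : Fin 3 → Fin 3 → F) (y : Fin 3 → F) :
    hermForm 3 F 3 (∑ i, a i • x i) y = ∑ i, a i * hermForm 3 F 3 (x i) y := by
  simp only [hermForm, Pi.smul_apply, smul_eq_mul, Fin.sum_univ_three, Pi.add_apply]
  ring

/-- the Gram matrix of the columns of `Pm` -/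
def Gam (Pm : Matrix (Fin 3) (Fin 3) F) : Matrix (Fin 3) (Fin 3) F :=
  Pmᵀ * Pm.map (fun x => x ^ 3)

theorem herm_P (Pm : Matrix (Fin 3) (Fin 3) F) (u v : Fin 3 → F) :
    hermForm 3 F 3 (Pm *ᵥ u) (Pm *ᵥ v) = u ⬝ᵥ (Gam Pm) *ᵥ (fun j => v j ^ 3) := by
  haveI : Fact (Nat.Prime 3) := ⟨Nat.prime_three⟩
  simp only [hermForm, mulVec, dotProduct, Fin.sum_univ_three, Gam, Matrix.mul_apply,
    transpose_apply, map_apply, add_pow_char, mul_pow]
  ring

theorem Gam_apply (Pm : Matrix (Fin 3) (Fin 3) F) (i j : Fin 3) :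
    Gam Pm i j = hermForm 3 F 3 (Pm *ᵥ Pi.single i 1) (Pm *ᵥ Pi.single j 1) := by
  rw [mulVec_single_one, mulVec_single_one]
  simp only [hermForm, Gam, Matrix.mul_apply, transpose_apply, map_apply, Matrix.col_apply]

theorem Gam_symm (hF : Fintype.card F = 3 ^ 2) (Pm : Matrix (Fin 3) (Fin 3) F) (i j : Fin 3) :
    Gam Pm j i = (Gam Pm i j) ^ 3 := by
  haveI : Fact (Nat.Prime 3) := ⟨Nat.prime_three⟩
  have h9 : ∀ x : F, (x ^ 3) ^ 3 = x := fun x => by rw [← pow_mul]; exact pow_nine hF x
  simp only [Gam, Matrix.mul_apply, transpose_apply, map_apply, Fin.sum_univ_three, add_pow_char,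
    mul_pow, h9]
  ring

theorem Gam_det (Pm : Matrix (Fin 3) (Fin 3) F) : (Gam Pm).det = Pm.det * Pm.det ^ 3 := by
  haveI : Fact (Nat.Prime 3) := ⟨Nat.prime_three⟩
  have h : Pm.map (fun x => x ^ 3) = (frobenius F 3).mapMatrix Pm := by
    ext i j
    simp [frobenius_def]
  unfold Gam
  rw [det_mul, det_transpose, h, ← RingHom.map_det, frobenius_def]

end field

end Cfsg.Agent.Helper5.SU3E2
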