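import Mathlib
import Cfsg.Agent.Helper5.SU3E2C

set_option autoImplicit false
set_option linter.style.haveILetI false
set_option linter.unusedSectionVars false
set_option linter.unusedVariables false
set_option linter.unnecessarySeqFocus false

/-! # S5778, leaf E2, part D (helper5): the Gram matrix over the prime field and the shape of
the elements of the subfield group. -/

namespace Cfsg.Agent.Helper5.SU3E2

open Matrix Cfsg Cfsg.Geo

section field

variable {F : Type*} [Field F] [Fintype F] [CharP F 3]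

/-- the Gram matrix of a rational structure has entries in the prime field, is symmetric and
non-singular. -/
theorem exists_gram (hF : Fintype.card F = 3 ^ 2) (F₀ : Subfield F) (h3 : Nat.card F₀ = 3)
    (P : GL (Fin 3) F) (hP : IsFormRationalStructure (hermForm 3 F 3) F₀ 1 P) :
    ∃ G : Matrix (Fin 3) (Fin 3) (ZMod 3), (∀ i j, G i j = G j i) ∧ G.det ≠ 0 ∧
      ∀ u v : Fin 3 → ZMod 3,
        hermForm 3 F 3 ((P : Matrix (Fin 3) (Fin 3) F) *ᵥ cv F u)
          ((P : Matrix (Fin 3) (Fin 3) F) *ᵥ cv F v) = c3 F (u ⬝ᵥ G *ᵥ v) := by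
  have hmem : ∀ i j, Gam (P : Matrix (Fin 3) (Fin 3) F) i j ∈ F₀ := by
    intro i j
    rw [Gam_apply]
    have := hP (Pi.single i 1) (Pi.single j 1)
      (fun k => by
        by_cases h : k = i
        · subst h; simp [one_mem]
        · rw [Pi.single_eq_of_ne h]; exact zero_mem _)
      (fun k => by
        by_cases h : k = j
        · subst h; simp [one_mem]
        · rw [Pi.single_eq_of_ne h]; exact zero_mem _)
    rwa [one_mul] at this
  obtain ⟨G, hG⟩ : ∃ G : Matrix (Fin 3) (Fin 3) (ZMod 3),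
      ∀ i j, c3 F (G i j) = Gam (P : Matrix (Fin 3) (Fin 3) F) i j := by
    choose G hG using fun i j => exists_c3 F₀ h3 _ (hmem i j)
    exact ⟨Matrix.of G, hG⟩
  refine ⟨G, ?_, ?_, ?_⟩
  · intro i j
    apply c3_inj (F := F)
    rw [hG, hG, Gam_symm hF _ j i, ← hG j i, c3_pow]
  · intro h0
    have hdet : c3 F G.det = (Gam (P : Matrix (Fin 3) (Fin 3) F)).det := by
      rw [RingHom.map_det]
      congr 1
      ext i j
      simp [hG]
    rw [h0, map_zero, Gam_det] at hdet
    have hne : (P : Matrix (Fin 3) (Fin 3) F).det ≠ 0 := by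
      have := (Matrix.isUnit_iff_isUnit_det _).mp P.isUnit
      exact this.ne_zero
    exact mul_ne_zero hne (pow_ne_zero 3 hne) hdet.symm
  · intro u v
    rw [herm_P]
    simp only [dotProduct, mulVec, Fin.sum_univ_three, cv, ← hG, c3_pow, map_add, map_mul]

/-- the shape of the elements of the subfield group over the prime field -/
theorem exists_shape (F₀ : Subfield F) (h3 : Nat.card F₀ = 3) (P g : GL (Fin 3) F)
    (hg : g ∈ subfieldSubgroup F₀ P) :
    ∃ (A : Matrix (Fin 3) (Fin 3) (ZMod 3)) (c : F), c ≠ 0 ∧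
      (g : Matrix (Fin 3) (Fin 3) F).det = c3 F A.det * c ^ 3 ∧
      ∀ u : Fin 3 → ZMod 3, (g : Matrix (Fin 3) (Fin 3) F) *ᵥ
        ((P : Matrix (Fin 3) (Fin 3) F) *ᵥ cv F u) =
          c • ((P : Matrix (Fin 3) (Fin 3) F) *ᵥ cv F (A *ᵥ u)) := by
  unfold subfieldSubgroup at hg
  rw [Subgroup.mem_map] at hg
  obtain ⟨x, hx, rfl⟩ := hg
  rw [Subgroup.mem_sup_of_normal_right] at hx
  obtain ⟨y, ⟨A₀, rfl⟩, z, hz, rfl⟩ := hx
  rw [mem_scalars_iff] at hz
  obtain ⟨c, hc⟩ := hz
  obtain ⟨A, hA⟩ : ∃ A : Matrix (Fin 3) (Fin 3) (ZMod 3),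
      ∀ i j, c3 F (A i j) = ((A₀ i j : F₀) : F) := by
    choose A hA using fun i j => exists_c3 F₀ h3 _ (A₀ i j).2
    exact ⟨Matrix.of A, hA⟩
  have hAm : ((Matrix.GeneralLinearGroup.map (F₀.subtype : F₀ →+* F) A₀ : GL (Fin 3) F) :
      Matrix (Fin 3) (Fin 3) F) = (c3 F).mapMatrix A := by
    ext i j
    rw [Matrix.GeneralLinearGroup.map_apply, RingHom.mapMatrix_apply, Matrix.map_apply, hA]
    rfl
  refine ⟨A, (c : F), c.ne_zero, ?_, ?_⟩
  · simp only [MulEquiv.coe_toMonoidHom, MulAut.conj_apply, Matrix.GeneralLinearGroup.coe_mul]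
    rw [Matrix.coe_units_inv, ← Matrix.coe_units_inv, Matrix.det_units_conj, hc, hAm, det_mul,
      ← RingHom.map_det, det_smul, det_one, mul_one, Fintype.card_fin]
  · intro u
    simp only [MulEquiv.coe_toMonoidHom, MulAut.conj_apply, Matrix.GeneralLinearGroup.coe_mul,
      hc, mulVec_mulVec]
    rw [mul_assoc _ (↑P⁻¹ : Matrix (Fin 3) (Fin 3) F), Units.inv_mul, mul_one, Matrix.mul_smul,
      mul_one, Matrix.mul_smul, smul_mulVec, ← mulVec_mulVec, hAm]
    congr 2
    funext i
    simp only [mulVec, dotProduct, cv, RingHom.mapMatrix_apply, Matrix.map_apply, map_sum,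
      map_mul]

end field

end Cfsg.Agent.Helper5.SU3E2
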