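import Mathlib
import Cfsg.Agent.Helper5.SU3E2B
import Cfsg.Agent.Helper5.SU3E2D

set_option autoImplicit false
set_option linter.style.haveILetI false
set_option linter.unusedSectionVars false
set_option linter.unusedVariables false
set_option linter.unnecessarySeqFocus false

/-! # S5778, leaf E2 (helper5): for `q = 3` a subfield group of index 2 of `SU_3(3)` stabilises a
decomposition into three mutually orthogonal non-degenerate 1-spaces. -/

namespace Cfsg.Agent.Helper5.SU3E2

open Matrix Cfsg Cfsg.Geo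

section field

variable {F : Type*} [Field F] [Fintype F]

theorem sq_eq_one_zmod3 : ∀ δ : ZMod 3, δ ≠ 0 → δ ^ 2 = 1 := by decide

theorem bform_neg_left (G : Matrix (Fin 3) (Fin 3) (ZMod 3)) (x y : Fin 3 → ZMod 3) :
    (-x) ⬝ᵥ G *ᵥ y = -(x ⬝ᵥ G *ᵥ y) := by
  rw [neg_dotProduct]

theorem bform_neg_right (G : Matrix (Fin 3) (Fin 3) (ZMod 3)) (x y : Fin 3 → ZMod 3) :
    x ⬝ᵥ G *ᵥ (-y) = -(x ⬝ᵥ G *ᵥ y) := by
  rw [mulVec_neg, dotProduct_neg]

theorem subfield_three_le_frame (hF : Fintype.card F = 3 ^ 2) (F₀ : Subfield F)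
    (P : GL (Fin 3) F) (hc : Fintype.card F = Nat.card F₀ ^ 2)
    (hP : IsFormRationalStructure (hermForm 3 F 3) F₀ 1 P) :
    ∃ D : Fin 3 → Submodule F (Fin 3 → F),
      IsNondegenerateMDecomposition (hermForm 3 F 3) 1 D ∧
      subfieldSubgroup F₀ P ⊓ (GU 3 F 3 ⊓ specialLinear (Fin 3) F) ≤
        decompositionStabilizer D := by
  haveI : Fact (Nat.Prime 3) := ⟨Nat.prime_three⟩
  haveI : CharP F 3 := charP_of_card_eq_prime_pow hF
  have h3 : Nat.card F₀ = 3 := by
    rw [hF] at hc
    exact (Nat.pow_left_injective (two_ne_zero) hc).symm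
  obtain ⟨G, hGs, hGd, hG⟩ := exists_gram hF F₀ h3 P hP
  obtain ⟨b, hb0, hb1, hbc⟩ := claimM G hGs hGd
  have hε : c3 F G.det ≠ 0 := fun h => hGd (c3_inj (by rw [h, map_zero]))
  -- the frame
  obtain ⟨w, hw⟩ : ∃ w : Fin 3 → Fin 3 → F,
      w = fun i => (P : Matrix (Fin 3) (Fin 3) F) *ᵥ cv F (b i) := ⟨_, rfl⟩
  have hww : ∀ i j, hermForm 3 F 3 (w i) (w j) = if i = j then c3 F G.det else 0 := by
    intro i j
    rw [hw]
    show hermForm 3 F 3 ((P : Matrix (Fin 3) (Fin 3) F) *ᵥ cv F (b i))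
      ((P : Matrix (Fin 3) (Fin 3) F) *ᵥ cv F (b j)) = _
    rw [hG]
    by_cases hij : i = j
    · subst hij
      rw [if_pos rfl, hb1]
    · rw [if_neg hij, hb0 i j hij, map_zero]
  have hwne : ∀ i, w i ≠ 0 := by
    intro i h0
    have := hww i i
    rw [if_pos rfl, h0] at this
    apply hε
    rw [← this]
    simp [hermForm]
  have hli : LinearIndependent F w := by
    rw [Fintype.linearIndependent_iff]
    intro a ha j
    have h1 := herm_sum_left a w (w j)
    rw [ha] at h1
    have h2 : hermForm 3 F 3 (0 : Fin 3 → F) (w j) = 0 := by simp [hermForm]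
    rw [h2] at h1
    simp only [hww, mul_ite, mul_zero, Finset.sum_ite_eq', Finset.mem_univ, if_true] at h1
    rcases mul_eq_zero.mp h1.symm with h | h
    · exact h
    · exact absurd h hε
  refine ⟨fun i => Submodule.span F {w i}, ⟨⟨by norm_num, one_pos, fun i => ?_, ?_, ?_⟩, ?_, ?_⟩, ?_⟩
  · exact finrank_span_singleton (hwne i)
  · exact hli.iSupIndep_span_singleton
  · rw [← Submodule.span_range_eq_iSup]
    exact hli.span_eq_top_of_card_eq_finrank' (by simp)
  · -- nondegenerate
    intro i x hx hx0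
    obtain ⟨a, rfl⟩ := Submodule.mem_span_singleton.mp hx
    have ha : a ≠ 0 := by
      rintro rfl
      exact hx0 (zero_smul _ _)
    refine ⟨⟨w i, Submodule.mem_span_singleton_self _, ?_⟩,
      ⟨w i, Submodule.mem_span_singleton_self _, ?_⟩⟩
    · rw [herm_smul_right, hww, if_pos rfl]
      exact mul_ne_zero (pow_ne_zero 3 ha) hε
    · rw [herm_smul_left, hww, if_pos rfl]
      exact mul_ne_zero ha hε
  · -- orthogonal
    intro i j hij u hu v hv
    obtain ⟨a, rfl⟩ := Submodule.mem_span_singleton.mp hu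
    obtain ⟨a', rfl⟩ := Submodule.mem_span_singleton.mp hv
    rw [herm_smul_left, herm_smul_right, hww, if_neg hij, mul_zero, mul_zero]
  · -- the stabiliser
    intro g hg
    obtain ⟨hgs, hgu, hgl⟩ := hg
    obtain ⟨A, c, hc0, hdet, hshape⟩ := exists_shape F₀ h3 P g hgs
    -- `c ^ 4 = 1`
    have hdet1 : (g : Matrix (Fin 3) (Fin 3) F).det = 1 := by
      have hk : Matrix.GeneralLinearGroup.det g = 1 := hgl
      have := congrArg Units.val hk
      simpa using this
    have hc4 : c * c ^ 3 = 1 := by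
      rw [hdet1] at hdet
      have hA0 : A.det ≠ 0 := by
        intro h
        rw [h, map_zero, zero_mul] at hdet
        exact one_ne_zero hdet
      have hA2 : A.det ^ 2 = 1 := sq_eq_one_zmod3 _ hA0
      have h6 : c ^ 6 = 1 := by
        have : (c3 F A.det * c ^ 3) ^ 2 = 1 := by rw [← hdet]; ring
        rw [mul_pow, ← map_pow, hA2, map_one, one_mul, ← pow_mul] at this
        exact this
      have h8 : c ^ 8 = 1 := by
        have := FiniteField.pow_card_sub_one_eq_one c hc0
        rw [hF] at this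
        exact this
      have h2 : c ^ 2 = 1 := by
        have : c ^ 8 = c ^ 6 * c ^ 2 := by ring
        rw [h8, h6, one_mul] at this
        exact this.symm
      calc c * c ^ 3 = (c ^ 2) ^ 2 := by ring
        _ = 1 := by rw [h2, one_pow]
    -- `A` is an isometry of `G`
    have hiso : ∀ u v : Fin 3 → ZMod 3, (A *ᵥ u) ⬝ᵥ G *ᵥ (A *ᵥ v) = u ⬝ᵥ G *ᵥ v := by
      intro u v
      apply c3_inj (F := F)
      rw [← hG, ← hG]
      have := hgu ((P : Matrix (Fin 3) (Fin 3) F) *ᵥ cv F u)
        ((P : Matrix (Fin 3) (Fin 3) F) *ᵥ cv F v)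
      rw [← this]
      show _ = hermForm 3 F 3 ((g : Matrix (Fin 3) (Fin 3) F) *ᵥ _)
        ((g : Matrix (Fin 3) (Fin 3) F) *ᵥ _)
      rw [hshape, hshape, herm_smul_left, herm_smul_right, ← mul_assoc, hc4, one_mul]
    -- the permutation
    have hex : ∀ i, ∃ k, A *ᵥ b i = b k ∨ A *ᵥ b i = - b k := by
      intro i
      apply hbc
      rw [hiso, hb1]
    choose σ hσ using hex
    have hG0 : G.det ≠ 0 := hGd
    have hinj : Function.Injective σ := by
      intro i j hij
      by_contra hne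
      have h0 : (A *ᵥ b i) ⬝ᵥ G *ᵥ (A *ᵥ b j) = 0 := by rw [hiso, hb0 i j hne]
      have hi := hσ i
      have hj := hσ j
      rw [hij] at hi
      rcases hi with hi | hi <;> rcases hj with hj | hj <;> rw [hi, hj] at h0
      · rw [hb1] at h0; exact hG0 h0
      · rw [bform_neg_right, hb1, neg_eq_zero] at h0; exact hG0 h0
      · rw [bform_neg_left, hb1, neg_eq_zero] at h0; exact hG0 h0
      · rw [bform_neg_left, bform_neg_right, neg_neg, hb1] at h0; exact hG0 h0
    refine ⟨Equiv.ofBijective σ (Finite.injective_iff_bijective.mp hinj), fun i => ?_⟩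
    show (Submodule.span F {w i}).map (Matrix.toLin' (g : Matrix (Fin 3) (Fin 3) F)) =
      Submodule.span F {w (σ i)}
    rw [Submodule.map_span, Set.image_singleton, Matrix.toLin'_apply]
    have hwi : w i = (P : Matrix (Fin 3) (Fin 3) F) *ᵥ cv F (b i) := by rw [hw]
    have hwk : w (σ i) = (P : Matrix (Fin 3) (Fin 3) F) *ᵥ cv F (b (σ i)) := by rw [hw]
    rw [hwi, hshape]
    rcases hσ i with h | h
    · rw [h, ← hwk]
      exact Submodule.span_singleton_smul_eq (isUnit_iff_ne_zero.mpr hc0) _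
    · rw [h, cv_neg, mulVec_neg, ← hwk, smul_neg, ← neg_smul]
      exact Submodule.span_singleton_smul_eq (isUnit_iff_ne_zero.mpr (neg_ne_zero.mpr hc0)) _

end field

end Cfsg.Agent.Helper5.SU3E2
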