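import Mathlib
import Cfsg.Agent.Helper5.G24F4

/-!
# `SU₅(2)`: explicit data for `11:5 < L₂(11) < SU₅(2)` (helper5)

Over the model field `F4` with four elements: the companion matrix `Cm` of
`m_a = x⁵ + ω²x⁴ + x³ + x² + ωx + 1` (a factor of `x¹¹ − 1`), the Gram matrix `Gam` of the trace form
`Γ_ij = trace (Cm ^ (i - j))` in the basis `1, ζ, …, ζ⁴`, the Frobenius `phi`, the extra involution `tm`
(so that `Cm, phi, tm` generate a group of order 660), the orbit `Olist` of the first basis vector under that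
group (66 vectors) and a unitary transvection `um` moving the first basis vector out of that orbit.
All facts are checked by `decide`.
-/

set_option autoImplicit false

namespace Cfsg.Agent.Helper5.SU5

open Cfsg.Agent.Helper5.G24 Matrix

/-- a `5 × 5` matrix over the field with four elements from a table of numbers `0, 1, 2, 3`. -/
def mk5 (l : List (List ℕ)) : Matrix (Fin 5) (Fin 5) F4 :=
  fun i j => F4.ofN ((l.getD i.val []).getD j.val 0)

/-- a vector from a list of numbers. -/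
def mkv (l : List ℕ) : Fin 5 → F4 := fun i => F4.ofN (l.getD i.val 0)

/-- the companion matrix of `m_a`. -/
def Cm : Matrix (Fin 5) (Fin 5) F4 :=
  mk5 [[0, 0, 0, 0, 1], [1, 0, 0, 0, 2], [0, 1, 0, 0, 1], [0, 0, 1, 0, 1], [0, 0, 0, 1, 3]]

/-- its inverse. -/
def Cinv : Matrix (Fin 5) (Fin 5) F4 :=
  mk5 [[2, 1, 0, 0, 0], [1, 0, 1, 0, 0], [1, 0, 0, 1, 0], [3, 0, 0, 0, 1], [1, 0, 0, 0, 0]]

/-- the Frobenius. -/
def phi : Matrix (Fin 5) (Fin 5) F4 :=
  mk5 [[1, 0, 0, 0, 1], [0, 0, 3, 1, 2], [0, 0, 2, 0, 1], [0, 0, 3, 0, 1], [0, 1, 2, 0, 3]]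

/-- its inverse. -/
def phiinv : Matrix (Fin 5) (Fin 5) F4 :=
  mk5 [[1, 0, 3, 2, 0], [0, 0, 0, 3, 1], [0, 0, 1, 1, 0], [0, 1, 2, 0, 0], [0, 0, 3, 2, 0]]

/-- the extra involution. -/
def tm : Matrix (Fin 5) (Fin 5) F4 :=
  mk5 [[1, 3, 0, 2, 1], [0, 1, 2, 2, 3], [0, 1, 1, 3, 2], [0, 3, 1, 2, 3], [0, 1, 3, 0, 2]]

/-- the Gram matrix of the trace form. -/
def Gam : Matrix (Fin 5) (Fin 5) F4 :=
  mk5 [[1, 2, 3, 2, 2], [3, 1, 2, 3, 2], [2, 3, 1, 2, 3], [3, 2, 3, 1, 2], [3, 3, 2, 3, 1]]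

/-- a unitary transvection. -/
def um : Matrix (Fin 5) (Fin 5) F4 :=
  mk5 [[1, 0, 0, 0, 0], [0, 1, 0, 0, 0], [0, 0, 1, 0, 0], [3, 2, 0, 1, 0], [1, 3, 0, 0, 1]]

/-- the orbit of the first basis vector under the group of order 660. -/
def Olist : List (List ℕ) :=
  [[0, 0, 0, 0, 1],
   [0, 0, 0, 1, 0],
   [0, 0, 0, 1, 1],
   [0, 0, 1, 0, 0],
   [0, 0, 1, 0, 1],
   [0, 0, 1, 1, 0],
   [0, 1, 0, 0, 0],
   [0, 1, 0, 0, 1],
   [0, 1, 0, 1, 0],
   [0, 1, 1, 0, 0],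
   [0, 2, 0, 3, 3],
   [0, 2, 1, 1, 3],
   [0, 2, 2, 0, 3],
   [0, 2, 2, 3, 2],
   [0, 3, 2, 2, 2],
   [0, 3, 2, 3, 2],
   [0, 3, 2, 3, 3],
   [0, 3, 3, 3, 2],
   [1, 0, 0, 0, 0],
   [1, 0, 0, 0, 1],
   [1, 0, 0, 1, 0],
   [1, 0, 1, 0, 0],
   [1, 1, 0, 0, 0],
   [1, 1, 0, 1, 2],
   [1, 1, 2, 2, 2],
   [1, 1, 3, 2, 1],
   [1, 2, 0, 1, 3],
   [1, 2, 1, 0, 3],
   [1, 2, 1, 1, 2],
   [1, 2, 1, 1, 3],
   [1, 3, 0, 2, 1],
   [1, 3, 1, 1, 3],
   [1, 3, 2, 1, 1],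
   [1, 3, 2, 3, 2],
   [2, 0, 1, 2, 3],
   [2, 0, 1, 3, 1],
   [2, 0, 2, 3, 3],
   [2, 0, 3, 3, 0],
   [2, 1, 0, 3, 1],
   [2, 1, 1, 2, 1],
   [2, 1, 1, 3, 0],
   [2, 1, 1, 3, 1],
   [2, 2, 0, 3, 0],
   [2, 2, 1, 0, 2],
   [2, 2, 3, 0, 3],
   [2, 2, 3, 2, 0],
   [2, 3, 0, 0, 2],
   [2, 3, 1, 0, 2],
   [2, 3, 1, 0, 3],
   [2, 3, 1, 1, 2],
   [3, 0, 0, 2, 3],
   [3, 0, 1, 2, 2],
   [3, 0, 1, 2, 3],
   [3, 0, 1, 3, 3],
   [3, 1, 0, 1, 1],
   [3, 1, 1, 1, 2],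
   [3, 1, 1, 2, 3],
   [3, 1, 1, 3, 1],
   [3, 2, 2, 2, 0],
   [3, 2, 3, 2, 0],
   [3, 2, 3, 2, 1],
   [3, 2, 3, 3, 0],
   [3, 3, 0, 2, 2],
   [3, 3, 1, 0, 2],
   [3, 3, 3, 1, 1],
   [3, 3, 3, 2, 0]]

/-- membership in the orbit. -/
def inO (x : Fin 5 → F4) : Prop := ∃ l ∈ Olist, mkv l = x

instance (x : Fin 5 → F4) : Decidable (inO x) := by unfold inO; infer_instance

/-- the first basis vector. -/
def e0 : Fin 5 → F4 := mkv [1, 0, 0, 0, 0]

/-- evaluation of `m_a` at a matrix. -/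
def maE (A : Matrix (Fin 5) (Fin 5) F4) : Matrix (Fin 5) (Fin 5) F4 :=
  A ^ 5 + F4.v • A ^ 4 + A ^ 3 + A ^ 2 + F4.w • A + 1

/-- the exponents `4 ^ j mod 11`. -/
def ex4 : Fin 5 → ℕ := ![1, 4, 5, 9, 3]

set_option maxRecDepth 100000 in
theorem Cm_mul_Cinv : Cm * Cinv = 1 := by decide +kernel
set_option maxRecDepth 100000 in
theorem Cinv_mul_Cm : Cinv * Cm = 1 := by decide +kernel
set_option maxRecDepth 100000 in
theorem phi_mul_phiinv : phi * phiinv = 1 := by decide +kernel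
set_option maxRecDepth 100000 in
theorem phiinv_mul_phi : phiinv * phi = 1 := by decide +kernel
set_option maxRecDepth 100000 in
theorem phi_pow_five : phi * phi * phi * phi * phi = 1 := by decide +kernel
set_option maxRecDepth 100000 in
theorem tm_mul_tm : tm * tm = 1 := by decide +kernel
set_option maxRecDepth 100000 in
theorem um_mul_um : um * um = 1 := by decide +kernel
set_option maxRecDepth 100000 in
theorem phi_unitary : phiᵀ * Gam * phi.map (· ^ 2) = Gam := by decide +kernel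
set_option maxRecDepth 100000 in
theorem tm_unitary : tmᵀ * Gam * tm.map (· ^ 2) = Gam := by decide +kernel
set_option maxRecDepth 100000 in
theorem um_unitary : umᵀ * Gam * um.map (· ^ 2) = Gam := by decide +kernel
set_option maxRecDepth 100000 in
theorem Cm_O : ∀ l ∈ Olist, inO (Cm *ᵥ mkv l) := by decide +kernel
set_option maxRecDepth 100000 in
theorem Cinv_O : ∀ l ∈ Olist, inO (Cinv *ᵥ mkv l) := by decide +kernel
set_option maxRecDepth 100000 in
theorem phi_O : ∀ l ∈ Olist, inO (phi *ᵥ mkv l) := by decide +kernel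
set_option maxRecDepth 100000 in
theorem phiinv_O : ∀ l ∈ Olist, inO (phiinv *ᵥ mkv l) := by decide +kernel
set_option maxRecDepth 100000 in
theorem tm_O : ∀ l ∈ Olist, inO (tm *ᵥ mkv l) := by decide +kernel
set_option maxRecDepth 100000 in
theorem e0_O : inO e0 := by decide +kernel
set_option maxRecDepth 100000 in
theorem um_e0_not_O : ¬ inO (um *ᵥ e0) := by decide +kernel
set_option maxRecDepth 100000 in
theorem trace_Cm_pow : ∀ p : Fin 5 × Fin 5, Gam p.1 p.2 = Matrix.trace (Cm ^ (p.1.val + 11 - p.2.val)) := by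
  decide +kernel
set_option maxRecDepth 100000 in
theorem maE_Cm : maE Cm = 0 := by decide +kernel
set_option maxRecDepth 100000 in
theorem trace_Cm_pow_eq : ∀ i : Fin 11, Matrix.trace (Cm ^ i.val) = Matrix.trace Cm →
    i.val = 1 ∨ i.val = 4 ∨ i.val = 5 ∨ i.val = 9 ∨ i.val = 3 := by
  decide +kernel
set_option maxRecDepth 100000 in
theorem Cm_unitary : Cmᵀ * Gam * Cm.map (· ^ 2) = Gam := by decide +kernel
set_option maxRecDepth 100000 in
theorem Cm_last : ∀ i : Fin 5, Cm i 4 = ![1, F4.w, 1, 1, F4.v] i := by decide +kernel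
set_option maxRecDepth 100000 in
theorem Cm_col : ∀ p : Fin 5 × Fin 4, Cm p.1 p.2.castSucc = if p.1 = p.2.succ then 1 else 0 := by decide +kernel
theorem e0_eq : e0 = Pi.single 0 1 := by decide +kernel
set_option maxRecDepth 100000 in
theorem phi_pow5 : phi ^ 5 = 1 := by decide +kernel
set_option maxRecDepth 100000 in
theorem tm_pow2 : tm ^ 2 = 1 := by decide +kernel
set_option maxRecDepth 100000 in
theorem um_pow2 : um ^ 2 = 1 := by decide +kernel
theorem F4_v_eq : F4.v = F4.w + 1 := by decide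
theorem F4_w_mul : F4.w * F4.w = F4.w + 1 := by decide
theorem F4_two : (1 : F4) + 1 = 0 := by decide
set_option maxRecDepth 100000 in
theorem phi_pow_Cm : ∀ j : Fin 5, phi ^ j.val * Cm = Cm ^ ex4 j * phi ^ j.val := by decide +kernel
set_option maxRecDepth 100000 in
theorem tm_not_comm : tm * Cm * tm * Cm ≠ Cm * (tm * Cm * tm) := by decide +kernel
set_option maxRecDepth 100000 in
theorem Cm_pow_e0 : ∀ j : Fin 5, Cm ^ j.val *ᵥ e0 = Pi.single j 1 := by decide +kernel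
set_option maxRecDepth 100000 in
theorem Cm_pow_eleven : Cm ^ 11 = 1 := by decide +kernel

end Cfsg.Agent.Helper5.SU5
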