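import Mathlib
import Cfsg.Prelude.Def_Classical
import Cfsg.Prelude.Def_LieClassical
import Cfsg.Prelude.Def_GeometricClasses
import Cfsg.Agent.Helper5.SU5Data

/-!
# `SU₅(2)`: transport of the explicit data to an arbitrary field with four elements (helper5)

`sqHom` (the Frobenius `x ↦ x²` as a ring hom), the hermitian form in matrix terms (`herm_eq`), transport `tr ι X = X.map ι`
of model matrices along a ring hom `ι : F4 →+* F`, and conjugation by a frame matrix `P`.
-/

set_option autoImplicit false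
set_option linter.unusedSectionVars false
set_option linter.unusedVariables false
set_option linter.style.haveILetI false
set_option linter.unnecessarySeqFocus false

namespace Cfsg.Agent.Helper5.SU5

open Cfsg Cfsg.Geo Matrix Cfsg.Agent.Helper5.G24

variable {F : Type*} [Field F]

/-- the Frobenius `x ↦ x²` in characteristic two. -/
def sqHom (h2 : (2 : F) = 0) : F →+* F where
  toFun x := x ^ 2
  map_one' := one_pow 2
  map_mul' x y := mul_pow x y 2
  map_zero' := by simp
  map_add' x y := by linear_combination (x * y) * h2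

theorem sqHom_apply (h2 : (2 : F) = 0) (x : F) : sqHom h2 x = x ^ 2 := rfl

theorem herm_def (u v : Fin 5 → F) : hermForm 5 F 2 u v = u ⬝ᵥ (fun i => v i ^ 2) := rfl

/-- the hermitian form in matrix terms. -/
theorem herm_eq (h2 : (2 : F) = 0) (A B : Matrix (Fin 5) (Fin 5) F) (u v : Fin 5 → F) :
    hermForm 5 F 2 (A *ᵥ u) (B *ᵥ v) = u ⬝ᵥ ((Aᵀ * B.map (sqHom h2)) *ᵥ (sqHom h2 ∘ v)) := by
  have h1 : (fun i => (B *ᵥ v) i ^ 2) = B.map (sqHom h2) *ᵥ (sqHom h2 ∘ v) := by
    funext i
    exact (sqHom h2).map_mulVec B v i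
  rw [herm_def, h1, ← Matrix.mulVec_mulVec, Matrix.dotProduct_mulVec u, Matrix.vecMul_transpose]

theorem herm_eq' (h2 : (2 : F) = 0) (u v : Fin 5 → F) :
    hermForm 5 F 2 u v = u ⬝ᵥ (sqHom h2 ∘ v) := rfl

/-- a matrix with `Aᵀ A^(2) = 1` preserves the hermitian form. -/
theorem herm_of_gram (h2 : (2 : F) = 0) {A : Matrix (Fin 5) (Fin 5) F}
    (hA : Aᵀ * A.map (sqHom h2) = 1) (u v : Fin 5 → F) :
    hermForm 5 F 2 (A *ᵥ u) (A *ᵥ v) = hermForm 5 F 2 u v := by
  rw [herm_eq h2, hA, Matrix.one_mulVec, herm_eq' h2]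

section transport

variable (ι : F4 →+* F)

/-- transport of a model matrix. -/
def tr (X : Matrix (Fin 5) (Fin 5) F4) : Matrix (Fin 5) (Fin 5) F := X.map ι

theorem tr_apply (X : Matrix (Fin 5) (Fin 5) F4) (i j : Fin 5) : tr ι X i j = ι (X i j) := rfl

theorem tr_mul (X Y : Matrix (Fin 5) (Fin 5) F4) : tr ι (X * Y) = tr ι X * tr ι Y := Matrix.map_mul

theorem tr_one : tr ι 1 = 1 := Matrix.map_one ι (map_zero ι) (map_one ι)

theorem tr_zero : tr ι 0 = 0 := Matrix.map_zero ι (map_zero ι)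

theorem tr_pow (X : Matrix (Fin 5) (Fin 5) F4) (k : ℕ) : tr ι (X ^ k) = tr ι X ^ k := by
  induction k with
  | zero => rw [pow_zero, pow_zero, tr_one]
  | succ k ih => rw [pow_succ, pow_succ, tr_mul, ih]

theorem tr_transpose (X : Matrix (Fin 5) (Fin 5) F4) : tr ι Xᵀ = (tr ι X)ᵀ := by
  ext i j; rfl

theorem tr_sq (h2 : (2 : F) = 0) (X : Matrix (Fin 5) (Fin 5) F4) :
    tr ι (X.map (· ^ 2)) = (tr ι X).map (sqHom h2) := by
  ext i j
  simp only [tr, Matrix.map_apply, sqHom_apply, map_pow]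

theorem tr_mulVec (X : Matrix (Fin 5) (Fin 5) F4) (x : Fin 5 → F4) :
    tr ι X *ᵥ (ι ∘ x) = ι ∘ (X *ᵥ x) := by
  funext i
  exact (ι.map_mulVec X x i).symm

theorem tr_trace (X : Matrix (Fin 5) (Fin 5) F4) : (tr ι X).trace = ι X.trace := by
  unfold Matrix.trace
  rw [map_sum]
  rfl

theorem tr_injective : Function.Injective (tr ι) := Matrix.map_injective ι.injective

theorem iota_two (ι : F4 →+* F) : (2 : F) = 0 := by
  have h := congrArg ι F4_two
  rw [map_add, map_one, map_zero] at h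
  rw [← h]; norm_num

theorem iota_v : ι F4.v = ι F4.w + 1 := by rw [F4_v_eq, map_add, map_one]

theorem iota_w_mul : ι F4.w * ι F4.w = ι F4.w + 1 := by rw [← map_mul, F4_w_mul, map_add, map_one]

end transport

end Cfsg.Agent.Helper5.SU5
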