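import Mathlib
import Cfsg.Agent.Helper5.SU5MainA
import Cfsg.Agent.Helper7.FExA

/-!
# `SU₅(2)`: an element of order 11 of the field is a root of `m_a` or `m_b` (helper5)
-/

set_option autoImplicit false
set_option linter.unusedSectionVars false
set_option linter.unusedVariables false
set_option linter.style.haveILetI false
set_option linter.unnecessarySeqFocus false

namespace Cfsg.Agent.Helper5.SU5

open Cfsg Cfsg.Geo Matrix Cfsg.Agent.Helper5.G24 Polynomial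

variable {F : Type*} [Field F]

/-- `x¹¹ − 1 = (x − 1) m_a m_b` over a ring with `a² = a + 1` and `2 = 0`. -/
theorem factor_identity {R : Type*} [CommRing R] (a z : R) (ha : a * a = a + 1) (h2 : (2 : R) = 0) :
    (z - 1) * (z ^ 5 + (a + 1) * z ^ 4 + z ^ 3 + z ^ 2 + a * z + 1) *
      (z ^ 5 + a * z ^ 4 + z ^ 3 + z ^ 2 + (a + 1) * z + 1) = z ^ 11 - 1 := by
  linear_combination (-z ^ 2 + z ^ 3 - 2 * z ^ 5 + 2 * z ^ 6 - z ^ 8 + z ^ 9) * ha +
    (-z * a - z ^ 2 - z ^ 4 * a - 2 * z ^ 5 + 2 * z ^ 6 + z ^ 7 * a + z ^ 9 + z ^ 10 * a) * h2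

/-- evaluation of `m_a`. -/
def maF (ι : F4 →+* F) (A : Matrix (Fin 5) (Fin 5) F) : Matrix (Fin 5) (Fin 5) F :=
  A ^ 5 + (ι F4.w + 1) • A ^ 4 + A ^ 3 + A ^ 2 + ι F4.w • A + 1

/-- evaluation of `m_b`. -/
def mbF (ι : F4 →+* F) (A : Matrix (Fin 5) (Fin 5) F) : Matrix (Fin 5) (Fin 5) F :=
  A ^ 5 + ι F4.w • A ^ 4 + A ^ 3 + A ^ 2 + (ι F4.w + 1) • A + 1

theorem factor_matrix (ι : F4 →+* F) (A : Matrix (Fin 5) (Fin 5) F) :
    (A - 1) * maF ι A * mbF ι A = A ^ 11 - 1 := by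
  have h := factor_identity (C (ι F4.w) : F[X]) X
    (by rw [← C_mul, iota_w_mul, C_add, C_1])
    (by have h : (2 : F[X]) = C (2 : F) := (map_ofNat C 2).symm
        rw [h, iota_two ι, C_0])
  have h' := congrArg (aeval A) h
  simp only [map_mul, map_sub, map_add, map_pow, map_one, aeval_X, aeval_C] at h'
  unfold maF mbF
  simp only [Algebra.smul_def, map_add, map_one]
  exact h'

/-- a field subalgebra has no zero divisors. -/
theorem K_mul_eq_zero {K : Subalgebra F (Matrix (Fin 5) (Fin 5) F)} (hK : IsFieldSubalgebra 5 K)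
    {a b : Matrix (Fin 5) (Fin 5) F} (ha : a ∈ K) (hb : b ∈ K) (h : a * b = 0) : a = 0 ∨ b = 0 := by
  by_cases h0 : a = 0
  · exact Or.inl h0
  · right
    obtain ⟨y, hy, hay⟩ := hK.inv a ha h0
    have hya : y * a = 1 := by rw [hK.comm y hy a ha]; exact hay
    calc b = (y * a) * b := by rw [hya, Matrix.one_mul]
      _ = y * (a * b) := Matrix.mul_assoc _ _ _
      _ = 0 := by rw [h, Matrix.mul_zero]

theorem maF_mem (ι : F4 →+* F) {K : Subalgebra F (Matrix (Fin 5) (Fin 5) F)} {A : Matrix (Fin 5) (Fin 5) F}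
    (hA : A ∈ K) : maF ι A ∈ K := by
  unfold maF
  exact K.add_mem (K.add_mem (K.add_mem (K.add_mem (K.add_mem (K.pow_mem hA _) (K.smul_mem (K.pow_mem hA _) _))
    (K.pow_mem hA _)) (K.pow_mem hA _)) (K.smul_mem hA _)) K.one_mem

theorem mbF_mem (ι : F4 →+* F) {K : Subalgebra F (Matrix (Fin 5) (Fin 5) F)} {A : Matrix (Fin 5) (Fin 5) F}
    (hA : A ∈ K) : mbF ι A ∈ K := by
  unfold mbF
  exact K.add_mem (K.add_mem (K.add_mem (K.add_mem (K.add_mem (K.pow_mem hA _) (K.smul_mem (K.pow_mem hA _) _))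
    (K.pow_mem hA _)) (K.pow_mem hA _)) (K.smul_mem hA _)) K.one_mem

theorem maF_or_mbF (ι : F4 →+* F) {K : Subalgebra F (Matrix (Fin 5) (Fin 5) F)} (hK : IsFieldSubalgebra 5 K)
    {ζ : Matrix (Fin 5) (Fin 5) F} (hζK : ζ ∈ K) (h11 : ζ ^ 11 = 1) (h1 : ζ ≠ 1) :
    maF ι ζ = 0 ∨ mbF ι ζ = 0 := by
  have h := factor_matrix ι ζ
  rw [h11, sub_self] at h
  rcases K_mul_eq_zero hK (K.mul_mem (K.sub_mem hζK K.one_mem) (maF_mem ι hζK)) (mbF_mem ι hζK) h with h' | h'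
  · rcases K_mul_eq_zero hK (K.sub_mem hζK K.one_mem) (maF_mem ι hζK) h' with h'' | h''
    · exact absurd (sub_eq_zero.mp h'') h1
    · exact Or.inl h''
  · exact Or.inr h'

theorem pow_mod_eleven {ζ : Matrix (Fin 5) (Fin 5) F} (h11 : ζ ^ 11 = 1) (n : ℕ) : ζ ^ n = ζ ^ (n % 11) := by
  conv_lhs => rw [← Nat.div_add_mod n 11, pow_add, pow_mul, h11, one_pow, one_mul]

/-- if `ζ` is a root of `m_b` then `ζ⁻¹ = ζ^10` is a root of `m_a`. -/
theorem maF_pow_ten (ι : F4 →+* F) {ζ : Matrix (Fin 5) (Fin 5) F} (h11 : ζ ^ 11 = 1) (hb : mbF ι ζ = 0) :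
    maF ι (ζ ^ 10) = 0 := by
  have h : maF ι (ζ ^ 10) = ζ ^ 6 * mbF ι ζ := by
    unfold maF mbF
    simp only [← pow_mul, Matrix.mul_add, Matrix.mul_smul, ← pow_add, ← pow_succ, Matrix.mul_one]
    rw [pow_mod_eleven h11 (10 * 5), pow_mod_eleven h11 (10 * 4), pow_mod_eleven h11 (10 * 3),
      pow_mod_eleven h11 (10 * 2), pow_mod_eleven h11 (6 + 5)]
    norm_num
    abel
  rw [h, hb, Matrix.mul_zero]

end Cfsg.Agent.Helper5.SU5
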