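import Mathlib
import Cfsg.Agent.Helper5.SU5MainA

/-!
# `SU₅(2)`: frames, conjugated model matrices and the stabiliser of the orbit (helper5)
-/

set_option autoImplicit false
set_option linter.unusedSectionVars false
set_option linter.unusedVariables false
set_option linter.style.haveILetI false
set_option linter.unnecessarySeqFocus false

namespace Cfsg.Agent.Helper5.SU5

open Cfsg Cfsg.Geo Matrix Cfsg.Agent.Helper5.G24

variable {F : Type*} [Field F] [Fintype F]

/-- frame data: `ζ ∈ K` acts as the companion matrix `Cm` in the basis given by the columns of `P`, in which the hermitian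
form has Gram matrix `Gam`; the norm-one elements of `K` are the `c • ζ ^ i`. -/
structure Frame (ι : F4 →+* F) (K : Subalgebra F (Matrix (Fin 5) (Fin 5) F)) where
  ζ : Matrix (Fin 5) (Fin 5) F
  P : Matrix (Fin 5) (Fin 5) F
  Pinv : Matrix (Fin 5) (Fin 5) F
  hPP : P * Pinv = 1
  hPP' : Pinv * P = 1
  hζK : ζ ∈ K
  hζP : ζ * P = P * tr ι Cm
  hgram : Pᵀ * P.map (sqHom (iota_two ι)) = tr ι Gam
  hker : ∀ a ∈ K, (∀ u v, hermForm 5 F 2 (a *ᵥ u) (a *ᵥ v) = hermForm 5 F 2 u v) →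
    ∃ (c : F) (i : ℕ), a = c • ζ ^ i

section frame

variable {ι : F4 →+* F} {K : Subalgebra F (Matrix (Fin 5) (Fin 5) F)} (fr : Frame ι K)

/-- conjugated transport of a model matrix. -/
def cj (X : Matrix (Fin 5) (Fin 5) F4) : Matrix (Fin 5) (Fin 5) F := fr.P * tr ι X * fr.Pinv

theorem cj_mul (X Y : Matrix (Fin 5) (Fin 5) F4) : cj fr (X * Y) = cj fr X * cj fr Y := by
  unfold cj
  rw [tr_mul]
  have h := fr.hPP'
  calc fr.P * (tr ι X * tr ι Y) * fr.Pinv
      = fr.P * tr ι X * (1 : Matrix (Fin 5) (Fin 5) F) * tr ι Y * fr.Pinv := by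
        rw [Matrix.mul_one]; simp only [Matrix.mul_assoc]
    _ = fr.P * tr ι X * fr.Pinv * (fr.P * tr ι Y * fr.Pinv) := by
        rw [← h]; simp only [Matrix.mul_assoc]

theorem cj_one : cj fr 1 = 1 := by
  unfold cj
  rw [tr_one, Matrix.mul_one, fr.hPP]

theorem cj_pow (X : Matrix (Fin 5) (Fin 5) F4) (k : ℕ) : cj fr (X ^ k) = cj fr X ^ k := by
  induction k with
  | zero => rw [pow_zero, pow_zero, cj_one]
  | succ k ih => rw [pow_succ, pow_succ, cj_mul, ih]

theorem cj_Cm : cj fr Cm = fr.ζ := by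
  unfold cj
  rw [← fr.hζP, Matrix.mul_assoc, fr.hPP, Matrix.mul_one]

theorem cj_injective : Function.Injective (cj fr) := by
  intro X Y h
  apply tr_injective ι
  have h1 : fr.Pinv * (cj fr X) * fr.P = fr.Pinv * (cj fr Y) * fr.P := by rw [h]
  unfold cj at h1
  have e : ∀ A : Matrix (Fin 5) (Fin 5) F, fr.Pinv * (fr.P * A * fr.Pinv) * fr.P = A := by
    intro A
    calc fr.Pinv * (fr.P * A * fr.Pinv) * fr.P = (fr.Pinv * fr.P) * A * (fr.Pinv * fr.P) := by
          simp only [Matrix.mul_assoc]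
      _ = A := by rw [fr.hPP', Matrix.one_mul, Matrix.mul_one]
  rwa [e, e] at h1

theorem cj_mulVec (X : Matrix (Fin 5) (Fin 5) F4) (x : Fin 5 → F4) :
    cj fr X *ᵥ (fr.P *ᵥ (ι ∘ x)) = fr.P *ᵥ (ι ∘ (X *ᵥ x)) := by
  unfold cj
  rw [Matrix.mulVec_mulVec, Matrix.mul_assoc, Matrix.mul_assoc, fr.hPP', Matrix.mul_one,
    ← Matrix.mulVec_mulVec, tr_mulVec]

theorem cj_det (X : Matrix (Fin 5) (Fin 5) F4) : (cj fr X).det = (tr ι X).det := by
  unfold cj
  rw [Matrix.det_mul, Matrix.det_mul, mul_comm, ← mul_assoc, ← Matrix.det_mul, fr.hPP', Matrix.det_one,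
    one_mul]

/-- conjugated model matrices that are unitary for `Gam` preserve the standard hermitian form. -/
theorem cj_gram {X : Matrix (Fin 5) (Fin 5) F4} (hX : Xᵀ * Gam * X.map (· ^ 2) = Gam) :
    (cj fr X)ᵀ * (cj fr X).map (sqHom (iota_two ι)) = 1 := by
  have hXF : (tr ι X)ᵀ * tr ι Gam * (tr ι X).map (sqHom (iota_two ι)) = tr ι Gam := by
    rw [← tr_transpose, ← tr_sq, ← tr_mul, ← tr_mul, hX]
  unfold cj
  rw [Matrix.transpose_mul, Matrix.transpose_mul, Matrix.map_mul, Matrix.map_mul]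
  calc fr.Pinvᵀ * ((tr ι X)ᵀ * fr.Pᵀ) *
        (fr.P.map (sqHom (iota_two ι)) * (tr ι X).map (sqHom (iota_two ι)) * fr.Pinv.map (sqHom (iota_two ι)))
      = fr.Pinvᵀ * ((tr ι X)ᵀ * (fr.Pᵀ * fr.P.map (sqHom (iota_two ι))) * (tr ι X).map (sqHom (iota_two ι))) *
          fr.Pinv.map (sqHom (iota_two ι)) := by simp only [Matrix.mul_assoc]
    _ = fr.Pinvᵀ * (fr.Pᵀ * fr.P.map (sqHom (iota_two ι))) * fr.Pinv.map (sqHom (iota_two ι)) := by
        rw [fr.hgram, hXF]
    _ = (fr.P * fr.Pinv)ᵀ * (fr.P * fr.Pinv).map (sqHom (iota_two ι)) := by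
        rw [Matrix.transpose_mul, Matrix.map_mul]; simp only [Matrix.mul_assoc]
    _ = 1 := by
        rw [fr.hPP, Matrix.transpose_one, Matrix.one_mul, Matrix.map_one _ (map_zero _) (map_one _)]

/-- the unit of a conjugated model matrix. -/
def glc (X X' : Matrix (Fin 5) (Fin 5) F4) (h : X * X' = 1) (h' : X' * X = 1) :
    Matrix.GeneralLinearGroup (Fin 5) F :=
  ⟨cj fr X, cj fr X', by rw [← cj_mul, h, cj_one], by rw [← cj_mul, h', cj_one]⟩

theorem glc_val (X X' : Matrix (Fin 5) (Fin 5) F4) (h : X * X' = 1) (h' : X' * X = 1) :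
    ((glc fr X X' h h' : Matrix.GeneralLinearGroup (Fin 5) F) : Matrix (Fin 5) (Fin 5) F) = cj fr X := rfl

theorem glc_inv_val (X X' : Matrix (Fin 5) (Fin 5) F4) (h : X * X' = 1) (h' : X' * X = 1) :
    (((glc fr X X' h h')⁻¹ : Matrix.GeneralLinearGroup (Fin 5) F) : Matrix (Fin 5) (Fin 5) F) = cj fr X' := rfl

theorem mem_GU_iff (g : Matrix.GeneralLinearGroup (Fin 5) F) :
    g ∈ GU 5 F 2 ↔ ∀ u v, hermForm 5 F 2 ((g : Matrix (Fin 5) (Fin 5) F) *ᵥ u)
      ((g : Matrix (Fin 5) (Fin 5) F) *ᵥ v) = hermForm 5 F 2 u v := Iff.rfl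

theorem mem_SL_iff (g : Matrix.GeneralLinearGroup (Fin 5) F) :
    g ∈ specialLinear (Fin 5) F ↔ (g : Matrix (Fin 5) (Fin 5) F).det = 1 := by
  unfold specialLinear
  rw [MonoidHom.mem_ker]
  constructor
  · intro h
    have := congrArg Units.val h
    simpa using this
  · intro h
    apply Units.ext
    simpa using h

theorem glc_mem_GU {X X' : Matrix (Fin 5) (Fin 5) F4} (h : X * X' = 1) (h' : X' * X = 1)
    (hX : Xᵀ * Gam * X.map (· ^ 2) = Gam) : glc fr X X' h h' ∈ GU 5 F 2 := by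
  rw [mem_GU_iff]
  intro u v
  exact herm_of_gram (iota_two ι) (cj_gram fr hX) u v

end frame

end Cfsg.Agent.Helper5.SU5
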