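import Mathlib
import Cfsg.Agent.Helper5.SU5MainB

/-!
# `SU₅(2)`: the stabiliser of the orbit and the structure of the normaliser of the field (helper5)
-/

set_option autoImplicit false
set_option linter.unusedSectionVars false
set_option linter.unusedVariables false
set_option linter.style.haveILetI false
set_option linter.unnecessarySeqFocus false

namespace Cfsg.Agent.Helper5.SU5

open Cfsg Cfsg.Geo Matrix Cfsg.Agent.Helper5.G24

variable {F : Type*} [Field F] [Fintype F]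

theorem pow_three (hF : Fintype.card F = 4) {c : F} (hc : c ≠ 0) : c ^ 3 = 1 := by
  have := FiniteField.pow_card_sub_one_eq_one c hc
  rwa [hF] at this

theorem eq_one_of_pow {c : F} {k : ℕ} (h3 : c ^ 3 = 1) (hk : c ^ k = 1) (hck : Nat.Coprime k 3) : c = 1 := by
  have h1 := Nat.dvd_gcd (orderOf_dvd_of_pow_eq_one hk) (orderOf_dvd_of_pow_eq_one h3)
  rw [hck] at h1
  exact orderOf_eq_one_iff.mp (Nat.dvd_one.mp h1)

theorem det_tr_eq_one (hF : Fintype.card F = 4) (ι : F4 →+* F) {X : Matrix (Fin 5) (Fin 5) F4} {k : ℕ}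
    (hk : X ^ k = 1) (hck : Nat.Coprime k 3) (hk0 : k ≠ 0) : (tr ι X).det = 1 := by
  have h1 : (tr ι X).det ^ k = 1 := by rw [← Matrix.det_pow, ← tr_pow, hk, tr_one, Matrix.det_one]
  have h0 : (tr ι X).det ≠ 0 := by
    intro h
    rw [h, zero_pow hk0] at h1
    exact zero_ne_one h1
  exact eq_one_of_pow (pow_three hF h0) h1 hck

theorem comp_single (ι : F4 →+* F) (j : Fin 5) : ι ∘ (Pi.single j 1 : Fin 5 → F4) = Pi.single j 1 := by
  funext k
  by_cases h : k = j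
  · subst h; simp
  · simp [h]

theorem tr_Cm_pow_single (ι : F4 →+* F) (j : Fin 5) :
    (tr ι Cm) ^ j.val *ᵥ (Pi.single 0 1 : Fin 5 → F) = Pi.single j 1 := by
  rw [← comp_single ι 0, ← e0_eq, ← tr_pow, tr_mulVec, Cm_pow_e0 j, comp_single]

/-- a matrix commuting with the companion matrix is a polynomial in it. -/
theorem eq_sum_of_commute (ι : F4 →+* F) (Y : Matrix (Fin 5) (Fin 5) F)
    (hY : Y * tr ι Cm = tr ι Cm * Y) : Y = ∑ i : Fin 5, Y i 0 • (tr ι Cm) ^ i.val := by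
  have hc : ∀ j : ℕ, Y * (tr ι Cm) ^ j = (tr ι Cm) ^ j * Y := fun j =>
    ((show Commute Y (tr ι Cm) from hY).pow_right j).eq
  have hcol : ∀ (A B : Matrix (Fin 5) (Fin 5) F),
      (∀ j : Fin 5, A *ᵥ (Pi.single j 1) = B *ᵥ (Pi.single j 1)) → A = B := by
    intro A B h
    ext i j
    have := congrFun (h j) i
    simpa using this
  apply hcol
  intro j
  have hy : (fun i => Y i 0) = ∑ i : Fin 5, Y i 0 • (Pi.single i 1 : Fin 5 → F) := by
    funext k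
    simp [Finset.sum_apply, Pi.single_apply]
  rw [← tr_Cm_pow_single ι j, Matrix.mulVec_mulVec, hc, ← Matrix.mulVec_mulVec, Matrix.mulVec_mulVec _ _ ((tr ι Cm) ^ j.val),
    Finset.sum_mul]
  have h1 : Y *ᵥ (Pi.single 0 1 : Fin 5 → F) = fun i => Y i 0 := by
    funext i; simp
  rw [h1, Matrix.sum_mulVec]
  have h2 : ∀ i : Fin 5, (Y i 0 • (tr ι Cm) ^ i.val * (tr ι Cm) ^ j.val) *ᵥ (Pi.single 0 1 : Fin 5 → F)
      = (tr ι Cm) ^ j.val *ᵥ (Y i 0 • (Pi.single i 1 : Fin 5 → F)) := by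
    intro i
    rw [Matrix.smul_mul, ← pow_add, add_comm, pow_add, Matrix.smul_mulVec, ← Matrix.mulVec_mulVec,
      tr_Cm_pow_single, Matrix.mulVec_smul]
  rw [Finset.sum_congr rfl (fun i _ => h2 i), hy, Matrix.mulVec_sum]

section frame

variable {ι : F4 →+* F} {K : Subalgebra F (Matrix (Fin 5) (Fin 5) F)} (fr : Frame ι K)

theorem cj_trace (X : Matrix (Fin 5) (Fin 5) F4) : (cj fr X).trace = ι X.trace := by
  unfold cj
  rw [Matrix.trace_mul_comm, ← Matrix.mul_assoc, fr.hPP', Matrix.one_mul, tr_trace]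

/-- the orbit, in the frame. -/
def OV : Set (Fin 5 → F) := {x | ∃ l ∈ Olist, x = fr.P *ᵥ (ι ∘ mkv l)}

theorem cj_OV {X : Matrix (Fin 5) (Fin 5) F4} (hX : ∀ l ∈ Olist, inO (X *ᵥ mkv l)) {x : Fin 5 → F}
    (hx : x ∈ OV fr) : cj fr X *ᵥ x ∈ OV fr := by
  obtain ⟨l, hl, rfl⟩ := hx
  obtain ⟨l', hl', h⟩ := hX l hl
  exact ⟨l', hl', by rw [cj_mulVec, h]⟩

/-- the stabiliser of the orbit in `SU₅(2)`. -/
def Mgrp : Subgroup (Matrix.GeneralLinearGroup (Fin 5) F) where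
  carrier := {g | g ∈ GU 5 F 2 ⊓ specialLinear (Fin 5) F ∧
    ∀ x, x ∈ OV fr ↔ (g : Matrix (Fin 5) (Fin 5) F) *ᵥ x ∈ OV fr}
  mul_mem' := by
    rintro a b ⟨ha, ha'⟩ ⟨hb, hb'⟩
    refine ⟨mul_mem ha hb, fun x => ?_⟩
    rw [Units.val_mul, ← Matrix.mulVec_mulVec, ← ha', ← hb']
  one_mem' := ⟨one_mem _, fun x => by simp⟩
  inv_mem' := by
    rintro a ⟨ha, ha'⟩
    refine ⟨inv_mem ha, fun x => ?_⟩
    rw [ha' ((↑a⁻¹ : Matrix (Fin 5) (Fin 5) F) *ᵥ x), Matrix.mulVec_mulVec, Units.mul_inv, Matrix.one_mulVec]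

theorem Mgrp_le : Mgrp fr ≤ GU 5 F 2 ⊓ specialLinear (Fin 5) F := fun g hg => hg.1

theorem glc_mem_Mgrp (hF : Fintype.card F = 4) {X X' : Matrix (Fin 5) (Fin 5) F4} (h : X * X' = 1) (h' : X' * X = 1)
    (hX : Xᵀ * Gam * X.map (· ^ 2) = Gam) {k : ℕ} (hk : X ^ k = 1) (hck : Nat.Coprime k 3) (hk0 : k ≠ 0)
    (hO : ∀ l ∈ Olist, inO (X *ᵥ mkv l)) (hO' : ∀ l ∈ Olist, inO (X' *ᵥ mkv l)) :
    glc fr X X' h h' ∈ Mgrp fr := by
  refine ⟨Subgroup.mem_inf.mpr ⟨glc_mem_GU fr h h' hX, ?_⟩, fun x => ⟨fun hx => cj_OV fr hO hx, fun hx => ?_⟩⟩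
  · rw [mem_SL_iff, glc_val, cj_det]
    exact det_tr_eq_one hF ι hk hck hk0
  · have := cj_OV fr hO' hx
    rwa [glc_val, Matrix.mulVec_mulVec, ← cj_mul, h', cj_one, Matrix.one_mulVec] at this

/-- the image of `ζ` in `GL`. -/
def zg : Matrix.GeneralLinearGroup (Fin 5) F := glc fr Cm Cinv Cm_mul_Cinv Cinv_mul_Cm

/-- the Frobenius in `GL`. -/
def pg : Matrix.GeneralLinearGroup (Fin 5) F := glc fr phi phiinv phi_mul_phiinv phiinv_mul_phi

/-- the extra involution in `GL`. -/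
def tg : Matrix.GeneralLinearGroup (Fin 5) F := glc fr tm tm tm_mul_tm tm_mul_tm

/-- the transvection in `GL`. -/
def ug : Matrix.GeneralLinearGroup (Fin 5) F := glc fr um um um_mul_um um_mul_um

theorem zg_val : ((zg fr : Matrix.GeneralLinearGroup (Fin 5) F) : Matrix (Fin 5) (Fin 5) F) = fr.ζ := cj_Cm fr

theorem zg_mem (hF : Fintype.card F = 4) : zg fr ∈ Mgrp fr :=
  glc_mem_Mgrp fr hF _ _ Cm_unitary Cm_pow_eleven (by decide) (by decide) Cm_O Cinv_O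

theorem pg_mem (hF : Fintype.card F = 4) : pg fr ∈ Mgrp fr :=
  glc_mem_Mgrp fr hF _ _ phi_unitary phi_pow5 (by decide) (by decide) phi_O phiinv_O

theorem tg_mem (hF : Fintype.card F = 4) : tg fr ∈ Mgrp fr :=
  glc_mem_Mgrp fr hF _ _ tm_unitary tm_pow2 (by decide) (by decide) tm_O tm_O

theorem ug_mem_G (hF : Fintype.card F = 4) : ug fr ∈ GU 5 F 2 ⊓ specialLinear (Fin 5) F := by
  refine Subgroup.mem_inf.mpr ⟨glc_mem_GU fr _ _ um_unitary, ?_⟩
  rw [mem_SL_iff]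
  show (cj fr um).det = 1
  rw [cj_det]
  exact det_tr_eq_one hF ι um_pow2 (by decide) (by decide)

theorem P_injective {x y : Fin 5 → F} (h : fr.P *ᵥ x = fr.P *ᵥ y) : x = y := by
  have := congrArg (fun z => fr.Pinv *ᵥ z) h
  simpa [Matrix.mulVec_mulVec, fr.hPP'] using this

theorem ug_not_mem : ug fr ∉ Mgrp fr := by
  intro h
  have h0 : fr.P *ᵥ (ι ∘ e0) ∈ OV fr := by
    obtain ⟨l, hl, h⟩ := e0_O
    exact ⟨l, hl, by rw [h]⟩
  have h1 := (h.2 _).mp h0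
  rw [show ((ug fr : Matrix.GeneralLinearGroup (Fin 5) F) : Matrix (Fin 5) (Fin 5) F) = cj fr um from rfl,
    cj_mulVec] at h1
  obtain ⟨l, hl, h2⟩ := h1
  have h3 := P_injective fr h2
  have h4 : um *ᵥ e0 = mkv l := by
    funext i
    exact ι.injective (congrFun h3 i)
  exact um_e0_not_O ⟨l, hl, h4.symm⟩

theorem tg_not_normalizer (hK : IsFieldSubalgebra 5 K) : tg fr ∉ subalgebraNormalizer K := by
  intro h
  have h1 : cj fr tm * fr.ζ * cj fr tm ∈ K := (h fr.ζ).mp fr.hζK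
  have h2 := hK.comm _ h1 _ fr.hζK
  rw [← cj_Cm, ← cj_mul, ← cj_mul, ← cj_mul, ← cj_mul] at h2
  exact tm_not_comm (cj_injective fr h2)

end frame

end Cfsg.Agent.Helper5.SU5
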