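import Mathlib
import Cfsg.Agent.Helper5.SU5MainC

/-!
# `SU₅(2)`: the normaliser of the field is `{φ^j ζ^l}` and is not maximal (helper5)
-/

set_option autoImplicit false
set_option linter.unusedSectionVars false
set_option linter.unusedVariables false
set_option linter.style.haveILetI false
set_option linter.unnecessarySeqFocus false

namespace Cfsg.Agent.Helper5.SU5

open Cfsg Cfsg.Geo Matrix Cfsg.Agent.Helper5.G24

variable {F : Type*} [Field F] [Fintype F]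

section frame

variable {ι : F4 →+* F} {K : Subalgebra F (Matrix (Fin 5) (Fin 5) F)} (fr : Frame ι K)

theorem zeta_pow_eleven : fr.ζ ^ 11 = 1 := by
  rw [← cj_Cm, ← cj_pow, Cm_pow_eleven, cj_one]

theorem zeta_unitary (u v : Fin 5 → F) :
    hermForm 5 F 2 (fr.ζ *ᵥ u) (fr.ζ *ᵥ v) = hermForm 5 F 2 u v := by
  rw [← cj_Cm]
  exact herm_of_gram (iota_two ι) (cj_gram fr Cm_unitary) u v

theorem zeta_pow_mod (i : ℕ) : fr.ζ ^ i = fr.ζ ^ (i % 11) := by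
  conv_lhs => rw [← Nat.div_add_mod i 11, pow_add, pow_mul, zeta_pow_eleven, one_pow, one_mul]

theorem smul_one_inj {c : F} (h : c • (1 : Matrix (Fin 5) (Fin 5) F) = 1) : c = 1 := by
  have := congrFun (congrFun h 0) 0
  simpa using this

/-- the elements of the normaliser of `K` in `SU₅(2)` are the `φ^j ζ^l`. -/
theorem normalizer_le (hF : Fintype.card F = 4) (hK : IsFieldSubalgebra 5 K) :
    subalgebraNormalizer K ⊓ (GU 5 F 2 ⊓ specialLinear (Fin 5) F) ≤ Mgrp fr := by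
  intro g hg
  obtain ⟨hgN, hgG⟩ := Subgroup.mem_inf.mp hg
  obtain ⟨hgU, hgS⟩ := Subgroup.mem_inf.mp hgG
  have hgU' := (mem_GU_iff g).mp hgU
  have hgiU' := (mem_GU_iff g⁻¹).mp (inv_mem hgU)
  -- the conjugate of ζ
  have hkK : (g : Matrix (Fin 5) (Fin 5) F) * fr.ζ * ((g⁻¹ : Matrix.GeneralLinearGroup (Fin 5) F) : Matrix (Fin 5) (Fin 5) F) ∈ K :=
    (hgN fr.ζ).mp fr.hζK
  have hkU : ∀ u v, hermForm 5 F 2 (((g : Matrix (Fin 5) (Fin 5) F) * fr.ζ *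
      ((g⁻¹ : Matrix.GeneralLinearGroup (Fin 5) F) : Matrix (Fin 5) (Fin 5) F)) *ᵥ u)
      (((g : Matrix (Fin 5) (Fin 5) F) * fr.ζ *
      ((g⁻¹ : Matrix.GeneralLinearGroup (Fin 5) F) : Matrix (Fin 5) (Fin 5) F)) *ᵥ v) = hermForm 5 F 2 u v := by
    intro u v
    rw [← Matrix.mulVec_mulVec, ← Matrix.mulVec_mulVec, ← Matrix.mulVec_mulVec, ← Matrix.mulVec_mulVec,
      hgU', zeta_unitary, hgiU']
  obtain ⟨c, i, hci⟩ := fr.hker _ hkK hkU
  have hk11 : ((g : Matrix (Fin 5) (Fin 5) F) * fr.ζ *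
      ((g⁻¹ : Matrix.GeneralLinearGroup (Fin 5) F) : Matrix (Fin 5) (Fin 5) F)) ^ 11 = 1 := by
    rw [Units.conj_pow, zeta_pow_eleven, Matrix.mul_one, Units.mul_inv]
  have hc11 : c ^ 11 = 1 := by
    rw [hci, smul_pow, ← pow_mul, mul_comm, pow_mul, zeta_pow_eleven, one_pow] at hk11
    exact smul_one_inj hk11
  have hc0 : c ≠ 0 := by
    intro h
    rw [h, zero_pow (by norm_num)] at hc11
    exact zero_ne_one hc11
  have hc1 : c = 1 := eq_one_of_pow (pow_three hF hc0) hc11 (by decide)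
  rw [hc1, one_smul, zeta_pow_mod] at hci
  -- the exponent is a power of four
  have hlt : i % 11 < 11 := Nat.mod_lt _ (by norm_num)
  have htr : Matrix.trace (Cm ^ (i % 11)) = Matrix.trace Cm := by
    apply ι.injective
    rw [← cj_trace fr, ← cj_trace fr, cj_pow, cj_Cm, ← hci, Matrix.trace_units_conj]
  obtain ⟨j, hj⟩ : ∃ j : Fin 5, i % 11 = ex4 j := by
    rcases trace_Cm_pow_eq ⟨i % 11, hlt⟩ htr with h | h | h | h | h
    · exact ⟨0, h⟩
    · exact ⟨1, h⟩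
    · exact ⟨2, h⟩
    · exact ⟨3, h⟩
    · exact ⟨4, h⟩
  rw [hj] at hci
  -- g ζ = ζ^e g
  have hgz : (g : Matrix (Fin 5) (Fin 5) F) * fr.ζ = fr.ζ ^ ex4 j * (g : Matrix (Fin 5) (Fin 5) F) := by
    rw [← hci, Matrix.mul_assoc, Units.inv_mul, Matrix.mul_one]
  -- Φ = φ^j
  have hΦ : (((pg fr) ^ j.val : Matrix.GeneralLinearGroup (Fin 5) F) : Matrix (Fin 5) (Fin 5) F) = cj fr (phi ^ j.val) := by
    rw [Units.val_pow_eq_pow_val, cj_pow]; rfl
  have hΦz : (((pg fr) ^ j.val : Matrix.GeneralLinearGroup (Fin 5) F) : Matrix (Fin 5) (Fin 5) F) * fr.ζ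
      = fr.ζ ^ ex4 j * (((pg fr) ^ j.val : Matrix.GeneralLinearGroup (Fin 5) F) : Matrix (Fin 5) (Fin 5) F) := by
    rw [hΦ, ← cj_Cm, ← cj_pow, ← cj_mul, ← cj_mul, phi_pow_Cm j]
  have hΦiz : fr.ζ * ((((pg fr) ^ j.val)⁻¹ : Matrix.GeneralLinearGroup (Fin 5) F) : Matrix (Fin 5) (Fin 5) F)
      = ((((pg fr) ^ j.val)⁻¹ : Matrix.GeneralLinearGroup (Fin 5) F) : Matrix (Fin 5) (Fin 5) F) * fr.ζ ^ ex4 j := by
    have h1 : ((((pg fr) ^ j.val)⁻¹ : Matrix.GeneralLinearGroup (Fin 5) F) : Matrix (Fin 5) (Fin 5) F) *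
        ((((pg fr) ^ j.val : Matrix.GeneralLinearGroup (Fin 5) F) : Matrix (Fin 5) (Fin 5) F) * fr.ζ) *
        ((((pg fr) ^ j.val)⁻¹ : Matrix.GeneralLinearGroup (Fin 5) F) : Matrix (Fin 5) (Fin 5) F) =
        ((((pg fr) ^ j.val)⁻¹ : Matrix.GeneralLinearGroup (Fin 5) F) : Matrix (Fin 5) (Fin 5) F) *
        (fr.ζ ^ ex4 j * (((pg fr) ^ j.val : Matrix.GeneralLinearGroup (Fin 5) F) : Matrix (Fin 5) (Fin 5) F)) *
        ((((pg fr) ^ j.val)⁻¹ : Matrix.GeneralLinearGroup (Fin 5) F) : Matrix (Fin 5) (Fin 5) F) := by rw [hΦz]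
    rw [← Matrix.mul_assoc, Units.inv_mul, Matrix.one_mul, Matrix.mul_assoc, Matrix.mul_assoc, Units.mul_inv,
      Matrix.mul_one] at h1
    exact h1
  -- g' = Φ⁻¹ g commutes with ζ
  set g' : Matrix.GeneralLinearGroup (Fin 5) F := ((pg fr) ^ j.val)⁻¹ * g with hg'
  have hg'v : (g' : Matrix (Fin 5) (Fin 5) F) =
      ((((pg fr) ^ j.val)⁻¹ : Matrix.GeneralLinearGroup (Fin 5) F) : Matrix (Fin 5) (Fin 5) F) *
        (g : Matrix (Fin 5) (Fin 5) F) := Units.val_mul _ _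
  have hg'z : (g' : Matrix (Fin 5) (Fin 5) F) * fr.ζ = fr.ζ * (g' : Matrix (Fin 5) (Fin 5) F) := by
    rw [hg'v, Matrix.mul_assoc, hgz, ← Matrix.mul_assoc, ← hΦiz, Matrix.mul_assoc]
  have hpgG : pg fr ∈ GU 5 F 2 ⊓ specialLinear (Fin 5) F := Mgrp_le fr (pg_mem fr hF)
  have hg'G : g' ∈ GU 5 F 2 ⊓ specialLinear (Fin 5) F := mul_mem (inv_mem (pow_mem hpgG _)) hgG
  obtain ⟨hg'U, hg'S⟩ := Subgroup.mem_inf.mp hg'G
  -- coordinates
  set Y : Matrix (Fin 5) (Fin 5) F := fr.Pinv * (g' : Matrix (Fin 5) (Fin 5) F) * fr.P with hY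
  have hPz : fr.Pinv * fr.ζ = tr ι Cm * fr.Pinv := by
    calc fr.Pinv * fr.ζ = fr.Pinv * fr.ζ * (fr.P * fr.Pinv) := by rw [fr.hPP, Matrix.mul_one]
      _ = fr.Pinv * (fr.ζ * fr.P) * fr.Pinv := by simp only [Matrix.mul_assoc]
      _ = fr.Pinv * (fr.P * tr ι Cm) * fr.Pinv := by rw [fr.hζP]
      _ = (fr.Pinv * fr.P) * tr ι Cm * fr.Pinv := by simp only [Matrix.mul_assoc]
      _ = tr ι Cm * fr.Pinv := by rw [fr.hPP', Matrix.one_mul]
  have hYC : Y * tr ι Cm = tr ι Cm * Y := by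
    rw [hY, Matrix.mul_assoc, ← fr.hζP, ← Matrix.mul_assoc, Matrix.mul_assoc fr.Pinv, hg'z, ← Matrix.mul_assoc,
      hPz, Matrix.mul_assoc, Matrix.mul_assoc, Matrix.mul_assoc]
  have hYsum := eq_sum_of_commute ι Y hYC
  have hg'sum : (g' : Matrix (Fin 5) (Fin 5) F) = ∑ i : Fin 5, Y i 0 • fr.ζ ^ i.val := by
    have h1 : (g' : Matrix (Fin 5) (Fin 5) F) = fr.P * Y * fr.Pinv := by
      rw [hY, ← Matrix.mul_assoc, ← Matrix.mul_assoc, fr.hPP, Matrix.one_mul, Matrix.mul_assoc, fr.hPP, Matrix.mul_one]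
    have h1' : (g' : Matrix (Fin 5) (Fin 5) F) = fr.P * (∑ i : Fin 5, Y i 0 • tr ι Cm ^ i.val) * fr.Pinv := by
      rw [← hYsum]; exact h1
    rw [h1', Finset.mul_sum, Finset.sum_mul]
    refine Finset.sum_congr rfl (fun i _ => ?_)
    rw [Matrix.mul_smul, Matrix.smul_mul, ← tr_pow, ← cj_Cm, ← cj_pow]
    rfl
  have hg'K : (g' : Matrix (Fin 5) (Fin 5) F) ∈ K := by
    rw [hg'sum]
    exact K.sum_mem (fun i _ => K.smul_mem (K.pow_mem fr.hζK _) _)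
  obtain ⟨c', l, hcl⟩ := fr.hker _ hg'K ((mem_GU_iff g').mp hg'U)
  have hdetz : fr.ζ.det = 1 := by
    rw [← cj_Cm, cj_det]
    exact det_tr_eq_one hF ι Cm_pow_eleven (by decide) (by decide)
  have hc'5 : c' ^ 5 = 1 := by
    have h1 := (mem_SL_iff g').mp hg'S
    rw [hcl, Matrix.det_smul, Matrix.det_pow, hdetz, one_pow, mul_one] at h1
    simpa using h1
  have hc'0 : c' ≠ 0 := by
    intro h
    rw [h, zero_pow (by norm_num)] at hc'5
    exact zero_ne_one hc'5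
  have hc'1 : c' = 1 := eq_one_of_pow (pow_three hF hc'0) hc'5 (by decide)
  rw [hc'1, one_smul] at hcl
  have hg'eq : g' = (zg fr) ^ l := by
    apply Units.ext
    rw [hcl, Units.val_pow_eq_pow_val, zg_val]
  have hgeq : g = (pg fr) ^ j.val * (zg fr) ^ l := by
    rw [← hg'eq, hg', mul_inv_cancel_left]
  rw [hgeq]
  exact mul_mem (pow_mem (pg_mem fr hF) _) (pow_mem (zg_mem fr hF) _)

/-- the normaliser of the field is not maximal. -/
theorem not_maximal_of_frame (fr : Frame ι K) (hF : Fintype.card F = 4) (hK : IsFieldSubalgebra 5 K) :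
    ¬ IsMaximalIn (GU 5 F 2 ⊓ specialLinear (Fin 5) F)
      (subalgebraNormalizer K ⊓ (GU 5 F 2 ⊓ specialLinear (Fin 5) F)) := by
  intro hmax
  rcases hmax.2 (Mgrp fr) (normalizer_le fr hF hK) (Mgrp_le fr) with h | h
  · have h1 : tg fr ∈ subalgebraNormalizer K ⊓ (GU 5 F 2 ⊓ specialLinear (Fin 5) F) := by
      rw [← h]; exact tg_mem fr hF
    exact tg_not_normalizer fr hK (Subgroup.mem_inf.mp h1).1
  · have h1 : ug fr ∈ Mgrp fr := by
      rw [h]; exact ug_mem_G fr hF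
    exact ug_not_mem fr h1

end frame

end Cfsg.Agent.Helper5.SU5
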