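import Mathlib
import Cfsg.Agent.Helper5.SU5FrameA
import Cfsg.Agent.Helper5.SU5MainD

/-!
# `SU₅(2)`: construction of the frame from an element of order 11 and a trace-normalised vector (helper5)
-/

set_option autoImplicit false
set_option linter.unusedSectionVars false
set_option linter.unusedVariables false
set_option linter.style.haveILetI false
set_option linter.unnecessarySeqFocus false

namespace Cfsg.Agent.Helper5.SU5

open Cfsg Cfsg.Geo Matrix Cfsg.Agent.Helper5.G24 Polynomial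

variable {F : Type*} [Field F] [Fintype F]

/-- the frame matrix: its columns are `ζ^j x₀`. -/
def Pm (ζ : Matrix (Fin 5) (Fin 5) F) (x₀ : Fin 5 → F) : Matrix (Fin 5) (Fin 5) F :=
  Matrix.of fun i j => (ζ ^ j.val *ᵥ x₀) i

theorem Pm_mulVec (ζ : Matrix (Fin 5) (Fin 5) F) (x₀ : Fin 5 → F) (c : Fin 5 → F) :
    Pm ζ x₀ *ᵥ c = (∑ j : Fin 5, c j • ζ ^ j.val) *ᵥ x₀ := by
  funext i
  rw [Matrix.sum_mulVec]
  simp only [Matrix.mulVec, dotProduct, Pm, Matrix.of_apply, Finset.sum_apply]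
  refine Finset.sum_congr rfl (fun j _ => ?_)
  have : ((c j • ζ ^ j.val) *ᵥ x₀) i = c j * (ζ ^ j.val *ᵥ x₀) i := by
    rw [Matrix.smul_mulVec]; rfl
  simp only [Matrix.mulVec, dotProduct] at this
  rw [this, mul_comm]

/-- a polynomial of degree less than five vanishing at a non-scalar element of `K` is zero. -/
theorem coeff_eq_zero {K : Subalgebra F (Matrix (Fin 5) (Fin 5) F)} (hK : IsFieldSubalgebra 5 K)
    {ζ : Matrix (Fin 5) (Fin 5) F} (hζK : ζ ∈ K) (hns : ∀ a : F, ζ ≠ a • (1 : Matrix (Fin 5) (Fin 5) F))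
    (c : Fin 5 → F) (hc : ∑ j : Fin 5, c j • ζ ^ j.val = 0) : c = 0 := by
  obtain ⟨g, hg, hdeg, hgz⟩ := Cfsg.Agent.Helper7.FEx.exists_irred (by norm_num : Nat.Prime 5) K hK hζK hns
  set q : F[X] := ∑ j : Fin 5, monomial j.val (c j) with hq
  have hqz : aeval ζ q = 0 := by
    rw [hq, map_sum, ← hc]
    refine Finset.sum_congr rfl (fun j _ => ?_)
    rw [aeval_monomial, Algebra.smul_def]
  have hdegq : q.degree < 5 := by
    have : q ∈ degreeLT F 5 := Submodule.sum_mem _ (fun j _ => mem_degreeLT.mpr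
      (lt_of_le_of_lt (degree_monomial_le _ _) (by exact_mod_cast j.isLt)))
    exact mem_degreeLT.mp this
  have hq0 : q = 0 := by
    by_contra hne
    by_cases hdvd : g ∣ q
    swap
    · obtain ⟨a, b, hab⟩ := hg.coprime_iff_not_dvd.mpr hdvd
      have h1 := congrArg (aeval ζ) hab
      rw [map_add, map_mul, map_mul, hgz, hqz, mul_zero, mul_zero, add_zero, map_one] at h1
      exact zero_ne_one h1
    · have h1 := degree_le_of_dvd hdvd hne
      rw [degree_eq_natDegree hg.ne_zero, hdeg] at h1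
      exact absurd (lt_of_le_of_lt h1 hdegq) (lt_irrefl _)
  funext j
  have h1 : q.coeff j.val = c j := by
    rw [hq, finsetSum_coeff]
    simp only [coeff_monomial]
    rw [Finset.sum_eq_single j]
    · simp
    · intro b _ hb
      rw [if_neg]
      exact fun h => hb (Fin.ext h)
    · intro h; exact absurd (Finset.mem_univ j) h
  rw [← h1, hq0, coeff_zero]; rfl

theorem not_scalar (hF : Fintype.card F = 4) {ζ : Matrix (Fin 5) (Fin 5) F} (h11 : ζ ^ 11 = 1) (h1 : ζ ≠ 1) :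
    ∀ a : F, ζ ≠ a • (1 : Matrix (Fin 5) (Fin 5) F) := by
  intro a ha
  have h2 : a ^ 11 • (1 : Matrix (Fin 5) (Fin 5) F) = 1 := by
    have h2' : (a • (1 : Matrix (Fin 5) (Fin 5) F)) ^ 11 = 1 := by rw [← ha]; exact h11
    rwa [_root_.smul_pow, one_pow] at h2'
  have h3 : a ^ 11 = 1 := by
    have := congrFun (congrFun h2 0) 0
    simpa using this
  have h0 : a ≠ 0 := by
    intro h
    rw [h, zero_pow (by norm_num)] at h3
    exact zero_ne_one h3
  have := eq_one_of_pow (pow_three hF h0) h3 (by decide)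
  rw [this, one_smul] at ha
  exact h1 ha

section build

variable (ι : F4 →+* F) {K : Subalgebra F (Matrix (Fin 5) (Fin 5) F)}
  {ζ : Matrix (Fin 5) (Fin 5) F} {x₀ : Fin 5 → F}

theorem char_two_neg (ι : F4 →+* F) (A : Matrix (Fin 5) (Fin 5) F) : -A = A := by
  have h : A + A = 0 := by
    rw [← two_smul F A, iota_two ι, zero_smul]
  exact neg_eq_of_add_eq_zero_left h

theorem five_eq_one (ι : F4 →+* F) : (5 : F) = 1 := by
  have := iota_two ι
  linear_combination 2 * this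

theorem x0_ne_zero (ι : F4 →+* F) (hx : ∀ k ∈ K, hermForm 5 F 2 (k *ᵥ x₀) x₀ = Matrix.trace k) : x₀ ≠ 0 := by
  intro h
  have h1 := hx 1 K.one_mem
  rw [Matrix.one_mulVec, h, Matrix.trace_one, Fintype.card_fin] at h1
  have h2 : hermForm 5 F 2 (0 : Fin 5 → F) 0 = 0 := by
    unfold hermForm; simp
  rw [h2] at h1
  have h3 : ((5 : ℕ) : F) = 1 := by exact_mod_cast five_eq_one ι
  rw [h3] at h1
  exact zero_ne_one h1

theorem Pm_injective (hF : Fintype.card F = 4) (hK : IsFieldSubalgebra 5 K) (hζK : ζ ∈ K) (h11 : ζ ^ 11 = 1)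
    (h1 : ζ ≠ 1) (hx0 : x₀ ≠ 0) (c : Fin 5 → F) (hc : Pm ζ x₀ *ᵥ c = 0) : c = 0 := by
  rw [Pm_mulVec] at hc
  apply coeff_eq_zero hK hζK (not_scalar hF h11 h1)
  by_contra hne
  exact hx0 (Cfsg.Agent.Helper7.FEx.mulVec_eq_zero hK
    (K.sum_mem (fun j _ => K.smul_mem (K.pow_mem hζK _) _)) hne hc)

theorem Pm_isUnit (hF : Fintype.card F = 4) (hK : IsFieldSubalgebra 5 K) (hζK : ζ ∈ K) (h11 : ζ ^ 11 = 1)
    (h1 : ζ ≠ 1) (hx0 : x₀ ≠ 0) : IsUnit (Pm ζ x₀) := by
  rw [← Matrix.mulVec_injective_iff_isUnit]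
  intro c d hcd
  have h : Pm ζ x₀ *ᵥ (c - d) = 0 := by rw [Matrix.mulVec_sub, hcd, sub_self]
  exact sub_eq_zero.mp (Pm_injective hF hK hζK h11 h1 hx0 _ h)

theorem zeta_five (hma : maF ι ζ = 0) :
    ζ ^ 5 = (ι F4.w + 1) • ζ ^ 4 + ζ ^ 3 + ζ ^ 2 + ι F4.w • ζ + 1 := by
  unfold maF at hma
  have h : ζ ^ 5 = -((ι F4.w + 1) • ζ ^ 4 + ζ ^ 3 + ζ ^ 2 + ι F4.w • ζ + 1) := by
    rw [eq_neg_iff_add_eq_zero, ← hma]
    abel
  rw [h, char_two_neg ι]

theorem zeta_mul_Pm (hma : maF ι ζ = 0) : ζ * Pm ζ x₀ = Pm ζ x₀ * tr ι Cm := by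
  ext i j
  have hl : (ζ * Pm ζ x₀) i j = (ζ ^ (j.val + 1) *ᵥ x₀) i := by
    rw [pow_succ', ← Matrix.mulVec_mulVec]
    rfl
  rw [hl]
  have hr : (Pm ζ x₀ * tr ι Cm) i j = ∑ k : Fin 5, (ζ ^ k.val *ᵥ x₀) i * ι (Cm k j) := rfl
  rw [hr]
  induction j using Fin.lastCases with
  | last =>
    have h4 : ∀ k : Fin 5, ι (Cm k (Fin.last 4)) = ι (![1, F4.w, 1, 1, F4.v] k) := fun k => by
      rw [show (Fin.last 4 : Fin 5) = 4 from rfl, Cm_last k]
    rw [Finset.sum_congr rfl (fun k _ => by rw [h4 k])]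
    rw [show ((Fin.last 4 : Fin 5).val + 1) = 5 from rfl, zeta_five ι hma, Fin.sum_univ_five]
    simp only [Matrix.add_mulVec, Matrix.smul_mulVec, Matrix.one_mulVec, Pi.add_apply, Pi.smul_apply, smul_eq_mul]
    simp [iota_v]
    ring
  | cast j' =>
    have hc : ∀ k : Fin 5, ι (Cm k j'.castSucc) = if k = j'.succ then 1 else 0 := fun k => by
      rw [Cm_col (k, j')]
      split_ifs <;> simp
    rw [Finset.sum_congr rfl (fun k _ => by rw [hc k])]
    simp only [mul_ite, mul_one, mul_zero]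
    rw [Finset.sum_ite_eq' Finset.univ j'.succ]
    simp

end build

end Cfsg.Agent.Helper5.SU5
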