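import Mathlib
import Cfsg.Agent.Helper5.SU5FrameB

/-!
# `SU₅(2)`: the Gram matrix of the frame, the frame, and the slot `su5_field_two` modulo the Singer frame (helper5)
-/

set_option autoImplicit false
set_option linter.unusedSectionVars false
set_option linter.unusedVariables false
set_option linter.style.haveILetI false
set_option linter.unnecessarySeqFocus false

namespace Cfsg.Agent.Helper5.SU5

open Cfsg Cfsg.Geo Matrix Cfsg.Agent.Helper5.G24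

variable {F : Type*} [Field F] [Fintype F]

theorem pow_unitary {ζ : Matrix (Fin 5) (Fin 5) F}
    (hU : ∀ u v, hermForm 5 F 2 (ζ *ᵥ u) (ζ *ᵥ v) = hermForm 5 F 2 u v) (m : ℕ) (u v : Fin 5 → F) :
    hermForm 5 F 2 (ζ ^ m *ᵥ u) (ζ ^ m *ᵥ v) = hermForm 5 F 2 u v := by
  induction m with
  | zero => rw [pow_zero, Matrix.one_mulVec, Matrix.one_mulVec]
  | succ m ih => rw [pow_succ', ← Matrix.mulVec_mulVec, ← Matrix.mulVec_mulVec, hU, ih]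

theorem pow_mul_P (ι : F4 →+* F) {ζ P : Matrix (Fin 5) (Fin 5) F} (h : ζ * P = P * tr ι Cm) (m : ℕ) :
    ζ ^ m * P = P * tr ι Cm ^ m := by
  induction m with
  | zero => rw [pow_zero, pow_zero, Matrix.one_mul, Matrix.mul_one]
  | succ m ih => rw [pow_succ, Matrix.mul_assoc, h, ← Matrix.mul_assoc, ih, Matrix.mul_assoc, ← pow_succ]

theorem trace_pow (ι : F4 →+* F) {ζ P Pinv : Matrix (Fin 5) (Fin 5) F} (h : ζ * P = P * tr ι Cm)
    (hPP : P * Pinv = 1) (hPP' : Pinv * P = 1) (m : ℕ) : (ζ ^ m).trace = ι (Cm ^ m).trace := by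
  have h1 : ζ ^ m = P * tr ι Cm ^ m * Pinv := by
    rw [← pow_mul_P ι h, Matrix.mul_assoc, hPP, Matrix.mul_one]
  rw [h1, Matrix.trace_mul_comm, ← Matrix.mul_assoc, hPP', Matrix.one_mul, ← tr_pow, tr_trace]

/-- the frame of an element of order 11 and a trace-normalised vector. -/
theorem exists_frame (hF : Fintype.card F = 4) (ι : F4 →+* F) {K : Subalgebra F (Matrix (Fin 5) (Fin 5) F)}
    (hK : IsFieldSubalgebra 5 K) {ζ : Matrix (Fin 5) (Fin 5) F} {x₀ : Fin 5 → F}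
    (hζK : ζ ∈ K) (h11 : ζ ^ 11 = 1) (h1 : ζ ≠ 1)
    (hU : ∀ u v, hermForm 5 F 2 (ζ *ᵥ u) (ζ *ᵥ v) = hermForm 5 F 2 u v)
    (hx : ∀ k ∈ K, hermForm 5 F 2 (k *ᵥ x₀) x₀ = Matrix.trace k)
    (hker : ∀ a ∈ K, (∀ u v, hermForm 5 F 2 (a *ᵥ u) (a *ᵥ v) = hermForm 5 F 2 u v) →
      ∃ (c : F) (i : ℕ), a = c • ζ ^ i)
    (hma : maF ι ζ = 0) : Nonempty (Frame ι K) := by
  have hu := Pm_isUnit hF hK hζK h11 h1 (x0_ne_zero ι hx)
  have hdet : IsUnit (Pm ζ x₀).det := (Matrix.isUnit_iff_isUnit_det _).mp hu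
  have hPP : Pm ζ x₀ * (Pm ζ x₀)⁻¹ = 1 := Matrix.mul_nonsing_inv _ hdet
  have hPP' : (Pm ζ x₀)⁻¹ * Pm ζ x₀ = 1 := Matrix.nonsing_inv_mul _ hdet
  have hζP := zeta_mul_Pm ι (x₀ := x₀) hma
  refine ⟨⟨ζ, Pm ζ x₀, (Pm ζ x₀)⁻¹, hPP, hPP', hζK, hζP, ?_, hker⟩⟩
  ext i j
  have hl : ((Pm ζ x₀)ᵀ * (Pm ζ x₀).map (sqHom (iota_two ι))) i j =
      hermForm 5 F 2 (ζ ^ i.val *ᵥ x₀) (ζ ^ j.val *ᵥ x₀) := rfl
  rw [hl, tr_apply, trace_Cm_pow (i, j)]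
  show _ = ι (Cm ^ (i.val + 11 - j.val)).trace
  have he : 11 - j.val + i.val = i.val + 11 - j.val := by omega
  have hj : j.val ≤ 11 := by have := j.isLt; omega
  have h2 := pow_unitary hU (11 - j.val) (ζ ^ i.val *ᵥ x₀) (ζ ^ j.val *ᵥ x₀)
  rw [Matrix.mulVec_mulVec, Matrix.mulVec_mulVec, ← pow_add, ← pow_add, Nat.sub_add_cancel hj, h11,
    Matrix.one_mulVec] at h2
  rw [← h2, hx _ (K.pow_mem hζK _), trace_pow ι hζP hPP hPP', he]

/-- the slot, from the Singer frame. -/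
theorem su5_field_two_of_singer (hF : Fintype.card F = 4) (K : Subalgebra F (Matrix (Fin 5) (Fin 5) F))
    (hK : IsFieldSubalgebra 5 K)
    (hex : ∃ (ζ : Matrix (Fin 5) (Fin 5) F) (x₀ : Fin 5 → F), ζ ∈ K ∧ ζ ^ 11 = 1 ∧ ζ ≠ 1 ∧
      (∀ u v, hermForm 5 F 2 (ζ *ᵥ u) (ζ *ᵥ v) = hermForm 5 F 2 u v) ∧
      (∀ k ∈ K, hermForm 5 F 2 (k *ᵥ x₀) x₀ = Matrix.trace k) ∧
      (∀ a ∈ K, (∀ u v, hermForm 5 F 2 (a *ᵥ u) (a *ᵥ v) = hermForm 5 F 2 u v) →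
        ∃ (c : F) (i : ℕ), a = c • ζ ^ i)) :
    ¬ IsMaximalIn (GU 5 F 2 ⊓ specialLinear (Fin 5) F)
      (subalgebraNormalizer K ⊓ (GU 5 F 2 ⊓ specialLinear (Fin 5) F)) := by
  obtain ⟨ζ, x₀, hζK, h11, h1, hU, hx, hker⟩ := hex
  let ι : F4 →+* F := (FiniteField.ringEquivOfCardEq (by rw [F4.card_eq, hF]) : F4 ≃+* F).toRingHom
  rcases maF_or_mbF ι hK hζK h11 h1 with hma | hmb
  · obtain ⟨fr⟩ := exists_frame hF ι hK hζK h11 h1 hU hx hker hma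
    exact not_maximal_of_frame fr hF hK
  · have h11' : (ζ ^ 10) ^ 11 = 1 := by rw [← pow_mul, mul_comm, pow_mul, h11, one_pow]
    have hback : (ζ ^ 10) ^ 10 = ζ := by
      rw [← pow_mul, pow_mod_eleven h11]; norm_num
    have h1' : ζ ^ 10 ≠ 1 := by
      intro h
      rw [h, one_pow] at hback
      exact h1 hback.symm
    have hker' : ∀ a ∈ K, (∀ u v, hermForm 5 F 2 (a *ᵥ u) (a *ᵥ v) = hermForm 5 F 2 u v) →
        ∃ (c : F) (i : ℕ), a = c • (ζ ^ 10) ^ i := by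
      intro a ha hau
      obtain ⟨c, i, hci⟩ := hker a ha hau
      refine ⟨c, 10 * i, ?_⟩
      rw [pow_mul, hback]; exact hci
    obtain ⟨fr⟩ := exists_frame hF ι hK (K.pow_mem hζK 10) h11' h1' (pow_unitary hU 10) hx hker'
      (maF_pow_ten ι h11 hmb)
    exact not_maximal_of_frame fr hF hK

end Cfsg.Agent.Helper5.SU5
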