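import Mathlib
import Cfsg.Agent.Helper5.HupMain
import Cfsg.Agent.Helper5.HupFinal

set_option autoImplicit false
set_option linter.unusedVariables false
set_option linter.style.haveILetI false
set_option linter.unusedSectionVars false

/-!
Helper5: S4025, piece H (part 1): the main case of Huppert's theorem, exporting the divisibility
in the exceptional branch (a copy of `HupMain.case_main` with a stronger conclusion).
-/

open scoped commutatorElement

namespace Cfsg.Agent.Helper5.Hup

open Cfsg.Agent.Helper2.Hup Cfsg.Agent.Helper6.Hup Cfsg.Agent.Helper9.Hup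

universe u w

variable {q : ℕ} [hq : Fact q.Prime] {V : Type u} [AddCommGroup V] [Module (ZMod q) V] [Finite V]
variable {G : Type w} [Group G] [Finite G]

theorem sa_case_main (ι : G →* Module.End (ZMod q) V) (hι : Function.Injective ι) (htr : Trans ι)
    (hsol : Group.IsSolvable G) {n : ℕ} (hn : 3 ≤ n) (h26 : ¬ (q = 2 ∧ n = 6))
    (hV : Nat.card V = q ^ n) :
    (∃ A : Subgroup G, A.Normal ∧ (∀ a ∈ A, ∀ b ∈ A, a * b = b * a) ∧ IrrOn ι A) ∨
      (Nat.card V ∈ ({9, 25, 49, 121, 529, 81} : Set ℕ) ∧ ∃ m : ℕ, n = 2 ^ m ∧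
        Nat.card G ∣ (q - 1) * n ^ 2 * Nat.card (GL (Fin (2 * m)) (ZMod 2))) := by
  classical
  have hn0 : 0 < n := by omega
  have hq1 : 1 < q := hq.out.one_lt
  obtain ⟨r, hr, hrn, hppd⟩ := Cfsg.Agent.S2904.result q n hq1 (by omega) h26 (by omega)
  have hcard := card_dvd_of_trans ι htr hn0 hV
  haveI : Fact r.Prime := ⟨hr⟩
  have hrG : r ∣ Nat.card G := hrn.trans hcard
  obtain ⟨x, hx⟩ := exists_prime_orderOf_dvd_card' r hrG
  set f := ι x with hfdef
  have hf : f ^ r = 1 := by rw [hfdef, ← map_pow, ← hx, pow_orderOf_eq_one, map_one]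
  have hf1 : f ≠ 1 := by
    intro h
    have h1 : x = 1 := hι (h.trans (map_one ι).symm)
    rw [h1, orderOf_one] at hx
    exact hr.one_lt.ne hx
  have hfix := no_fixed_of_ppd hV hr hrn hppd f hf hf1
  have hirr : ∀ W : Submodule (ZMod q) V, (∀ v ∈ W, f v ∈ W) → W = ⊥ ∨ W = ⊤ :=
    fun W hW => irr_of_ppd hV hr hrn hppd f hf hf1 W hW
  have hsum := sum_pow_eq_zero f r hf hfix
  have hrle := le_of_ppd hn0 hr hrn hppd
  by_cases hOr : ∃ N : Subgroup G, N.Normal ∧ IsPGroup r N ∧ N ≠ ⊥
  · left
    obtain ⟨N, hNn, hNp, hN1⟩ := hOr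
    haveI := hNn
    refine ⟨zc N, inferInstance, fun a ha b hb => zc_comm ha hb, ?_⟩
    -- the centre of `N` is nontrivial
    haveI : Nontrivial N := (Subgroup.nontrivial_iff_ne_bot N).2 hN1
    haveI : Nontrivial (Subgroup.center N) := hNp.center_nontrivial
    have hrc : r ∣ Nat.card (Subgroup.center N) := by
      obtain ⟨k, hk⟩ := IsPGroup.iff_card.1 (hNp.to_subgroup (Subgroup.center N))
      have hk0 : k ≠ 0 := by
        rintro rfl
        rw [pow_zero] at hk
        have := Finite.one_lt_card (α := Subgroup.center N)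
        omega
      rw [hk]
      exact dvd_pow_self r hk0
    obtain ⟨y, hy⟩ := exists_prime_orderOf_dvd_card' r hrc
    have hyz : ((y : N) : G) ∈ zc N := by
      have : (y : N) ∈ (zc N).subgroupOf N := by rw [subgroupOf_zc]; exact y.2
      exact this
    have hyo : orderOf ((y : N) : G) = r := by
      rw [← hy, Subgroup.orderOf_coe, Subgroup.orderOf_coe]
    intro W hW
    apply irr_of_ppd hV hr hrn hppd (ι ((y : N) : G)) _ _ W (fun v hv => hW _ hyz v hv)
    · rw [← map_pow, ← hyo, pow_orderOf_eq_one, map_one]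
    · intro h
      have h1 : ((y : N) : G) = 1 := hι (h.trans (map_one ι).symm)
      rw [h1, orderOf_one] at hyo
      exact hr.one_lt.ne hyo
  · right
    push Not at hOr
    have hC := comm_of_abelian_normalized ι hι hr x hx hsum
    have hqn : ¬ q ∣ q ^ n - 1 := by
      intro h
      have h1 : q ∣ q ^ n := dvd_pow_self q hn0.ne'
      have h2 : 1 ≤ q ^ n := Nat.one_le_pow _ _ (by omega)
      have h3 : q ∣ q ^ n - (q ^ n - 1) := Nat.dvd_sub h1 h
      have h4 : q ^ n - (q ^ n - 1) = 1 := by omega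
      rw [h4] at h3
      exact hq.out.one_lt.ne' (Nat.dvd_one.1 h3)
    have hOq : ∀ N : Subgroup G, N.Normal → IsPGroup q N → N = ⊥ := by
      intro N hN hNq
      haveI := hN
      exact eq_bot_of_isPGroup ι hι htr hV N hNq hqn
    obtain ⟨s, D, hs, hsq, hsr, hDn, hDp, hcl, hexp, hZx, hne⟩ :=
      exists_D hsol hr hq.out x hx (fun N h1 h2 => hOr N h1 h2) hOq hC
    haveI := hDn
    obtain ⟨D₁, hD₁D, hD₁x, hcl₁, hexp₁, hZx₁, hfpf, hne₁⟩ :=
      exists_D₁ hr hs hq.out hsq hsr x hx hC D (fun d hd => hDn.conj_mem d hd x) hDp hcl hexp hZx hne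
    haveI : Fact s.Prime := ⟨hs⟩
    -- the centre of `D₁` is cyclic
    have hcyc : IsCyclic (zc D₁) := by
      apply isCyclic_of_commutes ι hι f hirr (zc D₁)
      intro z hz
      rw [hfdef, ← map_mul, ← map_mul, hZx₁ z hz]
    have hD₁p : IsPGroup s D₁ := hDp.to_le hD₁D
    -- the square lemma
    obtain ⟨k, hk⟩ : ∃ k : ℕ, (zc D₁).relIndex D₁ = s ^ (2 * k) := by
      rw [relIndex_zc]
      apply card_quot_center_sq hD₁p
      · intro a b
        rw [← subgroupOf_zc, Subgroup.mem_subgroupOf]
        exact hcl₁ a a.2 b b.2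
      · intro a
        rw [← subgroupOf_zc, Subgroup.mem_subgroupOf]
        exact hexp₁ a a.2
      · rw [← subgroupOf_zc]
        exact (Subgroup.subgroupOfEquivOfLe (zc_le D₁)).isCyclic.2 hcyc
    have hk1 : 1 ≤ k := by
      by_contra hk0
      have hk0' : k = 0 := by omega
      rw [hk0', Nat.mul_zero, pow_zero, Subgroup.relIndex_eq_one] at hk
      exact hne₁ (le_antisymm (zc_le D₁) hk)
    -- counting fixed points
    have hcnt : r ∣ s ^ (2 * k) - 1 := by
      have hQ : IsPGroup r (Subgroup.zpowers x) := by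
        apply IsPGroup.of_card (n := 1)
        rw [Nat.card_zpowers, hx, pow_one]
      have hN : x ∈ Subgroup.normalizer (D₁ : Set G) := by
        have hle : D₁ ≤ D₁.map (MulAut.conj x).toMonoidHom := by
          apply le_of_eq
          symm
          apply Subgroup.eq_of_le_of_card_ge
          · rintro _ ⟨d, hd, rfl⟩
            exact hD₁x d hd
          · exact le_of_eq (Nat.card_congr
              (D₁.equivMapOfInjective _ (MulAut.conj x).injective).toEquiv)
        rw [Subgroup.mem_normalizer_iff]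
        intro l
        constructor
        · intro hl
          exact hD₁x l hl
        · intro hl
          obtain ⟨d, hd, hdl⟩ := hle hl
          have hdl' : x * d * x⁻¹ = x * l * x⁻¹ := hdl
          have : d = l := by
            have := congrArg (fun t => x⁻¹ * t * x) hdl'
            simpa [mul_assoc] using this
          rwa [← this]
      have h1 := card_modEq_of_normalizes D₁ (Subgroup.zpowers x) hQ (by
        intro y hy l hl
        obtain ⟨j, rfl⟩ := Subgroup.mem_zpowers_iff.1 hy
        exact (Subgroup.mem_normalizer_iff.1 (Subgroup.zpow_mem _ hN j) l).1 hl)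
      have h2 : D₁ ⊓ Subgroup.centralizer (Subgroup.zpowers x : Set G) = zc D₁ := by
        apply le_antisymm
        · intro d hd
          rw [Subgroup.mem_inf, Subgroup.mem_centralizer_iff] at hd
          exact hfpf d hd.1 (hd.2 x (Subgroup.mem_zpowers x))
        · intro z hz
          rw [Subgroup.mem_inf]
          refine ⟨zc_le D₁ hz, ?_⟩
          rw [Subgroup.mem_centralizer_iff]
          intro y hy
          have hxz : x ∈ Subgroup.centralizer ({z} : Set G) := by
            rw [Subgroup.mem_centralizer_iff]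
            intro w hw
            rw [Set.mem_singleton_iff] at hw
            rw [hw]
            exact (hZx₁ z hz).symm
          have := (Subgroup.zpowers_le.2 hxz) hy
          rw [Subgroup.mem_centralizer_iff] at this
          exact (this z rfl).symm
      rw [h2] at h1
      have h3 : Nat.card (zc D₁) * s ^ (2 * k) = Nat.card D₁ := by
        rw [← hk]
        exact card_mul_relIndex' (zc_le D₁)
      rw [← h3] at h1
      have hpos : 1 ≤ s ^ (2 * k) := Nat.one_le_pow _ _ hs.pos
      have hle : Nat.card (zc D₁) ≤ Nat.card (zc D₁) * s ^ (2 * k) := Nat.le_mul_of_pos_right _ hpos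
      have h4 : r ∣ Nat.card (zc D₁) * s ^ (2 * k) - Nat.card (zc D₁) :=
        (Nat.modEq_iff_dvd' hle).1 h1.symm
      rw [← Nat.mul_sub_one] at h4
      obtain ⟨j, hj⟩ := IsPGroup.iff_card.1 (hD₁p.to_le (zc_le D₁))
      have hcop : Nat.Coprime r (Nat.card (zc D₁)) := by
        rw [hj]
        exact Nat.Coprime.pow_right _ ((Nat.coprime_primes hr hs).2 hsr.symm)
      exact hcop.dvd_of_dvd_mul_left h4
    -- hypotheses of piece E for a subgroup `P` whose centre commutes with `x`
    have hE : ∀ P : Subgroup G, (∀ z ∈ zc P, x * z = z * x) →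
        (∀ a ∈ coef ι f P, ∀ b ∈ coef ι f P, a * b = b * a) ∧
        (∀ a ∈ coef ι f P, ∀ b ∈ coef ι f P, a * b = 0 → a = 0 ∨ b = 0) ∧
        (∀ a ∈ coef ι f P, ∀ g ∈ P, a * ι g = ι g * a) ∧ (∀ z ∈ zc P, ι z ∈ coef ι f P) := by
      intro P hP
      refine ⟨?_, ?_, ?_, ?_⟩
      · intro a ha b hb
        exact cent_comm f hirr a b (mem_coef.1 ha).1 (mem_coef.1 hb).1
      · intro a ha b hb hab
        by_cases ha0 : a = 0
        · exact Or.inl ha0
        · right
          have hinj := cent_inj f hirr a (mem_coef.1 ha).1 ha0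
          ext v
          apply hinj
          have := LinearMap.congr_fun hab v
          simpa using this
      · intro a ha g hg
        exact (mem_coef.1 ha).2 g hg
      · intro z hz
        rw [mem_coef]
        refine ⟨?_, ?_⟩
        · rw [hfdef, ← map_mul, ← map_mul, hP z hz]
        · intro g hg
          rw [← map_mul, ← map_mul, (mem_zc.1 hz).2 g hg]
    obtain ⟨hc1, hc2, hc3, hc4⟩ := hE D₁ hZx₁
    have hle₁ : (zc D₁).relIndex D₁ ≤ n ^ 2 :=
      relIndex_le ι hι D₁ (coef ι f D₁) hc1 hc2 hc3 hc4 hcl₁ hn0 hV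
    rw [hk] at hle₁
    obtain ⟨hs2, hnk, hrn1⟩ := num_step (by omega) hr hs hk1 hrle hle₁ hcnt
    obtain ⟨hd1, hd2, hd3, hd4⟩ := hE D hZx
    have hleD : (zc D).relIndex D ≤ n ^ 2 :=
      relIndex_le ι hι D (coef ι f D) hd1 hd2 hd3 hd4 hcl hn0 hV
    have hgeD : n ^ 2 ≤ (zc D).relIndex D := by
      have h0 : zc D ⊓ D₁ ≤ zc D₁ := by
        intro z hz
        rw [Subgroup.mem_inf] at hz
        rw [mem_zc]
        exact ⟨hz.2, fun d hd => (mem_zc.1 hz.1).2 d (hD₁D hd)⟩
      have h1 : (zc D₁).relIndex D₁ ∣ (zc D ⊓ D₁).relIndex D₁ :=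
        Subgroup.relIndex_dvd_of_le_left D₁ h0
      rw [Subgroup.inf_relIndex_right, hk] at h1
      have hne0 : ∀ A B : Subgroup G, A.relIndex B ≠ 0 := fun A B => Subgroup.index_ne_zero_of_finite
      have h2 : (zc D).relIndex D₁ ≤ (zc D).relIndex D :=
        Subgroup.relIndex_le_of_le_right hD₁D (hne0 _ _)
      have h3 : s ^ (2 * k) ≤ (zc D).relIndex D₁ :=
        Nat.le_of_dvd (Nat.pos_of_ne_zero (hne0 _ _)) h1
      have h4 : n ^ 2 = s ^ (2 * k) := by
        rw [hs2, hnk, ← pow_mul, mul_comm]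
      omega
    have hidx : (zc D).relIndex D = n ^ 2 := le_antisymm hleD hgeD
    have hZscal := scal_of_relIndex_eq ι hι D (coef ι f D) hd1 hd2 hd3 hd4 hcl hn0 hV hidx
    have hexp2 : ∀ a ∈ D, a ^ 2 ∈ zc D := by
      intro a ha
      have := hexp a ha
      rwa [hs2] at this
    have hdvd := card_dvd_of_symplectic ι hι hV hnk D hZscal hcl hexp2 hidx
    have hq2 : q ≠ 2 := fun h => hsq (hs2.trans h.symm)
    have hr' : (2 ^ k + 1).Prime := by
      rw [← hnk, ← hrn1]
      exact hr
    have hfin := hcard.trans hdvd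
    rw [hnk] at hfin
    have := num_main hq.out hq2 hk1 hr' hfin
    refine ⟨?_, k, hnk, hdvd⟩
    rw [hV, hnk]
    exact this



end Cfsg.Agent.Helper5.Hup
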