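import Mathlib
import Cfsg.Agent.Helper5.SaDefs

set_option autoImplicit false
set_option linter.unusedVariables false
set_option linter.style.haveILetI false
set_option linter.unusedSectionVars false

/-!
Helper5: S4025, piece E: the embeddings of `X / O_{p'}(X)` into the (semi)affine group.
-/

namespace Cfsg.Agent.Helper5.Sa

/-- transporting the action `β` to `F` and factoring through the quotient -/
theorem h5_embed_of_mem {X : Type*} [Group X] {p : ℕ} (Q : Subgroup X)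
    (β : X →* Equiv.Perm Q) (hker : β.ker = Cfsg.pPrimeCore p X)
    {F : Type*} (ε : ↥Q ≃ F) (S : Subgroup (Equiv.Perm F))
    (hS : ∀ x : X, ε.permCongr (β x) ∈ S) :
    ∃ f : X ⧸ Cfsg.pPrimeCore p X →* ↥S, Function.Injective f := by
  let f₀ : X →* Equiv.Perm F := (ε.permCongrHom).toMonoidHom.comp β
  have hf₀ : ∀ x, f₀ x = ε.permCongr (β x) := fun x => rfl
  let f₁ : X →* ↥S := f₀.codRestrict S (fun x => by rw [hf₀]; exact hS x)
  have hf₁ : ∀ x, ((f₁ x : ↥S) : Equiv.Perm F) = ε.permCongr (β x) := fun x => rfl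
  have hone : ∀ x, f₁ x = 1 ↔ x ∈ Cfsg.pPrimeCore p X := by
    intro x
    rw [← hker, MonoidHom.mem_ker]
    constructor
    · intro h
      have h1 : ε.permCongr (β x) = 1 := by
        rw [← hf₁, h]; rfl
      have h2 : ε.permCongrHom (β x) = ε.permCongrHom 1 := by
        rw [map_one]; exact h1
      exact ε.permCongrHom.injective h2
    · intro h
      apply Subtype.ext
      rw [hf₁, h]
      show ε.permCongrHom 1 = 1
      exact map_one _
  have hle : Cfsg.pPrimeCore p X ≤ f₁.ker := fun x hx => (hone x).2 hx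
  refine ⟨QuotientGroup.lift (Cfsg.pPrimeCore p X) f₁ hle, ?_⟩
  rw [injective_iff_map_eq_one]
  intro y hy
  obtain ⟨x, rfl⟩ := QuotientGroup.mk_surjective y
  rw [QuotientGroup.lift_mk] at hy
  exact (QuotientGroup.eq_one_iff x).2 ((hone x).1 hy)

section shape

variable {X : Type*} [Group X] (Q : Subgroup X) [Q.Normal] {F : Type*} [Field F]

theorem h5_eps_one (ε : ↥Q ≃ F) (hε : ∀ a b : Q, ε (a * b) = ε a + ε b) : ε 1 = 0 := by
  have := hε 1 1
  rw [mul_one] at this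
  exact left_eq_add.1 this

/-- the multiplier of a conjugation is non-zero -/
theorem h5_mult_ne_zero (ε : ↥Q ≃ F) (hε : ∀ a b : Q, ε (a * b) = ε a + ε b) (x : X) (a : F)
    (f : F → F) (h : ∀ q : Q, ε (cj Q x q) = a * f (ε q)) : a ≠ 0 := by
  intro ha
  obtain ⟨q, hq⟩ := ε.surjective 1
  have h1 := h q
  rw [ha, zero_mul, ← h5_eps_one Q ε hε] at h1
  have h2 : cj Q x q = 1 := ε.injective h1
  have h3 : (q : X) = 1 := by
    have := congrArg (fun t : Q => (t : X)) h2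
    simp only [coe_cj, Subgroup.coe_one] at this
    have h4 : (q : X) = x⁻¹ * (x * q * x⁻¹) * x := by group
    rw [h4, this]; group
  have h5 : q = 1 := Subtype.ext h3
  rw [h5, h5_eps_one Q ε hε] at hq
  exact zero_ne_one hq

end shape

theorem embed_semiaffine {X : Type*} [Group X] {p : ℕ} [Fact p.Prime] (Q : Subgroup X)
    [Q.Normal] (β : X →* Equiv.Perm Q)
    (hβ : ∀ x : X, ∃ b : Q, ∀ q : Q, β x q = b * cj Q x q)
    (hker : β.ker = Cfsg.pPrimeCore p X)
    {F : Type*} [Field F] (ε : ↥Q ≃ F) (hε : ∀ a b : Q, ε (a * b) = ε a + ε b)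
    (hsl : ∀ x : X, ∃ (a : F) (σ : F ≃+* F), ∀ q : Q,
      ε (cj Q x q) = a * σ (ε q)) :
    ∃ f : X ⧸ Cfsg.pPrimeCore p X →* ↥(Cfsg.semiaffineGroup F), Function.Injective f := by
  apply h5_embed_of_mem Q β hker ε
  intro x
  obtain ⟨b, hb⟩ := hβ x
  obtain ⟨a, σ, ha⟩ := hsl x
  have ha0 : a ≠ 0 := h5_mult_ne_zero Q ε hε x a σ ha
  refine ⟨Units.mk0 a ha0, ε b, σ, fun y => ?_⟩
  rw [Equiv.permCongr_apply, hb, hε, ha, Equiv.apply_symm_apply, Units.val_mk0, add_comm]

theorem embed_affine {X : Type*} [Group X] {p : ℕ} [Fact p.Prime] (Q : Subgroup X)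
    [Q.Normal] (β : X →* Equiv.Perm Q)
    (hβ : ∀ x : X, ∃ b : Q, ∀ q : Q, β x q = b * cj Q x q)
    (hker : β.ker = Cfsg.pPrimeCore p X)
    {F : Type*} [Field F] (ε : ↥Q ≃ F) (hε : ∀ a b : Q, ε (a * b) = ε a + ε b)
    (hsl : ∀ x : X, ∃ (a : F), ∀ q : Q,
      ε (cj Q x q) = a * ε q) :
    ∃ f : X ⧸ Cfsg.pPrimeCore p X →* ↥(Cfsg.affineGroup F), Function.Injective f := by
  apply h5_embed_of_mem Q β hker ε
  intro x
  obtain ⟨b, hb⟩ := hβ x
  obtain ⟨a, ha⟩ := hsl x
  have ha0 : a ≠ 0 := h5_mult_ne_zero Q ε hε x a id ha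
  refine ⟨Units.mk0 a ha0, ε b, fun y => ?_⟩
  rw [Equiv.permCongr_apply, hb, hε, ha, Equiv.apply_symm_apply, Units.val_mk0, add_comm]

end Cfsg.Agent.Helper5.Sa
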