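import Mathlib
import Cfsg.Agent.Helper5.SaDefs
import Cfsg.Agent.Helper5.SaHupMain

set_option autoImplicit false
set_option linter.unusedVariables false
set_option linter.style.haveILetI false
set_option linter.unusedSectionVars false

/-!
Helper5: S4025, piece H: Huppert's theorem with the divisibility exported in the exceptional
branch, normalized to `GaloisField p n`.
-/

namespace Cfsg.Agent.Helper5.Hup

open Cfsg.Agent.Helper2.Hup

universe u w

variable {q : ℕ} [hq : Fact q.Prime] {V : Type u} [AddCommGroup V] [Module (ZMod q) V] [Finite V]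
variable {G : Type w} [Group G] [Finite G]

/-- the core dichotomy for `n ≥ 3`, refined -/
theorem sa_core [Nontrivial V] (ι : G →* Module.End (ZMod q) V) (hι : Function.Injective ι)
    (htr : Trans ι) (hsol : Group.IsSolvable G) {n : ℕ} (hn : 3 ≤ n) (hV : Nat.card V = q ^ n) :
    (∃ A : Subgroup G, A.Normal ∧ (∀ a ∈ A, ∀ b ∈ A, a * b = b * a) ∧ IrrOn ι A) ∨
      (Nat.card V ∈ ({9, 25, 49, 121, 529, 81} : Set ℕ) ∧ ∃ m : ℕ, n = 2 ^ m ∧
        Nat.card G ∣ (q - 1) * n ^ 2 * Nat.card (GL (Fin (2 * m)) (ZMod 2))) := by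
  by_cases h26 : q = 2 ∧ n = 6
  · left
    rw [h26.2] at hV
    exact case_two_six ι hι htr hsol h26.1 hV
  · exact sa_case_main ι hι htr hsol hn h26 hV

/-- Huppert's theorem for `n ≥ 3`, refined -/
theorem sa_huppert' [Nontrivial V] (hsol : Group.IsSolvable G)
    (ρ : G →* (V ≃ₗ[ZMod q] V)) (hρ : Function.Injective ρ)
    (htrans : ∀ v w : V, v ≠ 0 → w ≠ 0 → ∃ g : G, ρ g v = w)
    {n : ℕ} (hn : 3 ≤ n) (hV : Nat.card V = q ^ n) :
    (∃ (F : Type) (_ : Field F) (_ : Fintype F) (e : V ≃+ F),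
        ∀ g : G, ∃ (a : F) (σ : F ≃+* F), ∀ v : V, e (ρ g v) = a * σ (e v)) ∨
    (Nat.card V ∈ ({9, 25, 49, 121, 529, 81} : Set ℕ) ∧ ∃ m : ℕ, n = 2 ^ m ∧
        Nat.card G ∣ (q - 1) * n ^ 2 * Nat.card (GL (Fin (2 * m)) (ZMod 2))) := by
  classical
  set ι : G →* Module.End (ZMod q) V :=
    (LinearEquiv.automorphismGroup.toLinearMapMonoidHom).comp ρ with hιdef
  have hιapp : ∀ (g : G) (v : V), ι g v = ρ g v := fun g v => rfl
  have hι : Function.Injective ι := by
    intro a b h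
    apply hρ
    ext v
    have := LinearMap.congr_fun h v
    rwa [hιapp, hιapp] at this
  have htr : Trans ι := fun v w hv hw => htrans v w hv hw
  rcases sa_core ι hι htr hsol hn hV with ⟨A, hAn, hAc, hirr⟩ | h
  · left
    haveI := hAn
    let H : Subgroup (V ≃ₗ[ZMod q] V) := ρ.range
    let A' : Subgroup H := (A.map ρ).subgroupOf H
    have hA'mem : ∀ a' : H, a' ∈ A' ↔ ∃ a ∈ A, ρ a = (a' : V ≃ₗ[ZMod q] V) := by
      intro a'
      rw [Subgroup.mem_subgroupOf, Subgroup.mem_map]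
    have hA'n : A'.Normal := by
      constructor
      intro a' ha' h'
      rw [hA'mem] at ha' ⊢
      obtain ⟨a, ha, hae⟩ := ha'
      obtain ⟨g, hg⟩ := h'.2
      refine ⟨g * a * g⁻¹, hAn.conj_mem a ha g, ?_⟩
      rw [map_mul, map_mul, map_inv, hg, hae]
      rfl
    have hA'c : IsMulCommutative A' := by
      refine ⟨⟨?_⟩⟩
      rintro ⟨x, hx⟩ ⟨y, hy⟩
      obtain ⟨a, ha, hae⟩ := (hA'mem x).1 hx
      obtain ⟨b, hb, hbe⟩ := (hA'mem y).1 hy
      apply Subtype.ext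
      apply Subtype.ext
      show (x : V ≃ₗ[ZMod q] V) * (y : V ≃ₗ[ZMod q] V) = (y : V ≃ₗ[ZMod q] V) * x
      rw [← hae, ← hbe, ← map_mul, ← map_mul, hAc a ha b hb]
    have hA'irr : ∀ W : Submodule (ZMod q) V,
        (∀ a ∈ A', ∀ v ∈ W, ((a : H) : V ≃ₗ[ZMod q] V) v ∈ W) → W = ⊥ ∨ W = ⊤ := by
      intro W hW
      apply hirr W
      intro a ha v hv
      have hmem : (⟨ρ a, ⟨a, rfl⟩⟩ : H) ∈ A' := (hA'mem _).2 ⟨a, ha, rfl⟩
      exact hW _ hmem v hv
    obtain ⟨F, iF, iFt, e, he⟩ :=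
      Cfsg.Agent.Helper5.Z61.semilinear_of_irreducible_normal H A' hA'n hA'c hA'irr
    exact ⟨F, iF, iFt, e, fun g => he ⟨ρ g, ⟨g, rfl⟩⟩⟩
  · right
    exact h

end Cfsg.Agent.Helper5.Hup

namespace Cfsg.Agent.Helper5.Sa

theorem h5_finite_linearEquiv {p : ℕ} {V : Type*} [AddCommGroup V] [Module (ZMod p) V] [Finite V] :
    Finite (V ≃ₗ[ZMod p] V) :=
  Finite.of_injective (fun g => (g : V → V)) DFunLike.coe_injective

/-- a prime power `p ^ n`, `n ≥ 3`, in Huppert's list is `3 ^ 4` -/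
theorem h5_list {p n : ℕ} (hp : p.Prime) (hn : 3 ≤ n)
    (h : p ^ n ∈ ({9, 25, 49, 121, 529, 81} : Set ℕ)) : p = 3 ∧ n = 4 := by
  have hsq : ∀ r : ℕ, r.Prime → p ^ n = r ^ 2 → False := by
    intro r hr h1
    have h2 : p ∣ r ^ 2 := by rw [← h1]; exact dvd_pow_self p (by omega)
    have h3 : p = r := (Nat.prime_dvd_prime_iff_eq hp hr).1 (hp.dvd_of_dvd_pow h2)
    rw [h3] at h1
    have := Nat.pow_right_injective hr.two_le h1
    omega
  simp only [Set.mem_insert_iff, Set.mem_singleton_iff] at h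
  rcases h with h | h | h | h | h | h
  · exact (hsq 3 (by norm_num) (by rw [h]; norm_num)).elim
  · exact (hsq 5 (by norm_num) (by rw [h]; norm_num)).elim
  · exact (hsq 7 (by norm_num) (by rw [h]; norm_num)).elim
  · exact (hsq 11 (by norm_num) (by rw [h]; norm_num)).elim
  · exact (hsq 23 (by norm_num) (by rw [h]; norm_num)).elim
  · have h2 : p ∣ 3 ^ 4 := by
      have : p ∣ p ^ n := dvd_pow_self p (by omega)
      rw [h] at this
      exact this
    have h3 : p = 3 := (Nat.prime_dvd_prime_iff_eq hp (by norm_num)).1 (hp.dvd_of_dvd_pow h2)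
    refine ⟨h3, ?_⟩
    rw [h3] at h
    exact Nat.pow_right_injective (by norm_num : 2 ≤ 3) (h.trans (by norm_num : (81 : ℕ) = 3 ^ 4))

theorem sa_huppert (p n : ℕ) [Fact p.Prime] (hn : 3 ≤ n) {V : Type*} [AddCommGroup V]
    [Module (ZMod p) V] [Finite V] (hV : Nat.card V = p ^ n)
    (A : Subgroup (V ≃ₗ[ZMod p] V)) (hsol : Group.IsSolvable A)
    (htr : ∀ v w : V, v ≠ 0 → w ≠ 0 → ∃ g ∈ A, g v = w) :
    (∃ e : V ≃+ GaloisField p n, ∀ g ∈ A, ∃ (a : GaloisField p n)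
        (σ : GaloisField p n ≃+* GaloisField p n), ∀ v : V, e (g v) = a * σ (e v)) ∨
      (p = 3 ∧ n = 4 ∧ Nat.card A ∣ 645120) := by
  classical
  have hp : p.Prime := Fact.out
  have hn0 : n ≠ 0 := by omega
  haveI : Finite (V ≃ₗ[ZMod p] V) := h5_finite_linearEquiv
  haveI : Nontrivial V := by
    apply (Finite.one_lt_card_iff_nontrivial).1
    rw [hV]
    exact Nat.one_lt_pow hn0 hp.one_lt
  have htrans : ∀ v w : V, v ≠ 0 → w ≠ 0 → ∃ g : A, A.subtype g v = w := by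
    intro v w hv hw
    obtain ⟨g, hg, hgv⟩ := htr v w hv hw
    exact ⟨⟨g, hg⟩, hgv⟩
  rcases Cfsg.Agent.Helper5.Hup.sa_huppert' hsol A.subtype A.subtype_injective htrans hn hV with
    ⟨F, iF, iFt, e, he⟩ | ⟨hlist, m, hm, hdvd⟩
  · left
    letI := iF
    letI := iFt
    letI : Fintype (GaloisField p n) := Fintype.ofFinite _
    have hcF : Fintype.card F = Fintype.card (GaloisField p n) := by
      rw [← Nat.card_eq_fintype_card, ← Nat.card_eq_fintype_card, GaloisField.card p n hn0, ← hV]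
      exact (Nat.card_congr e.toEquiv).symm
    let ψ : F ≃+* GaloisField p n := FiniteField.ringEquivOfCardEq hcF
    refine ⟨e.trans ψ.toAddEquiv, fun g hg => ?_⟩
    obtain ⟨a, σ, h⟩ := he ⟨g, hg⟩
    refine ⟨ψ a, ψ.symm.trans (σ.trans ψ), fun v => ?_⟩
    show ψ (e (g v)) = ψ a * ψ (σ (ψ.symm (ψ (e v))))
    rw [RingEquiv.symm_apply_apply, ← map_mul]
    exact congrArg ψ (h v)
  · right
    rw [hV] at hlist
    obtain ⟨h3, h4⟩ := h5_list hp hn hlist
    refine ⟨h3, h4, ?_⟩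
    subst h3
    subst h4
    have hm2 : m = 2 := by
      have : (2 : ℕ) ^ 2 = 2 ^ m := by rw [← hm]; norm_num
      exact (Nat.pow_right_injective (le_refl 2) this).symm
    subst hm2
    rw [Cfsg.Agent.Helper5.Hup.card_GL_two_four] at hdvd
    exact hdvd

end Cfsg.Agent.Helper5.Sa
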