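import Mathlib
import Cfsg.Agent.Helper5.SaDefs

set_option autoImplicit false
set_option linter.unusedVariables false
set_option linter.style.haveILetI false
set_option linter.unusedSectionVars false

/-!
Helper5: S4025, piece P: a group of order `7` of semilinear maps of `GF(8)` consists of
linear maps.
-/

namespace Cfsg.Agent.Helper5.Sa

/-- ring automorphisms of a `ZMod p`-algebra are algebra automorphisms -/
noncomputable def h5_ringAutEquiv (p : ℕ) [Fact p.Prime] (F : Type*) [Field F] [Algebra (ZMod p) F] :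
    (F ≃ₐ[ZMod p] F) ≃ (F ≃+* F) where
  toFun σ := σ.toRingEquiv
  invFun σ := AlgEquiv.ofRingEquiv (f := σ) (fun c => by
    have : (σ : F →+* F).comp (algebraMap (ZMod p) F) = algebraMap (ZMod p) F :=
      RingHom.ext_zmod _ _
    exact RingHom.congr_fun this c)
  left_inv σ := by ext x; rfl
  right_inv σ := by ext x; rfl

theorem h5_card_ringAut_galoisField (p n : ℕ) [Fact p.Prime] (hn : n ≠ 0) :
    Nat.card (GaloisField p n ≃+* GaloisField p n) = n := by
  rw [← Nat.card_congr (h5_ringAutEquiv p (GaloisField p n)),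
    IsGalois.card_aut_eq_finrank, GaloisField.finrank p hn]

theorem h5_pow_apply {R : Type*} [Semiring R] {V : Type*} [AddCommMonoid V] [Module R V]
    (g : V ≃ₗ[R] V) (k : ℕ) (v : V) : (g ^ (k + 1)) v = g ((g ^ k) v) := by
  rw [pow_succ', LinearEquiv.mul_apply]

theorem linear_of_card_seven {V : Type*} [AddCommGroup V] [Module (ZMod 2) V] [Finite V]
    (A : Subgroup (V ≃ₗ[ZMod 2] V)) (hA : Nat.card A = 7) (e : V ≃+ GaloisField 2 3)
    (he : ∀ g ∈ A, ∃ (a : GaloisField 2 3) (σ : GaloisField 2 3 ≃+* GaloisField 2 3),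
      ∀ v : V, e (g v) = a * σ (e v)) :
    ∀ g ∈ A, ∃ a : GaloisField 2 3, ∀ v : V, e (g v) = a * e v := by
  intro g hg
  obtain ⟨a, σ, h⟩ := he g hg
  have hσ3 : σ ^ 3 = 1 := by
    have := pow_card_eq_one' (G := GaloisField 2 3 ≃+* GaloisField 2 3) (x := σ)
    rwa [h5_card_ringAut_galoisField 2 3 (by norm_num)] at this
  have hσ3' : ∀ y, σ (σ (σ y)) = y := by
    intro y
    have := congrArg (fun τ : GaloisField 2 3 ≃+* GaloisField 2 3 => τ y) hσ3
    simpa [pow_succ, RingAut.mul_apply] using this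
  -- `g ^ 7 = 1`
  have hg7 : g ^ 7 = 1 := by
    have := pow_card_eq_one' (G := A) (x := ⟨g, hg⟩)
    rw [hA] at this
    exact congrArg Subtype.val this
  -- `g ^ 3` is linear
  set N : GaloisField 2 3 := a * σ a * σ (σ a) with hN
  have h3 : ∀ v, e ((g ^ 3) v) = N * e v := by
    intro v
    have e1 : (g ^ 3) v = g (g (g v)) := by
      rw [h5_pow_apply, h5_pow_apply, h5_pow_apply, pow_zero]; rfl
    rw [e1, h, h, h, map_mul, map_mul, map_mul, hσ3', hN]
    ring
  have hk : ∀ (k : ℕ) (v : V), e (((g ^ 3) ^ k) v) = N ^ k * e v := by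
    intro k
    induction k with
    | zero => intro v; rw [pow_zero, pow_zero, one_mul]; rfl
    | succ k ih =>
      intro v
      rw [h5_pow_apply, h3, ih, pow_succ]
      ring
  refine ⟨N ^ 5, fun v => ?_⟩
  have h15 : (g ^ 3) ^ 5 = g := by
    rw [← pow_mul]
    calc g ^ (3 * 5) = g ^ 7 * g ^ 7 * g := by rw [← pow_add, ← pow_succ]
      _ = g := by rw [hg7, one_mul, one_mul]
  rw [← hk 5 v, h15]

end Cfsg.Agent.Helper5.Sa
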