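import Mathlib
import Cfsg.Agent.Helper5.SaDefs
import Cfsg.Agent.Helper5.Sa_Huppert
import Cfsg.Agent.Helper5.Sa_E
import Cfsg.Agent.Helper5.Sa_P
import Cfsg.Agent.Helper1.Sa_S
import Cfsg.Agent.Helper1.Sa_T
import Cfsg.Agent.Helper2.Sa_Arith
import Cfsg.Agent.Helper3.Sa_L
import Cfsg.Agent.Helper4.Sa_C
import Cfsg.Agent.Helper4.Sa_G
import Cfsg.Agent.Helper8.Sa_N1
import Cfsg.Agent.Helper8.Sa_N2
import Cfsg.Agent.Helper2.Sa_Fusion
import Cfsg.Agent.Helper3.Sa_B

set_option autoImplicit false
set_option linter.unusedVariables false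
set_option linter.style.haveILetI false
set_option linter.unusedSectionVars false

namespace Cfsg.Agent.Helper5.Sa

universe u

theorem iso_of_inj_card {A B : Type*} [Group A] [Group B] [Finite B] (f : A →* B)
    (hf : Function.Injective f) (hc : Nat.card A = Nat.card B) : Nonempty (A ≃* B) := by
  haveI : Finite A := Finite.of_injective f hf
  have hb : Function.Bijective f :=
    (Nat.bijective_iff_injective_and_card f).2 ⟨hf, hc⟩
  exact ⟨MulEquiv.ofBijective f hb⟩

theorem abs_main {X : Type u} [Group X] [Finite X] {p : ℕ} [hp : Fact p.Prime] (Q : Subgroup X)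
    [Q.Normal] (hQp : IsPGroup p Q) (hQi : (Q.index).Coprime p) (n : ℕ) (hn : 3 ≤ n)
    (hel : Cfsg.IsElementaryAbelian p Q) (hcard : Nat.card Q = p ^ n)
    (htr : ∀ H K : Subgroup X, H ≤ Q → K ≤ Q → Nat.card H = Nat.card K →
      ∃ x : X, K = H.map (MulAut.conj x).toMonoidHom)
    (hsolv : Group.IsSolvable (X ⧸ Cfsg.pPrimeCore p X)) :
    (n = 3 ∧ (∃ f : X ⧸ Cfsg.pPrimeCore p X →* ↥(Cfsg.semiaffineGroup (GaloisField p 3)),
        Function.Injective f) ∧
      (p = 2 → Nonempty (X ⧸ Cfsg.pPrimeCore p X ≃* Cfsg.semiaffineGroup (GaloisField 2 3)) ∨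
               Nonempty (X ⧸ Cfsg.pPrimeCore p X ≃* Cfsg.affineGroup (GaloisField 2 3)))) ∨
    (n = 5 ∧ p = 2 ∧
      Nonempty (X ⧸ Cfsg.pPrimeCore p X ≃* Cfsg.semiaffineGroup (GaloisField 2 5))) := by
  classical
  have hp1 : 1 < p := hp.out.one_lt
  have hab : ∀ a b : Q, a * b = b * a := by
    haveI := hel.1
    intro a b
    exact mul_comm' a b
  -- linearization
  obtain ⟨V, iV, iM, φ, hφ⟩ := exists_lin Q hel
  letI := iV
  letI := iM
  obtain ⟨ρ₀, hρ₀⟩ := exists_rho (p := p) Q φ hφ
  haveI : Finite V := Finite.of_equiv Q φ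
  have hV : Nat.card V = p ^ n := by rw [← hcard]; exact (Nat.card_congr φ).symm
  haveI : Nontrivial V := by
    apply (Finite.one_lt_card_iff_nontrivial).1
    rw [hV]
    exact Nat.one_lt_pow (by omega) hp1
  have hsolA := solvable_tildeA Q hQp φ ρ₀ hρ₀ hsolv
  have htrW := trans_submodule Q φ hφ ρ₀ hρ₀ htr
  have htrV := trans_vector ρ₀ htrW
  -- the affine action
  obtain ⟨β, hβ, hβt, hker⟩ := exists_beta Q hQp hQi hab
  have hn0 : n ≠ 0 := by omega
  -- existence of a 2-dimensional subspace
  have hN2 := count_two p n (by omega) hV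
  have hex2 : ∃ W : Submodule (ZMod p) V, Nat.card W = p ^ 2 := by
    by_contra hne
    haveI : IsEmpty {W : Submodule (ZMod p) V // Nat.card W = p ^ 2} :=
      ⟨fun W => hne ⟨W.1, W.2⟩⟩
    rw [Nat.card_of_isEmpty, zero_mul] at hN2
    have h1 : 0 < p ^ n - 1 := by
      have := Nat.one_lt_pow hn0 hp1
      omega
    have h2 : 0 < p ^ n - p := by
      have : p ^ 1 < p ^ n := Nat.pow_lt_pow_right hp1 (by omega)
      rw [pow_one] at this
      omega
    have := Nat.mul_pos h1 h2
    omega
  have horb := orbit_dvd p ρ₀ 2 htrW hex2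
  rcases sa_huppert p n hn hV (tildeA ρ₀) hsolA htrV with ⟨e, he⟩ | ⟨h3, h4, hdvd⟩
  · -- the field case
    have hcd := card_dvd_semilinear p n hn0 (tildeA ρ₀) e he
    have hdv := horb.trans hcd
    -- the semilinear shape of the conjugations
    set ε : ↥Q ≃ GaloisField p n := φ.trans e.toEquiv with hεdef
    have hε : ∀ a b : Q, ε (a * b) = ε a + ε b := by
      intro a b
      show e (φ (a * b)) = e (φ a) + e (φ b)
      rw [hφ, map_add]
    have hmem : ∀ x : X, ρ₀ x ∈ tildeA ρ₀ := fun x => ⟨x, 1, fun v => by simp⟩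
    have hsl : ∀ x : X, ∃ (a : GaloisField p n) (σ : GaloisField p n ≃+* GaloisField p n),
        ∀ q : Q, ε (cj Q x q) = a * σ (ε q) := by
      intro x
      obtain ⟨a, σ, h⟩ := he (ρ₀ x) (hmem x)
      refine ⟨a, σ, fun q => ?_⟩
      show e (φ (cj Q x q)) = a * σ (e (φ q))
      rw [← hρ₀, h]
    have hcq := card_quot Q β hβ hβt hker φ ρ₀ hρ₀
    rcases arith p n _ hp.out hn hN2 hdv with h3 | ⟨h5, h2⟩
    · subst h3
      left
      refine ⟨rfl, embed_semiaffine Q β hβ hker ε hε hsl, ?_⟩
      intro h2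
      subst h2
      obtain ⟨f, hf⟩ := embed_semiaffine Q β hβ hker ε hε hsl
      have hct := card_tildeA_two ρ₀
      rw [← hct, hcard] at hcq
      -- `|Ã| ∈ {7, 21}`
      have hN7 : Nat.card {W : Submodule (ZMod 2) V // Nat.card W = 2 ^ 2} = 7 := by
        have : Nat.card {W : Submodule (ZMod 2) V // Nat.card W = 2 ^ 2} * 6 = 42 := by
          simpa using hN2
        omega
      rw [hN7] at horb
      have h21 : Nat.card (tildeA ρ₀) ∣ 21 := by simpa using hcd
      have h7 : 7 ∣ Nat.card (tildeA ρ₀) := by simpa using horb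
      have hcases : Nat.card (tildeA ρ₀) = 7 ∨ Nat.card (tildeA ρ₀) = 21 := by
        obtain ⟨k, hk⟩ := h7
        have hk3 : k ∣ 3 := by
          rw [hk] at h21
          exact Nat.dvd_of_mul_dvd_mul_left (by norm_num : 0 < 7) (by simpa using h21)
        have hk' : k = 1 ∨ k = 3 := (Nat.dvd_prime (by norm_num)).1 hk3
        rcases hk' with rfl | rfl
        · left; omega
        · right; omega
      rcases hcases with h7' | h21'
      · right
        have hlin := linear_of_card_seven (tildeA ρ₀) h7' e he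
        have hsl' : ∀ x : X, ∃ a : GaloisField 2 3, ∀ q : Q, ε (cj Q x q) = a * ε q := by
          intro x
          obtain ⟨a, h⟩ := hlin (ρ₀ x) (hmem x)
          refine ⟨a, fun q => ?_⟩
          show e (φ (cj Q x q)) = a * (e (φ q))
          rw [← hρ₀, h]
        obtain ⟨f', hf'⟩ := embed_affine Q β hβ hker ε hε hsl'
        apply iso_of_inj_card f' hf'
        rw [hcq, h7', card_affineGroup 2 3 (by norm_num)]
        norm_num
      · left
        apply iso_of_inj_card f hf
        rw [hcq, h21', card_semiaffineGroup 2 3 (by norm_num)]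
        norm_num
    · subst h5
      subst h2
      right
      refine ⟨rfl, rfl, ?_⟩
      obtain ⟨f, hf⟩ := embed_semiaffine Q β hβ hker ε hε hsl
      have hct := card_tildeA_two ρ₀
      rw [← hct, hcard] at hcq
      have hN155 : Nat.card {W : Submodule (ZMod 2) V // Nat.card W = 2 ^ 2} = 155 := by
        have : Nat.card {W : Submodule (ZMod 2) V // Nat.card W = 2 ^ 2} * 6 = 930 := by
          simpa using hN2
        omega
      rw [hN155] at horb
      have h155 : Nat.card (tildeA ρ₀) ∣ 155 := by simpa using hcd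
      have h155' : 155 ∣ Nat.card (tildeA ρ₀) := by simpa using horb
      have hc : Nat.card (tildeA ρ₀) = 155 := Nat.dvd_antisymm h155 h155'
      apply iso_of_inj_card f hf
      rw [hcq, hc, card_semiaffineGroup 2 5 (by norm_num)]
      norm_num
  · -- the exceptional case `3 ^ 4`
    exfalso
    subst h3
    subst h4
    have hN130 : Nat.card {W : Submodule (ZMod 3) V // Nat.card W = 3 ^ 2} = 130 := by
      have : Nat.card {W : Submodule (ZMod 3) V // Nat.card W = 3 ^ 2} * 48 = 6240 := by
        simpa using hN2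
      omega
    rw [hN130] at horb
    have h13 : 13 ∣ 645120 := (by norm_num : 13 ∣ 130 * (3 - 1)).trans (horb.trans hdvd)
    omega

end Cfsg.Agent.Helper5.Sa
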