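import Mathlib
import Cfsg.Agent.Helper5.SpMap
import Cfsg.Agent.Helper5.StemPF

/-!
# Matrices for `Sp₆(2)`

Explicit symplectic `6 × 6` matrices over the integers modulo 2: two elements `a`, `b` of order 7
generating a subgroup of order 6048 and an element `c` of order 5, relators, and the action on the
64 vectors.
-/

set_option autoImplicit false

namespace Cfsg.Agent.Helper5.Sp62

open Cfsg.Agent.Helper5.LP Cfsg.Agent.Helper5.StemP Matrix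

/-- the index type of symplectic `6 × 6` matrices. -/
abbrev I6 : Type := Fin 3 ⊕ Fin 3

/-- the numbering of the coordinates. -/
def num : I6 → ℕ
  | .inl i => i.val
  | .inr i => 3 + i.val

/-- a matrix over the integers modulo 2 from a table of numbers. -/
def mkM (l : List (List ℕ)) : Matrix I6 I6 (ZMod 2) :=
  fun i j => (((l.getD (num i) []).getD (num j) 0 : ℕ) : ZMod 2)

/-- the images of the letters `a, a⁻¹, b, b⁻¹, c, c⁻¹` in `Sp₆(2)`. -/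
def N : ℕ → Matrix I6 I6 (ZMod 2)
  | 0 => mkM [[0, 1, 0, 1, 1, 0], [0, 0, 0, 1, 0, 0], [0, 0, 0, 0, 0, 1], [0, 0, 0, 1, 1, 1], [1, 1, 0, 0, 0, 0], [0, 1, 1, 1, 1, 0]]
  | 1 => mkM [[1, 0, 1, 1, 1, 0], [1, 0, 1, 1, 0, 0], [1, 0, 0, 0, 0, 1], [0, 1, 0, 0, 0, 0], [0, 1, 1, 1, 0, 0], [0, 0, 1, 0, 0, 0]]
  | 2 => mkM [[1, 1, 0, 0, 1, 1], [1, 1, 0, 1, 0, 0], [0, 1, 1, 1, 1, 1], [1, 1, 1, 1, 0, 1], [0, 0, 1, 0, 1, 0], [0, 0, 0, 1, 1, 0]]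
  | 3 => mkM [[1, 0, 1, 0, 1, 1], [0, 1, 1, 1, 0, 1], [1, 0, 0, 1, 0, 1], [1, 0, 0, 1, 1, 0], [1, 0, 0, 1, 1, 1], [1, 1, 0, 0, 0, 1]]
  | 4 => mkM [[0, 1, 1, 1, 1, 0], [1, 1, 0, 0, 1, 1], [1, 0, 0, 1, 1, 0], [0, 1, 0, 1, 0, 0], [1, 1, 1, 0, 1, 1], [0, 0, 1, 1, 0, 0]]
  | _ => mkM [[1, 0, 1, 1, 0, 1], [0, 1, 0, 1, 1, 1], [0, 1, 0, 0, 1, 0], [0, 1, 0, 0, 1, 1], [1, 1, 0, 1, 1, 0], [0, 1, 1, 1, 0, 0]]

set_option maxRecDepth 100000 in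
theorem N_symp (c : ℕ) :
    N c * Matrix.J (Fin 3) (ZMod 2) * (N c).transpose = Matrix.J (Fin 3) (ZMod 2) := by
  rcases c with _ | _ | _ | _ | _ | c
  · decide +kernel
  · decide +kernel
  · decide +kernel
  · decide +kernel
  · decide +kernel
  · rw [show N (c + 1 + 1 + 1 + 1 + 1) = N 5 from rfl]; decide +kernel

set_option maxRecDepth 100000 in
theorem N_inv : N 0 * N 1 = 1 ∧ N 2 * N 3 = 1 ∧ N 4 * N 5 = 1 := by decide +kernel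

/-- the central words: three new ones, and those of the subgroup of order 6048. -/
def CC : List (List ℕ) := [[0, 3, 1, 1, 4, 3, 3, 4, 3, 3], [1, 3, 3, 5, 2, 1, 3, 3, 5, 2], [3, 3, 5, 5, 3, 3, 5, 5, 3, 3, 5, 5], [0, 2, 0, 3, 3, 1, 3, 3, 3, 1, 3, 3], [1, 3, 3, 3, 1, 3, 3, 3, 1, 3, 3, 3], [0, 3, 1, 1, 1, 3, 3, 3, 1, 1, 2, 1, 3]]

/-- the central words of the subgroup of order 6048. -/
def CU : List (List ℕ) := [[0, 2, 0, 3, 3, 1, 3, 3, 3, 1, 3, 3], [1, 3, 3, 3, 1, 3, 3, 3, 1, 3, 3, 3], [0, 3, 1, 1, 1, 3, 3, 3, 1, 1, 2, 1, 3]]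

theorem CC_eq : CC = [[0, 3, 1, 1, 4, 3, 3, 4, 3, 3], [1, 3, 3, 5, 2, 1, 3, 3, 5, 2], [3, 3, 5, 5, 3, 3, 5, 5, 3, 3, 5, 5]] ++ CU := rfl

set_option maxRecDepth 100000 in
theorem N_rels : ∀ l ∈ CC, (l.map N).prod = 1 := by decide +kernel

set_option maxRecDepth 100000 in
theorem N_pow : (List.replicate 7 (N 0)).prod = 1 ∧ (List.replicate 7 (N 2)).prod = 1 ∧
    (List.replicate 5 (N 4)).prod = 1 := by decide +kernel

/-- the vector with a given number. -/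
def decN (v : ℕ) : I6 → ZMod 2 := fun i => ((v / 2 ^ num i % 2 : ℕ) : ZMod 2)

/-- the action of the letters on the numbers of the vectors. -/
def tab : List (List ℕ) := [[0, 16, 49, 33, 32, 48, 17, 1, 43, 59, 26, 10, 11, 27, 58, 42, 41, 57, 24, 8, 9, 25, 56, 40, 2, 18, 51, 35, 34, 50, 19, 3, 12, 28, 61, 45, 44, 60, 29, 13, 39, 55, 22, 6, 7, 23, 54, 38, 37, 53, 20, 4, 5, 21, 52, 36, 14, 30, 63, 47, 46, 62, 31, 15], [0, 7, 24, 31, 51, 52, 43, 44, 19, 20, 11, 12, 32, 39, 56, 63, 1, 6, 25, 30, 50, 53, 42, 45, 18, 21, 10, 13, 33, 38, 57, 62, 4, 3, 28, 27, 55, 48, 47, 40, 23, 16, 15, 8, 36, 35, 60, 59, 5, 2, 29, 26, 54, 49, 46, 41, 22, 17, 14, 9, 37, 34, 61, 58], [0, 11, 15, 4, 28, 23, 19, 24, 46, 37, 33, 42, 50, 57, 61, 54, 53, 62, 58, 49, 41, 34, 38, 45, 27, 16, 20, 31, 7, 12, 8, 3, 13, 6, 2, 9, 17, 26, 30, 21, 35, 40, 44, 39, 63, 52, 48,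 59, 56, 51, 55, 60, 36, 47, 43, 32, 22, 29, 25, 18, 10, 1, 5, 14], [0, 61, 34, 31, 3, 62, 33, 28, 30, 35, 60, 1, 29, 32, 63, 2, 25, 36, 59, 6, 26, 39, 56, 5, 7, 58, 37, 24, 4, 57, 38, 27, 55, 10, 21, 40, 52, 9, 22, 43, 41, 20, 11, 54, 42, 23, 8, 53, 46, 19, 12, 49, 45, 16, 15, 50, 48, 13, 18, 47, 51, 14, 17, 44], [0, 22, 27, 13, 49, 39, 42, 60, 45, 59, 54, 32, 28, 10, 7, 17, 23, 1, 12, 26, 38, 48, 61, 43, 58, 44, 33, 55, 11, 29, 16, 6, 18, 4, 9, 31, 35, 53, 56, 46, 63, 41, 36, 50, 14, 24, 21, 3, 5, 19, 30, 8, 52, 34, 47, 57, 40, 62, 51, 37, 25, 15, 2, 20], [0, 17, 62, 47, 33, 48, 31, 14, 51, 34, 13, 28, 18, 3, 44, 61, 30, 15, 32, 49, 63, 46, 1, 16, 45, 60, 19, 2, 12, 29, 50, 35, 11, 26, 53, 36, 42, 59, 20, 5, 56, 41, 6, 23, 25, 8, 39, 54, 21, 4, 43, 58, 52, 37, 10, 27, 38, 55, 24, 9, 7, 22, 57, 40]]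

set_option maxRecDepth 100000 in
theorem tab_spec : ∀ c, c < 6 → ∀ v, v < 64 →
    N c *ᵥ decN v = decN (tabFun tab c v) ∧ tabFun tab c v < 64 := by decide +kernel

set_option maxRecDepth 100000 in
theorem decN_inj : ∀ v, v < 64 → ∀ w, w < 64 → decN v = decN w → v = w := by decide +kernel

end Cfsg.Agent.Helper5.Sp62
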