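import Mathlib
import Cfsg.Agent.Helper5.Sp62Mat
import Cfsg.Agent.Helper8.SpOrder

/-!
# Generators of `Sp₆(2)`

The three generators `a, b, c` of orders 7, 7, 5 as elements of the symplectic group, their
relators, the action on the 64 vectors as a permutation representation, and stabiliser chains:
`a, b, c` generate the group, and words in `a, b` spell at least 6048 elements.
-/

set_option autoImplicit false

namespace Cfsg.Agent.Helper5.Sp62

open Cfsg.Agent.Helper5.LP Cfsg.Agent.Helper5.StemP Cfsg.Agent.Helper5.TC Cfsg.Agent.Helper5.TCI Matrix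

/-- the group `Sp₆(2)`. -/
abbrev G0 : Type := Matrix.symplecticGroup (Fin 3) (ZMod 2)

/-- the letters. -/
def S (c : ℕ) : G0 := ⟨N c, SymplecticGroup.mem_iff.mpr (N_symp c)⟩

/-- the generators. -/
def g (i : ℕ) : G0 := S (2 * i)

/-- the orders. -/
def mm (i : ℕ) : ℕ := if i = 2 then 5 else 7

theorem S_mul_eq_one {c c' : ℕ} (h : N c * N c' = 1) : S c * S c' = 1 := Subtype.ext h

theorem lval_S : ∀ c, c < 6 → lval g c = S c := by
  intro c hc
  interval_cases c
  · rfl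
  · exact (eq_inv_of_mul_eq_one_right (S_mul_eq_one N_inv.1)).symm
  · rfl
  · exact (eq_inv_of_mul_eq_one_right (S_mul_eq_one N_inv.2.1)).symm
  · rfl
  · exact (eq_inv_of_mul_eq_one_right (S_mul_eq_one N_inv.2.2)).symm

theorem word_val : ∀ l : List ℕ, (∀ c ∈ l, c < 6) →
    (((l.map (lval g)).prod : G0) : Matrix I6 I6 (ZMod 2)) = (l.map N).prod
  | [], _ => rfl
  | c :: l, h => by
    rw [List.map_cons, List.prod_cons, List.map_cons, List.prod_cons,
      ← word_val l (fun c hc => h c (List.mem_cons_of_mem _ hc)), lval_S c (h c List.mem_cons_self)]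
    rfl

theorem CC_lt : ∀ r ∈ CC, ∀ c ∈ r, c < 2 * 3 := by decide

theorem CU_lt : ∀ r ∈ CU, ∀ c ∈ r, c < 2 * 2 := by decide

theorem CU_sub : ∀ r ∈ CU, r ∈ CC := by decide

theorem CC_rel : ∀ r ∈ CC, (r.map (lval g)).prod = 1 := by
  intro r hr
  apply Subtype.ext
  rw [word_val r (CC_lt r hr)]
  exact N_rels r hr

theorem S_pow {c n : ℕ} (h : (List.replicate n (N c)).prod = 1) : S c ^ n = 1 := by
  apply Subtype.ext
  rw [SubmonoidClass.coe_pow]
  rw [List.prod_replicate] at h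
  exact h

theorem g_pow : ∀ i, i < 3 → g i ^ mm i = 1 := by
  intro i hi
  interval_cases i
  · exact S_pow N_pow.1
  · exact S_pow N_pow.2.1
  · exact S_pow N_pow.2.2

/-! ### the action on the vectors -/

/-- the action on the vectors. -/
def toPermV : G0 →* Equiv.Perm (I6 → ZMod 2) where
  toFun x :=
    { toFun := fun v => (x : Matrix I6 I6 (ZMod 2)) *ᵥ v
      invFun := fun v => ((x⁻¹ : G0) : Matrix I6 I6 (ZMod 2)) *ᵥ v
      left_inv := by
        intro v
        show ((x⁻¹ : G0) : Matrix I6 I6 (ZMod 2)) *ᵥ ((x : Matrix I6 I6 (ZMod 2)) *ᵥ v) = v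
        rw [Matrix.mulVec_mulVec]
        change ((x⁻¹ * x : G0) : Matrix I6 I6 (ZMod 2)) *ᵥ v = v
        rw [inv_mul_cancel]
        exact Matrix.one_mulVec v
      right_inv := by
        intro v
        show (x : Matrix I6 I6 (ZMod 2)) *ᵥ (((x⁻¹ : G0) : Matrix I6 I6 (ZMod 2)) *ᵥ v) = v
        rw [Matrix.mulVec_mulVec]
        change ((x * x⁻¹ : G0) : Matrix I6 I6 (ZMod 2)) *ᵥ v = v
        rw [mul_inv_cancel]
        exact Matrix.one_mulVec v }
  map_one' := by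
    apply Equiv.ext
    intro v
    exact Matrix.one_mulVec v
  map_mul' x y := by
    apply Equiv.ext
    intro v
    show ((x * y : G0) : Matrix I6 I6 (ZMod 2)) *ᵥ v =
      (x : Matrix I6 I6 (ZMod 2)) *ᵥ ((y : Matrix I6 I6 (ZMod 2)) *ᵥ v)
    rw [Matrix.mulVec_mulVec]
    rfl

theorem toPermV_apply (x : G0) (v : I6 → ZMod 2) :
    toPermV x v = (x : Matrix I6 I6 (ZMod 2)) *ᵥ v := rfl

theorem decF_injective : Function.Injective (fun v : Fin 64 => decN v.val) := by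
  intro v w h
  exact Fin.ext (decN_inj v.val v.isLt w.val w.isLt h)

theorem decF_bijective : Function.Bijective (fun v : Fin 64 => decN v.val) := by
  rw [Fintype.bijective_iff_injective_and_card]
  refine ⟨decF_injective, ?_⟩
  rw [Fintype.card_fin, Fintype.card_fun, ZMod.card, Fintype.card_sum, Fintype.card_fin]
  norm_num

/-- the numbering of the vectors. -/
noncomputable def eV : Fin 64 ≃ (I6 → ZMod 2) := Equiv.ofBijective _ decF_bijective

theorem eV_apply (v : Fin 64) : eV v = decN v.val := rfl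

/-- the permutation representation on the numbers of the vectors. -/
noncomputable def rho : G0 →* Equiv.Perm (Fin 64) :=
  (eV.symm.permCongrHom.toMonoidHom).comp toPermV

theorem rho_apply (x : G0) (v : Fin 64) :
    eV (rho x v) = (x : Matrix I6 I6 (ZMod 2)) *ᵥ decN v.val := by
  show eV (eV.symm (toPermV x (eV.symm.symm v))) = _
  rw [Equiv.apply_symm_apply]
  rfl

theorem rho_S (c : ℕ) (hc : c < 6) (v : Fin 64) : (rho (S c) v).val = tabFun tab c v.val := by
  have h := tab_spec c hc v.val v.isLt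
  have h1 : eV (rho (S c) v) = eV ⟨tabFun tab c v.val, h.2⟩ := by
    rw [rho_apply, eV_apply]
    exact h.1
  have h2 := eV.injective h1
  rw [h2]

theorem rho_word : ∀ l : List ℕ, (∀ c ∈ l, c < 6) → ∀ v : Fin 64,
    (rho ((l.map (lval g)).prod) v).val = actL (tabFun tab) l v.val
  | [], _, v => by
    rw [List.map_nil, List.prod_nil, map_one]
    rfl
  | c :: l, h, v => by
    rw [List.map_cons, List.prod_cons, map_mul, Equiv.Perm.mul_apply,
      lval_S c (h c List.mem_cons_self), rho_S c (h c List.mem_cons_self),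
      rho_word l (fun c hc => h c (List.mem_cons_of_mem _ hc)) v]
    rfl

/-! ### the order -/

theorem card_G0 : Nat.card G0 = 1451520 := by
  have h := Cfsg.Agent.Helper8.SpOrder.card_symp (F := ZMod 2) 3
  rw [ZMod.card] at h
  rw [h]
  simp [Finset.prod_range_succ]

instance finG0 : Finite G0 := Nat.finite_of_card_ne_zero (by rw [card_G0]; norm_num)

/-! ### stabiliser chains -/

/-- a level of the stabiliser chain. -/
def levelG0 : Level := (1, [[0], [2]], [(1, 0), (1, 1), (16, 0), (16, 1), (11, 0), (11, 1), (41, 0), (41, 1), (53, 0), (53, 1), (10, 0), (10, 1), (42, 0), (42, 1), (55, 0), (55, 1), (40, 0), (40, 1), (21, 0), (21, 1), (47, 0), (47, 1), (26, 0), (26, 1), (33, 0), (33, 1), (22, 0), (44, 0), (44, 1), (36, 1), (32, 0), (32, 1), (35, 0), (35, 1), (25, 0), (34, 0), (34, 1), (38, 0), (38, 1), (51, 0), (51, 1), (6, 1), (56, 0), (7, 1), (63, 0), (17, 0), (17, 1), (12, 1), (13, 0), (45, 0), (45, 1), (9, 1), (18, 1), (2,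 0), (30, 1), (60, 0), (15, 1), (62, 0), (62, 1), (8, 0), (46, 1), (31, 0)])

/-- a level of the stabiliser chain. -/
def levelG1 : Level := (2, [[3, 3, 1, 4], [1, 4, 0, 0, 5]], [(2, 0), (2, 1), (55, 0), (55, 1), (39, 0), (18, 0), (18, 1), (49, 0), (49, 1), (50, 0), (50, 1), (4, 0), (4, 1), (22, 1), (33, 0), (32, 1), (7, 0), (21, 0), (21, 1), (16, 0), (19, 0), (3, 1), (35, 0), (35, 1), (17, 1), (54, 0), (51, 1), (38, 0), (36, 1)])

/-- a level of the stabiliser chain. -/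
def levelG2 : Level := (4, [[5, 0, 2, 2, 1, 1, 1, 1, 3, 4, 3, 5, 2, 2, 0], [4, 1, 1, 5, 0, 5, 0, 2, 2, 5, 0, 2, 2, 4, 1, 1, 5, 3, 3, 1, 5, 3, 4], [4, 1, 1, 5, 0, 5, 0, 2, 2, 4, 1, 1, 5, 0, 3, 1, 3, 3, 3, 4, 1, 5, 1, 4, 4]], [(4, 0), (4, 1), (4, 2), (5, 1), (5, 2), (32, 0), (32, 1), (7, 1), (6, 1), (35, 0), (35, 1)])

/-- a level of the stabiliser chain. -/
def levelG3 : Level := (8, [[5, 2, 4, 0, 2, 2, 4, 0, 0, 5, 3, 3, 1, 4, 3, 3, 1, 4, 1, 4, 0, 0, 5, 5, 2, 4, 0, 2, 2, 4, 0, 0, 5, 3, 3, 1, 4, 4, 1, 1, 5, 0, 5, 0, 2, 2, 1, 1, 1, 1, 3, 5], [4, 1, 1, 5, 0, 5, 0, 2, 1, 1, 3, 5, 5, 5, 2, 0, 0], [1, 3, 3, 4, 2, 5, 2, 0, 0, 0, 0, 3, 3, 1, 5, 0, 4, 0, 5, 2, 2, 2, 0, 2, 1, 4, 0, 0, 5, 3, 3, 1, 4, 1, 4, 0, 0, 5, 5, 0, 2, 2, 4, 1, 1, 5, 0, 4, 1, 1, 5, 1, 1, 3, 5, 0, 5, 2, 1, 4]], [(8, 0), (8, 1), (8, 2), (10, 1), (10, 2), (11, 2), (9, 2)])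

/-- a level of the stabiliser chain. -/
def levelG4 : Level := (16, [[1, 1, 3, 4, 4, 4, 2, 0, 0, 3, 1, 4, 1, 4, 0, 0, 5, 5, 5, 0, 4, 0, 5, 2, 2, 2, 0, 2, 1, 1, 4, 0, 0], [5, 0, 3, 4, 1, 4, 2, 0, 0, 0, 5, 0, 2, 2, 5, 0, 2, 2, 1, 1, 3, 1, 4, 2, 2, 5]], [(16, 0), (16, 1), (18, 1)])

/-- a level of the stabiliser chain. -/
def levelG5 : Level := (32, [[1, 1, 5, 0, 0, 3, 1, 3, 3, 3, 4, 1, 5, 1, 4, 4, 4, 1, 1, 5, 0, 5, 0, 2, 1, 1, 3, 5, 5, 5, 2, 0, 0, 5, 2, 4, 0, 2, 2, 4, 0, 0, 5, 3, 3, 1, 4, 3, 3, 1, 4, 1, 4, 0, 0, 5, 1, 3, 3, 4, 2, 5, 2, 0, 0, 0, 0, 4, 1, 1, 5, 0, 4, 1, 1, 5, 0, 5, 0, 2, 2, 1, 3, 3, 4, 2, 4, 3]], [(32, 0)])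

/-- the stabiliser chain. -/
def levelGs : List Level := [levelG0, levelG1, levelG2, levelG3, levelG4, levelG5]


/-- a level of the stabiliser chain. -/
def levelU0 : Level := (1, [[0], [2]], [(1, 0), (1, 1), (16, 0), (16, 1), (11, 0), (11, 1), (41, 0), (41, 1), (53, 0), (53, 1), (10, 0), (10, 1), (42, 0), (42, 1), (55, 0), (55, 1), (40, 0), (40, 1), (21, 0), (21, 1), (47, 0), (47, 1), (26, 0), (26, 1), (33, 0), (33, 1), (22, 0), (44, 0), (44, 1), (36, 1), (32, 0), (32, 1), (35, 0), (35, 1), (25, 0), (34, 0), (34, 1), (38, 0), (38, 1), (51, 0), (51, 1), (6, 1), (56, 0), (7, 1), (63, 0), (17, 0), (17, 1), (12, 1), (13, 0), (45, 0), (45, 1), (9, 1), (18, 1), (2, 0), (30, 1), (60, 0), (15, 1), (62, 0), (62, 1), (8, 0), (46, 1), (31, 0)])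

/-- a level of the stabiliser chain. -/
def levelU1 : Level := (2, [[3, 3, 3, 1, 1], [1, 3, 0, 3, 1, 3, 3, 1]], [(2, 0), (2, 1), (53, 0), (53, 1), (48, 0), (48, 1), (39, 0), (39, 1), (35, 0), (35, 1), (5, 0), (5, 1), (51, 0), (17, 1), (7, 0), (7, 1), (50, 1), (16, 1), (49, 0), (21, 0), (23, 1), (32, 0), (33, 1)])

/-- a level of the stabiliser chain. -/
def levelU2 : Level := (4, [[0, 0, 2, 2, 2, 0, 0, 2, 2, 2, 1, 3, 1, 1, 3, 0], [0, 0, 2, 2, 2, 1, 3, 1, 3, 0, 3, 1]], [(4, 0), (4, 1), (6, 1)])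

/-- the stabiliser chain. -/
def levelUs : List Level := [levelU0, levelU1, levelU2]


set_option maxRecDepth 100000 in
theorem chainG_ok : chainOK (tabFun tab) (2 * 3) 64 [] levelGs = true := by decide +kernel

theorem chainG_prod : chainProd levelGs = 1451520 := by decide +kernel

set_option maxRecDepth 100000 in
theorem chainU_ok : chainOK (tabFun tab) (2 * 2) 64 [] levelUs = true := by decide +kernel

theorem chainU_prod : chainProd levelUs = 6048 := by decide +kernel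

/-- a group whose words act on a table as prescribed by a homomorphism to `Sp₆(2)`. -/
theorem actsOn_of_hom {P : Type*} [Group P] (π : P →* G0) (e : List ℕ → P) (k : ℕ) (hk : k ≤ 6)
    (he : ∀ l : List ℕ, (∀ c ∈ l, c < k) → π (e l) = (l.map (lval g)).prod) :
    ActsOn (rho.comp π) e k (tabFun tab) := by
  constructor
  intro l hl v
  rw [MonoidHom.comp_apply, he l hl]
  exact rho_word l (fun c hc => lt_of_lt_of_le (hl c hc) hk) v

/-- the three generators generate the group. -/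
theorem g_closure : Subgroup.closure {y | ∃ i, i < 3 ∧ y = g i} = ⊤ := by
  classical
  set H : Subgroup G0 := Subgroup.closure {y | ∃ i, i < 3 ∧ y = g i} with hH
  have hmem : ∀ l : List ℕ, (∀ c ∈ l, c < 2 * 3) → (l.map (lval g)).prod ∈ H := by
    intro l hl
    apply Subgroup.list_prod_mem
    intro y hy
    obtain ⟨c, hc, rfl⟩ := List.mem_map.mp hy
    have hi : c / 2 < 3 := by have := hl c hc; omega
    unfold lval
    split_ifs
    · exact Subgroup.subset_closure ⟨c / 2, hi, rfl⟩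
    · exact inv_mem (Subgroup.subset_closure ⟨c / 2, hi, rfl⟩)
  let e : List ℕ → H := fun l =>
    if h : ∀ c ∈ l, c < 2 * 3 then ⟨(l.map (lval g)).prod, hmem l h⟩ else 1
  have hA : ActsOn (rho.comp H.subtype) e (2 * 3) (tabFun tab) := by
    apply actsOn_of_hom H.subtype e (2 * 3) (by norm_num)
    intro l hl
    show ((e l : H) : G0) = _
    simp only [e]
    rw [dif_pos hl]
  have h1 := card_ge_of_chain hA levelGs chainG_ok
  rw [chainG_prod] at h1
  have h2 : Nat.card H ≤ Nat.card G0 := Subgroup.card_le_card_group H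
  exact Subgroup.eq_top_of_card_eq H (by rw [card_G0] at h2 ⊢; omega)

end Cfsg.Agent.Helper5.Sp62
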