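import Cfsg.Agent.Helper5.Sp62LBJu0
import Cfsg.Agent.Helper5.Sp62LBJu1
import Cfsg.Agent.Helper5.Sp62LBJu2
import Cfsg.Agent.Helper5.Sp62LBJu3
import Cfsg.Agent.Helper5.Sp62LBJu4
import Cfsg.Agent.Helper5.Sp62LBJu5
import Cfsg.Agent.Helper5.Sp62LBJu6
import Cfsg.Agent.Helper5.Sp62LBJu7
import Cfsg.Agent.Helper5.Sp62LBJu8
import Cfsg.Agent.Helper5.Sp62LBJu9
import Cfsg.Agent.Helper5.Sp62LBTb0

/-! generated labelled Todd-Coxeter certificate, summary: Sp62LB -/

set_option autoImplicit false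
set_option maxRecDepth 1000000

namespace Cfsg.Agent.Helper5.Sp62LB
open Cfsg.Agent.Helper5.LTC

theorem upto_0 : ∀ j, j < 0 → ∃ r, checkFact cert j r = true := fun j hj => absurd hj (by omega)

theorem upto_1 : ∀ j, j < 6000 → ∃ r, checkFact cert j r = true :=
  upto_step cert upto_0 ju_0 6000 len_0 chk_0

theorem upto_2 : ∀ j, j < 12000 → ∃ r, checkFact cert j r = true :=
  upto_step cert upto_1 ju_1 6000 len_1 chk_1

theorem upto_3 : ∀ j, j < 18000 → ∃ r, checkFact cert j r = true :=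
  upto_step cert upto_2 ju_2 6000 len_2 chk_2

theorem upto_4 : ∀ j, j < 24000 → ∃ r, checkFact cert j r = true :=
  upto_step cert upto_3 ju_3 6000 len_3 chk_3

theorem upto_5 : ∀ j, j < 30000 → ∃ r, checkFact cert j r = true :=
  upto_step cert upto_4 ju_4 6000 len_4 chk_4

theorem upto_6 : ∀ j, j < 36000 → ∃ r, checkFact cert j r = true :=
  upto_step cert upto_5 ju_5 6000 len_5 chk_5

theorem upto_7 : ∀ j, j < 42000 → ∃ r, checkFact cert j r = true :=
  upto_step cert upto_6 ju_6 6000 len_6 chk_6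

theorem upto_8 : ∀ j, j < 48000 → ∃ r, checkFact cert j r = true :=
  upto_step cert upto_7 ju_7 6000 len_7 chk_7

theorem upto_9 : ∀ j, j < 54000 → ∃ r, checkFact cert j r = true :=
  upto_step cert upto_8 ju_8 6000 len_8 chk_8

theorem upto_10 : ∀ j, j < 55481 → ∃ r, checkFact cert j r = true :=
  upto_step cert upto_9 ju_9 1481 len_9 chk_9

theorem hchk : ∀ j, j < cert.nf → ∃ r, checkFact cert j r = true := upto_10

theorem rowsto_0 : ∀ n, n < 0 → ∀ x, x < cert.k → tabEntryOK cert tab n x = true :=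
  fun n hn => absurd hn (by omega)

theorem rowsto_1 : ∀ n, n < 240 → ∀ x, x < cert.k → tabEntryOK cert tab n x = true :=
  rows_step cert tab rowsto_0 240 rows_0

theorem hT : ∀ n, n < tab.N → ∀ x, x < cert.k → tabEntryOK cert tab n x = true := rowsto_1

theorem hjs : ∀ j ∈ js, relFactOK cert j = true := by decide +kernel

theorem h0 : ordOK cert js cs0 2 2 = true := by decide +kernel

theorem hgs : ∀ i, i < 3 → genOK cert js (css.getD i []) i 2 (as_.getD i 0) = true := by decide +kernel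

end Cfsg.Agent.Helper5.Sp62LB
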