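import Mathlib
import Cfsg.Agent.Helper5.Sp62CovA
import Cfsg.Agent.Helper5.Sp62LBSum
import Cfsg.Agent.Helper5.LTCI

/-!
# The covering group of exponent 12 of `Sp₆(2)`: the order bound

Labelled Todd–Coxeter over the image of the covering group of the subgroup of order 6048
(240 cosets): the covering group has order at most `2 * |Sp₆(2)|`.
-/

set_option autoImplicit false

namespace Cfsg.Agent.Helper5.Sp62

open Cfsg Cfsg.Agent.Helper5.StemP Cfsg.Agent.Helper5.LP Cfsg.Agent.Helper5.LTC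
  Cfsg.Agent.Helper5.TC Cfsg.Agent.Helper5.TCI

theorem CC2_lt : ∀ r ∈ CC ++ CC, ∀ c ∈ r, c < 2 * 3 := by
  intro r hr
  rcases List.mem_append.mp hr with h | h <;> exact CC_lt r h

theorem CC2_rel : ∀ r ∈ CC ++ CC, (r.map (lval g)).prod = 1 := by
  intro r hr
  rcases List.mem_append.mp hr with h | h <;> exact CC_rel r h

/-- the covering homomorphism. -/
noncomputable def piF : CovG 3 mm CC CC 12 →* G0 :=
  coverHomU 3 mm CC CC 12 CC2_lt g g_pow CC2_rel

theorem piF_surj : Function.Surjective piF :=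
  coverHomU_surjective 3 mm CC CC 12 CC2_lt g g_pow CC2_rel g_closure

theorem piF_ev (l : List ℕ) (hl : ∀ c ∈ l, c < 2 * 3) :
    piF (ev (2 * 3) (coverRels 3 mm CC CC 12) l) = (l.map (lval g)).prod :=
  coverHomU_ev 3 mm CC CC 12 CC2_lt g g_pow CC2_rel l hl

theorem CU_lt6 : ∀ r ∈ CU, ∀ c ∈ r, c < 2 * 3 := fun r hr c hc => by
  have := CU_lt r hr c hc
  omega

theorem evF_eq (l : List ℕ) (hl : ∀ c ∈ l, c < 2 * 2) :
    (l.map (lval (cgen 3 mm CC CC 12))).prod = ev (2 * 3) (coverRels 3 mm CC CC 12) l :=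
  (ev_eq_prod 3 mm CC CC 12 l (fun c hc => by have := hl c hc; omega)).symm

theorem rels_hold : ∀ l ∈ coverRels 2 mm CU CU 12,
    (l.map (lval (cgen 3 mm CC CC 12))).prod = 1 := by
  apply coverRels_hold
  · intro i hi
    exact cgen_pow 3 mm CC CC 12 (i := i) (by omega)
  · intro r hr
    rw [evF_eq r (CU_lt r hr)]
    exact cover_center 3 mm CC CC 12 (CU_sub r hr) (CU_lt6 r hr)
  · intro r hr
    rw [evF_eq r (CU_lt r hr), ev_pow]
    exact ev_rel (mem_coverRels_T 3 mm CC CC 12 (CU_sub r hr))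

/-- the natural map from the covering group of the subgroup. -/
noncomputable def phiF : CovG 2 mm CU CU 12 →* CovG 3 mm CC CC 12 :=
  lift (lval (cgen 3 mm CC CC 12)) (coverRels_lt 2 mm CU CU 12 CU2_lt) rels_hold

theorem phiF_ev (l : List ℕ) (hl : ∀ c ∈ l, c < 2 * 2) :
    phiF (ev (2 * 2) (coverRels 2 mm CU CU 12) l) = ev (2 * 3) (coverRels 3 mm CC CC 12) l := by
  unfold phiF
  rw [lift_ev _ _ _ l hl, evF_eq l hl]

/-- the image of the covering group of the subgroup. -/
noncomputable def kF : Subgroup (CovG 3 mm CC CC 12) := phiF.range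

instance kF_fin : Finite kF :=
  Finite.of_surjective phiF.rangeRestrict phiF.rangeRestrict_surjective

theorem kF_card : Nat.card kF ≤ 6048 :=
  (Nat.card_le_card_of_surjective phiF.rangeRestrict phiF.rangeRestrict_surjective).trans
    card_le_U.2

theorem comp_eq : piF.comp phiF = piU := by
  apply covG_hom_ext
  intro c hc
  have hl : ∀ c' ∈ [c], c' < 2 * 2 := by
    intro c' hc'
    rw [List.mem_singleton] at hc'
    omega
  have hl6 : ∀ c' ∈ [c], c' < 2 * 3 := fun c' hc' => by have := hl c' hc'; omega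
  rw [MonoidHom.comp_apply, phiF_ev [c] hl, piF_ev [c] hl6, piU_ev [c] hl]

theorem kF_map_card : 6048 ≤ Nat.card (kF.map piF) := by
  have h : kF.map piF = piU.range := by
    unfold kF
    rw [← MonoidHom.range_comp, comp_eq]
  rw [h]
  exact card_piU_range

theorem kF_inj : ∀ l, phi (zC 3 mm CC CC 12) l ∈ kF → phi (zC 3 mm CC CC 12) l = 1 := by
  intro l hl
  apply eq_one_of_map_card kF piF 6048 kF_card kF_map_card _ hl
  have hker : ∀ i, zC 3 mm CC CC 12 i ∈ piF.ker := by
    intro i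
    unfold zC
    by_cases hi : i < CC.length
    · rw [List.getD_eq_getElem CC [] hi]
      exact coverHomU_ker 3 mm CC CC 12 CC2_lt g g_pow CC2_rel (List.getElem_mem hi)
    · rw [List.getD_eq_default CC [] (by omega), ev_nil]
      exact Subgroup.one_mem _
  exact MonoidHom.mem_ker.mp (phi_mem _ hker l)

/-- the words of the subgroup are trivial in the covering group. -/
theorem evF_CU_eq_one : ∀ r ∈ CU, ev (2 * 3) (coverRels 3 mm CC CC 12) r = 1 := by
  intro r hr
  rw [← phiF_ev r (CU_lt r hr), ev_CU_eq_one r hr, map_one]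

theorem zC_tail : ∀ i, 3 ≤ i → zC 3 mm CC CC 12 i = 1 := by
  intro i hi
  unfold zC
  have e : CC.getD i [] = CU.getD (i - 3) [] := by
    rw [CC_eq]
    exact List.getD_append_right _ _ _ _ hi
  rw [e]
  by_cases hlt : i - 3 < CU.length
  · rw [List.getD_eq_getElem CU [] hlt]
    exact evF_CU_eq_one _ (List.getElem_mem hlt)
  · rw [List.getD_eq_default CU [] (by omega), ev_nil]

theorem words_lt_B : ∀ wi, ∀ c ∈ Sp62LB.cert.W wi, c < 2 * 3 := by
  intro wi c hc
  have h : ∀ w ∈ Sp62LB.words, ∀ c ∈ w, c < 6 := by decide +kernel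
  change c ∈ Sp62LB.words.getD wi [] at hc
  by_cases hwi : wi < Sp62LB.words.length
  · rw [List.getD_eq_getElem _ _ hwi] at hc
    exact h _ (List.getElem_mem hwi) c hc
  · rw [List.getD_eq_default _ _ (by omega)] at hc
    simp at hc

set_option maxRecDepth 1000000 in
theorem wordOK_B : ∀ wi, wi < Sp62LB.cert.nrel →
    wordOK2 (coverRels 3 mm CC CC 12) CC 3 (Sp62LB.cert.W wi) (Sp62LB.cert.δ wi)
      (Sp62LB.origs.getD wi 0) = true := by decide +kernel

theorem subW0_B : Sp62LB.cert.W 58 = [0] := by decide +kernel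

theorem subW1_B : Sp62LB.cert.W 59 = [2] := by decide +kernel

theorem letter_mem_kF (c : ℕ) (hc : c < 2 * 2) :
    ev (2 * 3) (coverRels 3 mm CC CC 12) [c] ∈ kF := by
  refine ⟨ev (2 * 2) (coverRels 2 mm CU CU 12) [c], ?_⟩
  apply phiF_ev
  intro c' hc'
  rw [List.mem_singleton] at hc'
  omega

theorem hsubs_B : ∀ wi, Sp62LB.cert.nrel ≤ wi → wi < Sp62LB.cert.nw →
    ev (2 * 3) (coverRels 3 mm CC CC 12) (Sp62LB.cert.W wi) ∈ kF := by
  intro wi h1 h2
  have h1' : 58 ≤ wi := h1
  have h2' : wi < 60 := h2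
  interval_cases wi
  · rw [subW0_B]
    exact letter_mem_kF 0 (by norm_num)
  · rw [subW1_B]
    exact letter_mem_kF 2 (by norm_num)

theorem card_le_F : Finite (CovG 3 mm CC CC 12) ∧
    Nat.card (CovG 3 mm CC CC 12) ≤ 1451520 * 2 := by
  have h := covG_card_le_tail 3 mm CC CC 12 Sp62LB.cert rfl rfl rfl (by norm_num)
    (fun r hr => hr) CC_lt 3 (by norm_num) zC_tail
    words_lt_B (fun wi => Sp62LB.origs.getD wi 0) wordOK_B kF hsubs_B
    kF_inj Sp62LB.hchk Sp62LB.tab (by decide +kernel) (by decide)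
    Sp62LB.hT Sp62LB.js Sp62LB.hjs 2 2 (by norm_num) (by norm_num) Sp62LB.cs0 Sp62LB.h0
    (fun i => Sp62LB.as_.getD i 0) (fun i => Sp62LB.css.getD i []) Sp62LB.hgs
  refine ⟨h.1, h.2.trans ?_⟩
  have hN : Sp62LB.tab.N = 240 := rfl
  rw [hN]
  calc Nat.card kF * 240 * 2 ≤ 6048 * 240 * 2 :=
        Nat.mul_le_mul_right _ (Nat.mul_le_mul_right _ kF_card)
    _ = 1451520 * 2 := by norm_num

instance fin_F : Finite (CovG 3 mm CC CC 12) := card_le_F.1

end Cfsg.Agent.Helper5.Sp62
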