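import Cfsg.Agent.Helper5.Sp62MDDat

/-! generated permutation model of a central extension, checks: Sp62MD -/

set_option autoImplicit false
set_option Elab.async false
set_option maxRecDepth 1000000

namespace Cfsg.Agent.Helper5.Sp62MD
open Cfsg.Agent.Helper5.TC Cfsg.Agent.Helper5.TCI Cfsg.Agent.Helper5.LP

theorem relc_29_0 : fixPtsF W_29 480 0 = true := by decide +kernel

theorem relc_27_0 : fixPtsF W_27 480 0 = true := by decide +kernel

theorem relc_22_0 : fixPtsF W_22 480 0 = true := by decide +kernel

theorem relc_11_0 : fixPtsF W_11 480 0 = true := by decide +kernel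

theorem relc_2_0 : fixPtsF W_2 480 0 = true := by decide +kernel

theorem relc_8_0 : fixPtsF W_8 480 0 = true := by decide +kernel

theorem inv_4 : invRowFI mT 480 4 5 480 0 = true := by decide +kernel

theorem relc_1_0 : fixPtsF W_1 480 0 = true := by decide +kernel

theorem relc_6_0 : fixPtsF W_6 480 0 = true := by decide +kernel

end Cfsg.Agent.Helper5.Sp62MD
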