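import Cfsg.Agent.Helper5.Sp62MDDat

/-! generated permutation model of a central extension, checks: Sp62MD -/

set_option autoImplicit false
set_option Elab.async false
set_option maxRecDepth 1000000

namespace Cfsg.Agent.Helper5.Sp62MD
open Cfsg.Agent.Helper5.TC Cfsg.Agent.Helper5.TCI Cfsg.Agent.Helper5.LP

theorem relc_30_0 : fixPtsF W_30 480 0 = true := by decide +kernel

theorem relc_28_0 : fixPtsF W_28 480 0 = true := by decide +kernel

theorem relc_23_0 : fixPtsF W_23 480 0 = true := by decide +kernel

theorem relc_12_0 : fixPtsF W_12 480 0 = true := by decide +kernel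

theorem relc_5_0 : fixPtsF W_5 480 0 = true := by decide +kernel

theorem inv_0 : invRowFI mT 480 0 1 480 0 = true := by decide +kernel

theorem inv_1 : invRowFI mT 480 1 0 480 0 = true := by decide +kernel

theorem inv_3 : invRowFI mT 480 3 2 480 0 = true := by decide +kernel

theorem relc_0_0 : fixPtsF W_0 480 0 = true := by decide +kernel

theorem relc_4_0 : fixPtsF W_4 480 0 = true := by decide +kernel

end Cfsg.Agent.Helper5.Sp62MD
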