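import Cfsg.Agent.Helper5.Sp62MDDat

/-! generated permutation model of a central extension, checks: Sp62MD -/

set_option autoImplicit false
set_option Elab.async false
set_option maxRecDepth 1000000

namespace Cfsg.Agent.Helper5.Sp62MD
open Cfsg.Agent.Helper5.TC Cfsg.Agent.Helper5.TCI Cfsg.Agent.Helper5.LP

theorem relc_31_0 : fixPtsF W_31 480 0 = true := by decide +kernel

theorem relc_24_0 : fixPtsF W_24 480 0 = true := by decide +kernel

theorem relc_26_0 : fixPtsF W_26 480 0 = true := by decide +kernel

theorem relc_16_0 : fixPtsF W_16 480 0 = true := by decide +kernel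

theorem relc_18_0 : fixPtsF W_18 480 0 = true := by decide +kernel

theorem relc_20_0 : fixPtsF W_20 480 0 = true := by decide +kernel

theorem relc_9_0 : fixPtsF W_9 480 0 = true := by decide +kernel

theorem relc_13_0 : fixPtsF W_13 480 0 = true := by decide +kernel

theorem inv_2 : invRowFI mT 480 2 3 480 0 = true := by decide +kernel

theorem inv_5 : invRowFI mT 480 5 4 480 0 = true := by decide +kernel

theorem relc_3_0 : fixPtsF W_3 480 0 = true := by decide +kernel

theorem relc_7_0 : fixPtsF W_7 480 0 = true := by decide +kernel

end Cfsg.Agent.Helper5.Sp62MD
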