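import Mathlib
import Cfsg.Agent.Helper5.Sp62CovB
import Cfsg.Agent.Helper5.Sp62MDSum
import Cfsg.Agent.Helper5.LTCM
import Cfsg.Agent.Helper5.LPE
import Cfsg.Agent.Helper5.StemPL
import Cfsg.Agent.Helper5.StemPH

/-!
# The Schur multiplier of `Sp₆(2)` is cyclic of order 2
-/

set_option autoImplicit false

namespace Cfsg.Agent.Helper5.Sp62

open Cfsg Cfsg.Agent.Helper5.StemP Cfsg.Agent.Helper5.LP Cfsg.Agent.Helper5.LTC
  Cfsg.Agent.Helper5.TC Cfsg.Agent.Helper5.TCI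

/-! ### the covering group is a double cover -/

theorem letters_F : LettersLt (2 * 3) (coverRels 3 mm CC CC 12) :=
  coverRels_lt 3 mm CC CC 12 CC2_lt

set_option maxRecDepth 1000000 in
theorem RL_F : coverRels 3 mm CC CC 12 = Sp62MD.RL := by decide +kernel

theorem relsFix_F : RelsFix (coverRels 3 mm CC CC 12) 480 Sp62MD.mT := by
  rw [RL_F]
  exact Sp62MD.relsFix

/-- the word of the central involution. -/
def zw : List ℕ := [3, 3, 5, 5, 3, 3, 5, 5, 3, 3, 5, 5]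

theorem zw_mem : zw ∈ CC := by decide

theorem zw_lt : ∀ c ∈ zw, c < 2 * 3 := CC_lt zw zw_mem

set_option maxRecDepth 1000000 in
theorem move_F : actL Sp62MD.mT (List.replicate 3 zw).flatten 0 ≠ 0 := by decide +kernel

/-- the central involution. -/
noncomputable def z0 : CovG 3 mm CC CC 12 := ev (2 * 3) (coverRels 3 mm CC CC 12) zw ^ 3

theorem z0_ne : z0 ^ 2 ^ (1 - 1) ≠ 1 := by
  have hA := actsOn_tableHomI linv_linv (fun x hx => linv_lt hx) letters_F Sp62MD.tableOK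
    relsFix_F
  have e1 : 2 ^ (1 - 1) = 1 := by norm_num
  unfold z0
  rw [e1, pow_one, ev_pow]
  refine ne_one_of_move hA _ ?_ 0 (by norm_num) move_F
  intro c hc
  obtain ⟨l, hl, hcl⟩ := List.mem_flatten.mp hc
  rw [List.eq_of_mem_replicate hl] at hcl
  exact zw_lt c hcl

theorem z0_center : z0 ∈ Subgroup.center (CovG 3 mm CC CC 12) :=
  Subgroup.pow_mem _ (cover_center 3 mm CC CC 12 zw_mem zw_lt) 3

theorem z0_ker : z0 ∈ piF.ker :=
  Subgroup.pow_mem _ (coverHomU_ker 3 mm CC CC 12 CC2_lt g g_pow CC2_rel zw_mem) 3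

theorem z0_pow : z0 ^ 2 ^ 2 = 1 := by
  unfold z0
  rw [← pow_mul, show 3 * 2 ^ 2 = 12 from rfl, ev_pow]
  exact ev_rel (mem_coverRels_T 3 mm CC CC 12 zw_mem)

theorem cgen_pow35 : ∀ x ∈ {x : CovG 3 mm CC CC 12 | ∃ i, i < 3 ∧ x = cgen 3 mm CC CC 12 i},
    x ^ 35 = 1 := by
  rintro x ⟨i, hi, rfl⟩
  interval_cases i
  · have h := cgen_pow 3 mm CC CC 12 (i := 0) (by norm_num)
    have e1 : mm 0 = 7 := rfl
    rw [e1] at h
    rw [show 35 = 7 * 5 from rfl, pow_mul, h, one_pow]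
  · have h := cgen_pow 3 mm CC CC 12 (i := 1) (by norm_num)
    have e1 : mm 1 = 7 := rfl
    rw [e1] at h
    rw [show 35 = 7 * 5 from rfl, pow_mul, h, one_pow]
  · have h := cgen_pow 3 mm CC CC 12 (i := 2) (by norm_num)
    have e1 : mm 2 = 5 := rfl
    rw [e1] at h
    rw [show 35 = 5 * 7 from rfl, pow_mul, h, one_pow]

theorem stem_F : (Cfsg.IsStemExtension piF ∧
    Nonempty (piF.ker ≃* Multiplicative (ZMod (2 ^ 1)))) ∧
    Nat.card (CovG 3 mm CC CC 12) = Nat.card G0 * 2 ^ 1 :=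
  stem_cyclic_le piF piF_surj 2 1 2 Nat.prime_two (by norm_num)
    (by rw [card_G0]; exact card_le_F.2)
    z0 z0_center z0_ker z0_pow z0_ne
    _ (closure_cgen 3 mm CC CC 12) 35 cgen_pow35 (by decide)

theorem card_F : Nat.card (CovG 3 mm CC CC 12) = Nat.card G0 * 2 := stem_F.2

/-! ### the bound for the stem extensions -/

theorem mm_cop : ∀ i, i < 3 → (mm i).Coprime 2 ∧ (mm i).Coprime 3 := by
  intro i hi
  interval_cases i <;> decide

theorem mm_cop2 : ∀ i, i < 3 → g i ^ mm i = 1 ∧ (mm i).Coprime (2 ^ 9) := by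
  intro i hi
  exact ⟨g_pow i hi, Nat.Coprime.pow_right 9 (mm_cop i hi).1⟩

theorem mm_cop3 : ∀ i, i < 3 → g i ^ mm i = 1 ∧ (mm i).Coprime (3 ^ 4) := by
  intro i hi
  exact ⟨g_pow i hi, Nat.Coprime.pow_right 4 (mm_cop i hi).2⟩

theorem bound (Γ : Type) [Group Γ] [Finite Γ] (σ : Γ →* G0)
    (hσ : Cfsg.IsStemExtension σ) : Nat.card σ.ker ≤ 2 := by
  have hc := hσ.2.1
  have : Finite (LPG (2 * 3) (coverRels 3 mm CC CC 12)) := card_le_F.1
  have hcard : Nat.card (LPG (2 * 3) (coverRels 3 mm CC CC 12)) ∣ Nat.card G0 * 2 := by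
    show Nat.card (CovG 3 mm CC CC 12) ∣ _
    rw [card_F]
  have h2 : Nat.card (qmap σ hc 2835).ker ∣ 2 :=
    card_qmap_ker_dvd_of_pow_dvd σ hσ hc 2 Nat.prime_two 9 2 2835 12 (by norm_num)
      (by rw [card_G0]; norm_num)
      3 mm CC CC CC2_lt g g_closure mm_cop2 CC2_rel 2 hcard (by decide)
  have h3 : Nat.card (qmap σ hc 17920).ker ∣ 2 :=
    card_qmap_ker_dvd_of_pow_dvd σ hσ hc 3 Nat.prime_three 4 1 17920 12 (by norm_num)
      (by rw [card_G0]; norm_num)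
      3 mm CC CC CC2_lt g g_closure mm_cop3 CC2_rel 2 hcard (by decide)
  have hbot : (qmap σ hc 17920).ker = ⊥ := by
    rw [Subgroup.eq_bot_iff_forall]
    intro y hy
    have h81 : y ^ 81 = 1 :=
      qmap_ker_pow σ hσ hc (s := 81) (t := 17920) (by rw [card_G0]) y hy
    have h2' : y ^ 2 = 1 := by
      obtain ⟨c, hc2⟩ := h3
      have h5 : y ^ Nat.card (qmap σ hc 17920).ker = 1 := by
        have h4 : (⟨y, hy⟩ : (qmap σ hc 17920).ker) ^ Nat.card (qmap σ hc 17920).ker = 1 :=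
          pow_card_eq_one'
        have h7 := congrArg Subtype.val h4
        rwa [Subgroup.coe_pow, Subgroup.coe_one] at h7
      have h6 : y ^ (Nat.card (qmap σ hc 17920).ker * c) = 1 := by rw [pow_mul, h5, one_pow]
      rwa [← hc2] at h6
    have hd : orderOf y ∣ Nat.gcd 81 2 :=
      Nat.dvd_gcd (orderOf_dvd_of_pow_eq_one h81) (orderOf_dvd_of_pow_eq_one h2')
    have e1 : Nat.gcd 81 2 = 1 := by decide
    rw [e1] at hd
    exact orderOf_eq_one_iff.mp (Nat.dvd_one.mp hd)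
  have h3' : Nat.card (qmap σ hc 17920).ker = 1 := (Subgroup.eq_bot_iff_card _).mp hbot
  have h5 : ∀ z ∈ σ.ker, z ^ Nat.gcd 2835 17920 = 1 → z = 1 := by
    intro z hz hz1
    have e35 : Nat.gcd 2835 17920 = 5 * 7 := by decide
    rw [e35] at hz1
    refine eq_one_of_pow_eq_one σ hσ (5 * 7) ?_ z hz hz1
    intro q hq hqd
    rw [card_G0]
    rcases (Nat.Prime.dvd_mul hq).mp hqd with h | h
    · rw [(Nat.prime_dvd_prime_iff_eq hq (by norm_num)).mp h]
      decide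
    · rw [(Nat.prime_dvd_prime_iff_eq hq (by norm_num)).mp h]
      decide
  have h6 := card_ker_le_mul σ hc 2835 17920 h5
  calc Nat.card σ.ker ≤ Nat.card (qmap σ hc 2835).ker * Nat.card (qmap σ hc 17920).ker := h6
    _ ≤ 2 * 1 := Nat.mul_le_mul (Nat.le_of_dvd (by norm_num) h2) (le_of_eq h3')
    _ = 2 := by norm_num

theorem main : Cfsg.HasCyclicSchurMultiplier G0 2 := by
  have c2 : Nat.card (Multiplicative (ZMod 2)) = 2 := by
    change Nat.card (ZMod 2) = 2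
    rw [Nat.card_zmod]
  apply hasSchurMultiplier_of_exists_of_card_le
  · exact ⟨CovG 3 mm CC CC 12, inferInstance, card_le_F.1, piF, stem_F.1.1, stem_F.1.2⟩
  · intro Γ _ _ σ hσ
    rw [c2]
    exact bound Γ σ hσ

end Cfsg.Agent.Helper5.Sp62
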