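import Mathlib
import Cfsg.Prelude.Def_Classical
import Cfsg.Agent.Helper5.SpMap
import Cfsg.Agent.Helper8.SpOrder
import Cfsg.Agent.S0246

/-!
# `PSp₆(F) ≅ Sp₆(ℤ/2)` for a field `F` with two elements
-/

set_option autoImplicit false

namespace Cfsg.Agent.Helper5.Sp62

open Cfsg.Agent.Helper5.SpMap

section
variable {F : Type*} [Field F] [Fintype F]

/-- the prime field is the given field with two elements. -/
noncomputable def e2 (hF : Fintype.card F = 2) : ZMod 2 ≃+* F :=
  FiniteField.ringEquivOfCardEq (by rw [ZMod.card, hF])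

theorem spMap_bijective (hF : Fintype.card F = 2) :
    Function.Bijective (spMap (l := Fin 3) ((e2 hF : ZMod 2 ≃+* F) : ZMod 2 →+* F)) := by
  apply Function.Injective.bijective_of_nat_card_le
  · exact spMap_injective _ (RingEquiv.injective _)
  · rw [Cfsg.Agent.Helper8.SpOrder.card_symp (F := F) 3,
      Cfsg.Agent.Helper8.SpOrder.card_symp (F := ZMod 2) 3, hF, ZMod.card]

/-- `Sp₆(ℤ/2) ≅ Sp₆(F)`. -/
noncomputable def spIso (hF : Fintype.card F = 2) :
    Matrix.symplecticGroup (Fin 3) (ZMod 2) ≃* Matrix.symplecticGroup (Fin 3) F :=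
  MulEquiv.ofBijective _ (spMap_bijective hF)

theorem center_eq_bot (hF : Fintype.card F = 2) :
    Subgroup.center (Matrix.symplecticGroup (Fin 3) F) = ⊥ := by
  rw [Subgroup.eq_bot_iff_card, Cfsg.Agent.S0246.result hF 3 (by norm_num)]
  decide

/-- `Sp₆(ℤ/2) ≅ PSp₆(F)`. -/
noncomputable def pspIso (hF : Fintype.card F = 2) :
    Matrix.symplecticGroup (Fin 3) (ZMod 2) ≃* Cfsg.PSp 3 F :=
  (spIso hF).trans
    ((QuotientGroup.quotientBot (G := Matrix.symplecticGroup (Fin 3) F)).symm.trans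
      (QuotientGroup.quotientMulEquivOfEq (center_eq_bot hF).symm))

end

end Cfsg.Agent.Helper5.Sp62
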