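import Cfsg.Agent.Helper5.Sp62MDDat

/-! generated permutation model of a central extension, checks: Sp62MD -/

set_option autoImplicit false
set_option Elab.async false
set_option maxRecDepth 1000000

namespace Cfsg.Agent.Helper5.Sp62MD
open Cfsg.Agent.Helper5.TC Cfsg.Agent.Helper5.TCI Cfsg.Agent.Helper5.LP

theorem relc_32_0 : fixPtsF W_32 480 0 = true := by decide +kernel

theorem relc_25_0 : fixPtsF W_25 480 0 = true := by decide +kernel

theorem relc_15_0 : fixPtsF W_15 480 0 = true := by decide +kernel

theorem relc_17_0 : fixPtsF W_17 480 0 = true := by decide +kernel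

theorem relc_19_0 : fixPtsF W_19 480 0 = true := by decide +kernel

theorem relc_21_0 : fixPtsF W_21 480 0 = true := by decide +kernel

theorem relc_10_0 : fixPtsF W_10 480 0 = true := by decide +kernel

theorem relc_14_0 : fixPtsF W_14 480 0 = true := by decide +kernel

end Cfsg.Agent.Helper5.Sp62MD
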