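import Cfsg.Agent.Helper5.TC3A
import Cfsg.Agent.Helper5.TCIB
import Cfsg.Agent.Helper5.LPI
import Cfsg.Agent.Helper5.StemPB

/-! generated permutation model of a central extension: Sp62MD -/

set_option autoImplicit false
set_option Elab.async false

namespace Cfsg.Agent.Helper5.Sp62MD
open Cfsg.Agent.Helper5.TC Cfsg.Agent.Helper5.TCI Cfsg.Agent.Helper5.LP

def mc0_0 : ℕ := 0x1d800d800c3009201a901bf01cc01cb01a4017300d001c1007900e301a3009b01b8009101b1015f006c018800ba00c600c901d200c001d4016000d4006301a6007101de0059005700da01bd01ae01df0069005500bd01cf00e9018601dd00a101c30141004a007e01c900ad004600ca00430041009701dc01d6003c003b017e0062003a017a019e015101d00158008d005a00ac018a0033014d00320179019f01db01340190003600770162002f01d70168007b013c018d002c00cb00b000b7013801af002800b100ea0026006601420025008c00e5007c01650023003800cc003e01570124002101c7002000b500d6019500e1001f0022011700aa00a400de00dd006a001c01b4004e001b01be01b5001a002b00d500d2001901830049012100180176005f01ac019200370180001601a2009e00c701890014018c00c2009f0130006d004d005000a900120178019800bb01850030019700b80175001000a6008b001d00530073016a0013007d0082001500ab0087011a012f00a3000e000c00ff0171000b009401550150008f000a0080004700580084011d007f0008005e007600740007006e006b00060064005b005c000500560054004f004b00450042003d003900350003002e002900240002001e0017000d00110001000900040000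
def msel0 (c : ℕ) : ℕ := mc0_0
def mc0 (v : ℕ) : ℕ := forceL (Nat.mod v 240) fun n => forceL (Nat.rec (motive := fun _ => ℕ) 0 (fun c _ => Nat.mod (Nat.shiftRight (msel0 c) (Nat.mul 16 (Nat.mod n 1024))) 65536) (Nat.add (Nat.div n 1024) 1)) fun e => Nat.add (Nat.mod e 240) (Nat.mul 240 (Nat.mod (Nat.add (Nat.div v 240) (Nat.div e 240)) 2))

def mc1_0 : ℕ := 0x1b801be01b101a4018f008b00c301df018801a3008501c400e201c60076019a01b40070006f01d901d800cb01ab00ee016b0078006500d201af006401d400e501da015901ba0080009200b800d701cf005500d80158015c00ed005101cd00d5017e01b900c5014c004700d901db0043009001c0007901d701d10147008c00910190019c00ba00a600360072004b013801340040016700710032014b00c0018d005000560184014200e00195014401ca00b501b20136002c015200ec00de0149002901a000a80086003f019d019101390035014e0132002401d60038011e0027002200bc003900840096012b00e30187009b001f0173001e003c018a00cf01c301cc001c004e00db001b006e00c70199016e0089011b001900d100af019b011a005d002001930017001800a700cd002500cc001500c60014003d017801ae004c0013006b004d0185001200bd0061017f002600b90011018e00b7001000b6013f0123007f000f00b200b100ae000e0081005a009c000d016d00a400a2015000450099000b0113009300660124000a008d0163008a0087000900820074007c007a00750007003e006d006a00670063005f0006005800370053003a004a00040041011f003100050030002d002800020021001d001a00160001000c000800030000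
def msel1 (c : ℕ) : ℕ := mc1_0
def mc1 (v : ℕ) : ℕ := forceL (Nat.mod v 240) fun n => forceL (Nat.rec (motive := fun _ => ℕ) 0 (fun c _ => Nat.mod (Nat.shiftRight (msel1 c) (Nat.mul 16 (Nat.mod n 1024))) 65536) (Nat.add (Nat.div n 1024) 1)) fun e => Nat.add (Nat.mod e 240) (Nat.mul 240 (Nat.mod (Nat.add (Nat.div v 240) (Nat.div e 240)) 2))

def mc2_0 : ℕ := 0x1cb01c500c201d1009001dc01b10089018901a1008701d200dc007801d60172008e01c1006e006c01d901d0017400ee006b006501c600df016b00d700c0006201da01dd006701ca018b019201b7005501c201df01a700e8005100690187004e00d3007900ae0049004a014800440048005d01c001b601d7003d016f014e00630184019d0193013f0046014301aa003500560034003301440142008d01d30037003100eb01ac0030003c002f0194017600b501b3002c01260129007300a100d900cd01cd0196017000a5014a00960025013301bc014f01a80023011e007a0022009a00a000e5008801ce007700e401a0001f018201a300b201bb0117001d01b401c4001c00ce001b00c8006d0154018c002900d80019006a00be00c501a90018018f00cf013b01300118016c016e005c017c00ca00c900aa01a401ab0070014b001601af004d001201a600bd0042009e001a001100ab01830010006800950198012b000f0057002d008300af0150008100ac000d00a900a701610024000c009d000b00980166017f009100170131004c008b008a0009008500140165007d0038000701640072006f011b010500660061000500590135012e00500004004700f8003f003a00030032001e002a002600210020000200010013000e000a00060000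
def msel2 (c : ℕ) : ℕ := mc2_0
def mc2 (v : ℕ) : ℕ := forceL (Nat.mod v 240) fun n => forceL (Nat.rec (motive := fun _ => ℕ) 0 (fun c _ => Nat.mod (Nat.shiftRight (msel2 c) (Nat.mul 16 (Nat.mod n 1024))) 65536) (Nat.add (Nat.div n 1024) 1)) fun e => Nat.add (Nat.mod e 240) (Nat.mul 240 (Nat.mod (Nat.add (Nat.div v 240) (Nat.div e 240)) 2))

def mc3_0 : ℕ := 0x1b600d801be01da009e01bf01cb00c401a401d1007d0079019101d401dc01ca00d4016b017e00e301df01bc0090006600d201c501de015f00bf01b701ce01a6005e006d008f0176016300560055006b01b901a500620160018600ed01d900d1013e0063004a018d014201990151017401b5013b009701430165007401d60168003a00bd019e003700450054003501300034017d008b0189019d01ba0091007e014f00480030015801bb007f01d7002e01b100890041019f01340166002b00eb011c00df00a201470027002600e8007c00e50188002401c9003b01d00038017c01a201490021014a01c3008100be00e2007a011d0112010e0092001d01230051001c00dd006a00dc00d7006400c2004200cd001900d6015900b000d000180129017501a100b700580140017a001601aa003d00a700c80194019a019300c30013019c00c0004d0028014d00bb00bc00b8001100ab010500b9017700490119014c000f010400b3009b012f000e0183002000a0018400a800a600a5000c009f009c009a0172003c0095010b000a0067014b016200090088003200830080000800070077000b0071006e006c004700650060002a004f010a00230004004c00460043003e000300360031002f000200250100001f000100170012000d000600050000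
def msel3 (c : ℕ) : ℕ := mc3_0
def mc3 (v : ℕ) : ℕ := forceL (Nat.mod v 240) fun n => forceL (Nat.rec (motive := fun _ => ℕ) 0 (fun c _ => Nat.mod (Nat.shiftRight (msel3 c) (Nat.mul 16 (Nat.mod n 1024))) 65536) (Nat.add (Nat.div n 1024) 1)) fun e => Nat.add (Nat.mod e 240) (Nat.mul 240 (Nat.mod (Nat.add (Nat.div v 240) (Nat.div e 240)) 2))

def mc4_0 : ℕ := 0xcd01c001c900c701d4017f01d60193017a007d00b700ec00ea019800ab0077008b01c5009f00a600ae006a006701d30065018e00d301ce006400c0018300b10168005900ac0076005600c301d200ce009400cb01a2017300be00c8016a014800ca004b01a9019500a001a400e800c200ef00bd0135003f017700dd01cb01b9012b00ee008800e50129003500ed012a01cc01c700c6009d00b6015e017d003101430030004800cc002f0127007401510071009201ca01db00a2002b01c200d60175002801ab0027002d00e9002501d10116013201c800950141011e0022011a009901a300e7007b00200089006b001f007f0188015c00e0003301c100df013a012d01620174017001bf006d0172001a0047007c00a700d4009a0018009c012e0150006f0017015600aa001600b8013f005501ac001400af00c500c4001300c10181008e0012017100bf010b00a400110199013100ba0040016500460024000f00b5009b014d0144000e00b000ad0153000d017c005a001d000c015200a10119005f006800970096000a00430090004d0009011101400086013c0008007e014c00790036007300700006006901220005005e005b005700040052004e004900440003003c003800340007002c010e00230001001c001900150010000b00000002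
def msel4 (c : ℕ) : ℕ := mc4_0
def mc4 (v : ℕ) : ℕ := forceL (Nat.mod v 240) fun n => forceL (Nat.rec (motive := fun _ => ℕ) 0 (fun c _ => Nat.mod (Nat.shiftRight (msel4 c) (Nat.mul 16 (Nat.mod n 1024))) 65536) (Nat.add (Nat.div n 1024) 1)) fun e => Nat.add (Nat.mod e 240) (Nat.mul 240 (Nat.mod (Nat.add (Nat.div v 240) (Nat.div e 240)) 2))

def mc5_0 : ℕ := 0xb700ae00a900e4018400e3008a00b9007d01d900ac01db01c801b901780074007101c400b2019701a1018501dd01750196009001ce006400d50181016201de015b00c800ef009c00c600bf01a000c200ec00a50053005200ca00b8005000d2004b00c300b60146017d004501ad005900e500a3003f01aa016e01b500d0003a005400db003900cd00e1005b013701d2006500dc01ac004901d80093003100bb00dd01c600a40061003e0063007f0166002d002c008400c701c10096013f002901da004e0191012600df01d7007a00ad01a30024017f015d01b40159013c015c0077002100e60066007c01b1001f01bf00e000cc01330099001d015e0097001c005e0192006a0165007900da001a002e00d9014c00d700d3012801220188014f002f0017012d01100016003500ce01b0001500cb0057012c018f001301730115014800120028011300be01600011009d0067004201a50010002a01760136004400b40150015f000e019f0198019b000d018a001e00aa000c0073010900a0009e009b0172008b000a009201700120008e008c017700890041000800810116007b007800f900340006013a006800050062005d005a000400550051004d004800030040003b003700330002002b00270022000b001b00180014000f000000070001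
def msel5 (c : ℕ) : ℕ := mc5_0
def mc5 (v : ℕ) : ℕ := forceL (Nat.mod v 240) fun n => forceL (Nat.rec (motive := fun _ => ℕ) 0 (fun c _ => Nat.mod (Nat.shiftRight (msel5 c) (Nat.mul 16 (Nat.mod n 1024))) 65536) (Nat.add (Nat.div n 1024) 1)) fun e => Nat.add (Nat.mod e 240) (Nat.mul 240 (Nat.mod (Nat.add (Nat.div v 240) (Nat.div e 240)) 2))

def mT (x v : ℕ) : ℕ := (Bool.rec (motive := fun _ => ℕ) (Bool.rec (motive := fun _ => ℕ) (mc0 v) (Bool.rec (motive := fun _ => ℕ) (mc1 v) (mc2 v) (Nat.ble 2 x)) (Nat.ble 1 x)) (Bool.rec (motive := fun _ => ℕ) (mc3 v) (Bool.rec (motive := fun _ => ℕ) (mc4 v) (mc5 v) (Nat.ble 5 x)) (Nat.ble 4 x)) (Nat.ble 3 x))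

def RL_0 : List ℕ := [0, 1]
def RL_1 : List ℕ := [1, 0]
def RL_2 : List ℕ := [0, 0, 0, 0, 0, 0, 0]
def RL_3 : List ℕ := [2, 3]
def RL_4 : List ℕ := [3, 2]
def RL_5 : List ℕ := [2, 2, 2, 2, 2, 2, 2]
def RL_6 : List ℕ := [4, 5]
def RL_7 : List ℕ := [5, 4]
def RL_8 : List ℕ := [4, 4, 4, 4, 4]
def RL_9 : List ℕ := [0, 3, 1, 1, 4, 3, 3, 4, 3, 3, 0, 2, 2, 5, 2, 2, 5, 0, 0, 2, 1, 1]
def RL_10 : List ℕ := [0, 3, 1, 1, 4, 3, 3, 4, 3, 3, 2, 2, 2, 5, 2, 2, 5, 0, 0, 2, 1, 3]
def RL_11 : List ℕ := [0, 3, 1, 1, 4, 3, 3, 4, 3, 3, 4, 2, 2, 5, 2, 2, 5, 0, 0, 2, 1, 5]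
def RL_12 : List ℕ := [1, 3, 3, 5, 2, 1, 3, 3, 5, 2, 0, 3, 4, 2, 2, 0, 3, 4, 2, 2, 0, 1]
def RL_13 : List ℕ := [1, 3, 3, 5, 2, 1, 3, 3, 5, 2, 2, 3, 4, 2, 2, 0, 3, 4, 2, 2, 0, 3]
def RL_14 : List ℕ := [1, 3, 3, 5, 2, 1, 3, 3, 5, 2, 4, 3, 4, 2, 2, 0, 3, 4, 2, 2, 0, 5]
def RL_15 : List ℕ := [3, 3, 5, 5, 3, 3, 5, 5, 3, 3, 5, 5, 0, 4, 4, 2, 2, 4, 4, 2, 2, 4, 4, 2, 2, 1]
def RL_16 : List ℕ := [3, 3, 5, 5, 3, 3, 5, 5, 3, 3, 5, 5, 2, 4, 4, 2, 2, 4, 4, 2, 2, 4, 4, 2, 2, 3]
def RL_17 : List ℕ := [3, 3, 5, 5, 3, 3, 5, 5, 3, 3, 5, 5, 4, 4, 4, 2, 2, 4, 4, 2, 2, 4, 4, 2, 2, 5]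
def RL_18 : List ℕ := [0, 2, 0, 3, 3, 1, 3, 3, 3, 1, 3, 3, 0, 2, 2, 0, 2, 2, 2, 0, 2, 2, 1, 3, 1, 1]
def RL_19 : List ℕ := [0, 2, 0, 3, 3, 1, 3, 3, 3, 1, 3, 3, 2, 2, 2, 0, 2, 2, 2, 0, 2, 2, 1, 3, 1, 3]
def RL_20 : List ℕ := [0, 2, 0, 3, 3, 1, 3, 3, 3, 1, 3, 3, 4, 2, 2, 0, 2, 2, 2, 0, 2, 2, 1, 3, 1, 5]
def RL_21 : List ℕ := [1, 3, 3, 3, 1, 3, 3, 3, 1, 3, 3, 3, 0, 2, 2, 2, 0, 2, 2, 2, 0, 2, 2, 2, 0, 1]
def RL_22 : List ℕ := [1, 3, 3, 3, 1, 3, 3, 3, 1, 3, 3, 3, 2, 2, 2, 2, 0, 2, 2, 2, 0, 2, 2, 2, 0, 3]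
def RL_23 : List ℕ := [1, 3, 3, 3, 1, 3, 3, 3, 1, 3, 3, 3, 4, 2, 2, 2, 0, 2, 2, 2, 0, 2, 2, 2, 0, 5]
def RL_24 : List ℕ := [0, 3, 1, 1, 1, 3, 3, 3, 1, 1, 2, 1, 3, 0, 2, 0, 3, 0, 0, 2, 2, 2, 0, 0, 0, 2, 1, 1]
def RL_25 : List ℕ := [0, 3, 1, 1, 1, 3, 3, 3, 1, 1, 2, 1, 3, 2, 2, 0, 3, 0, 0, 2, 2, 2, 0, 0, 0, 2, 1, 3]
def RL_26 : List ℕ := [0, 3, 1, 1, 1, 3, 3, 3, 1, 1, 2, 1, 3, 4, 2, 0, 3, 0, 0, 2, 2, 2, 0, 0, 0, 2, 1, 5]
def RL_27 : List ℕ := [0, 3, 1, 1, 4, 3, 3, 4, 3, 3, 0, 3, 1, 1, 4, 3, 3, 4, 3, 3, 0, 3, 1, 1, 4, 3, 3, 4, 3, 3, 0, 3, 1, 1, 4, 3, 3, 4, 3, 3, 0, 3, 1, 1, 4, 3, 3, 4, 3, 3, 0, 3, 1, 1, 4, 3, 3, 4, 3, 3, 0, 3, 1, 1, 4, 3, 3, 4, 3, 3, 0, 3, 1, 1, 4, 3, 3, 4, 3, 3, 0, 3, 1, 1, 4, 3, 3, 4, 3, 3, 0, 3, 1, 1, 4, 3, 3, 4, 3, 3, 0, 3, 1, 1, 4, 3, 3, 4, 3, 3, 0, 3, 1, 1, 4, 3, 3, 4, 3, 3]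
def RL_28 : List ℕ := [1, 3, 3, 5, 2, 1, 3, 3, 5, 2, 1, 3, 3, 5, 2, 1, 3, 3, 5, 2, 1, 3, 3, 5, 2, 1, 3, 3, 5, 2, 1, 3, 3, 5, 2, 1, 3, 3, 5, 2, 1, 3, 3, 5, 2, 1, 3, 3, 5, 2, 1, 3, 3, 5, 2, 1, 3, 3, 5, 2, 1, 3, 3, 5, 2, 1, 3, 3, 5, 2, 1, 3, 3, 5, 2, 1, 3, 3, 5, 2, 1, 3, 3, 5, 2, 1, 3, 3, 5, 2, 1, 3, 3, 5, 2, 1, 3, 3, 5, 2, 1, 3, 3, 5, 2, 1, 3, 3, 5, 2, 1, 3, 3, 5, 2, 1, 3, 3, 5, 2]
def RL_29 : List ℕ := [3, 3, 5, 5, 3, 3, 5, 5, 3, 3, 5, 5, 3, 3, 5, 5, 3, 3, 5, 5, 3, 3, 5, 5, 3, 3, 5, 5, 3, 3, 5, 5, 3, 3, 5, 5, 3, 3, 5, 5, 3, 3, 5, 5, 3, 3, 5, 5, 3, 3, 5, 5, 3, 3, 5, 5, 3, 3, 5, 5, 3, 3, 5, 5, 3, 3, 5, 5, 3, 3, 5, 5, 3, 3, 5, 5, 3, 3, 5, 5, 3, 3, 5, 5, 3, 3, 5, 5, 3, 3, 5, 5, 3, 3, 5, 5, 3, 3, 5, 5, 3, 3, 5, 5, 3, 3, 5, 5, 3, 3, 5, 5, 3, 3, 5, 5, 3, 3, 5, 5, 3, 3, 5, 5, 3, 3, 5, 5, 3, 3, 5, 5, 3, 3, 5, 5, 3, 3, 5, 5, 3, 3, 5, 5]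
def RL_30 : List ℕ := [0, 2, 0, 3, 3, 1, 3, 3, 3, 1, 3, 3, 0, 2, 0, 3, 3, 1, 3, 3, 3, 1, 3, 3, 0, 2, 0, 3, 3, 1, 3, 3, 3, 1, 3, 3, 0, 2, 0, 3, 3, 1, 3, 3, 3, 1, 3, 3, 0, 2, 0, 3, 3, 1, 3, 3, 3, 1, 3, 3, 0, 2, 0, 3, 3, 1, 3, 3, 3, 1, 3, 3, 0, 2, 0, 3, 3, 1, 3, 3, 3, 1, 3, 3, 0, 2, 0, 3, 3, 1, 3, 3, 3, 1, 3, 3, 0, 2, 0, 3, 3, 1, 3, 3, 3, 1, 3, 3, 0, 2, 0, 3, 3, 1, 3, 3, 3, 1, 3, 3, 0, 2, 0, 3, 3, 1, 3, 3, 3, 1, 3, 3, 0, 2, 0, 3, 3, 1, 3, 3, 3, 1, 3, 3]
def RL_31 : List ℕ := [1, 3, 3, 3, 1, 3, 3, 3, 1, 3, 3, 3, 1, 3, 3, 3, 1, 3, 3, 3, 1, 3, 3, 3, 1, 3, 3, 3, 1, 3, 3, 3, 1, 3, 3, 3, 1, 3, 3, 3, 1, 3, 3, 3, 1, 3, 3, 3, 1, 3, 3, 3, 1, 3, 3, 3, 1, 3, 3, 3, 1, 3, 3, 3, 1, 3, 3, 3, 1, 3, 3, 3, 1, 3, 3, 3, 1, 3, 3, 3, 1, 3, 3, 3, 1, 3, 3, 3, 1, 3, 3, 3, 1, 3, 3, 3, 1, 3, 3, 3, 1, 3, 3, 3, 1, 3, 3, 3, 1, 3, 3, 3, 1, 3, 3, 3, 1, 3, 3, 3, 1, 3, 3, 3, 1, 3, 3, 3, 1, 3, 3, 3, 1, 3, 3, 3, 1, 3, 3, 3, 1, 3, 3, 3]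
def RL_32 : List ℕ := [0, 3, 1, 1, 1, 3, 3, 3, 1, 1, 2, 1, 3, 0, 3, 1, 1, 1, 3, 3, 3, 1, 1, 2, 1, 3, 0, 3, 1, 1, 1, 3, 3, 3, 1, 1, 2, 1, 3, 0, 3, 1, 1, 1, 3, 3, 3, 1, 1, 2, 1, 3, 0, 3, 1, 1, 1, 3, 3, 3, 1, 1, 2, 1, 3, 0, 3, 1, 1, 1, 3, 3, 3, 1, 1, 2, 1, 3, 0, 3, 1, 1, 1, 3, 3, 3, 1, 1, 2, 1, 3, 0, 3, 1, 1, 1, 3, 3, 3, 1, 1, 2, 1, 3, 0, 3, 1, 1, 1, 3, 3, 3, 1, 1, 2, 1, 3, 0, 3, 1, 1, 1, 3, 3, 3, 1, 1, 2, 1, 3, 0, 3, 1, 1, 1, 3, 3, 3, 1, 1, 2, 1, 3, 0, 3, 1, 1, 1, 3, 3, 3, 1, 1, 2, 1, 3]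
def RL : List (List ℕ) := [RL_0, RL_1, RL_2, RL_3, RL_4, RL_5, RL_6, RL_7, RL_8, RL_9, RL_10, RL_11, RL_12, RL_13, RL_14, RL_15, RL_16, RL_17, RL_18, RL_19, RL_20, RL_21, RL_22, RL_23, RL_24, RL_25, RL_26, RL_27, RL_28, RL_29, RL_30, RL_31, RL_32]

set_option maxRecDepth 1000000 in
def W_0 (v : ℕ) : ℕ := forceL (mc1 v) (fun a1 => forceL (mc0 a1) (fun a2 => a2))
set_option maxRecDepth 1000000 in
def W_1 (v : ℕ) : ℕ := forceL (mc0 v) (fun a1 => forceL (mc1 a1) (fun a2 => a2))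
set_option maxRecDepth 1000000 in
def W_2 (v : ℕ) : ℕ := forceL (mc0 v) (fun a1 => forceL (mc0 a1) (fun a2 => forceL (mc0 a2) (fun a3 => forceL (mc0 a3) (fun a4 => forceL (mc0 a4) (fun a5 => forceL (mc0 a5) (fun a6 => forceL (mc0 a6) (fun a7 => a7)))))))
set_option maxRecDepth 1000000 in
def W_3 (v : ℕ) : ℕ := forceL (mc3 v) (fun a1 => forceL (mc2 a1) (fun a2 => a2))
set_option maxRecDepth 1000000 in
def W_4 (v : ℕ) : ℕ := forceL (mc2 v) (fun a1 => forceL (mc3 a1) (fun a2 => a2))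
set_option maxRecDepth 1000000 in
def W_5 (v : ℕ) : ℕ := forceL (mc2 v) (fun a1 => forceL (mc2 a1) (fun a2 => forceL (mc2 a2) (fun a3 => forceL (mc2 a3) (fun a4 => forceL (mc2 a4) (fun a5 => forceL (mc2 a5) (fun a6 => forceL (mc2 a6) (fun a7 => a7)))))))
set_option maxRecDepth 1000000 in
def W_6 (v : ℕ) : ℕ := forceL (mc5 v) (fun a1 => forceL (mc4 a1) (fun a2 => a2))
set_option maxRecDepth 1000000 in
def W_7 (v : ℕ) : ℕ := forceL (mc4 v) (fun a1 => forceL (mc5 a1) (fun a2 => a2))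
set_option maxRecDepth 1000000 in
def W_8 (v : ℕ) : ℕ := forceL (mc4 v) (fun a1 => forceL (mc4 a1) (fun a2 => forceL (mc4 a2) (fun a3 => forceL (mc4 a3) (fun a4 => forceL (mc4 a4) (fun a5 => a5)))))
set_option maxRecDepth 1000000 in
def W_9 (v : ℕ) : ℕ := forceL (mc1 v) (fun a1 => forceL (mc1 a1) (fun a2 => forceL (mc2 a2) (fun a3 => forceL (mc0 a3) (fun a4 => forceL (mc0 a4) (fun a5 => forceL (mc5 a5) (fun a6 => forceL (mc2 a6) (fun a7 => forceL (mc2 a7) (fun a8 => forceL (mc5 a8) (fun a9 => forceL (mc2 a9) (fun a10 => forceL (mc2 a10) (fun a11 => forceL (mc0 a11) (fun a12 => forceL (mc3 a12) (fun a13 => forceL (mc3 a13) (fun a14 => forceL (mc4 a14) (fun a15 => forceL (mc3 a15) (fun a16 => forceL (mc3 a16) (fun a17 => forceL (mc4 a17) (fun a18 => forceL (mc1 a18) (fun a19 => forceL (mc1 a19) (fun a20 => forceL (mc3 a20) (fun a21 => forceL (mc0 a21) (fun a22 => a22))))))))))))))))))))))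
set_option maxRecDepth 1000000 in
def W_10 (v : ℕ) : ℕ := forceL (mc3 v) (fun a1 => forceL (mc1 a1) (fun a2 => forceL (mc2 a2) (fun a3 => forceL (mc0 a3) (fun a4 => forceL (mc0 a4) (fun a5 => forceL (mc5 a5) (fun a6 => forceL (mc2 a6) (fun a7 => forceL (mc2 a7) (fun a8 => forceL (mc5 a8) (fun a9 => forceL (mc2 a9) (fun a10 => forceL (mc2 a10) (fun a11 => forceL (mc2 a11) (fun a12 => forceL (mc3 a12) (fun a13 => forceL (mc3 a13) (fun a14 => forceL (mc4 a14) (fun a15 => forceL (mc3 a15) (fun a16 => forceL (mc3 a16) (fun a17 => forceL (mc4 a17) (fun a18 => forceL (mc1 a18) (fun a19 => forceL (mc1 a19) (fun a20 => forceL (mc3 a20) (fun a21 => forceL (mc0 a21) (fun a22 => a22))))))))))))))))))))))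
set_option maxRecDepth 1000000 in
def W_11 (v : ℕ) : ℕ := forceL (mc5 v) (fun a1 => forceL (mc1 a1) (fun a2 => forceL (mc2 a2) (fun a3 => forceL (mc0 a3) (fun a4 => forceL (mc0 a4) (fun a5 => forceL (mc5 a5) (fun a6 => forceL (mc2 a6) (fun a7 => forceL (mc2 a7) (fun a8 => forceL (mc5 a8) (fun a9 => forceL (mc2 a9) (fun a10 => forceL (mc2 a10) (fun a11 => forceL (mc4 a11) (fun a12 => forceL (mc3 a12) (fun a13 => forceL (mc3 a13) (fun a14 => forceL (mc4 a14) (fun a15 => forceL (mc3 a15) (fun a16 => forceL (mc3 a16) (fun a17 => forceL (mc4 a17) (fun a18 => forceL (mc1 a18) (fun a19 => forceL (mc1 a19) (fun a20 => forceL (mc3 a20) (fun a21 => forceL (mc0 a21) (fun a22 => a22))))))))))))))))))))))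
set_option maxRecDepth 1000000 in
def W_12 (v : ℕ) : ℕ := forceL (mc1 v) (fun a1 => forceL (mc0 a1) (fun a2 => forceL (mc2 a2) (fun a3 => forceL (mc2 a3) (fun a4 => forceL (mc4 a4) (fun a5 => forceL (mc3 a5) (fun a6 => forceL (mc0 a6) (fun a7 => forceL (mc2 a7) (fun a8 => forceL (mc2 a8) (fun a9 => forceL (mc4 a9) (fun a10 => forceL (mc3 a10) (fun a11 => forceL (mc0 a11) (fun a12 => forceL (mc2 a12) (fun a13 => forceL (mc5 a13) (fun a14 => forceL (mc3 a14) (fun a15 => forceL (mc3 a15) (fun a16 => forceL (mc1 a16) (fun a17 => forceL (mc2 a17) (fun a18 => forceL (mc5 a18) (fun a19 => forceL (mc3 a19) (fun a20 => forceL (mc3 a20) (fun a21 => forceL (mc1 a21) (fun a22 => a22))))))))))))))))))))))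
set_option maxRecDepth 1000000 in
def W_13 (v : ℕ) : ℕ := forceL (mc3 v) (fun a1 => forceL (mc0 a1) (fun a2 => forceL (mc2 a2) (fun a3 => forceL (mc2 a3) (fun a4 => forceL (mc4 a4) (fun a5 => forceL (mc3 a5) (fun a6 => forceL (mc0 a6) (fun a7 => forceL (mc2 a7) (fun a8 => forceL (mc2 a8) (fun a9 => forceL (mc4 a9) (fun a10 => forceL (mc3 a10) (fun a11 => forceL (mc2 a11) (fun a12 => forceL (mc2 a12) (fun a13 => forceL (mc5 a13) (fun a14 => forceL (mc3 a14) (fun a15 => forceL (mc3 a15) (fun a16 => forceL (mc1 a16) (fun a17 => forceL (mc2 a17) (fun a18 => forceL (mc5 a18) (fun a19 => forceL (mc3 a19) (fun a20 => forceL (mc3 a20) (fun a21 => forceL (mc1 a21) (fun a22 => a22))))))))))))))))))))))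
set_option maxRecDepth 1000000 in
def W_14 (v : ℕ) : ℕ := forceL (mc5 v) (fun a1 => forceL (mc0 a1) (fun a2 => forceL (mc2 a2) (fun a3 => forceL (mc2 a3) (fun a4 => forceL (mc4 a4) (fun a5 => forceL (mc3 a5) (fun a6 => forceL (mc0 a6) (fun a7 => forceL (mc2 a7) (fun a8 => forceL (mc2 a8) (fun a9 => forceL (mc4 a9) (fun a10 => forceL (mc3 a10) (fun a11 => forceL (mc4 a11) (fun a12 => forceL (mc2 a12) (fun a13 => forceL (mc5 a13) (fun a14 => forceL (mc3 a14) (fun a15 => forceL (mc3 a15) (fun a16 => forceL (mc1 a16) (fun a17 => forceL (mc2 a17) (fun a18 => forceL (mc5 a18) (fun a19 => forceL (mc3 a19) (fun a20 => forceL (mc3 a20) (fun a21 => forceL (mc1 a21) (fun a22 => a22))))))))))))))))))))))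
set_option maxRecDepth 1000000 in
def W_15 (v : ℕ) : ℕ := forceL (mc1 v) (fun a1 => forceL (mc2 a1) (fun a2 => forceL (mc2 a2) (fun a3 => forceL (mc4 a3) (fun a4 => forceL (mc4 a4) (fun a5 => forceL (mc2 a5) (fun a6 => forceL (mc2 a6) (fun a7 => forceL (mc4 a7) (fun a8 => forceL (mc4 a8) (fun a9 => forceL (mc2 a9) (fun a10 => forceL (mc2 a10) (fun a11 => forceL (mc4 a11) (fun a12 => forceL (mc4 a12) (fun a13 => forceL (mc0 a13) (fun a14 => forceL (mc5 a14) (fun a15 => forceL (mc5 a15) (fun a16 => forceL (mc3 a16) (fun a17 => forceL (mc3 a17) (fun a18 => forceL (mc5 a18) (fun a19 => forceL (mc5 a19) (fun a20 => forceL (mc3 a20) (fun a21 => forceL (mc3 a21) (fun a22 => forceL (mc5 a22) (fun a23 => forceL (mc5 a23) (fun a24 => forceL (mc3 a24) (fun a25 => forceL (mc3 a25) (fun a26 => a26))))))))))))))))))))))))))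
set_option maxRecDepth 1000000 in
def W_16 (v : ℕ) : ℕ := forceL (mc3 v) (fun a1 => forceL (mc2 a1) (fun a2 => forceL (mc2 a2) (fun a3 => forceL (mc4 a3) (fun a4 => forceL (mc4 a4) (fun a5 => forceL (mc2 a5) (fun a6 => forceL (mc2 a6) (fun a7 => forceL (mc4 a7) (fun a8 => forceL (mc4 a8) (fun a9 => forceL (mc2 a9) (fun a10 => forceL (mc2 a10) (fun a11 => forceL (mc4 a11) (fun a12 => forceL (mc4 a12) (fun a13 => forceL (mc2 a13) (fun a14 => forceL (mc5 a14) (fun a15 => forceL (mc5 a15) (fun a16 => forceL (mc3 a16) (fun a17 => forceL (mc3 a17) (fun a18 => forceL (mc5 a18) (fun a19 => forceL (mc5 a19) (fun a20 => forceL (mc3 a20) (fun a21 => forceL (mc3 a21) (fun a22 => forceL (mc5 a22) (fun a23 => forceL (mc5 a23) (fun a24 => forceL (mc3 a24) (fun a25 => forceL (mc3 a25) (fun a26 => a26))))))))))))))))))))))))))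
set_option maxRecDepth 1000000 in
def W_17 (v : ℕ) : ℕ := forceL (mc5 v) (fun a1 => forceL (mc2 a1) (fun a2 => forceL (mc2 a2) (fun a3 => forceL (mc4 a3) (fun a4 => forceL (mc4 a4) (fun a5 => forceL (mc2 a5) (fun a6 => forceL (mc2 a6) (fun a7 => forceL (mc4 a7) (fun a8 => forceL (mc4 a8) (fun a9 => forceL (mc2 a9) (fun a10 => forceL (mc2 a10) (fun a11 => forceL (mc4 a11) (fun a12 => forceL (mc4 a12) (fun a13 => forceL (mc4 a13) (fun a14 => forceL (mc5 a14) (fun a15 => forceL (mc5 a15) (fun a16 => forceL (mc3 a16) (fun a17 => forceL (mc3 a17) (fun a18 => forceL (mc5 a18) (fun a19 => forceL (mc5 a19) (fun a20 => forceL (mc3 a20) (fun a21 => forceL (mc3 a21) (fun a22 => forceL (mc5 a22) (fun a23 => forceL (mc5 a23) (fun a24 => forceL (mc3 a24) (fun a25 => forceL (mc3 a25) (fun a26 => a26))))))))))))))))))))))))))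
set_option maxRecDepth 1000000 in
def W_18 (v : ℕ) : ℕ := forceL (mc1 v) (fun a1 => forceL (mc1 a1) (fun a2 => forceL (mc3 a2) (fun a3 => forceL (mc1 a3) (fun a4 => forceL (mc2 a4) (fun a5 => forceL (mc2 a5) (fun a6 => forceL (mc0 a6) (fun a7 => forceL (mc2 a7) (fun a8 => forceL (mc2 a8) (fun a9 => forceL (mc2 a9) (fun a10 => forceL (mc0 a10) (fun a11 => forceL (mc2 a11) (fun a12 => forceL (mc2 a12) (fun a13 => forceL (mc0 a13) (fun a14 => forceL (mc3 a14) (fun a15 => forceL (mc3 a15) (fun a16 => forceL (mc1 a16) (fun a17 => forceL (mc3 a17) (fun a18 => forceL (mc3 a18) (fun a19 => forceL (mc3 a19) (fun a20 => forceL (mc1 a20) (fun a21 => forceL (mc3 a21) (fun a22 => forceL (mc3 a22) (fun a23 => forceL (mc0 a23) (fun a24 => forceL (mc2 a24) (fun a25 => forceL (mc0 a25) (fun a26 => a26))))))))))))))))))))))))))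
set_option maxRecDepth 1000000 in
def W_19 (v : ℕ) : ℕ := forceL (mc3 v) (fun a1 => forceL (mc1 a1) (fun a2 => forceL (mc3 a2) (fun a3 => forceL (mc1 a3) (fun a4 => forceL (mc2 a4) (fun a5 => forceL (mc2 a5) (fun a6 => forceL (mc0 a6) (fun a7 => forceL (mc2 a7) (fun a8 => forceL (mc2 a8) (fun a9 => forceL (mc2 a9) (fun a10 => forceL (mc0 a10) (fun a11 => forceL (mc2 a11) (fun a12 => forceL (mc2 a12) (fun a13 => forceL (mc2 a13) (fun a14 => forceL (mc3 a14) (fun a15 => forceL (mc3 a15) (fun a16 => forceL (mc1 a16) (fun a17 => forceL (mc3 a17) (fun a18 => forceL (mc3 a18) (fun a19 => forceL (mc3 a19) (fun a20 => forceL (mc1 a20) (fun a21 => forceL (mc3 a21) (fun a22 => forceL (mc3 a22) (fun a23 => forceL (mc0 a23) (fun a24 => forceL (mc2 a24) (fun a25 => forceL (mc0 a25) (fun a26 => a26))))))))))))))))))))))))))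
set_option maxRecDepth 1000000 in
def W_20 (v : ℕ) : ℕ := forceL (mc5 v) (fun a1 => forceL (mc1 a1) (fun a2 => forceL (mc3 a2) (fun a3 => forceL (mc1 a3) (fun a4 => forceL (mc2 a4) (fun a5 => forceL (mc2 a5) (fun a6 => forceL (mc0 a6) (fun a7 => forceL (mc2 a7) (fun a8 => forceL (mc2 a8) (fun a9 => forceL (mc2 a9) (fun a10 => forceL (mc0 a10) (fun a11 => forceL (mc2 a11) (fun a12 => forceL (mc2 a12) (fun a13 => forceL (mc4 a13) (fun a14 => forceL (mc3 a14) (fun a15 => forceL (mc3 a15) (fun a16 => forceL (mc1 a16) (fun a17 => forceL (mc3 a17) (fun a18 => forceL (mc3 a18) (fun a19 => forceL (mc3 a19) (fun a20 => forceL (mc1 a20) (fun a21 => forceL (mc3 a21) (fun a22 => forceL (mc3 a22) (fun a23 => forceL (mc0 a23) (fun a24 => forceL (mc2 a24) (fun a25 => forceL (mc0 a25) (fun a26 => a26))))))))))))))))))))))))))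
set_option maxRecDepth 1000000 in
def W_21 (v : ℕ) : ℕ := forceL (mc1 v) (fun a1 => forceL (mc0 a1) (fun a2 => forceL (mc2 a2) (fun a3 => forceL (mc2 a3) (fun a4 => forceL (mc2 a4) (fun a5 => forceL (mc0 a5) (fun a6 => forceL (mc2 a6) (fun a7 => forceL (mc2 a7) (fun a8 => forceL (mc2 a8) (fun a9 => forceL (mc0 a9) (fun a10 => forceL (mc2 a10) (fun a11 => forceL (mc2 a11) (fun a12 => forceL (mc2 a12) (fun a13 => forceL (mc0 a13) (fun a14 => forceL (mc3 a14) (fun a15 => forceL (mc3 a15) (fun a16 => forceL (mc3 a16) (fun a17 => forceL (mc1 a17) (fun a18 => forceL (mc3 a18) (fun a19 => forceL (mc3 a19) (fun a20 => forceL (mc3 a20) (fun a21 => forceL (mc1 a21) (fun a22 => forceL (mc3 a22) (fun a23 => forceL (mc3 a23) (fun a24 => forceL (mc3 a24) (fun a25 => forceL (mc1 a25) (fun a26 => a26))))))))))))))))))))))))))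
set_option maxRecDepth 1000000 in
def W_22 (v : ℕ) : ℕ := forceL (mc3 v) (fun a1 => forceL (mc0 a1) (fun a2 => forceL (mc2 a2) (fun a3 => forceL (mc2 a3) (fun a4 => forceL (mc2 a4) (fun a5 => forceL (mc0 a5) (fun a6 => forceL (mc2 a6) (fun a7 => forceL (mc2 a7) (fun a8 => forceL (mc2 a8) (fun a9 => forceL (mc0 a9) (fun a10 => forceL (mc2 a10) (fun a11 => forceL (mc2 a11) (fun a12 => forceL (mc2 a12) (fun a13 => forceL (mc2 a13) (fun a14 => forceL (mc3 a14) (fun a15 => forceL (mc3 a15) (fun a16 => forceL (mc3 a16) (fun a17 => forceL (mc1 a17) (fun a18 => forceL (mc3 a18) (fun a19 => forceL (mc3 a19) (fun a20 => forceL (mc3 a20) (fun a21 => forceL (mc1 a21) (fun a22 => forceL (mc3 a22) (fun a23 => forceL (mc3 a23) (fun a24 => forceL (mc3 a24) (fun a25 => forceL (mc1 a25) (fun a26 => a26))))))))))))))))))))))))))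
set_option maxRecDepth 1000000 in
def W_23 (v : ℕ) : ℕ := forceL (mc5 v) (fun a1 => forceL (mc0 a1) (fun a2 => forceL (mc2 a2) (fun a3 => forceL (mc2 a3) (fun a4 => forceL (mc2 a4) (fun a5 => forceL (mc0 a5) (fun a6 => forceL (mc2 a6) (fun a7 => forceL (mc2 a7) (fun a8 => forceL (mc2 a8) (fun a9 => forceL (mc0 a9) (fun a10 => forceL (mc2 a10) (fun a11 => forceL (mc2 a11) (fun a12 => forceL (mc2 a12) (fun a13 => forceL (mc4 a13) (fun a14 => forceL (mc3 a14) (fun a15 => forceL (mc3 a15) (fun a16 => forceL (mc3 a16) (fun a17 => forceL (mc1 a17) (fun a18 => forceL (mc3 a18) (fun a19 => forceL (mc3 a19) (fun a20 => forceL (mc3 a20) (fun a21 => forceL (mc1 a21) (fun a22 => forceL (mc3 a22) (fun a23 => forceL (mc3 a23) (fun a24 => forceL (mc3 a24) (fun a25 => forceL (mc1 a25) (fun a26 => a26))))))))))))))))))))))))))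
set_option maxRecDepth 1000000 in
def W_24 (v : ℕ) : ℕ := forceL (mc1 v) (fun a1 => forceL (mc1 a1) (fun a2 => forceL (mc2 a2) (fun a3 => forceL (mc0 a3) (fun a4 => forceL (mc0 a4) (fun a5 => forceL (mc0 a5) (fun a6 => forceL (mc2 a6) (fun a7 => forceL (mc2 a7) (fun a8 => forceL (mc2 a8) (fun a9 => forceL (mc0 a9) (fun a10 => forceL (mc0 a10) (fun a11 => forceL (mc3 a11) (fun a12 => forceL (mc0 a12) (fun a13 => forceL (mc2 a13) (fun a14 => forceL (mc0 a14) (fun a15 => forceL (mc3 a15) (fun a16 => forceL (mc1 a16) (fun a17 => forceL (mc2 a17) (fun a18 => forceL (mc1 a18) (fun a19 => forceL (mc1 a19) (fun a20 => forceL (mc3 a20) (fun a21 => forceL (mc3 a21) (fun a22 => forceL (mc3 a22) (fun a23 => forceL (mc1 a23) (fun a24 => forceL (mc1 a24) (fun a25 => forceL (mc1 a25) (fun a26 => forceL (mc3 a26) (fun a27 => forceL (mc0 a27) (fun a28 => a28))))))))))))))))))))))))))))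
set_option maxRecDepth 1000000 in
def W_25 (v : ℕ) : ℕ := forceL (mc3 v) (fun a1 => forceL (mc1 a1) (fun a2 => forceL (mc2 a2) (fun a3 => forceL (mc0 a3) (fun a4 => forceL (mc0 a4) (fun a5 => forceL (mc0 a5) (fun a6 => forceL (mc2 a6) (fun a7 => forceL (mc2 a7) (fun a8 => forceL (mc2 a8) (fun a9 => forceL (mc0 a9) (fun a10 => forceL (mc0 a10) (fun a11 => forceL (mc3 a11) (fun a12 => forceL (mc0 a12) (fun a13 => forceL (mc2 a13) (fun a14 => forceL (mc2 a14) (fun a15 => forceL (mc3 a15) (fun a16 => forceL (mc1 a16) (fun a17 => forceL (mc2 a17) (fun a18 => forceL (mc1 a18) (fun a19 => forceL (mc1 a19) (fun a20 => forceL (mc3 a20) (fun a21 => forceL (mc3 a21) (fun a22 => forceL (mc3 a22) (fun a23 => forceL (mc1 a23) (fun a24 => forceL (mc1 a24) (fun a25 => forceL (mc1 a25) (fun a26 => forceL (mc3 a26) (fun a27 => forceL (mc0 a27) (fun a28 => a28))))))))))))))))))))))))))))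
set_option maxRecDepth 1000000 in
def W_26 (v : ℕ) : ℕ := forceL (mc5 v) (fun a1 => forceL (mc1 a1) (fun a2 => forceL (mc2 a2) (fun a3 => forceL (mc0 a3) (fun a4 => forceL (mc0 a4) (fun a5 => forceL (mc0 a5) (fun a6 => forceL (mc2 a6) (fun a7 => forceL (mc2 a7) (fun a8 => forceL (mc2 a8) (fun a9 => forceL (mc0 a9) (fun a10 => forceL (mc0 a10) (fun a11 => forceL (mc3 a11) (fun a12 => forceL (mc0 a12) (fun a13 => forceL (mc2 a13) (fun a14 => forceL (mc4 a14) (fun a15 => forceL (mc3 a15) (fun a16 => forceL (mc1 a16) (fun a17 => forceL (mc2 a17) (fun a18 => forceL (mc1 a18) (fun a19 => forceL (mc1 a19) (fun a20 => forceL (mc3 a20) (fun a21 => forceL (mc3 a21) (fun a22 => forceL (mc3 a22) (fun a23 => forceL (mc1 a23) (fun a24 => forceL (mc1 a24) (fun a25 => forceL (mc1 a25) (fun a26 => forceL (mc3 a26) (fun a27 => forceL (mc0 a27) (fun a28 => a28))))))))))))))))))))))))))))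
set_option maxRecDepth 1000000 in
def W_27 (v : ℕ) : ℕ := forceL (mc3 v) (fun a1 => forceL (mc3 a1) (fun a2 => forceL (mc4 a2) (fun a3 => forceL (mc3 a3) (fun a4 => forceL (mc3 a4) (fun a5 => forceL (mc4 a5) (fun a6 => forceL (mc1 a6) (fun a7 => forceL (mc1 a7) (fun a8 => forceL (mc3 a8) (fun a9 => forceL (mc0 a9) (fun a10 => forceL (mc3 a10) (fun a11 => forceL (mc3 a11) (fun a12 => forceL (mc4 a12) (fun a13 => forceL (mc3 a13) (fun a14 => forceL (mc3 a14) (fun a15 => forceL (mc4 a15) (fun a16 => forceL (mc1 a16) (fun a17 => forceL (mc1 a17) (fun a18 => forceL (mc3 a18) (fun a19 => forceL (mc0 a19) (fun a20 => forceL (mc3 a20) (fun a21 => forceL (mc3 a21) (fun a22 => forceL (mc4 a22) (fun a23 => forceL (mc3 a23) (fun a24 => forceL (mc3 a24) (fun a25 => forceL (mc4 a25) (fun a26 => forceL (mc1 a26) (fun a27 => forceL (mc1 a27) (fun a28 => forceL (mc3 a28) (fun a29 => forceL (mc0 a29) (fun a30 => forceL (mc3 a30) (fun a31 => forceL (mc3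 a31) (fun a32 => forceL (mc4 a32) (fun a33 => forceL (mc3 a33) (fun a34 => forceL (mc3 a34) (fun a35 => forceL (mc4 a35) (fun a36 => forceL (mc1 a36) (fun a37 => forceL (mc1 a37) (fun a38 => forceL (mc3 a38) (fun a39 => forceL (mc0 a39) (fun a40 => forceL (mc3 a40) (fun a41 => forceL (mc3 a41) (fun a42 => forceL (mc4 a42) (fun a43 => forceL (mc3 a43) (fun a44 => forceL (mc3 a44) (fun a45 => forceL (mc4 a45) (fun a46 => forceL (mc1 a46) (fun a47 => forceL (mc1 a47) (fun a48 => forceL (mc3 a48) (fun a49 => forceL (mc0 a49) (fun a50 => forceL (mc3 a50) (fun a51 => forceL (mc3 a51) (fun a52 => forceL (mc4 a52) (fun a53 => forceL (mc3 a53) (fun a54 => forceL (mc3 a54) (fun a55 => forceL (mc4 a55) (fun a56 => forceL (mc1 a56) (fun a57 => forceL (mc1 a57) (fun a58 => forceL (mc3 a58) (fun a59 => forceL (mc0 a59) (fun a60 => forceL (mc3 a60) (fun a61 => forceL (mc3 a61) (fun a62 => forceL (mc4 a62) (fun a63 => forceL (mc3 a63) (fun a64 => forceL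 (mc3 a64) (fun a65 => forceL (mc4 a65) (fun a66 => forceL (mc1 a66) (fun a67 => forceL (mc1 a67) (fun a68 => forceL (mc3 a68) (fun a69 => forceL (mc0 a69) (fun a70 => forceL (mc3 a70) (fun a71 => forceL (mc3 a71) (fun a72 => forceL (mc4 a72) (fun a73 => forceL (mc3 a73) (fun a74 => forceL (mc3 a74) (fun a75 => forceL (mc4 a75) (fun a76 => forceL (mc1 a76) (fun a77 => forceL (mc1 a77) (fun a78 => forceL (mc3 a78) (fun a79 => forceL (mc0 a79) (fun a80 => forceL (mc3 a80) (fun a81 => forceL (mc3 a81) (fun a82 => forceL (mc4 a82) (fun a83 => forceL (mc3 a83) (fun a84 => forceL (mc3 a84) (fun a85 => forceL (mc4 a85) (fun a86 => forceL (mc1 a86) (fun a87 => forceL (mc1 a87) (fun a88 => forceL (mc3 a88) (fun a89 => forceL (mc0 a89) (fun a90 => forceL (mc3 a90) (fun a91 => forceL (mc3 a91) (fun a92 => forceL (mc4 a92) (fun a93 => forceL (mc3 a93) (fun a94 => forceL (mc3 a94) (fun a95 => forceL (mc4 a95) (fun a96 => forceL (mc1 a96) (fun a97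 => forceL (mc1 a97) (fun a98 => forceL (mc3 a98) (fun a99 => forceL (mc0 a99) (fun a100 => forceL (mc3 a100) (fun a101 => forceL (mc3 a101) (fun a102 => forceL (mc4 a102) (fun a103 => forceL (mc3 a103) (fun a104 => forceL (mc3 a104) (fun a105 => forceL (mc4 a105) (fun a106 => forceL (mc1 a106) (fun a107 => forceL (mc1 a107) (fun a108 => forceL (mc3 a108) (fun a109 => forceL (mc0 a109) (fun a110 => forceL (mc3 a110) (fun a111 => forceL (mc3 a111) (fun a112 => forceL (mc4 a112) (fun a113 => forceL (mc3 a113) (fun a114 => forceL (mc3 a114) (fun a115 => forceL (mc4 a115) (fun a116 => forceL (mc1 a116) (fun a117 => forceL (mc1 a117) (fun a118 => forceL (mc3 a118) (fun a119 => forceL (mc0 a119) (fun a120 => a120))))))))))))))))))))))))))))))))))))))))))))))))))))))))))))))))))))))))))))))))))))))))))))))))))))))))))))))))))))))))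
set_option maxRecDepth 1000000 in
def W_28 (v : ℕ) : ℕ := forceL (mc2 v) (fun a1 => forceL (mc5 a1) (fun a2 => forceL (mc3 a2) (fun a3 => forceL (mc3 a3) (fun a4 => forceL (mc1 a4) (fun a5 => forceL (mc2 a5) (fun a6 => forceL (mc5 a6) (fun a7 => forceL (mc3 a7) (fun a8 => forceL (mc3 a8) (fun a9 => forceL (mc1 a9) (fun a10 => forceL (mc2 a10) (fun a11 => forceL (mc5 a11) (fun a12 => forceL (mc3 a12) (fun a13 => forceL (mc3 a13) (fun a14 => forceL (mc1 a14) (fun a15 => forceL (mc2 a15) (fun a16 => forceL (mc5 a16) (fun a17 => forceL (mc3 a17) (fun a18 => forceL (mc3 a18) (fun a19 => forceL (mc1 a19) (fun a20 => forceL (mc2 a20) (fun a21 => forceL (mc5 a21) (fun a22 => forceL (mc3 a22) (fun a23 => forceL (mc3 a23) (fun a24 => forceL (mc1 a24) (fun a25 => forceL (mc2 a25) (fun a26 => forceL (mc5 a26) (fun a27 => forceL (mc3 a27) (fun a28 => forceL (mc3 a28) (fun a29 => forceL (mc1 a29) (fun a30 => forceL (mc2 a30) (fun a31 => forceL (mc5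 a31) (fun a32 => forceL (mc3 a32) (fun a33 => forceL (mc3 a33) (fun a34 => forceL (mc1 a34) (fun a35 => forceL (mc2 a35) (fun a36 => forceL (mc5 a36) (fun a37 => forceL (mc3 a37) (fun a38 => forceL (mc3 a38) (fun a39 => forceL (mc1 a39) (fun a40 => forceL (mc2 a40) (fun a41 => forceL (mc5 a41) (fun a42 => forceL (mc3 a42) (fun a43 => forceL (mc3 a43) (fun a44 => forceL (mc1 a44) (fun a45 => forceL (mc2 a45) (fun a46 => forceL (mc5 a46) (fun a47 => forceL (mc3 a47) (fun a48 => forceL (mc3 a48) (fun a49 => forceL (mc1 a49) (fun a50 => forceL (mc2 a50) (fun a51 => forceL (mc5 a51) (fun a52 => forceL (mc3 a52) (fun a53 => forceL (mc3 a53) (fun a54 => forceL (mc1 a54) (fun a55 => forceL (mc2 a55) (fun a56 => forceL (mc5 a56) (fun a57 => forceL (mc3 a57) (fun a58 => forceL (mc3 a58) (fun a59 => forceL (mc1 a59) (fun a60 => forceL (mc2 a60) (fun a61 => forceL (mc5 a61) (fun a62 => forceL (mc3 a62) (fun a63 => forceL (mc3 a63) (fun a64 => forceL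 (mc1 a64) (fun a65 => forceL (mc2 a65) (fun a66 => forceL (mc5 a66) (fun a67 => forceL (mc3 a67) (fun a68 => forceL (mc3 a68) (fun a69 => forceL (mc1 a69) (fun a70 => forceL (mc2 a70) (fun a71 => forceL (mc5 a71) (fun a72 => forceL (mc3 a72) (fun a73 => forceL (mc3 a73) (fun a74 => forceL (mc1 a74) (fun a75 => forceL (mc2 a75) (fun a76 => forceL (mc5 a76) (fun a77 => forceL (mc3 a77) (fun a78 => forceL (mc3 a78) (fun a79 => forceL (mc1 a79) (fun a80 => forceL (mc2 a80) (fun a81 => forceL (mc5 a81) (fun a82 => forceL (mc3 a82) (fun a83 => forceL (mc3 a83) (fun a84 => forceL (mc1 a84) (fun a85 => forceL (mc2 a85) (fun a86 => forceL (mc5 a86) (fun a87 => forceL (mc3 a87) (fun a88 => forceL (mc3 a88) (fun a89 => forceL (mc1 a89) (fun a90 => forceL (mc2 a90) (fun a91 => forceL (mc5 a91) (fun a92 => forceL (mc3 a92) (fun a93 => forceL (mc3 a93) (fun a94 => forceL (mc1 a94) (fun a95 => forceL (mc2 a95) (fun a96 => forceL (mc5 a96) (fun a97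 => forceL (mc3 a97) (fun a98 => forceL (mc3 a98) (fun a99 => forceL (mc1 a99) (fun a100 => forceL (mc2 a100) (fun a101 => forceL (mc5 a101) (fun a102 => forceL (mc3 a102) (fun a103 => forceL (mc3 a103) (fun a104 => forceL (mc1 a104) (fun a105 => forceL (mc2 a105) (fun a106 => forceL (mc5 a106) (fun a107 => forceL (mc3 a107) (fun a108 => forceL (mc3 a108) (fun a109 => forceL (mc1 a109) (fun a110 => forceL (mc2 a110) (fun a111 => forceL (mc5 a111) (fun a112 => forceL (mc3 a112) (fun a113 => forceL (mc3 a113) (fun a114 => forceL (mc1 a114) (fun a115 => forceL (mc2 a115) (fun a116 => forceL (mc5 a116) (fun a117 => forceL (mc3 a117) (fun a118 => forceL (mc3 a118) (fun a119 => forceL (mc1 a119) (fun a120 => a120))))))))))))))))))))))))))))))))))))))))))))))))))))))))))))))))))))))))))))))))))))))))))))))))))))))))))))))))))))))))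
set_option maxRecDepth 1000000 in
def W_29 (v : ℕ) : ℕ := forceL (mc5 v) (fun a1 => forceL (mc5 a1) (fun a2 => forceL (mc3 a2) (fun a3 => forceL (mc3 a3) (fun a4 => forceL (mc5 a4) (fun a5 => forceL (mc5 a5) (fun a6 => forceL (mc3 a6) (fun a7 => forceL (mc3 a7) (fun a8 => forceL (mc5 a8) (fun a9 => forceL (mc5 a9) (fun a10 => forceL (mc3 a10) (fun a11 => forceL (mc3 a11) (fun a12 => forceL (mc5 a12) (fun a13 => forceL (mc5 a13) (fun a14 => forceL (mc3 a14) (fun a15 => forceL (mc3 a15) (fun a16 => forceL (mc5 a16) (fun a17 => forceL (mc5 a17) (fun a18 => forceL (mc3 a18) (fun a19 => forceL (mc3 a19) (fun a20 => forceL (mc5 a20) (fun a21 => forceL (mc5 a21) (fun a22 => forceL (mc3 a22) (fun a23 => forceL (mc3 a23) (fun a24 => forceL (mc5 a24) (fun a25 => forceL (mc5 a25) (fun a26 => forceL (mc3 a26) (fun a27 => forceL (mc3 a27) (fun a28 => forceL (mc5 a28) (fun a29 => forceL (mc5 a29) (fun a30 => forceL (mc3 a30) (fun a31 => forceL (mc3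 a31) (fun a32 => forceL (mc5 a32) (fun a33 => forceL (mc5 a33) (fun a34 => forceL (mc3 a34) (fun a35 => forceL (mc3 a35) (fun a36 => forceL (mc5 a36) (fun a37 => forceL (mc5 a37) (fun a38 => forceL (mc3 a38) (fun a39 => forceL (mc3 a39) (fun a40 => forceL (mc5 a40) (fun a41 => forceL (mc5 a41) (fun a42 => forceL (mc3 a42) (fun a43 => forceL (mc3 a43) (fun a44 => forceL (mc5 a44) (fun a45 => forceL (mc5 a45) (fun a46 => forceL (mc3 a46) (fun a47 => forceL (mc3 a47) (fun a48 => forceL (mc5 a48) (fun a49 => forceL (mc5 a49) (fun a50 => forceL (mc3 a50) (fun a51 => forceL (mc3 a51) (fun a52 => forceL (mc5 a52) (fun a53 => forceL (mc5 a53) (fun a54 => forceL (mc3 a54) (fun a55 => forceL (mc3 a55) (fun a56 => forceL (mc5 a56) (fun a57 => forceL (mc5 a57) (fun a58 => forceL (mc3 a58) (fun a59 => forceL (mc3 a59) (fun a60 => forceL (mc5 a60) (fun a61 => forceL (mc5 a61) (fun a62 => forceL (mc3 a62) (fun a63 => forceL (mc3 a63) (fun a64 => forceL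 (mc5 a64) (fun a65 => forceL (mc5 a65) (fun a66 => forceL (mc3 a66) (fun a67 => forceL (mc3 a67) (fun a68 => forceL (mc5 a68) (fun a69 => forceL (mc5 a69) (fun a70 => forceL (mc3 a70) (fun a71 => forceL (mc3 a71) (fun a72 => forceL (mc5 a72) (fun a73 => forceL (mc5 a73) (fun a74 => forceL (mc3 a74) (fun a75 => forceL (mc3 a75) (fun a76 => forceL (mc5 a76) (fun a77 => forceL (mc5 a77) (fun a78 => forceL (mc3 a78) (fun a79 => forceL (mc3 a79) (fun a80 => forceL (mc5 a80) (fun a81 => forceL (mc5 a81) (fun a82 => forceL (mc3 a82) (fun a83 => forceL (mc3 a83) (fun a84 => forceL (mc5 a84) (fun a85 => forceL (mc5 a85) (fun a86 => forceL (mc3 a86) (fun a87 => forceL (mc3 a87) (fun a88 => forceL (mc5 a88) (fun a89 => forceL (mc5 a89) (fun a90 => forceL (mc3 a90) (fun a91 => forceL (mc3 a91) (fun a92 => forceL (mc5 a92) (fun a93 => forceL (mc5 a93) (fun a94 => forceL (mc3 a94) (fun a95 => forceL (mc3 a95) (fun a96 => forceL (mc5 a96) (fun a97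 => forceL (mc5 a97) (fun a98 => forceL (mc3 a98) (fun a99 => forceL (mc3 a99) (fun a100 => forceL (mc5 a100) (fun a101 => forceL (mc5 a101) (fun a102 => forceL (mc3 a102) (fun a103 => forceL (mc3 a103) (fun a104 => forceL (mc5 a104) (fun a105 => forceL (mc5 a105) (fun a106 => forceL (mc3 a106) (fun a107 => forceL (mc3 a107) (fun a108 => forceL (mc5 a108) (fun a109 => forceL (mc5 a109) (fun a110 => forceL (mc3 a110) (fun a111 => forceL (mc3 a111) (fun a112 => forceL (mc5 a112) (fun a113 => forceL (mc5 a113) (fun a114 => forceL (mc3 a114) (fun a115 => forceL (mc3 a115) (fun a116 => forceL (mc5 a116) (fun a117 => forceL (mc5 a117) (fun a118 => forceL (mc3 a118) (fun a119 => forceL (mc3 a119) (fun a120 => forceL (mc5 a120) (fun a121 => forceL (mc5 a121) (fun a122 => forceL (mc3 a122) (fun a123 => forceL (mc3 a123) (fun a124 => forceL (mc5 a124) (fun a125 => forceL (mc5 a125) (fun a126 => forceL (mc3 a126) (fun a127 => forceL (mc3 a127)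 (fun a128 => forceL (mc5 a128) (fun a129 => forceL (mc5 a129) (fun a130 => forceL (mc3 a130) (fun a131 => forceL (mc3 a131) (fun a132 => forceL (mc5 a132) (fun a133 => forceL (mc5 a133) (fun a134 => forceL (mc3 a134) (fun a135 => forceL (mc3 a135) (fun a136 => forceL (mc5 a136) (fun a137 => forceL (mc5 a137) (fun a138 => forceL (mc3 a138) (fun a139 => forceL (mc3 a139) (fun a140 => forceL (mc5 a140) (fun a141 => forceL (mc5 a141) (fun a142 => forceL (mc3 a142) (fun a143 => forceL (mc3 a143) (fun a144 => a144))))))))))))))))))))))))))))))))))))))))))))))))))))))))))))))))))))))))))))))))))))))))))))))))))))))))))))))))))))))))))))))))))))))))))))))))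
set_option maxRecDepth 1000000 in
def W_30 (v : ℕ) : ℕ := forceL (mc3 v) (fun a1 => forceL (mc3 a1) (fun a2 => forceL (mc1 a2) (fun a3 => forceL (mc3 a3) (fun a4 => forceL (mc3 a4) (fun a5 => forceL (mc3 a5) (fun a6 => forceL (mc1 a6) (fun a7 => forceL (mc3 a7) (fun a8 => forceL (mc3 a8) (fun a9 => forceL (mc0 a9) (fun a10 => forceL (mc2 a10) (fun a11 => forceL (mc0 a11) (fun a12 => forceL (mc3 a12) (fun a13 => forceL (mc3 a13) (fun a14 => forceL (mc1 a14) (fun a15 => forceL (mc3 a15) (fun a16 => forceL (mc3 a16) (fun a17 => forceL (mc3 a17) (fun a18 => forceL (mc1 a18) (fun a19 => forceL (mc3 a19) (fun a20 => forceL (mc3 a20) (fun a21 => forceL (mc0 a21) (fun a22 => forceL (mc2 a22) (fun a23 => forceL (mc0 a23) (fun a24 => forceL (mc3 a24) (fun a25 => forceL (mc3 a25) (fun a26 => forceL (mc1 a26) (fun a27 => forceL (mc3 a27) (fun a28 => forceL (mc3 a28) (fun a29 => forceL (mc3 a29) (fun a30 => forceL (mc1 a30) (fun a31 => forceL (mc3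 a31) (fun a32 => forceL (mc3 a32) (fun a33 => forceL (mc0 a33) (fun a34 => forceL (mc2 a34) (fun a35 => forceL (mc0 a35) (fun a36 => forceL (mc3 a36) (fun a37 => forceL (mc3 a37) (fun a38 => forceL (mc1 a38) (fun a39 => forceL (mc3 a39) (fun a40 => forceL (mc3 a40) (fun a41 => forceL (mc3 a41) (fun a42 => forceL (mc1 a42) (fun a43 => forceL (mc3 a43) (fun a44 => forceL (mc3 a44) (fun a45 => forceL (mc0 a45) (fun a46 => forceL (mc2 a46) (fun a47 => forceL (mc0 a47) (fun a48 => forceL (mc3 a48) (fun a49 => forceL (mc3 a49) (fun a50 => forceL (mc1 a50) (fun a51 => forceL (mc3 a51) (fun a52 => forceL (mc3 a52) (fun a53 => forceL (mc3 a53) (fun a54 => forceL (mc1 a54) (fun a55 => forceL (mc3 a55) (fun a56 => forceL (mc3 a56) (fun a57 => forceL (mc0 a57) (fun a58 => forceL (mc2 a58) (fun a59 => forceL (mc0 a59) (fun a60 => forceL (mc3 a60) (fun a61 => forceL (mc3 a61) (fun a62 => forceL (mc1 a62) (fun a63 => forceL (mc3 a63) (fun a64 => forceL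 (mc3 a64) (fun a65 => forceL (mc3 a65) (fun a66 => forceL (mc1 a66) (fun a67 => forceL (mc3 a67) (fun a68 => forceL (mc3 a68) (fun a69 => forceL (mc0 a69) (fun a70 => forceL (mc2 a70) (fun a71 => forceL (mc0 a71) (fun a72 => forceL (mc3 a72) (fun a73 => forceL (mc3 a73) (fun a74 => forceL (mc1 a74) (fun a75 => forceL (mc3 a75) (fun a76 => forceL (mc3 a76) (fun a77 => forceL (mc3 a77) (fun a78 => forceL (mc1 a78) (fun a79 => forceL (mc3 a79) (fun a80 => forceL (mc3 a80) (fun a81 => forceL (mc0 a81) (fun a82 => forceL (mc2 a82) (fun a83 => forceL (mc0 a83) (fun a84 => forceL (mc3 a84) (fun a85 => forceL (mc3 a85) (fun a86 => forceL (mc1 a86) (fun a87 => forceL (mc3 a87) (fun a88 => forceL (mc3 a88) (fun a89 => forceL (mc3 a89) (fun a90 => forceL (mc1 a90) (fun a91 => forceL (mc3 a91) (fun a92 => forceL (mc3 a92) (fun a93 => forceL (mc0 a93) (fun a94 => forceL (mc2 a94) (fun a95 => forceL (mc0 a95) (fun a96 => forceL (mc3 a96) (fun a97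 => forceL (mc3 a97) (fun a98 => forceL (mc1 a98) (fun a99 => forceL (mc3 a99) (fun a100 => forceL (mc3 a100) (fun a101 => forceL (mc3 a101) (fun a102 => forceL (mc1 a102) (fun a103 => forceL (mc3 a103) (fun a104 => forceL (mc3 a104) (fun a105 => forceL (mc0 a105) (fun a106 => forceL (mc2 a106) (fun a107 => forceL (mc0 a107) (fun a108 => forceL (mc3 a108) (fun a109 => forceL (mc3 a109) (fun a110 => forceL (mc1 a110) (fun a111 => forceL (mc3 a111) (fun a112 => forceL (mc3 a112) (fun a113 => forceL (mc3 a113) (fun a114 => forceL (mc1 a114) (fun a115 => forceL (mc3 a115) (fun a116 => forceL (mc3 a116) (fun a117 => forceL (mc0 a117) (fun a118 => forceL (mc2 a118) (fun a119 => forceL (mc0 a119) (fun a120 => forceL (mc3 a120) (fun a121 => forceL (mc3 a121) (fun a122 => forceL (mc1 a122) (fun a123 => forceL (mc3 a123) (fun a124 => forceL (mc3 a124) (fun a125 => forceL (mc3 a125) (fun a126 => forceL (mc1 a126) (fun a127 => forceL (mc3 a127)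 (fun a128 => forceL (mc3 a128) (fun a129 => forceL (mc0 a129) (fun a130 => forceL (mc2 a130) (fun a131 => forceL (mc0 a131) (fun a132 => forceL (mc3 a132) (fun a133 => forceL (mc3 a133) (fun a134 => forceL (mc1 a134) (fun a135 => forceL (mc3 a135) (fun a136 => forceL (mc3 a136) (fun a137 => forceL (mc3 a137) (fun a138 => forceL (mc1 a138) (fun a139 => forceL (mc3 a139) (fun a140 => forceL (mc3 a140) (fun a141 => forceL (mc0 a141) (fun a142 => forceL (mc2 a142) (fun a143 => forceL (mc0 a143) (fun a144 => a144))))))))))))))))))))))))))))))))))))))))))))))))))))))))))))))))))))))))))))))))))))))))))))))))))))))))))))))))))))))))))))))))))))))))))))))))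
set_option maxRecDepth 1000000 in
def W_31 (v : ℕ) : ℕ := forceL (mc3 v) (fun a1 => forceL (mc3 a1) (fun a2 => forceL (mc3 a2) (fun a3 => forceL (mc1 a3) (fun a4 => forceL (mc3 a4) (fun a5 => forceL (mc3 a5) (fun a6 => forceL (mc3 a6) (fun a7 => forceL (mc1 a7) (fun a8 => forceL (mc3 a8) (fun a9 => forceL (mc3 a9) (fun a10 => forceL (mc3 a10) (fun a11 => forceL (mc1 a11) (fun a12 => forceL (mc3 a12) (fun a13 => forceL (mc3 a13) (fun a14 => forceL (mc3 a14) (fun a15 => forceL (mc1 a15) (fun a16 => forceL (mc3 a16) (fun a17 => forceL (mc3 a17) (fun a18 => forceL (mc3 a18) (fun a19 => forceL (mc1 a19) (fun a20 => forceL (mc3 a20) (fun a21 => forceL (mc3 a21) (fun a22 => forceL (mc3 a22) (fun a23 => forceL (mc1 a23) (fun a24 => forceL (mc3 a24) (fun a25 => forceL (mc3 a25) (fun a26 => forceL (mc3 a26) (fun a27 => forceL (mc1 a27) (fun a28 => forceL (mc3 a28) (fun a29 => forceL (mc3 a29) (fun a30 => forceL (mc3 a30) (fun a31 => forceL (mc1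 a31) (fun a32 => forceL (mc3 a32) (fun a33 => forceL (mc3 a33) (fun a34 => forceL (mc3 a34) (fun a35 => forceL (mc1 a35) (fun a36 => forceL (mc3 a36) (fun a37 => forceL (mc3 a37) (fun a38 => forceL (mc3 a38) (fun a39 => forceL (mc1 a39) (fun a40 => forceL (mc3 a40) (fun a41 => forceL (mc3 a41) (fun a42 => forceL (mc3 a42) (fun a43 => forceL (mc1 a43) (fun a44 => forceL (mc3 a44) (fun a45 => forceL (mc3 a45) (fun a46 => forceL (mc3 a46) (fun a47 => forceL (mc1 a47) (fun a48 => forceL (mc3 a48) (fun a49 => forceL (mc3 a49) (fun a50 => forceL (mc3 a50) (fun a51 => forceL (mc1 a51) (fun a52 => forceL (mc3 a52) (fun a53 => forceL (mc3 a53) (fun a54 => forceL (mc3 a54) (fun a55 => forceL (mc1 a55) (fun a56 => forceL (mc3 a56) (fun a57 => forceL (mc3 a57) (fun a58 => forceL (mc3 a58) (fun a59 => forceL (mc1 a59) (fun a60 => forceL (mc3 a60) (fun a61 => forceL (mc3 a61) (fun a62 => forceL (mc3 a62) (fun a63 => forceL (mc1 a63) (fun a64 => forceL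 (mc3 a64) (fun a65 => forceL (mc3 a65) (fun a66 => forceL (mc3 a66) (fun a67 => forceL (mc1 a67) (fun a68 => forceL (mc3 a68) (fun a69 => forceL (mc3 a69) (fun a70 => forceL (mc3 a70) (fun a71 => forceL (mc1 a71) (fun a72 => forceL (mc3 a72) (fun a73 => forceL (mc3 a73) (fun a74 => forceL (mc3 a74) (fun a75 => forceL (mc1 a75) (fun a76 => forceL (mc3 a76) (fun a77 => forceL (mc3 a77) (fun a78 => forceL (mc3 a78) (fun a79 => forceL (mc1 a79) (fun a80 => forceL (mc3 a80) (fun a81 => forceL (mc3 a81) (fun a82 => forceL (mc3 a82) (fun a83 => forceL (mc1 a83) (fun a84 => forceL (mc3 a84) (fun a85 => forceL (mc3 a85) (fun a86 => forceL (mc3 a86) (fun a87 => forceL (mc1 a87) (fun a88 => forceL (mc3 a88) (fun a89 => forceL (mc3 a89) (fun a90 => forceL (mc3 a90) (fun a91 => forceL (mc1 a91) (fun a92 => forceL (mc3 a92) (fun a93 => forceL (mc3 a93) (fun a94 => forceL (mc3 a94) (fun a95 => forceL (mc1 a95) (fun a96 => forceL (mc3 a96) (fun a97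 => forceL (mc3 a97) (fun a98 => forceL (mc3 a98) (fun a99 => forceL (mc1 a99) (fun a100 => forceL (mc3 a100) (fun a101 => forceL (mc3 a101) (fun a102 => forceL (mc3 a102) (fun a103 => forceL (mc1 a103) (fun a104 => forceL (mc3 a104) (fun a105 => forceL (mc3 a105) (fun a106 => forceL (mc3 a106) (fun a107 => forceL (mc1 a107) (fun a108 => forceL (mc3 a108) (fun a109 => forceL (mc3 a109) (fun a110 => forceL (mc3 a110) (fun a111 => forceL (mc1 a111) (fun a112 => forceL (mc3 a112) (fun a113 => forceL (mc3 a113) (fun a114 => forceL (mc3 a114) (fun a115 => forceL (mc1 a115) (fun a116 => forceL (mc3 a116) (fun a117 => forceL (mc3 a117) (fun a118 => forceL (mc3 a118) (fun a119 => forceL (mc1 a119) (fun a120 => forceL (mc3 a120) (fun a121 => forceL (mc3 a121) (fun a122 => forceL (mc3 a122) (fun a123 => forceL (mc1 a123) (fun a124 => forceL (mc3 a124) (fun a125 => forceL (mc3 a125) (fun a126 => forceL (mc3 a126) (fun a127 => forceL (mc1 a127)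 (fun a128 => forceL (mc3 a128) (fun a129 => forceL (mc3 a129) (fun a130 => forceL (mc3 a130) (fun a131 => forceL (mc1 a131) (fun a132 => forceL (mc3 a132) (fun a133 => forceL (mc3 a133) (fun a134 => forceL (mc3 a134) (fun a135 => forceL (mc1 a135) (fun a136 => forceL (mc3 a136) (fun a137 => forceL (mc3 a137) (fun a138 => forceL (mc3 a138) (fun a139 => forceL (mc1 a139) (fun a140 => forceL (mc3 a140) (fun a141 => forceL (mc3 a141) (fun a142 => forceL (mc3 a142) (fun a143 => forceL (mc1 a143) (fun a144 => a144))))))))))))))))))))))))))))))))))))))))))))))))))))))))))))))))))))))))))))))))))))))))))))))))))))))))))))))))))))))))))))))))))))))))))))))))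
set_option maxRecDepth 1000000 in
def W_32 (v : ℕ) : ℕ := forceL (mc3 v) (fun a1 => forceL (mc1 a1) (fun a2 => forceL (mc2 a2) (fun a3 => forceL (mc1 a3) (fun a4 => forceL (mc1 a4) (fun a5 => forceL (mc3 a5) (fun a6 => forceL (mc3 a6) (fun a7 => forceL (mc3 a7) (fun a8 => forceL (mc1 a8) (fun a9 => forceL (mc1 a9) (fun a10 => forceL (mc1 a10) (fun a11 => forceL (mc3 a11) (fun a12 => forceL (mc0 a12) (fun a13 => forceL (mc3 a13) (fun a14 => forceL (mc1 a14) (fun a15 => forceL (mc2 a15) (fun a16 => forceL (mc1 a16) (fun a17 => forceL (mc1 a17) (fun a18 => forceL (mc3 a18) (fun a19 => forceL (mc3 a19) (fun a20 => forceL (mc3 a20) (fun a21 => forceL (mc1 a21) (fun a22 => forceL (mc1 a22) (fun a23 => forceL (mc1 a23) (fun a24 => forceL (mc3 a24) (fun a25 => forceL (mc0 a25) (fun a26 => forceL (mc3 a26) (fun a27 => forceL (mc1 a27) (fun a28 => forceL (mc2 a28) (fun a29 => forceL (mc1 a29) (fun a30 => forceL (mc1 a30) (fun a31 => forceL (mc3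 a31) (fun a32 => forceL (mc3 a32) (fun a33 => forceL (mc3 a33) (fun a34 => forceL (mc1 a34) (fun a35 => forceL (mc1 a35) (fun a36 => forceL (mc1 a36) (fun a37 => forceL (mc3 a37) (fun a38 => forceL (mc0 a38) (fun a39 => forceL (mc3 a39) (fun a40 => forceL (mc1 a40) (fun a41 => forceL (mc2 a41) (fun a42 => forceL (mc1 a42) (fun a43 => forceL (mc1 a43) (fun a44 => forceL (mc3 a44) (fun a45 => forceL (mc3 a45) (fun a46 => forceL (mc3 a46) (fun a47 => forceL (mc1 a47) (fun a48 => forceL (mc1 a48) (fun a49 => forceL (mc1 a49) (fun a50 => forceL (mc3 a50) (fun a51 => forceL (mc0 a51) (fun a52 => forceL (mc3 a52) (fun a53 => forceL (mc1 a53) (fun a54 => forceL (mc2 a54) (fun a55 => forceL (mc1 a55) (fun a56 => forceL (mc1 a56) (fun a57 => forceL (mc3 a57) (fun a58 => forceL (mc3 a58) (fun a59 => forceL (mc3 a59) (fun a60 => forceL (mc1 a60) (fun a61 => forceL (mc1 a61) (fun a62 => forceL (mc1 a62) (fun a63 => forceL (mc3 a63) (fun a64 => forceL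 (mc0 a64) (fun a65 => forceL (mc3 a65) (fun a66 => forceL (mc1 a66) (fun a67 => forceL (mc2 a67) (fun a68 => forceL (mc1 a68) (fun a69 => forceL (mc1 a69) (fun a70 => forceL (mc3 a70) (fun a71 => forceL (mc3 a71) (fun a72 => forceL (mc3 a72) (fun a73 => forceL (mc1 a73) (fun a74 => forceL (mc1 a74) (fun a75 => forceL (mc1 a75) (fun a76 => forceL (mc3 a76) (fun a77 => forceL (mc0 a77) (fun a78 => forceL (mc3 a78) (fun a79 => forceL (mc1 a79) (fun a80 => forceL (mc2 a80) (fun a81 => forceL (mc1 a81) (fun a82 => forceL (mc1 a82) (fun a83 => forceL (mc3 a83) (fun a84 => forceL (mc3 a84) (fun a85 => forceL (mc3 a85) (fun a86 => forceL (mc1 a86) (fun a87 => forceL (mc1 a87) (fun a88 => forceL (mc1 a88) (fun a89 => forceL (mc3 a89) (fun a90 => forceL (mc0 a90) (fun a91 => forceL (mc3 a91) (fun a92 => forceL (mc1 a92) (fun a93 => forceL (mc2 a93) (fun a94 => forceL (mc1 a94) (fun a95 => forceL (mc1 a95) (fun a96 => forceL (mc3 a96) (fun a97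 => forceL (mc3 a97) (fun a98 => forceL (mc3 a98) (fun a99 => forceL (mc1 a99) (fun a100 => forceL (mc1 a100) (fun a101 => forceL (mc1 a101) (fun a102 => forceL (mc3 a102) (fun a103 => forceL (mc0 a103) (fun a104 => forceL (mc3 a104) (fun a105 => forceL (mc1 a105) (fun a106 => forceL (mc2 a106) (fun a107 => forceL (mc1 a107) (fun a108 => forceL (mc1 a108) (fun a109 => forceL (mc3 a109) (fun a110 => forceL (mc3 a110) (fun a111 => forceL (mc3 a111) (fun a112 => forceL (mc1 a112) (fun a113 => forceL (mc1 a113) (fun a114 => forceL (mc1 a114) (fun a115 => forceL (mc3 a115) (fun a116 => forceL (mc0 a116) (fun a117 => forceL (mc3 a117) (fun a118 => forceL (mc1 a118) (fun a119 => forceL (mc2 a119) (fun a120 => forceL (mc1 a120) (fun a121 => forceL (mc1 a121) (fun a122 => forceL (mc3 a122) (fun a123 => forceL (mc3 a123) (fun a124 => forceL (mc3 a124) (fun a125 => forceL (mc1 a125) (fun a126 => forceL (mc1 a126) (fun a127 => forceL (mc1 a127)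 (fun a128 => forceL (mc3 a128) (fun a129 => forceL (mc0 a129) (fun a130 => forceL (mc3 a130) (fun a131 => forceL (mc1 a131) (fun a132 => forceL (mc2 a132) (fun a133 => forceL (mc1 a133) (fun a134 => forceL (mc1 a134) (fun a135 => forceL (mc3 a135) (fun a136 => forceL (mc3 a136) (fun a137 => forceL (mc3 a137) (fun a138 => forceL (mc1 a138) (fun a139 => forceL (mc1 a139) (fun a140 => forceL (mc1 a140) (fun a141 => forceL (mc3 a141) (fun a142 => forceL (mc0 a142) (fun a143 => forceL (mc3 a143) (fun a144 => forceL (mc1 a144) (fun a145 => forceL (mc2 a145) (fun a146 => forceL (mc1 a146) (fun a147 => forceL (mc1 a147) (fun a148 => forceL (mc3 a148) (fun a149 => forceL (mc3 a149) (fun a150 => forceL (mc3 a150) (fun a151 => forceL (mc1 a151) (fun a152 => forceL (mc1 a152) (fun a153 => forceL (mc1 a153) (fun a154 => forceL (mc3 a154) (fun a155 => forceL (mc0 a155) (fun a156 => a156))))))))))))))))))))))))))))))))))))))))))))))))))))))))))))))))))))))))))))))))))))))))))))))))))))))))))))))))))))))))))))))))))))))))))))))))))))))))))))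

end Cfsg.Agent.Helper5.Sp62MD
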