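import Mathlib
import Cfsg.Agent.Helper5.Replace

/-!
Helper lemmas (helper5): splitting of an extension of an elementary abelian group of order `p²` by
`SL₂(p)`, via the central involution.
-/

set_option autoImplicit false

namespace Cfsg.Agent.Helper5

section Matrices

variable (F : Type*) [Field F]

/-- The scalar matrix `-1` in `SL₂(F)`. -/
def sl2NegOne : Matrix.SpecialLinearGroup (Fin 2) F :=
  ⟨-1, by rw [Matrix.det_neg, Matrix.det_one]; simp⟩

theorem sl2NegOne_comm (B : Matrix.SpecialLinearGroup (Fin 2) F) :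
    sl2NegOne F * B = B * sl2NegOne F := by
  apply Subtype.ext
  show (-1 : Matrix (Fin 2) (Fin 2) F) * B.1 = B.1 * (-1)
  simp

theorem sl2NegOne_sq : sl2NegOne F * sl2NegOne F = 1 := by
  apply Subtype.ext
  show (-1 : Matrix (Fin 2) (Fin 2) F) * (-1) = 1
  simp

theorem sl2NegOne_ne_one (h2 : (2 : F) ≠ 0) : sl2NegOne F ≠ 1 := by
  intro h
  have h1 := congrArg (fun M : Matrix.SpecialLinearGroup (Fin 2) F => M.1 0 0) h
  change (-1 : Matrix (Fin 2) (Fin 2) F) 0 0 = (1 : Matrix (Fin 2) (Fin 2) F) 0 0 at h1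
  simp only [Matrix.neg_apply, Matrix.one_apply_eq] at h1
  apply h2
  have : (2 : F) = 1 - (-1) := by ring
  rw [this, h1]; ring

theorem sl2_not_commutative :
    ∃ X Y : Matrix.SpecialLinearGroup (Fin 2) F, X * Y ≠ Y * X := by
  refine ⟨⟨!![1, 1; 0, 1], by simp [Matrix.det_fin_two_of]⟩,
    ⟨!![1, 0; 1, 1], by simp [Matrix.det_fin_two_of]⟩, ?_⟩
  intro h
  have h1 := congrArg (fun M : Matrix.SpecialLinearGroup (Fin 2) F => M.1 0 0) h
  change (!![1, 1; 0, 1] * !![1, 0; 1, 1] : Matrix (Fin 2) (Fin 2) F) 0 0 =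
    (!![1, 0; 1, 1] * !![1, 1; 0, 1] : Matrix (Fin 2) (Fin 2) F) 0 0 at h1
  simp [Matrix.mul_apply, Fin.sum_univ_two] at h1

theorem two_ne_zero_of_card [Fintype F] {p : ℕ} (hp : p.Prime) (hp2 : p ≠ 2)
    (hF : Fintype.card F = p) : (2 : F) ≠ 0 := by
  intro h
  have h1 : addOrderOf (1 : F) ∣ 2 := by
    apply addOrderOf_dvd_of_nsmul_eq_zero
    rw [nsmul_eq_mul, mul_one]; exact_mod_cast h
  have h2 : addOrderOf (1 : F) ∣ p := by rw [← hF]; exact addOrderOf_dvd_card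
  have h3 : addOrderOf (1 : F) ≠ 1 := by
    rw [Ne, AddMonoid.addOrderOf_eq_one_iff]; exact one_ne_zero
  rcases (Nat.dvd_prime Nat.prime_two).mp h1 with h4 | h4
  · exact h3 h4
  · rw [h4] at h2
    exact hp2 ((Nat.prime_dvd_prime_iff_eq Nat.prime_two hp).mp h2).symm

end Matrices

section Groups

variable {N : Type*} [Group N]

/-- Commutators centralize a normal subgroup of prime order. -/
theorem commutator_centralizes_of_card_prime [Finite N] {p : ℕ} (hp : p.Prime) (C : Subgroup N)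
    [hC : C.Normal] (hcard : Nat.card C = p) (n m : N) :
    ∀ c ∈ C, (n⁻¹ * m⁻¹ * n * m) * c = c * (n⁻¹ * m⁻¹ * n * m) := by
  have : Fact p.Prime := ⟨hp⟩
  have : IsCyclic ↥C := isCyclic_of_prime_card hcard
  obtain ⟨g, hg⟩ := IsCyclic.exists_generator (α := ↥C)
  -- conjugation by any element raises `g` to a power
  have hpow : ∀ k : N, ∃ i : ℤ, k * (g : N) * k⁻¹ = (g : N) ^ i := by
    intro k
    have hk : k * (g : N) * k⁻¹ ∈ C := hC.conj_mem _ g.2 k
    obtain ⟨i, hi⟩ := Subgroup.mem_zpowers_iff.mp (hg ⟨_, hk⟩)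
    refine ⟨i, ?_⟩
    have := congrArg Subtype.val hi
    rw [Subgroup.coe_zpow] at this
    exact this.symm
  obtain ⟨i, hi⟩ := hpow n
  obtain ⟨j, hj⟩ := hpow m
  have hconjpow : ∀ (k : N) (x : N) (l : ℤ), k * x ^ l * k⁻¹ = (k * x * k⁻¹) ^ l := by
    intro k x l
    have := map_zpow (MulAut.conj k) x l
    simp only [MulAut.conj_apply] at this
    exact this
  have h1 : (n * m) * (g : N) * (n * m)⁻¹ = (g : N) ^ (j * i) := by
    calc (n * m) * (g : N) * (n * m)⁻¹ = n * (m * (g : N) * m⁻¹) * n⁻¹ := by group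
      _ = n * (g : N) ^ j * n⁻¹ := by rw [hj]
      _ = (n * (g : N) * n⁻¹) ^ j := hconjpow n _ j
      _ = ((g : N) ^ i) ^ j := by rw [hi]
      _ = (g : N) ^ (j * i) := by rw [← zpow_mul, mul_comm]
  have h2 : (m * n) * (g : N) * (m * n)⁻¹ = (g : N) ^ (j * i) := by
    calc (m * n) * (g : N) * (m * n)⁻¹ = m * (n * (g : N) * n⁻¹) * m⁻¹ := by group
      _ = m * (g : N) ^ i * m⁻¹ := by rw [hi]
      _ = (m * (g : N) * m⁻¹) ^ i := hconjpow m _ i
      _ = ((g : N) ^ j) ^ i := by rw [hj]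
      _ = (g : N) ^ (j * i) := by rw [← zpow_mul]
  have h3 : (n⁻¹ * m⁻¹ * n * m) * (g : N) = (g : N) * (n⁻¹ * m⁻¹ * n * m) := by
    have h4 : (n * m) * (g : N) * (n * m)⁻¹ = (m * n) * (g : N) * (m * n)⁻¹ := by rw [h1, h2]
    calc (n⁻¹ * m⁻¹ * n * m) * (g : N)
        = (m * n)⁻¹ * ((n * m) * (g : N) * (n * m)⁻¹) * (n * m) := by group
      _ = (m * n)⁻¹ * ((m * n) * (g : N) * (m * n)⁻¹) * (n * m) := by rw [h4]
      _ = (g : N) * (n⁻¹ * m⁻¹ * n * m) := by group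
  intro c hc
  obtain ⟨l, hl⟩ := Subgroup.mem_zpowers_iff.mp (hg ⟨c, hc⟩)
  have hcl : c = (g : N) ^ l := by
    have := congrArg Subtype.val hl
    rw [Subgroup.coe_zpow] at this
    exact this.symm
  rw [hcl]
  exact (Commute.zpow_right h3 l)


/-- If `A` is a normal abelian self-centralizing subgroup of odd order `p²` and `N/A` is a
non-abelian group with a central involution, then `N` splits over `A`. -/
theorem exists_complement_of_central_involution [Finite N] {p : ℕ} (hp : p.Prime) (hp2 : p ≠ 2)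
    (A : Subgroup N) [hA : A.Normal] (hab : ∀ a ∈ A, ∀ b ∈ A, a * b = b * a)
    (hAcard : Nat.card A = p ^ 2) (hAself : Subgroup.centralizer (A : Set N) = A)
    (tbar : N ⧸ A) (htc : ∀ y : N ⧸ A, y * tbar = tbar * y) (htsq : tbar * tbar = 1)
    (htne : tbar ≠ 1) (hnonab : ∃ y₁ y₂ : N ⧸ A, y₁ * y₂ ≠ y₂ * y₁) :
    ∃ U : Subgroup N, A ⊓ U = ⊥ ∧ A ⊔ U = ⊤ := by
  classical
  obtain ⟨t₀, ht₀⟩ := QuotientGroup.mk_surjective tbar
  have hodd : Odd (p ^ 2) := (hp.eq_two_or_odd'.resolve_left hp2).pow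
  obtain ⟨k, hk⟩ := hodd
  set h := k + 1 with hh
  have hpowA : ∀ a ∈ A, a ^ (p ^ 2) = 1 := by
    intro a ha
    have h1 : (⟨a, ha⟩ : A) ^ (Nat.card A) = 1 := pow_card_eq_one'
    rw [hAcard] at h1
    have h2 := congrArg Subtype.val h1
    rw [Subgroup.coe_pow, Subgroup.coe_one] at h2
    exact h2
  have hhalf : ∀ a ∈ A, (a ^ 2) ^ h = a := by
    intro a ha
    rw [← pow_mul, show 2 * h = p ^ 2 + 1 by omega, pow_succ, hpowA a ha, one_mul]
  have hsq1 : ∀ a ∈ A, a * a = 1 → a = 1 := by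
    intro a ha haa
    rw [← hhalf a ha, pow_two, haa, one_pow]
  set t := t₀ ^ (p ^ 2) with ht
  have ht₀sq : t₀ ^ 2 ∈ A := by
    rw [← QuotientGroup.eq_one_iff, QuotientGroup.mk_pow, ht₀, pow_two, htsq]
  have ht2 : t * t = 1 := by
    rw [ht, ← pow_two, ← pow_mul, mul_comm, pow_mul]
    exact hpowA _ ht₀sq
  have hπt : (t : N ⧸ A) = tbar := by
    rw [ht, QuotientGroup.mk_pow, ht₀, hk, pow_succ, pow_mul, pow_two, htsq, one_pow, one_mul]
  have htA : t ∉ A := by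
    intro h'
    apply htne
    rw [← hπt]; exact (QuotientGroup.eq_one_iff t).mpr h'
  have hcomm : ∀ n : N, t⁻¹ * n⁻¹ * t * n ∈ A := by
    intro n
    rw [← QuotientGroup.eq_one_iff]
    simp only [QuotientGroup.mk_mul, QuotientGroup.mk_inv, hπt]
    calc tbar⁻¹ * (n : N ⧸ A)⁻¹ * tbar * (n : N ⧸ A)
        = tbar⁻¹ * (n : N ⧸ A)⁻¹ * (tbar * (n : N ⧸ A)) := by group
      _ = tbar⁻¹ * (n : N ⧸ A)⁻¹ * ((n : N ⧸ A) * tbar) := by rw [htc]
      _ = 1 := by group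
  have hK1 : ∀ n : N, ∀ a ∈ A, t * (n * a * n⁻¹) * t⁻¹ = n * (t * a * t⁻¹) * n⁻¹ := by
    intro n a ha
    have hbA : t⁻¹ * n⁻¹ * t * n ∈ A := hcomm n
    have htn : t * n = n * t * (t⁻¹ * n⁻¹ * t * n) := by group
    have hba : (t⁻¹ * n⁻¹ * t * n) * a * (t⁻¹ * n⁻¹ * t * n)⁻¹ = a := by
      rw [hab _ hbA a ha]; group
    calc t * (n * a * n⁻¹) * t⁻¹ = (t * n) * a * (t * n)⁻¹ := by group
      _ = (n * t * (t⁻¹ * n⁻¹ * t * n)) * a * (n * t * (t⁻¹ * n⁻¹ * t * n))⁻¹ := by rw [← htn]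
      _ = n * (t * ((t⁻¹ * n⁻¹ * t * n) * a * (t⁻¹ * n⁻¹ * t * n)⁻¹) * t⁻¹) * n⁻¹ := by group
      _ = n * (t * a * t⁻¹) * n⁻¹ := by rw [hba]
  have htconj : ∀ a ∈ A, t * a * t⁻¹ ∈ A := fun a ha => hA.conj_mem a ha t
  let Ap : Subgroup N :=
    { carrier := {a | a ∈ A ∧ t * a * t⁻¹ = a}
      one_mem' := ⟨A.one_mem, by group⟩
      mul_mem' := by
        rintro a b ⟨ha, hat⟩ ⟨hb, hbt⟩
        refine ⟨A.mul_mem ha hb, ?_⟩
        calc t * (a * b) * t⁻¹ = (t * a * t⁻¹) * (t * b * t⁻¹) := by group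
          _ = a * b := by rw [hat, hbt]
      inv_mem' := by
        rintro a ⟨ha, hat⟩
        refine ⟨A.inv_mem ha, ?_⟩
        calc t * a⁻¹ * t⁻¹ = (t * a * t⁻¹)⁻¹ := by group
          _ = a⁻¹ := by rw [hat] }
  let Am : Subgroup N :=
    { carrier := {a | a ∈ A ∧ t * a * t⁻¹ = a⁻¹}
      one_mem' := ⟨A.one_mem, by group⟩
      mul_mem' := by
        rintro a b ⟨ha, hat⟩ ⟨hb, hbt⟩
        refine ⟨A.mul_mem ha hb, ?_⟩
        calc t * (a * b) * t⁻¹ = (t * a * t⁻¹) * (t * b * t⁻¹) := by group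
          _ = a⁻¹ * b⁻¹ := by rw [hat, hbt]
          _ = (a * b)⁻¹ := by
            rw [mul_inv_rev]; exact hab _ (A.inv_mem ha) _ (A.inv_mem hb)
      inv_mem' := by
        rintro a ⟨ha, hat⟩
        refine ⟨A.inv_mem ha, ?_⟩
        calc t * a⁻¹ * t⁻¹ = (t * a * t⁻¹)⁻¹ := by group
          _ = a⁻¹⁻¹ := by rw [hat] }
  have hApn : Ap.Normal := by
    constructor
    rintro a ⟨ha, hat⟩ n
    exact ⟨hA.conj_mem a ha n, by rw [hK1 n a ha, hat]⟩
  have hAmn : Am.Normal := by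
    constructor
    rintro a ⟨ha, hat⟩ n
    refine ⟨hA.conj_mem a ha n, ?_⟩
    rw [hK1 n a ha, hat]; group
  have hdec : ∀ a ∈ A, a ∈ Ap ⊔ Am := by
    intro a ha
    have ha'A : t * a * t⁻¹ ∈ A := htconj a ha
    have hta' : t * (t * a * t⁻¹) * t⁻¹ = a := by
      rw [show t * (t * a * t⁻¹) * t⁻¹ = (t * t) * a * (t * t)⁻¹ by group, ht2]; group
    have hu : a * (t * a * t⁻¹) ∈ Ap := ⟨A.mul_mem ha ha'A, by
      calc t * (a * (t * a * t⁻¹)) * t⁻¹ = (t * a * t⁻¹) * (t * (t * a * t⁻¹) * t⁻¹) := by group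
        _ = (t * a * t⁻¹) * a := by rw [hta']
        _ = a * (t * a * t⁻¹) := hab _ ha'A _ ha⟩
    have hv : a * (t * a * t⁻¹)⁻¹ ∈ Am := ⟨A.mul_mem ha (A.inv_mem ha'A), by
      calc t * (a * (t * a * t⁻¹)⁻¹) * t⁻¹ = (t * a * t⁻¹) * (t * (t * a * t⁻¹) * t⁻¹)⁻¹ := by group
        _ = (t * a * t⁻¹) * a⁻¹ := by rw [hta']
        _ = (a * (t * a * t⁻¹)⁻¹)⁻¹ := by rw [mul_inv_rev, inv_inv]⟩
    have huv : (a * (t * a * t⁻¹)) * (a * (t * a * t⁻¹)⁻¹) = a ^ 2 := by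
      rw [pow_two]
      calc (a * (t * a * t⁻¹)) * (a * (t * a * t⁻¹)⁻¹)
          = a * ((t * a * t⁻¹) * a) * (t * a * t⁻¹)⁻¹ := by group
        _ = a * (a * (t * a * t⁻¹)) * (t * a * t⁻¹)⁻¹ := by rw [hab _ ha'A _ ha]
        _ = a * a := by group
    have hcomm' : Commute (a * (t * a * t⁻¹)) (a * (t * a * t⁻¹)⁻¹) := hab _ hu.1 _ hv.1
    rw [← hhalf a ha, ← huv, hcomm'.mul_pow]
    exact Subgroup.mul_mem _ (Subgroup.mem_sup_left (Ap.pow_mem hu h))
      (Subgroup.mem_sup_right (Am.pow_mem hv h))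
  have hint : Ap ⊓ Am = ⊥ := by
    rw [eq_bot_iff]
    rintro a ⟨⟨ha, hat⟩, ⟨-, hat'⟩⟩
    rw [Subgroup.mem_bot]
    apply hsq1 a ha
    have h3 : a = a⁻¹ := hat.symm.trans hat'
    exact eq_inv_iff_mul_eq_one.mp h3
  have hsup : Ap ⊔ Am = A := le_antisymm (sup_le (fun a h => h.1) (fun a h => h.1)) hdec
  have hcardprod : Nat.card Ap * Nat.card Am = p ^ 2 := by
    have h1 := card_sup_mul_card_inf_of_le_normalizer Ap Am
      (by rw [Subgroup.normalizer_eq_top_iff.mpr hApn]; exact le_top)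
    rw [hsup, hint, Subgroup.card_bot, mul_one, hAcard] at h1
    exact h1.symm
  have hdvd : Nat.card Ap ∣ p ^ 2 := Dvd.intro _ hcardprod
  obtain ⟨k', hk', hApc⟩ := (Nat.dvd_prime_pow hp).mp hdvd
  have hinv : ∀ a ∈ A, t * a * t⁻¹ = a⁻¹ := by
    interval_cases k'
    · rw [pow_zero] at hApc
      rw [hApc, one_mul] at hcardprod
      have hAmA : Am = A :=
        Subgroup.eq_of_le_of_card_ge (fun a h => h.1) (by rw [hcardprod, hAcard])
      intro a ha
      have h1 : a ∈ Am := by rw [hAmA]; exact ha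
      exact h1.2
    · exfalso
      rw [pow_one] at hApc
      have hAmc : Nat.card Am = p := by
        rw [hApc, pow_two] at hcardprod
        exact Nat.eq_of_mul_eq_mul_left hp.pos hcardprod
      obtain ⟨y₁, y₂, hy⟩ := hnonab
      obtain ⟨n, rfl⟩ := QuotientGroup.mk_surjective y₁
      obtain ⟨m, rfl⟩ := QuotientGroup.mk_surjective y₂
      apply hy
      have hc1 := commutator_centralizes_of_card_prime hp Ap hApc n m
      have hc2 := commutator_centralizes_of_card_prime hp Am hAmc n m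
      have hw : n⁻¹ * m⁻¹ * n * m ∈ Subgroup.centralizer (A : Set N) := by
        rw [Subgroup.mem_centralizer_iff]
        intro a ha
        have ha' : a ∈ Ap ⊔ Am := hdec a ha
        have hle : Ap ⊔ Am ≤ Subgroup.centralizer {n⁻¹ * m⁻¹ * n * m} := by
          apply sup_le
          · intro c hc
            rw [Subgroup.mem_centralizer_iff]
            intro w' hw'
            rw [Set.mem_singleton_iff] at hw'
            rw [hw']; exact hc1 c hc
          · intro c hc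
            rw [Subgroup.mem_centralizer_iff]
            intro w' hw'
            rw [Set.mem_singleton_iff] at hw'
            rw [hw']; exact hc2 c hc
        have h5 := hle ha'
        rw [Subgroup.mem_centralizer_iff] at h5
        exact (h5 _ rfl).symm
      rw [hAself] at hw
      have h6 := (QuotientGroup.eq_one_iff _).mpr hw
      simp only [QuotientGroup.mk_mul, QuotientGroup.mk_inv] at h6
      calc (n : N ⧸ A) * m = m * n * ((n : N ⧸ A)⁻¹ * (m : N ⧸ A)⁻¹ * n * m) := by group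
        _ = m * n := by rw [h6, mul_one]
    · exfalso
      have hApA : Ap = A :=
        Subgroup.eq_of_le_of_card_ge (fun a h => h.1) (by rw [hApc, hAcard])
      apply htA
      rw [← hAself, Subgroup.mem_centralizer_iff]
      intro a ha
      have h1 : a ∈ Ap := by rw [hApA]; exact ha
      have h2 := h1.2
      calc a * t = (t * a * t⁻¹) * t := by rw [h2]
        _ = t * a := by group
  refine ⟨Subgroup.centralizer {t}, ?_, ?_⟩
  · rw [eq_bot_iff]
    rintro a ⟨ha, hat⟩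
    rw [Subgroup.mem_bot]
    apply hsq1 a ha
    have h1 : t * a = a * t := (Subgroup.mem_centralizer_iff.mp hat) t rfl
    have h2 : t * a * t⁻¹ = a := by rw [h1]; group
    have h3 : a = a⁻¹ := by rw [← hinv a ha]; exact h2.symm
    exact eq_inv_iff_mul_eq_one.mp h3
  · rw [eq_top_iff]
    intro n _
    have hanA : t⁻¹ * (n * t * n⁻¹) ∈ A := by
      have h1 := hcomm n⁻¹
      rw [inv_inv] at h1
      have h2 : t⁻¹ * (n * t * n⁻¹) = t⁻¹ * n * t * n⁻¹ := by group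
      rw [h2]; exact h1
    have hbA : ((t⁻¹ * (n * t * n⁻¹))⁻¹) ^ h ∈ A := A.pow_mem (A.inv_mem hanA) h
    have hb2 : ((t⁻¹ * (n * t * n⁻¹))⁻¹) ^ h * ((t⁻¹ * (n * t * n⁻¹))⁻¹) ^ h
        = (t⁻¹ * (n * t * n⁻¹))⁻¹ := by
      rw [← pow_two, ← pow_mul, mul_comm, pow_mul]
      exact hhalf _ (A.inv_mem hanA)
    generalize hbdef : ((t⁻¹ * (n * t * n⁻¹))⁻¹) ^ h = b at hbA hb2
    have hnt : n * t * n⁻¹ = t * (t⁻¹ * (n * t * n⁻¹)) := by group
    have hbt : b * t * b⁻¹ = t * (t⁻¹ * (n * t * n⁻¹)) := by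
      have h1 : t * b⁻¹ * t⁻¹ = b := by
        have h2 := hinv _ (A.inv_mem hbA)
        rw [inv_inv] at h2
        exact h2
      have h3 : t * (t⁻¹ * (n * t * n⁻¹)) * t⁻¹ = (t⁻¹ * (n * t * n⁻¹))⁻¹ := hinv _ hanA
      calc b * t * b⁻¹ = b * (t * b⁻¹ * t⁻¹) * t := by group
        _ = (b * b) * t := by rw [h1]
        _ = (t⁻¹ * (n * t * n⁻¹))⁻¹ * t := by rw [hb2]
        _ = (t * (t⁻¹ * (n * t * n⁻¹)) * t⁻¹) * t := by rw [h3]
        _ = t * (t⁻¹ * (n * t * n⁻¹)) := by group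
    have hU : b⁻¹ * n ∈ Subgroup.centralizer {t} := by
      rw [Subgroup.mem_centralizer_iff]
      intro x hx
      rw [Set.mem_singleton_iff] at hx
      rw [hx]
      have h1 : (b⁻¹ * n) * t * (b⁻¹ * n)⁻¹ = t := by
        calc (b⁻¹ * n) * t * (b⁻¹ * n)⁻¹ = b⁻¹ * (n * t * n⁻¹) * b := by group
          _ = b⁻¹ * (b * t * b⁻¹) * b := by rw [hbt, ← hnt]
          _ = t := by group
      calc t * (b⁻¹ * n) = ((b⁻¹ * n) * t * (b⁻¹ * n)⁻¹) * (b⁻¹ * n) := by rw [h1]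
        _ = b⁻¹ * n * t := by group
    have h7 : n = b * (b⁻¹ * n) := by group
    rw [h7]
    exact Subgroup.mul_mem _ (Subgroup.mem_sup_left hbA) (Subgroup.mem_sup_right hU)

end Groups

end Cfsg.Agent.Helper5
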