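import Mathlib

/-!
# A subgroup of order dividing 4 containing two distinct central involutions is a central four-group
-/

set_option autoImplicit false

namespace Cfsg.Agent.Helper5.StemP

theorem klein_of_two_involutions {E : Type*} [Group E] (K : Subgroup E) [Finite K]
    (hK4 : Nat.card K ∣ 4) (z1 z2 : E) (h1 : z1 ∈ K) (h2 : z2 ∈ K)
    (hc1 : z1 ∈ Subgroup.center E) (hc2 : z2 ∈ Subgroup.center E)
    (hs1 : z1 ^ 2 = 1) (hs2 : z2 ^ 2 = 1) (hn1 : z1 ≠ 1) (hn2 : z2 ≠ 1) (hn12 : z1 ≠ z2) :
    K ≤ Subgroup.center E ∧ IsKleinFour K ∧ ∀ y ∈ K, y ^ 2 = 1 := by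
  have hcomm : z1 * z2 = z2 * z1 := (Subgroup.mem_center_iff.mp hc1 z2).symm
  have h12sq : (z1 * z2) ^ 2 = 1 := by
    have : Commute z1 z2 := hcomm
    rw [this.mul_pow, hs1, hs2, one_mul]
  have hz2inv : z2⁻¹ = z2 := by
    rw [inv_eq_iff_mul_eq_one, ← pow_two, hs2]
  have hn12' : z1 * z2 ≠ 1 := by
    intro h
    apply hn12
    rw [← hz2inv]
    exact eq_inv_of_mul_eq_one_left h
  let f : Fin 4 → K := ![⟨1, one_mem K⟩, ⟨z1, h1⟩, ⟨z2, h2⟩, ⟨z1 * z2, mul_mem h1 h2⟩]
  have hval : ∀ i : Fin 4, ((f i : K) : E) = ![1, z1, z2, z1 * z2] i := by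
    intro i
    fin_cases i <;> rfl
  have hinj : Function.Injective f := by
    intro i j hij
    have h := congrArg (fun x : K => (x : E)) hij
    simp only [hval] at h
    fin_cases i <;> fin_cases j <;> simp at h ⊢
    all_goals first
      | exact absurd h.symm hn1 | exact absurd h hn1 | exact absurd h.symm hn2 | exact absurd h hn2
      | exact absurd h hn12 | exact absurd h.symm hn12 | exact absurd h hn12'
      | exact absurd h.symm hn12'
  have hle : Nat.card K ≤ Nat.card (Fin 4) := by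
    rw [Nat.card_fin]
    exact Nat.le_of_dvd (by norm_num) hK4
  have hbij := hinj.bijective_of_nat_card_le hle
  have hall : ∀ y ∈ K, y = 1 ∨ y = z1 ∨ y = z2 ∨ y = z1 * z2 := by
    intro y hy
    obtain ⟨i, hi⟩ := hbij.2 ⟨y, hy⟩
    have h := congrArg (fun x : K => (x : E)) hi
    simp only [hval] at h
    fin_cases i
    · exact Or.inl h.symm
    · exact Or.inr (Or.inl h.symm)
    · exact Or.inr (Or.inr (Or.inl h.symm))
    · exact Or.inr (Or.inr (Or.inr h.symm))
  have hsq : ∀ y ∈ K, y ^ 2 = 1 := by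
    intro y hy
    rcases hall y hy with rfl | rfl | rfl | rfl
    · exact one_pow 2
    · exact hs1
    · exact hs2
    · exact h12sq
  refine ⟨?_, ?_, hsq⟩
  · intro y hy
    rcases hall y hy with rfl | rfl | rfl | rfl
    · exact one_mem _
    · exact hc1
    · exact hc2
    · exact mul_mem hc1 hc2
  · have hcard : Nat.card K = 4 := by
      rw [← Nat.card_fin 4]
      exact (Nat.card_congr (Equiv.ofBijective f hbij)).symm
    refine ⟨hcard, ?_⟩
    have hdvd : Monoid.exponent K ∣ 2 := by
      apply Monoid.exponent_dvd_of_forall_pow_eq_one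
      intro y
      apply Subtype.ext
      rw [Subgroup.coe_pow, Subgroup.coe_one]
      exact hsq y.1 y.2
    rcases (Nat.dvd_prime Nat.prime_two).mp hdvd with h | h
    · exfalso
      rw [Monoid.exp_eq_one_iff] at h
      apply hn1
      have := h.elim (⟨z1, h1⟩ : K) 1
      exact congrArg Subtype.val this
    · exact h

end Cfsg.Agent.Helper5.StemP
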