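import Mathlib
import Cfsg.Agent.Helper1.Coprime

set_option autoImplicit false

/-!
Fixed points of a `p'`-element on a set on which a `p`-group it normalises acts transitively
(Glauberman's lemma for a cyclic `p'`-group acting on a `p`-group).
-/

namespace Cfsg.Agent.Helper5

open MulAction

variable {Γ : Type*} [Group Γ]

/-- Powers of `u * g` modulo a subgroup normalised by `g`. -/
theorem h5sf_pow_mul (U : Subgroup Γ) {g u : Γ} (hgU : g ∈ Subgroup.normalizer (U : Set Γ))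
    (hu : u ∈ U) : ∀ n : ℕ, ∃ v ∈ U, (u * g) ^ n = v * g ^ n := by
  intro n
  induction n with
  | zero => exact ⟨1, U.one_mem, by simp⟩
  | succ n ih =>
    obtain ⟨v, hv, h⟩ := ih
    have hn : g ^ n ∈ Subgroup.normalizer (U : Set Γ) := Subgroup.pow_mem _ hgU n
    have h1 : g ^ n * u * (g ^ n)⁻¹ ∈ U := (Subgroup.mem_normalizer_iff.1 hn u).1 hu
    refine ⟨v * (g ^ n * u * (g ^ n)⁻¹), U.mul_mem hv h1, ?_⟩
    rw [pow_succ, h, pow_succ]
    group

theorem h5sf_pow_card_eq_one [Finite Γ] (U : Subgroup Γ) {v : Γ} (hv : v ∈ U) :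
    v ^ Nat.card U = 1 := by
  have h : (⟨v, hv⟩ : U) ^ Nat.card U = 1 := pow_card_eq_one'
  exact congrArg Subtype.val h

theorem h5sf_coprime [Finite Γ] (p : ℕ) [hp : Fact p.Prime] (U : Subgroup Γ) (hU : IsPGroup p U)
    (g : Γ) (hg : ¬ p ∣ orderOf g) : (Nat.card U).Coprime (orderOf g) := by
  obtain ⟨k, hk⟩ := hU.exists_card_eq
  rw [hk]
  exact Nat.Coprime.pow_left k ((Nat.Prime.coprime_iff_not_dvd hp.out).2 hg)

theorem h5sf_isSolvable_zpowers (g : Γ) : Group.IsSolvable (Subgroup.zpowers g) := by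
  apply Group.isSolvable_of_comm
  rintro ⟨a, ha⟩ ⟨b, hb⟩
  obtain ⟨i, rfl⟩ := Subgroup.mem_zpowers_iff.1 ha
  obtain ⟨j, rfl⟩ := Subgroup.mem_zpowers_iff.1 hb
  apply Subtype.ext
  exact (Commute.zpow_zpow_self g i j).eq

/-- **Existence of a fixed point**. -/
theorem h5sf_exists_fixed [Finite Γ] {X : Type*} [MulAction Γ X] (p : ℕ) [hp : Fact p.Prime]
    (U : Subgroup Γ) (hU : IsPGroup p U) (g : Γ)
    (hgU : g ∈ Subgroup.normalizer (U : Set Γ)) (hg : ¬ p ∣ orderOf g) (x : X)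
    (hx : ∃ u ∈ U, g • x = u • x) : ∃ n ∈ U, g • (n • x) = n • x := by
  obtain ⟨u, hu, hux⟩ := hx
  have hcop := h5sf_coprime p U hU g hg
  set N := Nat.card U with hN
  set h := u⁻¹ * g with hh
  have hhx : h • x = x := by
    rw [hh, mul_smul, hux, ← mul_smul, inv_mul_cancel, one_smul]
  set b := h ^ N with hb
  set A := Subgroup.zpowers g with hA
  set B := Subgroup.zpowers b with hB
  have hAU : A ≤ Subgroup.normalizer (U : Set Γ) := Subgroup.zpowers_le.2 hgU
  have hBUA : B ≤ U ⊔ A := by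
    apply Subgroup.zpowers_le.2
    apply Subgroup.pow_mem
    exact Subgroup.mul_mem _ (Subgroup.mem_sup_left (U.inv_mem hu))
      (Subgroup.mem_sup_right (Subgroup.mem_zpowers g))
  have hord : orderOf b = orderOf g := by
    apply Nat.dvd_antisymm
    · apply orderOf_dvd_of_pow_eq_one
      obtain ⟨v, hv, hvg⟩ := h5sf_pow_mul U hgU (U.inv_mem hu) (orderOf g)
      rw [pow_orderOf_eq_one, mul_one] at hvg
      have h0 : b ^ orderOf g = v ^ N := by
        rw [hb, ← pow_mul, mul_comm N (orderOf g), pow_mul, hh, hvg]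
      rw [h0]
      exact h5sf_pow_card_eq_one U hv
    · obtain ⟨v, hv, hvg⟩ := h5sf_pow_mul U hgU (U.inv_mem hu) (N * orderOf b)
      have h1 : (u⁻¹ * g) ^ (N * orderOf b) = 1 := by
        rw [← hh, pow_mul, ← hb, pow_orderOf_eq_one]
      rw [h1] at hvg
      have h2 : g ^ (N * orderOf b) = v⁻¹ := eq_inv_of_mul_eq_one_right hvg.symm
      have h3 : (g ^ (N * orderOf b)) ^ N = 1 := by
        rw [h2]
        exact h5sf_pow_card_eq_one U (U.inv_mem hv)
      rw [← pow_mul] at h3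
      have h4 : orderOf g ∣ N * orderOf b * N := orderOf_dvd_of_pow_eq_one h3
      have h5 : orderOf g ∣ N * orderOf b := (Nat.Coprime.dvd_of_dvd_mul_right hcop.symm h4)
      exact Nat.Coprime.dvd_of_dvd_mul_left hcop.symm h5
  have hcard : Nat.card B = Nat.card A := by
    rw [hB, hA, Nat.card_zpowers, Nat.card_zpowers, hord]
  have hcop' : (Nat.card U).Coprime (Nat.card A) := by
    rw [hA, Nat.card_zpowers]; exact hcop
  obtain ⟨n, hn, hnA⟩ := Cfsg.Agent.Helper1.sz_conj_internal U A B hAU hBUA hcard hcop'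
    (Or.inr (h5sf_isSolvable_zpowers g))
  have hBx : B ≤ stabilizer Γ x := by
    apply Subgroup.zpowers_le.2
    apply Subgroup.pow_mem
    exact hhx
  have h6 : n * g * n⁻¹ ∈ B := by
    rw [← hnA, Cfsg.Agent.Helper1.mem_conj_smul]
    have : n⁻¹ * (n * g * n⁻¹) * n = g := by group
    rw [this]
    exact Subgroup.mem_zpowers g
  have h7 : (n * g * n⁻¹) • x = x := hBx h6
  refine ⟨n⁻¹, U.inv_mem hn, ?_⟩
  have h8 : g • (n⁻¹ • x) = n⁻¹ • ((n * g * n⁻¹) • x) := by
    simp only [← mul_smul]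
    congr 1
    group
  rw [h8, h7]

/-- **Transitivity of the centraliser on the fixed points**. -/
theorem h5sf_fixed_trans [Finite Γ] {X : Type*} [MulAction Γ X] (p : ℕ) [hp : Fact p.Prime]
    (U : Subgroup Γ) (hU : IsPGroup p U) (g : Γ)
    (hgU : g ∈ Subgroup.normalizer (U : Set Γ)) (hg : ¬ p ∣ orderOf g) (y : X)
    (hy : g • y = y) (k : Γ) (hk : k ∈ U) (hky : g • (k • y) = k • y) :
    ∃ c ∈ U ⊓ Subgroup.centralizer ({g} : Set Γ), c • y = k • y := by
  have hcop := h5sf_coprime p U hU g hg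
  set A := Subgroup.zpowers g with hA
  set D := U ⊓ stabilizer Γ y with hD
  have hAU : A ≤ Subgroup.normalizer (U : Set Γ) := Subgroup.zpowers_le.2 hgU
  have hAy : A ≤ stabilizer Γ y := Subgroup.zpowers_le.2 hy
  have hAky : A ≤ stabilizer Γ (k • y) := Subgroup.zpowers_le.2 hky
  have hAD : A ≤ Subgroup.normalizer (D : Set Γ) :=
    Cfsg.Agent.Helper1.le_normalizer_inf hAU (hAy.trans Subgroup.le_normalizer)
  have hcop' : (Nat.card A).Coprime (Nat.card U) := by
    rw [hA, Nat.card_zpowers]; exact hcop.symm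
  have hfix : ∀ a ∈ A, a * k⁻¹ * a⁻¹ * k⁻¹⁻¹ ∈ D := by
    intro a ha
    constructor
    · have h1 : a * k⁻¹ * a⁻¹ ∈ U :=
        (Subgroup.mem_normalizer_iff.1 (hAU ha) k⁻¹).1 (U.inv_mem hk)
      exact U.mul_mem h1 (U.inv_mem (U.inv_mem hk))
    · have h1 : a • y = y := hAy ha
      have h2 : a⁻¹ • (k • y) = k • y := (hAky (A.inv_mem ha))
      change (a * k⁻¹ * a⁻¹ * k⁻¹⁻¹) • y = y
      rw [inv_inv, mul_smul, mul_smul, h2, mul_smul, inv_smul_smul, h1]
  obtain ⟨n, hn, hc⟩ := Cfsg.Agent.Helper1.exists_mem_centralizer_of_coset_fixed A U D hAU hcop'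
    inf_le_left hAD (Or.inr (h5sf_isSolvable_zpowers g)) k⁻¹ (U.inv_mem hk) hfix
  refine ⟨k * n, ⟨U.mul_mem hk hn.1, ?_⟩, ?_⟩
  · have h1 : (n⁻¹ * k⁻¹)⁻¹ ∈ Subgroup.centralizer ((A : Subgroup Γ) : Set Γ) :=
      Subgroup.inv_mem _ hc.2
    have h2 : (n⁻¹ * k⁻¹)⁻¹ = k * n := by group
    rw [h2] at h1
    exact Subgroup.centralizer_le (Set.singleton_subset_iff.2 (Subgroup.mem_zpowers g)) h1
  · rw [mul_smul]
    have : n • y = y := hn.2
    rw [this]

/-- **Counting fixed points**: if a `p`-group `U ≤ Q` is transitive on the `Q`-orbit of `x` and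
`g ∈ Q` is a `p'`-element normalising `U`, then the number of fixed points of `g` in that orbit
is a power of `p` dividing `|C_U(g)|` (in particular it is not zero). -/
theorem h5sf_card_fixed [Finite Γ] {X : Type*} [MulAction Γ X] (p : ℕ) [hp : Fact p.Prime]
    (Q U : Subgroup Γ) (hU : IsPGroup p U) (g : Γ) (hgQ : g ∈ Q)
    (hgU : g ∈ Subgroup.normalizer (U : Set Γ)) (hg : ¬ p ∣ orderOf g) (x : X)
    (htrans : ∀ q ∈ Q, ∃ u ∈ U, q • x = u • x) (hUQ : U ≤ Q) :
    ∃ k : ℕ, Nat.card {y : X // y ∈ orbit Q x ∧ g • y = y} = p ^ k ∧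
      p ^ k ∣ Nat.card (U ⊓ Subgroup.centralizer ({g} : Set Γ) : Subgroup Γ) := by
  obtain ⟨n, hn, hnx⟩ := h5sf_exists_fixed p U hU g hgU hg x (htrans g hgQ)
  set C : Subgroup Γ := U ⊓ Subgroup.centralizer ({g} : Set Γ) with hC
  set y₀ := n • x with hy₀
  have hset : {y : X | y ∈ orbit Q x ∧ g • y = y} = orbit C y₀ := by
    ext y
    constructor
    · rintro ⟨⟨q, hq⟩, hgy⟩
      have hq' : (q : Γ) • x = y := hq
      obtain ⟨u, hu, hux⟩ := htrans q q.2
      have h1 : y = (u * n⁻¹) • y₀ := by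
        rw [← hq', hux, hy₀, ← mul_smul, inv_mul_cancel_right]
      rw [h1] at hgy ⊢
      obtain ⟨c, hc, hcy⟩ := h5sf_fixed_trans p U hU g hgU hg y₀ hnx (u * n⁻¹)
        (U.mul_mem hu (U.inv_mem hn)) hgy
      exact ⟨⟨c, hc⟩, hcy⟩
    · rintro ⟨c, hc⟩
      have hcy : (c : Γ) • y₀ = y := hc
      have hcU : (c : Γ) ∈ U := c.2.1
      have hcg : (c : Γ) ∈ Subgroup.centralizer ({g} : Set Γ) := c.2.2
      rw [← hcy]
      constructor
      · refine ⟨⟨(c : Γ) * n, hUQ (U.mul_mem hcU hn)⟩, ?_⟩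
        change ((c : Γ) * n) • x = (c : Γ) • y₀
        rw [hy₀, ← mul_smul]
      · rw [← mul_smul]
        have : g * (c : Γ) = (c : Γ) * g := Subgroup.mem_centralizer_iff.1 hcg g rfl
        rw [this, mul_smul, hnx]
  have hcard : Nat.card {y : X // y ∈ orbit Q x ∧ g • y = y} = Nat.card (orbit C y₀) := by
    have := congrArg (fun s : Set X => Nat.card s) hset
    exact this
  have hdvd : Nat.card (orbit C y₀) ∣ Nat.card C := by
    have h1 := Nat.card_congr (MulAction.orbitEquivQuotientStabilizer C y₀)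
    rw [h1]
    exact ⟨_, ((stabilizer C y₀).card_eq_card_quotient_mul_card_subgroup)⟩
  have hCp : IsPGroup p C := hU.to_le inf_le_left
  obtain ⟨m, hm⟩ := hCp.exists_card_eq
  rw [hm] at hdvd
  obtain ⟨k, -, hk⟩ := (Nat.dvd_prime_pow hp.out).1 hdvd
  refine ⟨k, hcard.trans hk, ?_⟩
  rw [hm, ← hk]
  exact hdvd

end Cfsg.Agent.Helper5
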