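import Cfsg.Agent.Helper5.TC2A

/-! generated coset table (generator 0): SuzBTC -/

set_option autoImplicit false
set_option Elab.async false

namespace Cfsg.Agent.Helper5.SuzBTC
open Cfsg.Agent.Helper5.TC

def ct0_0 : ℕ := 0x19f00019e00019800019c00019000018c00019900019d00018600018500018b00019200018d00019400017800019b00016800017300019300019a00019500016200016100015e00015d00019700019600015a00018300016700016400018000014900014500014400017900017100016300017c00019100013200013100017000013400018e00012b00017b00017500012a00012900012300012100016b00011f00016900018f00018200011c00011b00018100017a00018a00018900011500011100018800018700010e00010d00018400014100010a00010900015600011a00013300014e0001030001510001350001470001530001000001260000fc0000fb00017f00010600014f00013600017e00017d0000f80000f700015900013a0000f20001140001160000f10000f00001400001270000ee0000ea0001460001500001740001540001770001760000e50000e200012e0000e70000e600017200016f00016e0000dc00013900014c0000e90000d900016d0000f400016c0000d300016a00011e00011d0001660001650001550000cc0000cb0000ca00013d00016000013e0000c70000c600015f0000ce0000ff00015c00015b0000c30000c20001580001570000da0001070001480000ec0000eb0001520001020000ed00014d00010f0000ba0000b900014b00014a0000bd0000bc0001430001420000b50000b40001220000b300013f00013c00013b0000b0000138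0001010001050001040001370001250000ac00012d00012c0001300000e40000ae00012f0000e10000ab0000aa0000d10000a30001280000d500010800012400009f0000d400009e0000db0000d700012000009c0000de00009a0000cf0001100000cd00011900011800011700009600009500011300011200009800009700010c00010b0000910000900000a20000be0000fa0000f90000ad0000fe0000fd00008c00008e00008d0000f60000f50000f30000880000a00000ef00009d0000e30000bb0000e80000e00000df0000a90000850000840000a60000830000820000dd0000bf00007b0000b10000d80000d60000af0000d20000760000d00000990000c50000c40000c90000c80000720000740000730000c10000c000006f0000b70000b60000b800006e00006d0000790000b200007a0000780000a80000a70000a50000a40000810000660000650000640000630000690000a100008700008900008600005e00009b00005900009300009200009400005800005700008f00008b00008a00005300005200005c00007c00005d00005b00008000007f00007e00007d00004b00004a00004900004e00007700006800006a00006700004500007500007100007000003e00003d00003f00006c00006b00003900003800004300005f00004400004200006200006100006000003200003400004600005a00004d00004f00004c00002e00004000005400005600005500002600002500002700005100005000002200002c00002b00004700002d00004800002000001f00002f00004100003300003600003500001c00001b00002800003a00003c00003b00001600001700003700001a00003100003000001200001d00002a00002900002100001000001800002300002400000d00000c00000f00001e00000a00001900001300000900001500001400000700001100000e00000500000b000004000008000006000002000003000001000000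
def ctSel0 (c : ℕ) : ℕ := ct0_0
def ct0F (v : ℕ) : ℕ := Nat.rec (motive := fun _ => ℕ) 0 (fun c _ => Nat.mod (Nat.shiftRight (ctSel0 c) (Nat.mul 24 (Nat.mod v 682))) 16777216) (Nat.add (Nat.div v 682) 1)

end Cfsg.Agent.Helper5.SuzBTC
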