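import Cfsg.Agent.Helper5.TC2A

/-! generated coset table (generator 0): SuzCTC -/

set_option autoImplicit false
set_option Elab.async false

namespace Cfsg.Agent.Helper5.SuzCTC
open Cfsg.Agent.Helper5.TC

def ct0_0 : ℕ := 0x1170001160001150001140001130001030000ff00010900010f00010e0000fb0000f600010b0000f20001100001050000f00001060001080000e90001120000ec0000e70000e30001110000e10000db0000e000010d0000f10000f90000d60000d500010c0000d20000d80000d100010a0000fa0001070000cb0000cc0000c70001020000c50000c30001040000bf0001010000da0000be0000bd0001000000ba0000fe0000fc0000bb0000b60000ce0000b50000fd0000e60000b30000f40000b10000f80000f70000b00000ae0000f50000f30000ab0000a70000dd0000a50000ee0000ef00009f0000a90000a20000ed00009c0000eb00009a0000ea0000980000ac0000970000e80000e50000e40000940000df0000e20000910000900000920000de0000dc00008c0000d900008a0000d70000d40000880000d30000860000c10000d00000840000c90000830000cf0000820000cd00009500007e0000c800007b0000800000ca00007900007c0000c600009b0000c40000990000c20000c00000710000a40000bc00006f0000b70000b90000b800006e00006b0000720000b400008b0000b20000890000af0000650000ad0000640000aa0000a80000a60000600000a00000700000a300005e00009d0000a100005f00009e00005d00007700007600007500007400005700008d000096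00007f00009300008f00005500005400008e00005600006900006800006700006600008700008500004a00004900004b00008100007a00007d00007800004700004600005a00005900005800007300006a00006d00006c00003f00003e00004100004000004f00004e00004d00003700006100006300006200003600005c00005b00003300003200004300004200005100005000005300005200002c00002b00002e00002d00003900003800004c00004800002600002500004500004400002200002100002f00003b00003a00003d00003c00001d00001f00001e00002700003500003400001a00001900003100003000001600002900002800002a00001500001400002400002300001200001100002000001c00001b00000e00001800001700000c00000b00001300000900001000000f00000700000d00000800000a000004000005000006000003000002000001000000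
def ctSel0 (c : ℕ) : ℕ := ct0_0
def ct0F (v : ℕ) : ℕ := Nat.rec (motive := fun _ => ℕ) 0 (fun c _ => Nat.mod (Nat.shiftRight (ctSel0 c) (Nat.mul 24 (Nat.mod v 682))) 16777216) (Nat.add (Nat.div v 682) 1)

end Cfsg.Agent.Helper5.SuzCTC
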