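import Cfsg.Agent.Helper5.TC2A

/-! generated certificate data (ranks of generator 0): SuzCTC -/

set_option autoImplicit false
set_option Elab.async false

namespace Cfsg.Agent.Helper5.SuzCTC
open Cfsg.Agent.Helper5.TC

def rk0_0 : ℕ := 0x68400067c00067600066e00066800066000065800065400064e00064400000000063a00063400063200000000065500062400062000061e00062500061800066100061200060c0006040006590005f60000000005e800063b0005e00000000005d80005d40006350000000005c60005be0000000005e10006210005b20005ac0005a400061300059a00000000061900000000060d00058400058200056a000605ffffff0000000005640005f70005e900057e00000000055200054c0000000005850005460005c70000000003c6ffffff0003c20003a60003a2ffffffffffff0005d90005d500039affffffffffff000396000000ffffff0005bf00039200038effffff00038cffffff000388000553ffffff00000000037affffff000000000374ffffffffffffffffffffffff000368ffffff0005ad0005b300036200052600035c0005a5000000ffffff00059b000000ffffff000000ffffffffffffffffffffffffffffff000000ffffff0000000004e0000332000000ffffff00032c00058300056b00032800000000037b00056500000000000000031a000502ffffff000314ffffffffffffffffff00030cffffffffffff000306000304ffffff00000000054d000000ffffff000547000000ffffff000000ffffff0002ee0002ec0002eaffffff0002e4ffffff0002e00003a30002deffffff0002d80003c7f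fffff000000ffffff0003c3ffffff0003a70002ca0002c800034200000000039b0002c20003970002be00039300038f00000000038d0000000003890002aa0000000002a400000000037500029cffffff00035d00036900000000029000036300000000028a000000000286000000000280ffffffffffffffffffffffffffffff000000000000000333000000000276ffffffffffff00026e00032d0000000002a500032900000000031b00000000000000025cffffff0003150002d9000256ffffffffffff000277ffffff00030dffffffffffff000248ffffffffffff00030700030500024400024200000000023c0000000002ef0000000002edffffff0002eb00023400023000022c000228ffffffffffff0002e5000220ffffff0002e100021c0002df000000ffffffffffff000216000212000000000210ffffff0002cb0002c90000000000000002c30000000002bf0002060000000000000002ab0000000002910001f800029d00000000028b0000000001ec0000000001e80001e60001e00001da0001d60001d4ffffff00000000023d0000000001ce00026f0001c80000000001f900000000025d0001c00001bcffffff000257000217ffffff0001b2ffffffffffff0001cfffffff000249ffffffffffffffffff0001a6ffffff00024500024300000000000000019c00023500023100022d000229000194000192000190ffffff000221000000ffffff00021d000186000000000211ffffff00021300000000017a000176000000ffffff0000000002070000000000000001680000000001ed0000000001e900016000015c00015800015400015000014c00014a00000000019d0001440001c90000000001c10001b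d00013a000136ffffff0001b3ffffff000000ffffff000145ffffffffffff0001a7ffffff00012600000000012200011e00019500019300019100011800011600000000011400018700000000017b000177000000ffffff00010effffff0000000001690000000000000000fe00016100015d0000f80000f40000f00000ec0000ea00012300011f0000e400000000013b0001370000da0000d60000000001150000e5ffffff0001270000000000ce0000cc0001190001170000000000c2000000ffffff00010f0000c0ffffff0000000000ff0000b80000b40000f90000f50000ac0000a80000a60000cf0000cd0000a20000db0000d70000000000c30000a300000000009000008e000000ffffff00008a0000c10000000000b90000b500008200007e0000ad0000a900000000009100008f000000ffffff00008b00006c00006a00006800000000008300007f00005e00005a00000000006d00006b00006900005000004e00005f00005b00004400004200005100004f00000000004500004300003000000000002800003100000000001e00000000001600001000000a000002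
def rkSel0 (c : ℕ) : ℕ := rk0_0
def rk0F (v : ℕ) : ℕ := Nat.rec (motive := fun _ => ℕ) 0 (fun c _ => Nat.mod (Nat.shiftRight (rkSel0 c) (Nat.mul 24 (Nat.mod v 682))) 16777216) (Nat.add (Nat.div v 682) 1)

end Cfsg.Agent.Helper5.SuzCTC
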