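import Cfsg.Agent.Helper5.TC2A

/-! generated certificate data (ranks of generator 1): SuzCTC -/

set_option autoImplicit false
set_option Elab.async false

namespace Cfsg.Agent.Helper5.SuzCTC
open Cfsg.Agent.Helper5.TC

def rk1_0 : ℕ := 0x68600067e00067800000000066a00066200065a00067f000650000642ffffff00063c00067900000000000000062a00063d00066b00000000061c00065b00061600062b00060e0006060005fe0005f80005f00005ea0006510006430000000005da0006170005ce0000000005c80005c00000000005b60005b40000000005ae0000000005a000059c00059900058e0005f10005b70005b500060700056e000568000566ffffff0005f90000000000000005eb00055a0005540005ff0000000005480005db0000000005c1ffffffffffffffffff0003a80003a4ffffff00039e00039c00000000059d000000ffffff0005cf000000ffffff000394ffffff000598000518000516ffffff00000000038400051a00037effffff000378ffffffffffff00037000036e00036affffffffffff0000000003660003640005af00000000050e00035a00000000053a00035600052affffff000000ffffffffffffffffff000348000334ffffff00056700055b00055500058f000000000000ffffff00032a000365000569000000ffffff000322000000000000ffffff000000000000ffffff00031200031000030effffff00030a000000ffffff00039f0000000000000002fe000000ffffff0002fa00000000052000000000030fffffffffffffffffff0002e80002e60002e2ffffffffffff00033effffffffffff0002d40002d200033cffffffffffffff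ffff0002ccffffff0003a50000000003460002c40000000002c00000000002bc0002b800037f00036f0002b20002ae0003850000000003790000000002a000037100000000036b00029800000000036700028e00000000035b000000000357000000000000ffffffffffffffffff00034900033500000000000000027c000000ffffff000000000000ffffff0002e300026a00032b000268000000000323000000000000000000000000000258ffffff0002e700031300000000031100000000024e00024cffffffffffff00030b000000000000ffffff00026b0000000000000002ff0000000002fb00000000000000024f00024dffffffffffffffffff0002e9000000000226000224000222000000ffffffffffff0002d300021affffffffffff0002cd0002d5000000ffffffffffffffffff00020e00000000000000020a0002b30002080002bd0000000000000001fe0000000002a10000000001f600000000029900000000028f0000000000000000000001e20001dc0001d8ffffff00000000000000027d0000000000000001caffffff0000000002690000000000000000000002590001ba0001b80001b6ffffff000223000000000000000000ffffff0001aa0001a8ffffffffffff0000000001a40001a2ffffff00021b0000000000000000000001980001ab0001a900022700022500000000018e00018c00018a000000ffffffffffff000000ffffff000182000180000000ffffff00020f0000000000000000000001740000000000000001ff0000000001f70000000000000000000001e300015a000156000152ffffff0001b70000000000000001cb00014200000000000000013c0001bb0001b900013400013000012e00018b000000fffffff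fffff00012a0001280001a50001a300000000000000019900011c00011a00012900018f00018d000000ffffffffffff000000000183000181000000ffffff00000000010c0000000001750000000000000000000000000000fa00015b0001570000f20000ee00012f00000000013d0001430000000000e00000de000135000131000000ffffff00012b0000d20000d000000000011d00011b0000c80000c6000000ffffff000000ffffff00000000010d0000000000000000000000000000fb0000b20000ae0000f30000ef0000000000e10000df00000000009e00009c0000000000d30000d10000000000c90000c7000000ffffff0000000000880000000000000000840000b30000af00007c00007800000000009f00009d000000ffffff00000000006e00000000008900000000006400006200007d00007900000000005600000000005400005200000000004a00004800005700000000004000003c00003800003400003200004100000000003500002600000000002700000000000000001200000c000004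
def rkSel1 (c : ℕ) : ℕ := rk1_0
def rk1F (v : ℕ) : ℕ := Nat.rec (motive := fun _ => ℕ) 0 (fun c _ => Nat.mod (Nat.shiftRight (rkSel1 c) (Nat.mul 24 (Nat.mod v 682))) 16777216) (Nat.add (Nat.div v 682) 1)

end Cfsg.Agent.Helper5.SuzCTC
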