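import Cfsg.Agent.Helper5.TC2A

/-! generated certificate data (ranks of generator 2): SuzCTC -/

set_option autoImplicit false
set_option Elab.async false

namespace Cfsg.Agent.Helper5.SuzCTC
open Cfsg.Agent.Helper5.TC

def rk2_0 : ℕ := 0x68200000000067000066c00066400065e000665000652000647ffffff00063e00063600067100065f00062c00000000062200064600062300061b00062d0006140006100006080006020000000005f50000000005e60005e20005de00063f0000000005d200061a0005ca0005c20006030005b80000000000000005e30005a600000000061500059200059100058d0005880005860006110000000005720000000005760005c30005f40005cb0000000005740000000005500000000000000005870000000005420003c9ffffffffffff0000000003aa0003a0ffffff0005e7000000000000ffffffffffff0003980005900000000004d2ffffff000000ffffff0000000004d40000000005510000000005a7ffffffffffffffffffffffff000373000000ffffff000000ffffffffffff0005b900000000000000052800035e000532000593ffffff000000000354ffffff000350ffffff00034c00034affffff0003360003c800000000057c0000000004d800058c00032e0000000005890000000000000000000003240004d300031e00050800031c000504000316ffffffffffffffffffffffffffffffffffff000308000000ffffffffffff000000000000000543ffffff0000000002f8ffffff0002f4ffffff0002f0000000ffffffffffffffffff000000000000ffffff000000ffffff0002da0002d7000000000338ffffffffffffffffff0000000003a10000000003440002c600000000000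00003990000000000000000000000000000000000000000000000000000000002a6000372ffffff00029e00000000035f00000000029400029200000000035500028c00035100034d000284000000ffffff00034b000000ffffff00027e0002d600000000000000031f00027800032f000000ffffff000000000000000293000000000266000264000260000317000000000000ffffffffffffffffff000254ffffff000252ffffffffffffffffffffffffffffff000246000309000000ffffff0000000000000002f90002790002f50002f1000238000000ffffffffffff00000000000000022e00022affffffffffffffffff000000ffffff000000000000000000000000ffffff0002db000000000214000000ffffffffffffffffff0000000002c700020c0000000000000000000000000000000000000000000002950002a700000000029f0001f400028d0001f00001ee0002850000000000000000000001de00027f000000000000000267000253000261000000000000ffffff0000000001ef0001c4000000000000000000000000ffffff0002150002550001b5000000ffffff000000ffffff0001ac000247ffffffffffff000000ffffff00000000000000000000023900000000000000000000019600022b00000000022f000000ffffffffffffffffff000000000000ffffff000000ffffff00018400000000017e00017c00017800020d0000000000000000000001700001f500016a0001f10000000001640000000000000000000000000001df00000000014e0000000001c5000000000000ffffff0001b4000000000000000000000138ffffff000133000000000000000000000000ffffff0001ad000000ffffff000000000000000000000000000000000197000000ffffff000000ffffff0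0000000018500017f00011200017900011000017d00000000000000010a0001080001040001650000000000000000000000000000f600014f0000000000000000000000000000e60001320000000001390000dc0000d80000000000000000d4ffffff000000ffffff0000000000d50000ca000000ffffff0000c4000111000113000000000000ffffff0000be0000000000000000000000000000b00000dd0000aa0000000000000000e70000000000a00000d900009a00009800009600009400009200009700008c0000c5000000000000ffffff0000000000000000000000800000a100007a00009b00007600000000007400009900000000009300000000000000006600000000008100006000005c00007500007700000000000000000000000000004c00005d00006100000000000000000000000000004d00000000000000000000002a00000000002200002000001a00000000000000000e000006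
def rkSel2 (c : ℕ) : ℕ := rk2_0
def rk2F (v : ℕ) : ℕ := Nat.rec (motive := fun _ => ℕ) 0 (fun c _ => Nat.mod (Nat.shiftRight (rkSel2 c) (Nat.mul 24 (Nat.mod v 682))) 16777216) (Nat.add (Nat.div v 682) 1)

end Cfsg.Agent.Helper5.SuzCTC
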