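import Cfsg.Agent.Helper5.TC2A

/-! generated certificate data (ranks of generator 3): SuzCTC -/

set_option autoImplicit false
set_option Elab.async false

namespace Cfsg.Agent.Helper5.SuzCTC
open Cfsg.Agent.Helper5.TC

def rk3_0 : ℕ := 0x68a00000000000000067200000000000000000000000000000000000000064a00064000000000000000062e0006410006260000000000000000000000000000000006270000000000000000000005fd0000000005ef0000000000000000000005dc0005d60000000000000005cc0000000005ba0005d70000000000000000000005ab0000000000000005940000000000000000000000000005ee00056c000000000570ffffff0000000005fc00055e00000000055c00055800000000000000056d0000000005dd000595000000000000000000ffffff000000ffffff0000000005cd000000000000ffffff000512000000000000ffffff000000000000000000000000ffffff000000000510000000ffffff000559000000ffffff000376ffffff000000ffffff00036c0004dc000000ffffff00052e0000000000000000000003600000000005aaffffff000000000000000000000514000000000000ffffffffffff0000000003cb00057100055d0004d6000000000000ffffff0003ac00055f000000000000000000000326000000000000000377000000000506ffffff000000ffffff000000000000000000000000ffffffffffff000000ffffff000302000000000000ffffff000000000000000000000515000000000000ffffff0003ca000000ffffffffffffffffff000000ffffff000000ffffff000000ffffff0000000000000000000000000002cf0000000000000000000000000000000000000000000000000000000000000000000000000002b40000000000000000000000000002a200036d00000000000000029a0000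00000000000361000000000000000000000000000000000000000000000000000000000000ffffff000000000000000303000000000000000000ffffffffffff000000ffffff00026c0003270000000000000000000000000002a3000000ffffff000000ffffff000000ffffff0002ce000000000000000000000000000000000000000000000000ffffff000000000000000000000240000000000000000000000000000000000000000000000000000000ffffff000000000000000000ffffff00000000021effffff00000000000000026d000000000000000218000000000000000000000000000000000000000000ffffff0000000002b500000000000000000000020200000000000000029b0001fa0000000000000000000000000000000000000000000000000000000000000000000000000000000002410000000000000000000000000000000001c60000000000000000000001fb000000000000000000000000ffffff00000000021900021f000000000000000000000000000000000000000000ffffff0000000000000000000001a00000000000000000000000000000000000000000000000000000000000000000000001880000000000000001c7000000000000000000000000000000000000000000ffffff00020300000000000000016e0000000000000000000000000000000000000000000000000000000000000000000000000001a1000000000000000000000140000000000000000000000000000000000000000000000000000189000000000000000000000000000000000000000000000124000000000000000000000000000000000000000000000000000000000141000000000000000000ffffff00000000000000016f0000000000000001020000000000000000000000000000000000000000000000000001250000000000000000e20000000000000000000000000000000000000000000000000000000000000000000000000000000000000000000000000000e3ffffff0000000000000000000001030000000000ba0000000000000000000000000000000000000000000000000000a4000000000000000000000000000000000000000000000000000000ffffff0000a50000000000000000bb00000000000000000000000000000000000000000000000000000000007200000000007000000000000000000000000000000000000000000000000000005800000000000000000000000000000000000000004600000000000000000000000000003600000000000000000000002c000000000000000000000000000000000000000000000008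
def rkSel3 (c : ℕ) : ℕ := rk3_0
def rk3F (v : ℕ) : ℕ := Nat.rec (motive := fun _ => ℕ) 0 (fun c _ => Nat.mod (Nat.shiftRight (rkSel3 c) (Nat.mul 24 (Nat.mod v 682))) 16777216) (Nat.add (Nat.div v 682) 1)

end Cfsg.Agent.Helper5.SuzCTC
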