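import Cfsg.Agent.Helper5.TC2A

/-! generated certificate data (ranks of generator 4): SuzCTC -/

set_option autoImplicit false
set_option Elab.async false

namespace Cfsg.Agent.Helper5.SuzCTC
open Cfsg.Agent.Helper5.TC

def rk4_0 : ℕ := 0x68800068000067a00067400068100066600065c000656000000000649ffffff00000000063800067500063000000000062900065700064800066700065d00062800000000000000060a0006000005fa0005f20005ec0000000005e50000000000000000000005d00006310000000005c50005bc0000000000000005e40005b00005a80005a200059e00059600060100058a00000000000000000000000000060bffffffffffff0005ed0005620005600005fb0005f300055600054e00054a0005a300059f0005c4000544ffffff0003c4ffffffffffffffffff000000ffffff000000000000000000ffffff00000000051c0005bdffffff000000ffffff000390ffffffffffffffffff00038a00038600038200038000037c000000ffffff000000ffffffffffff000000ffffffffffffffffff0000000000000005b10005a9000000000534000358000000000523000597ffffff00035200034effffff000000000000ffffffffffffffffff00058b00055700054f000330ffffffffffff00000000000000000000056300000000056100032000050a00037d000318ffffffffffff000000ffffffffffffffffffffffffffffffffffffffffffffffff00054b0003000002fc000000000522000545ffffff0002f60002f2ffffffffffff000000ffffff000000ffffffffffffffffffffffff0002dc000000ffffffffffffffffff0002d00003c5000000ffffff000000ffffffffffff0000000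0000000039100000000038b0003870002ba0002b60003830003810002b00002ac0002a8000000000000000000000000ffffff00000000000000029600000000000000035900000000028800000000035300028200034f000000ffffff00000000000000000000033100030100027affffff000274000272000270ffffffffffff00000000000000032100000000026200031900025effffff00025a000000000000000000000000ffffff000250ffffff00000000024a000000ffffffffffffffffffffffffffffffffffff0002fd00023e00023a0000000002f70002360002f3000000ffffff000232000000000000ffffffffffff000000000000000275000273000271ffffffffffff0002dd000000000000ffffffffffff0002d1000000000000000000000000ffffff0002bb0002b70002b10002ad0002040002a90002000001fc0000000000000000000002970000000001f20000000002890001ea0002830001e4000000000000ffffff00000000027b00023f0001d20001d00001cc000000ffffff0000000002630001c200025f0001be00025b0000000000000000000000000000000002510001b00001ae00000000000000024b000000000000000000ffffffffffffffffff00023b00019e00023700019a000000000000000233000000000000000000000000ffffff0001d10001cd000000ffffffffffff000000000000ffffff000000000000000000ffffff0002050002010001720001fd00016c0001660000000001f30001620001eb00015e0001e5000000000000000000ffffff0001d30001480001460000000000000001c300013e0001bf000000000000000000ffffff0000000001b100012c0001af00000000000000000000000000000000019f00012000019b00000000000000000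0000000000000000147000000000000000000ffffff000000000000000000ffffff00017300016d0001060001670001000001630000fc00015f0000000000000000000000000001490000e800000000000000013f00000000000000000000000000012d000000000000000000000000000121000000000000000000000000000000000000000000000000000000ffffff0001070000bc0001010000b60000fd0000000000000000000000000000e9000000000000000000000000000000000000000000000000000000000000000000000000000000000000ffffff0000bd0000860000b7000000000000000000000000000000000000000000000000000000000000000000000000ffffff000087000000000000000000000000000000000000000000000000ffffff00000000000000000000000000000000003e00003a00000000000000000000002e00000000000000002400000000001c000018000014000000000000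
def rkSel4 (c : ℕ) : ℕ := rk4_0
def rk4F (v : ℕ) : ℕ := Nat.rec (motive := fun _ => ℕ) 0 (fun c _ => Nat.mod (Nat.shiftRight (rkSel4 c) (Nat.mul 24 (Nat.mod v 682))) 16777216) (Nat.add (Nat.div v 682) 1)

end Cfsg.Agent.Helper5.SuzCTC
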