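import Cfsg.Agent.Helper5.TC2A

/-! generated certificate data (targets of generator 1): SuzCTC -/

set_option autoImplicit false
set_option Elab.async false

namespace Cfsg.Agent.Helper5.SuzCTC
open Cfsg.Agent.Helper5.TC

def tg1_0 : ℕ := 0x2060001ff0001fa0001f80001f50002010001f20002050001e90001e80000000001f60002040001e30002030001f00001fb0002020001dd0001f30002000001e50001f70001ef0001d30001c80001ce0001d60001cb0001fe0001fd0001ba0001c50001f10001b60001f90001e20001c30001ad0001d50001d40001f400019d0001990001da0001b90001b100018a0001eb0001df0001de0001ee0001d200018400018d0000000001ec00018000017f0001ea00018c00018b0001ed00016f0001c60001e600016c0001e100016100015a0000000001bf0001550000000001730001bb0001e70001d90001510001b70001e400014f0000000001b30000000001d800013e00013c0001ae0001e000014800013b00014c00000000014600000000000000014300014b00014100000000000000013f00013e0001850001dc00013c00014b00013b0001db00016d00013900015100016a00013700019300000000000000013300013200018e0001d00001ca0001c90001d700012e00012b00000000012700019e0001d10001250000000001240001cd0001cc00000000012100012000000000011c00011a0001690000000001140001120000000001bc00010f00010e00010d0001c700019700010b0001c400019400010900017800000000000000000000010300011d0001290000000001c20000f00000000000000000f60000fb0000fb0001c10000f400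00f30000f70000000001be0000f000010f0001520001b80001500001b50000eb00014d0001aa0001a40000ed0001490001ac0000e70001a80000e50000e60001a50000e30001a30000e20001a000019f0000e000019c00019a0000de0001970000dd00019400013600013500000000019000018f0000d80000d70000d60001890000000000d40001880000000001630001100001860000d00001830001810000ce0000cd00017d00017c0000cc00000000016400017a0000c60001790000c40001080001070000000000000001760000be0001750001110001280001720001710001700000b800016d0000b700016a0001180001170000000000000000000001650000b10000b30000b20000c70000ad00000000000000015c0000ba0000a900000000015700015d0000a60001590001580000a50000a40001540000a20000ee00014a0000ec00014e00009f00009e00009d00014700014400014500009b00014200014000009900013d00009800013a0001380000970000db0000da00000000013100013000012f00009000012c00008f00000000008d00012600008c00012300012200011f00008a0000890000920000000000ff00011b0000840001190000830000b50000b400000000000000011300007f00007e0000bb0000fa00007c00010c00010a00007b0000c20000c10001010001000001020000770000760000850000fe0000740000000000720000f90000710000700000f50000f20000f100006d0000ef00006b00006a0000ea0000e90000e80000670000e40000660000e10000df0000dc0000640000630000940000000000c900005f0000d50000d300005d0000d10000cf00005e0000cb0000ca0000590000580000600000ae0000c50000c3000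0560000550000780000bd0000bc0000520000b90000b60000510000500000800000b00000af00004d0000ac00004c0000aa0000a80000a70000490000000000a30000480000a10000a000004500004400009c00009a00004300009600009500004000003f00008600009100008b00008e00003b00003d00003c00008800008700003800008200008100003700003600007d00007a00007900003400003300007500007300003000003100006f00006c00002e00002d00006900006800006500002b00002a00006200006100002700005b00005a00005c00002600002500005700005400005300002200004f00004e00002000004a00004b00001f00004700004600002c00004200004100001b00001a00003e00003a00003900001700002300003500002100003200002f00001400001d00001c00002900002800001000001100002400001600001500001e00001300001200001800001900000a00000e00000d00000800000b00000f00000600000c000005000009000007000003000004000002000001000000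
def tgSel1 (c : ℕ) : ℕ := tg1_0
def tg1F (v : ℕ) : ℕ := Nat.rec (motive := fun _ => ℕ) 0 (fun c _ => Nat.mod (Nat.shiftRight (tgSel1 c) (Nat.mul 24 (Nat.mod v 682))) 16777216) (Nat.add (Nat.div v 682) 1)

end Cfsg.Agent.Helper5.SuzCTC
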