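import Cfsg.Agent.Helper5.TC2A

/-! generated certificate data (targets of generator 2): SuzCTC -/

set_option autoImplicit false
set_option Elab.async false

namespace Cfsg.Agent.Helper5.SuzCTC
open Cfsg.Agent.Helper5.TC

def tg2_0 : ℕ := 0x2040002050002060001f90002020001ff0001f80002010001fe0001f40001fc0001e60001fa0002030002000001f10001de0001f30001fd0001f50001e30001f70001d90001d30001ee0001e00001c70001cd0001c40001bb0001dc0001e70001fb0001b90001e40001f20001cc0001ce0001ed00019f0001f600019d0001e80001aa0001970001f00001990001b50001890001860001c50001ef0001840001d10001830001710001e10001eb0001e20001710001830001700001ac0001ec00016d0001d40001ea00016f00018e0000000000000001550001be0001560000000001e90001520001e500013c0000000001500001d700014e00018100012f00014c00000000014a0000e80001480001c80001470001db0001a900000000000000014400014500014200000000014000009c0000000001df00013d0001dd00014a0001410001470001d80000000001da00013c00000000013a00000000013900013500000000018f0001c200013000013000012f00014e0001d600012c0001280001d50001260001d20001d00001820001b300012e00018200017e00017e0001220000000000000000000000000000000001650001130001100000000000f00001cb0001c90001c30000000001c600010e00000000010c0001c200010b0001050001070001760000000000ff0000fc0001610000fa0000000000f80001310000f50000f5000000000000000000000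0f10001bd0001bf0000fa0000f00001ba0000ed0001b60000eb0001b40000ea0001b10000e90001af0000e80001ad0001ab0000e60001a50001a60000e40001a400019b0001a20000e700012700019e0001960000e20001940001920000df0000dc0000000001910000d90000000000da00015d00018d00018b00018000010d0001880000d30000000000d100018700013e0001850000d70001240000d500017c0000cc0000cb0000000000000000d20000c80000000000d60000000000000000000000000000bf0000c10001750000bc0000000001740000ba00016c00012d00016a0001680000b90000b60000000001660000b30001670000b20000b40000000000000000000001630000000000ac0001620000aa00016000000000015e0000a70000c900015c0000000000000000000001570001530000a30000a10001510000a000014f00014d00014b00014900013f00014600009b00014300009e00013b00009c0000d000013800009700009600013700009500013200013400009200012500011a00012300008f00012b00011d0001290000e000009100008b00008a00012100012000008e0000f600011c00008d00008500000000008300000000008100011400000000011500007e00000000011200007d00010f00010a00007b00007a0001090000790001030001060001040000760000000000000000000000740000fd0000000000fb0000000000730000f700007200006e0000700000ef00006c0000ee0000ec00009f0000e300009d0000e10000e50000680000650000640000de0000dd0000db0000610000620000d80000cf00005e0000d40000ca0000c700005b0000ce0000cd00005a00000000005c0000570000c60000560000c40000000000c200005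300007f0000be0000bb0000510000b80000b70000b500004e0000770000b10000000000ad0000a80000a600004a0000a400004b0000a50000480000a200006b00006a00006900009a00004300004200009900009800006300009300009400003e00003d00009000003c00008700008c00008900004000003900008600008400005000005400008000005200007c00005500004f00007800004d00003100006f00007100002f00006d00000000004600002c00002b00006700006600004100005900003f00006000005f00005d00002500002900005800002700002300003300003500002100003600003200004c00001f00004900002e00001d00004500004400001c00003a00002800003800001800003b00001900003700001600003400001500003000001e00002d00002a00001100001200002400002600000f00002200002000000d00000c00001a00001b00000a00001700000900001400001300000700001000000e00000800000b000006000005000004000002000003000001000000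
def tgSel2 (c : ℕ) : ℕ := tg2_0
def tg2F (v : ℕ) : ℕ := Nat.rec (motive := fun _ => ℕ) 0 (fun c _ => Nat.mod (Nat.shiftRight (tgSel2 c) (Nat.mul 24 (Nat.mod v 682))) 16777216) (Nat.add (Nat.div v 682) 1)

end Cfsg.Agent.Helper5.SuzCTC
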