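import Cfsg.Agent.Helper5.TC2A

/-! generated certificate data (targets of generator 3): SuzCTC -/

set_option autoImplicit false
set_option Elab.async false

namespace Cfsg.Agent.Helper5.SuzCTC
open Cfsg.Agent.Helper5.TC

def tg3_0 : ℕ := 0x2060001fe0001f90002030001f40001ef0001eb0001e90002050001e70001fd0001f70001e30002040001f80001fb0001f00001dd0002020001da0001d60001d50001f60002010001cb0001c70001cd0002000001d30001ff0001ba0001fd0001c40001df0001b50001fa0001bb0001b10001e00001e500019e0001f500019c0001990001f30001960001c30001890001f20001f10001850001ea0001c600018300018d0000000001800001ec0001860001ee00018c0001aa00016f0001ed0001d200016c0001e60001d800015b0001580001560000000001540000000001530001e20001e80001510000000000ec00014f0001e400012e00014d00014c0001e100014b0000000001490001ad0001470000000001c900014600000000017f00000000014200000000014400014800013f00000000014b0001de00013c0001dc00013e00013a0001db0000000001380001d900013700016a0001350001340000000000000001310001660001d00001ca00014c00012e0001d70000000000aa0001cc0001d40001250001d10001270001230001ce0001a700012100012100000000011d00000000011900011700011500011300000000000000010f00000000013000010c0001c800000000010a0001c500010900019400010700010600000000018e0001020000000000000000000000fb0000000000f80000000000f50000000001c20000f30000f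20001c100011b0001c00000f00001be0001bc0000ee0001b90000ec0001b60000ea0001b30001b20001b00000ed0001ae0000e70001ac0001a90001220001a30000e30001a50000e60000e10001a100019b0000df00019d0000de00019a0000dd0001970001950000db0001930001920000000000d800018f0001710000d500018a0000d40000000000000000d20000000000fa0001820000cf0001840000ce00018100014500017e0000000000ca00000000017b0000000001570000c40001790000c20001780000bf0001770000be0001760000000000bb0000ba0001730000d70000b80001700000b700016d00016b0000b50001690001680000b20000000000b10001650000b00000000000ae0000c50000000000ab0001610001280000a800015f0000c60000a600015d0000a500015a0001590000a300015500000000015200014a00015000009f00014e0000a100009c0001480001410000cd00009a00014300009900014000009800013d00013b00013900009500013600009400009300013200010e00009000012f00012d00008e00012a0000aa00008c0001260001240000e500008900008800011f0000860000000000850000f70000fe00011a00008100011800008000007f00011600011400000000007d00011100011000009100010d00010b0000790001080000780000770001050001030001010000750000ff0000840000730000fc0000d10000710000f900006f0000f60000f400006d0000f10000000000e90000690000eb00006b0000670000e80000660000e40000e20000e00000630000620000dc0000da0000d90000600000b90000d600005d0000d30000720000d000005a0000590000cc0000cb0000570000c90000c70000ad000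0550000540000c30000c10000c00000520000bc00005f00005000004f0000b60000b40000b300004d0000af00004c0000ac00008d0000a90000490000a700006e0000a400004700009e0000450000a000004600009d00009b00004100004000009700009600003e00009200007c00003c00008f00004b00003a00008b00008a00003800008700003700008300008200003500007e00003400007b00007a00003200007600007400005c00004a00007000002e00006c00006800006a00002d00002a00002900006500006400002700006100002600005e00003000005b00002400005800005600002200005300005100002000004e00003100003b00001e00004800004400001c00001b00004300004200001900003f00003d00001700003900002300003600002100003300001400002f00001300002c00002b00001000002800001800002500000e00000d00001f00001d00000b00001100001a00000900001600001500000c00001200000600000f00000800000400000a000003000007000005000001000002000000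
def tgSel3 (c : ℕ) : ℕ := tg3_0
def tg3F (v : ℕ) : ℕ := Nat.rec (motive := fun _ => ℕ) 0 (fun c _ => Nat.mod (Nat.shiftRight (tgSel3 c) (Nat.mul 24 (Nat.mod v 682))) 16777216) (Nat.add (Nat.div v 682) 1)

end Cfsg.Agent.Helper5.SuzCTC
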