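import Cfsg.Agent.Helper5.TC2A

/-! generated certificate data (targets of generator 4): SuzCTC -/

set_option autoImplicit false
set_option Elab.async false

namespace Cfsg.Agent.Helper5.SuzCTC
open Cfsg.Agent.Helper5.TC

def tg4_0 : ℕ := 0x2060002020002040001f90002050001f30001f20001f50001e70001f40000000001e50001fa0002030001e30001de0001f10001ff0001fd0002010002000001f60001d40001d20001d10001d70001cb0001ca0001ce0001ba0001dd0001fe0001b90001fb0001e40001f80001b30001c40001b500019e0001f70001e800019d00019c0001c60001c50001960001ed00018c0001850001f00001840001ef0001ee0000000000000001ea0001830001810001ec0001eb00018b00018a0001710001da0001d90001e100016c0000000001590000000000000000000001530000000001520001e90001e60000000001500001b60001e00000000001e200000000015100000000000000000000014f00014e00014b00014a00017e00014500000000014300000000000000014000000000000000014200013d0001df0001dc0001db00013b00014b00013c00013900016d0001d80000000001380001360000000001320001310000000000000000000001d60001c90001c80001300000000000000001260001d50001d30001cd0001240001cc0001250001240001a900012200000000000000011b0000000001180000000000000000000000000000000000000001c700012f00010e00010b0001970001c300000000010a0001080000000001060001030000000000ff0000000000000000000000000000f90000f70000000000000000000000f40001c10000f10000000000f00000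000000000001bd0001bb0001b10001b70001ad0001ac0000ee0000ed0001ab0001aa0000ec0000eb0000e90000e50001a80000e40001a60001a00000e20001a30000e30000e000019f00019900019b0000df0001980001940000dd0001930000da0000000000d80001910001900001890001700000d700011a0000fe0000fd0000fc0000000000000000d00001860001800001820000cf00017d0000cd0000000000cb0000c90000c70000c600017a00012d0000c50001780000c10000c00000be00000000000000000000000000000000000000016f0000d60000b900016e00016a0000b70001690000b40001670000b30000b10001660000000000000000af00016400012c00012b00012a00000000000000015f0000a700015e00000000000000015a0000a40000a300015800015600000000014d00014c0001490001480000a10001470000a000009e00009b00014600014400013f00014100009a00013e00013a00009800013700009600009400013500000000013300012e00010d0000910000ad0000ac00008d00000000012700012300008c00012100008a00011f00008700011e00008500011d00011c00011900008400008200008000011700011600007e00011500007d00000000000000000000010c00007c00010900007a0000780001070001050000760001040000750001000000000000d40000d300007200000000000000006f0000f800000000006d0000f30000f20000000000ea0000e800006b0000e700006a0000680000e60000e10000660000de0000640000dc0000610000db0000600000000000d500005f00007400005c0000d20000ce00005b0000cc0000580000570000ca0000000000c80000c40000560000c30000530000c20000520000bf0000bd0000b80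000510000b600004e0000b500004d0000b20000b000008f00004b0000ab0000490000000000a80000480000a500000000009f00009d00004600009c00004400009900004200009700003f00003e00009500009300009000003d00003b00008e00008b00003900003800008900008800008300003600003500008100007f00007b00003300003200007900007700003000007300002f00007100006e00004700006900002d00006700002b00006500002800002700006300006200005e00002500005d00002400005a00005900002200005500005400002000005000004f00001f00004c00004a00002e00004500001d00004300001a00001900004100004000001700003c00003a00001600003700001500003400003100001e00002c00001200001000002a00002900000f00002600002300002100001400000b00001c00000a00001b00001800000e00000d00000700001300001100000900000500000c000006000008000004000003000002000000000001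
def tgSel4 (c : ℕ) : ℕ := tg4_0
def tg4F (v : ℕ) : ℕ := Nat.rec (motive := fun _ => ℕ) 0 (fun c _ => Nat.mod (Nat.shiftRight (tgSel4 c) (Nat.mul 24 (Nat.mod v 682))) 16777216) (Nat.add (Nat.div v 682) 1)

end Cfsg.Agent.Helper5.SuzCTC
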