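import Cfsg.Agent.Helper5.TC2A

/-! generated certificate data (targets of generator 0): SuzCTC -/

set_option autoImplicit false
set_option Elab.async false

namespace Cfsg.Agent.Helper5.SuzCTC
open Cfsg.Agent.Helper5.TC

def tg0_0 : ℕ := 0x2060002050002040002030002020001f10001ed0001f70001fe0001fd0001e70001e90001e40001f90001e00001ff0001f30001de0001f40001f60001d70002010001da0001d50001d10002000001cd0001c70001cc0001fb0001df0001fc0001bb0001ba0001fa0001b50001c40001b30001f80001e80001f500019e00019f00019a0001f00001970001940001f20001890001ef0001c60001860001850001ee0001710001830001810001ec0001ea0001830001710001ac0001700001eb0001d400016d0001e200016a00015d0000000001590001570001610000000000000001e60001e50001520001380000000001500001e30000000001e100014e00014d00000000014b0000000001490001c90000000001470001820000000001450001440000000000000000000000000001400000000001dc0001dd00013d00014b0001410001db00013a0001980001d90001380001950001d800019300019200019100000000000000013100013000013000014e00012f0001d60000000001290001d30001d20001260001cf0001a90001ce00012300012200012400012400000000011f0000000000000000000001180000000000000001120001110000ef0001ca0001c800010c0000000001c500010a0000000001c300013100010b0001090001070000000001000000000000fd0001be0000fb00000000011e0001c20000000000f50000000001c00000000001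bf0000f20000f10000fb0000ef0001b90000ee0001b60000ec0001b20001b10000ea0001af0000e90001ad0000e80001aa0001270001a70001a60000e400000000019b0001a10000e10000e600019d0000df0000e200019900013900019600013700013600013500013400013300013200018e00018c00018a0000d500011a0000000000000000d30001870000d10001460001840000cf00017e00018000017f0000ce00000000017b00015e0000ca00000000000000012d0000000001770000000000c30000c20000c10000000001740001730000bc0000bb0000b90000d600016f00016800016c0001670000000001660000b70000b60000b50000b40000000000000001640000af0000000001620000ac0001600000aa0000000000000000c90000a700015b0000a90000000001560001550000a30001530001510000a100014f0000a000014c00014a00014800009c00013e0000d000014300009a00013b00013f00009b00013c0000990000dd0000dc0000db0000da0000d90000d800009100010d00012e0000c400012a00008e0001280000e500012500012100008c00008b00000000011d0000f70000880000870000860000000000d400011600011500011400008200008100008000000000011000010f00007d00010e00009000010600010500010400010300007a0000790000780000000000ff0000750000840000fc0000730000fa0000f40000000000f600006f0000710000700000f00000a20000ed0000eb00006900006800006a0000e70000e00000e30000de0000660000650000960000950000940000930000920000d70000b80000830000d200005c0000cd0000cc00005b00005a0000c80000c70000c60000570000ad00008f0000c00000bf0000be0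000540000530000ba00005f00005e0000b30000b20000b100004f00004e0000ae0000560000ab00004b0000a50000a40000a600004a00004900006c00004600009d00009f00009e00004500009800009700004200004100006200006100006000007c00007b00005500008d00008a00008900003a00003900008500007400005d00007f00007e00003500003d00003c00007700007600003200003700007200006e00006d00002f00004700006b00006700002d00002c00006400006300002900002800003e00005100005000003600005900005800002400004c00003b00005200002600002500004d00002300002200004800001e00004400004300001d00001c00004000003f00001900003400003300003800003100003000001800001700001600002e00002b00002a00001300001200002700002100002000001f00000f00000e00001b00001a00000c00000b00001500001400000900001100001000000700000d00000800000a000004000005000006000003000002000001000000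
def tgSel0 (c : ℕ) : ℕ := tg0_0
def tg0F (v : ℕ) : ℕ := Nat.rec (motive := fun _ => ℕ) 0 (fun c _ => Nat.mod (Nat.shiftRight (tgSel0 c) (Nat.mul 24 (Nat.mod v 682))) 16777216) (Nat.add (Nat.div v 682) 1)

end Cfsg.Agent.Helper5.SuzCTC
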