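import Cfsg.Agent.Helper5.SuzDTCTg0
import Cfsg.Agent.Helper5.SuzDTCTg1
import Cfsg.Agent.Helper5.SuzDTCTg2
import Cfsg.Agent.Helper5.SuzDTCTg3
import Cfsg.Agent.Helper5.SuzDTCRk0
import Cfsg.Agent.Helper5.SuzDTCRk1
import Cfsg.Agent.Helper5.SuzDTCRk2
import Cfsg.Agent.Helper5.SuzDTCRk3
import Cfsg.Agent.Helper5.SuzDTCEv0
import Cfsg.Agent.Helper5.SuzDTCDatA
import Cfsg.Agent.Helper5.SuzDTCDatB

/-! generated certificate data (D): SuzDTC -/

set_option autoImplicit false
set_option Elab.async false

namespace Cfsg.Agent.Helper5.SuzDTC
open Cfsg.Agent.Helper5.TC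

def tgF (x v : ℕ) : ℕ := (Bool.rec (motive := fun _ => ℕ) (Bool.rec (motive := fun _ => ℕ) (tg0F v) (tg1F v) (Nat.ble 1 x)) (Bool.rec (motive := fun _ => ℕ) (tg2F v) (tg3F v) (Nat.ble 3 x)) (Nat.ble 2 x))
def rkF (x v : ℕ) : ℕ := (Bool.rec (motive := fun _ => ℕ) (Bool.rec (motive := fun _ => ℕ) (rk0F v) (rk1F v) (Nat.ble 1 x)) (Bool.rec (motive := fun _ => ℕ) (rk2F v) (rk3F v) (Nat.ble 3 x)) (Nat.ble 2 x))
def evSel (c : ℕ) : ℕ := (evSel0 c)
def evF (v : ℕ) : ℕ := Nat.rec (motive := fun _ => ℕ) 0 (fun c _ => Nat.mod (Nat.shiftRight (evSel c) (Nat.mul 48 (Nat.mod v 341))) 281474976710656) (Nat.add (Nat.div v 341) 1)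
def iota (x : ℕ) : ℕ := x
def D : Dat where
  k := 4
  tgt := tgF
  par := parF
  gen := genF
  ali := aliF
  wordP := fun wi => Nat.mod (Nat.shiftRight wtT (Nat.mul 1024 wi)) 179769313486231590772930519078902473361797697894230657273430081157732675805500963132708477322407536021120113879871393357658789768814416622492847430639474124377767893424865485276302219601246094119453082952085005768838150682342462881473913110540827237163350510684586298239947245938479716304835356329624224137216
  wordR := fun wi => Nat.mod (Nat.shiftRight wrT (Nat.mul 1024 wi)) 179769313486231590772930519078902473361797697894230657273430081157732675805500963132708477322407536021120113879871393357658789768814416622492847430639474124377767893424865485276302219601246094119453082952085005768838150682342462881473913110540827237163350510684586298239947245938479716304835356329624224137216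
  wlen := fun wi => Nat.mod (Nat.shiftRight wlT (Nat.mul 8 wi)) 256
  nrel := 11
  nw := 12
  fuel := 6

def E : Dat2 where
  D := D
  rank := rkF
  arank := arkF
  ev := evF
  M := 6539

def RS : ℕ := 0x100000000000001000000000000000000000000000000000000000000000000000000000000000000000000000000000000000000000000000000000000000000000000000000000000000000400000000400000000001000000200000000000000000000000000000002000000000000800000000000000000000000000000000000000000000000010000000000000000000000000000000006002000000000000000000000010000000000000010000018000000008000000000c00800200000000000000000000000000000180000000020000000000000000200000000202800010000000041001000000000000200000080000060040000000000000000000020000002021002000001c00000074400000060201000000400000000000000000f000000980000000080000b00000000c1800034000000d20070000108008400628100010700600000020001080003e421020248880287000007a0010034ee8320020000000200001d8000640000004002382000007cc803c000076e39083381a033104e0743000009f82188007b8494551900c70001f94080737f1a020080139000ff43a400003004ee0007ee1c840fde3c87f6e0ecc5e8f18001bc63403bab3fe4f1cc00798839fe78502017901fcf6201817f801fbc7907bba3ffe3d3e39881fdee0fffbf5f3e03d98dfb8c41fa1fbf2030fe07bba3ffcffcf5f3e83ffe3fffffc3e9ffecc7c7fd0c7c3ffcff7f77fe3ff3ffffc7affd3e7f1bc7fbfffffe7f7ffceff5ff9f7fffff7fffbfdfffffffffffffffffffffffffffffff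

end Cfsg.Agent.Helper5.SuzDTC
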