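import Cfsg.Agent.Helper5.TC2A

/-! generated certificate data (A): SuzKTC -/

set_option autoImplicit false
set_option Elab.async false

namespace Cfsg.Agent.Helper5.SuzKTC
open Cfsg.Agent.Helper5.TC

def par_0 : ℕ := 0x1000000f00000e00000e00000d00000d00000d00000d00000c00000c00000b00000b00000b000009000008000008000007000006000006000004000003000003000003000003000002000002000002000002000002000002000001000001000001000000000000000000000000000000000000000000000000
def parSel (c : ℕ) : ℕ := par_0
def parF (v : ℕ) : ℕ := Nat.rec (motive := fun _ => ℕ) 0 (fun c _ => Nat.mod (Nat.shiftRight (parSel c) (Nat.mul 24 (Nat.mod v 682))) 16777216) (Nat.add (Nat.div v 682) 1)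
def gen_0 : ℕ := 0x50006000600050006000500040002000500040006000500020002000600030005000600010002000600050004000300060005000400030002000000060003000200060005000400030002000100000000
def genSel (c : ℕ) : ℕ := gen_0
def genF (v : ℕ) : ℕ := Nat.rec (motive := fun _ => ℕ) 0 (fun c _ => Nat.mod (Nat.shiftRight (genSel c) (Nat.mul 16 (Nat.mod v 1024))) 65536) (Nat.add (Nat.div v 1024) 1)

end Cfsg.Agent.Helper5.SuzKTC
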