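import Cfsg.Agent.Helper5.TC2A

/-! generated certificate data (events 0): SuzKTC -/

set_option autoImplicit false
set_option Elab.async false

namespace Cfsg.Agent.Helper5.SuzKTC
open Cfsg.Agent.Helper5.TC

def ev_0 : ℕ := 0x507a00000018081e0000003c182e00000010081e00000001388200000058086e00000030086600000018083600000040084a0000009008660000000c084a0000007c081e0000004418220000005800850000004414850000006400030000006408360000002c08360000003008660000003c083600000028086e00000024084a0000000424720000006c00030000006c080200000044083600000094086600000008085a0000007c083600000014081e00000038086e00000098000300000098000300000098084a0000006008020000003008660000002808360000003c080200000074086e000000400866000000a0084a00000048000300000048184e0000004404510000003c0861000000380c8500000040085d00000044081100000008088500000008086900000040041500000008087500000038046100000038045d00000034045500000034045100000030044100000030043d0000002c04190000002c04150000002c040900000024040900000020044500000020041900000020040d0000001c04150000000008750000000c04450000000c04410000000c043d00000008042900000008042500000004041900000004040d000000040409000000000000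
def evSel0 (c : ℕ) : ℕ := ev_0

end Cfsg.Agent.Helper5.SuzKTC
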