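import Cfsg.Agent.Helper5.TC2A

/-! generated certificate data (ranks of generator 1): SuzKTC -/

set_option autoImplicit false
set_option Elab.async false

namespace Cfsg.Agent.Helper5.SuzKTC
open Cfsg.Agent.Helper5.TC

def rk1_0 : ℕ := 0xffffffffffffffffffffffffffffffffffffffffffffffffffffff00007affffffffffffffffffffffffffffffffffffffffffffffff000000ffffffffffffffffffffffff00007bffffffffffff00000a000008ffffffffffffffffffffffffffffffffffff00000000000b000009ffffff000000ffffff000000
def rkSel1 (c : ℕ) : ℕ := rk1_0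
def rk1F (v : ℕ) : ℕ := Nat.rec (motive := fun _ => ℕ) 0 (fun c _ => Nat.mod (Nat.shiftRight (rkSel1 c) (Nat.mul 24 (Nat.mod v 682))) 16777216) (Nat.add (Nat.div v 682) 1)

end Cfsg.Agent.Helper5.SuzKTC
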