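import Cfsg.Agent.Helper5.TC2A

/-! generated certificate data (targets of generator 2): SuzKTC -/

set_option autoImplicit false
set_option Elab.async false

namespace Cfsg.Agent.Helper5.SuzKTC
open Cfsg.Agent.Helper5.TC

def tg2_0 : ℕ := 0xd00000f00000e00000000000000000b00000900000a00000900000b00000000000000000400000700000600000500000500000000002000001f00002100000200001c00001a00001b00000100001400001300001200001500000000000c000008000003
def tgSel2 (c : ℕ) : ℕ := tg2_0
def tg2F (v : ℕ) : ℕ := Nat.rec (motive := fun _ => ℕ) 0 (fun c _ => Nat.mod (Nat.shiftRight (tgSel2 c) (Nat.mul 24 (Nat.mod v 682))) 16777216) (Nat.add (Nat.div v 682) 1)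

end Cfsg.Agent.Helper5.SuzKTC
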