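import Cfsg.Agent.Helper5.SuzbTCDatD
import Cfsg.Agent.Helper5.TCCertC

/-! kernel checks of words: SuzbTC -/

set_option autoImplicit false
set_option Elab.async false

namespace Cfsg.Agent.Helper5.SuzbTC
open Cfsg.Agent.Helper5.TC

set_option maxRecDepth 1000000 in
theorem set_ok : setOK 30047 22880 RS = true := by decide +kernel

set_option maxRecDepth 1000000 in
theorem rev_ok : revOK D D.nw = true := by decide +kernel

set_option maxRecDepth 1000000 in
theorem words_ok : wordsOK D D.nw = true := by decide +kernel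

theorem word_49 : unpack (D.wlen 49) (D.wordP 49) = [2, 3, 2, 3, 2, 3, 2, 3, 0] := by decide +kernel

theorem word_50 : unpack (D.wlen 50) (D.wordP 50) = [5, 6, 5, 6, 0] := by decide +kernel

theorem word_51 : unpack (D.wlen 51) (D.wordP 51) = [5, 2, 1, 0, 5, 2, 1, 0, 5, 2, 1, 0, 5, 2, 1, 0, 5, 2, 1, 0] := by decide +kernel

theorem word_52 : unpack (D.wlen 52) (D.wordP 52) = [6, 5, 1, 6, 5, 1, 6, 5, 1, 6, 5, 1, 6, 5, 1] := by decide +kernel

theorem word_53 : unpack (D.wlen 53) (D.wordP 53) = [4, 3, 2, 3, 2, 1, 3, 2, 3, 2, 1, 3, 2, 3, 2, 1, 3, 2, 3, 2, 1, 3, 2, 3, 2, 1, 4, 3, 2, 3, 2, 1, 3, 2, 3, 2, 1, 3, 2, 3, 2, 1, 3, 2, 3, 2, 1, 3, 2, 3, 2, 1, 4, 3, 2, 3, 2, 1, 3, 2, 3, 2, 1, 3, 2, 3, 2, 1, 3, 2, 3, 2, 1, 3, 2, 3, 2, 1] := by decide +kernel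

theorem word_54 : unpack (D.wlen 54) (D.wordP 54) = [0] := by decide +kernel

theorem word_55 : unpack (D.wlen 55) (D.wordP 55) = [1] := by decide +kernel

theorem word_56 : unpack (D.wlen 56) (D.wordP 56) = [2] := by decide +kernel

theorem word_57 : unpack (D.wlen 57) (D.wordP 57) = [3] := by decide +kernel

theorem word_58 : unpack (D.wlen 58) (D.wordP 58) = [5] := by decide +kernel

theorem word_59 : unpack (D.wlen 59) (D.wordP 59) = [6] := by decide +kernel

end Cfsg.Agent.Helper5.SuzbTC
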