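import Cfsg.Agent.Helper5.SuzbTCDatD

/-! kernel checks of edges, aliases, rows: SuzbTC -/

set_option autoImplicit false
set_option Elab.async false

namespace Cfsg.Agent.Helper5.SuzbTC
open Cfsg.Agent.Helper5.TC

set_option maxRecDepth 1000000 in
theorem aliases_2 : aliasRange E 19119 10928 = true := by decide +kernel

set_option maxRecDepth 1000000 in
theorem edges_6_0 : edgesRange E 6 6244 0 = true := by decide +kernel

set_option maxRecDepth 1000000 in
theorem edges_2_0 : edgesRange E 2 5877 0 = true := by decide +kernel

set_option maxRecDepth 1000000 in
theorem edges_6_1 : edgesRange E 6 5291 6244 = true := by decide +kernel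

set_option maxRecDepth 1000000 in
theorem edges_5_2 : edgesRange E 5 4666 11334 = true := by decide +kernel

set_option maxRecDepth 1000000 in
theorem aliases_0 : aliasRange E 4508 0 = true := by decide +kernel

set_option maxRecDepth 1000000 in
theorem edges_1_2 : edgesRange E 1 4280 12671 = true := by decide +kernel

set_option maxRecDepth 1000000 in
theorem edges_2_1 : edgesRange E 2 4172 5877 = true := by decide +kernel

set_option maxRecDepth 1000000 in
theorem edges_0_1 : edgesRange E 0 4121 4139 = true := by decide +kernel

set_option maxRecDepth 1000000 in
theorem edges_5_3 : edgesRange E 5 3610 16000 = true := by decide +kernel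

set_option maxRecDepth 1000000 in
theorem edges_2_3 : edgesRange E 2 3545 13604 = true := by decide +kernel

set_option maxRecDepth 1000000 in
theorem edges_1_3 : edgesRange E 1 3299 16951 = true := by decide +kernel

set_option maxRecDepth 1000000 in
theorem edges_4_0 : edgesRange E 4 3200 0 = true := by decide +kernel

set_option maxRecDepth 1000000 in
theorem edges_6_4 : edgesRange E 6 3210 19671 = true := by decide +kernel

set_option maxRecDepth 1000000 in
theorem edges_3_2 : edgesRange E 3 3132 8294 = true := by decide +kernel

set_option maxRecDepth 1000000 in
theorem edges_5_5 : edgesRange E 5 3097 22814 = true := by decide +kernel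

set_option maxRecDepth 1000000 in
theorem edges_0_4 : edgesRange E 0 3061 14190 = true := by decide +kernel

set_option maxRecDepth 1000000 in
theorem edges_1_5 : edgesRange E 1 3007 23446 = true := by decide +kernel

set_option maxRecDepth 1000000 in
theorem edges_0_3 : edgesRange E 0 2866 11324 = true := by decide +kernel

set_option maxRecDepth 1000000 in
theorem edges_1_6 : edgesRange E 1 2835 26453 = true := by decide +kernel

set_option maxRecDepth 1000000 in
theorem edges_5_6 : edgesRange E 5 2819 25911 = true := by decide +kernel

set_option maxRecDepth 1000000 in
theorem edges_2_5 : edgesRange E 2 2776 19950 = true := by decide +kernel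

set_option maxRecDepth 1000000 in
theorem edges_2_7 : edgesRange E 2 2580 25287 = true := by decide +kernel

set_option maxRecDepth 1000000 in
theorem edges_3_5 : edgesRange E 3 2485 17438 = true := by decide +kernel

set_option maxRecDepth 1000000 in
theorem edges_3_6 : edgesRange E 3 2445 19923 = true := by decide +kernel

set_option maxRecDepth 1000000 in
theorem edges_4_5 : edgesRange E 4 2426 16301 = true := by decide +kernel

set_option maxRecDepth 1000000 in
theorem edges_0_5 : edgesRange E 0 2392 17251 = true := by decide +kernel

set_option maxRecDepth 1000000 in
theorem edges_0_8 : edgesRange E 0 2332 24301 = true := by decide +kernel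

set_option maxRecDepth 1000000 in
theorem edges_3_9 : edgesRange E 3 2313 27292 = true := by decide +kernel

set_option maxRecDepth 1000000 in
theorem edges_4_8 : edgesRange E 4 2298 23474 = true := by decide +kernel

set_option maxRecDepth 1000000 in
theorem edges_0_9 : edgesRange E 0 2222 26633 = true := by decide +kernel

set_option maxRecDepth 1000000 in
theorem edges_2_8 : edgesRange E 2 2180 27867 = true := by decide +kernel

set_option maxRecDepth 1000000 in
theorem edges_6_7 : edgesRange E 6 1319 28728 = true := by decide +kernel

set_option maxRecDepth 1000000 in
theorem rows_0 : rowsRange E RS 3000 0 = true := by decide +kernel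

set_option maxRecDepth 1000000 in
theorem rows_1 : rowsRange E RS 3000 3000 = true := by decide +kernel

set_option maxRecDepth 1000000 in
theorem rows_3 : rowsRange E RS 3000 9000 = true := by decide +kernel

set_option maxRecDepth 1000000 in
theorem rows_5 : rowsRange E RS 3000 15000 = true := by decide +kernel

set_option maxRecDepth 1000000 in
theorem rows_7 : rowsRange E RS 3000 21000 = true := by decide +kernel

set_option maxRecDepth 1000000 in
theorem rows_9 : rowsRange E RS 3000 27000 = true := by decide +kernel

set_option maxRecDepth 1000000 in
theorem rows_10 : rowsRange E RS 47 30000 = true := by decide +kernel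

end Cfsg.Agent.Helper5.SuzbTC
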