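import Cfsg.Agent.Helper5.SuzbTCDatD

/-! kernel checks of edges, aliases, rows: SuzbTC -/

set_option autoImplicit false
set_option Elab.async false

namespace Cfsg.Agent.Helper5.SuzbTC
open Cfsg.Agent.Helper5.TC

set_option maxRecDepth 1000000 in
theorem edges_1_0 : edgesRange E 1 7491 0 = true := by decide +kernel

set_option maxRecDepth 1000000 in
theorem aliases_1 : aliasRange E 6420 4508 = true := by decide +kernel

set_option maxRecDepth 1000000 in
theorem edges_5_0 : edgesRange E 5 6000 0 = true := by decide +kernel

set_option maxRecDepth 1000000 in
theorem edges_5_1 : edgesRange E 5 5334 6000 = true := by decide +kernel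

set_option maxRecDepth 1000000 in
theorem edges_1_1 : edgesRange E 1 5180 7491 = true := by decide +kernel

set_option maxRecDepth 1000000 in
theorem edges_6_2 : edgesRange E 6 4646 11535 = true := by decide +kernel

set_option maxRecDepth 1000000 in
theorem edges_3_1 : edgesRange E 3 4389 3905 = true := by decide +kernel

set_option maxRecDepth 1000000 in
theorem edges_4_1 : edgesRange E 4 4205 3200 = true := by decide +kernel

set_option maxRecDepth 1000000 in
theorem edges_0_0 : edgesRange E 0 4139 0 = true := by decide +kernel

set_option maxRecDepth 1000000 in
theorem edges_3_0 : edgesRange E 3 3905 0 = true := by decide +kernel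

set_option maxRecDepth 1000000 in
theorem edges_2_2 : edgesRange E 2 3555 10049 = true := by decide +kernel

set_option maxRecDepth 1000000 in
theorem edges_6_3 : edgesRange E 6 3490 16181 = true := by decide +kernel

set_option maxRecDepth 1000000 in
theorem edges_4_4 : edgesRange E 4 3283 13018 = true := by decide +kernel

set_option maxRecDepth 1000000 in
theorem edges_5_4 : edgesRange E 5 3204 19610 = true := by decide +kernel

set_option maxRecDepth 1000000 in
theorem edges_1_4 : edgesRange E 1 3196 20250 = true := by decide +kernel

set_option maxRecDepth 1000000 in
theorem edges_3_3 : edgesRange E 3 3114 11426 = true := by decide +kernel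

set_option maxRecDepth 1000000 in
theorem edges_0_2 : edgesRange E 0 3064 8260 = true := by decide +kernel

set_option maxRecDepth 1000000 in
theorem edges_6_5 : edgesRange E 6 3063 22881 = true := by decide +kernel

set_option maxRecDepth 1000000 in
theorem edges_3_4 : edgesRange E 3 2898 14540 = true := by decide +kernel

set_option maxRecDepth 1000000 in
theorem edges_4_2 : edgesRange E 4 2848 7405 = true := by decide +kernel

set_option maxRecDepth 1000000 in
theorem edges_2_4 : edgesRange E 2 2801 17149 = true := by decide +kernel

set_option maxRecDepth 1000000 in
theorem edges_6_6 : edgesRange E 6 2784 25944 = true := by decide +kernel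

set_option maxRecDepth 1000000 in
theorem edges_4_3 : edgesRange E 4 2765 10253 = true := by decide +kernel

set_option maxRecDepth 1000000 in
theorem edges_2_6 : edgesRange E 2 2561 22726 = true := by decide +kernel

set_option maxRecDepth 1000000 in
theorem edges_3_7 : edgesRange E 3 2499 22368 = true := by decide +kernel

set_option maxRecDepth 1000000 in
theorem edges_3_8 : edgesRange E 3 2425 24867 = true := by decide +kernel

set_option maxRecDepth 1000000 in
theorem edges_4_7 : edgesRange E 4 2413 21061 = true := by decide +kernel

set_option maxRecDepth 1000000 in
theorem edges_0_6 : edgesRange E 0 2361 19643 = true := by decide +kernel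

set_option maxRecDepth 1000000 in
theorem edges_4_6 : edgesRange E 4 2334 18727 = true := by decide +kernel

set_option maxRecDepth 1000000 in
theorem edges_0_7 : edgesRange E 0 2297 22004 = true := by decide +kernel

set_option maxRecDepth 1000000 in
theorem edges_4_9 : edgesRange E 4 2287 25772 = true := by decide +kernel

set_option maxRecDepth 1000000 in
theorem edges_4_10 : edgesRange E 4 1988 28059 = true := by decide +kernel

set_option maxRecDepth 1000000 in
theorem edges_0_10 : edgesRange E 0 1192 28855 = true := by decide +kernel

set_option maxRecDepth 1000000 in
theorem edges_5_7 : edgesRange E 5 1317 28730 = true := by decide +kernel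

set_option maxRecDepth 1000000 in
theorem rows_2 : rowsRange E RS 3000 6000 = true := by decide +kernel

set_option maxRecDepth 1000000 in
theorem rows_4 : rowsRange E RS 3000 12000 = true := by decide +kernel

set_option maxRecDepth 1000000 in
theorem rows_6 : rowsRange E RS 3000 18000 = true := by decide +kernel

set_option maxRecDepth 1000000 in
theorem rows_8 : rowsRange E RS 3000 24000 = true := by decide +kernel

set_option maxRecDepth 1000000 in
theorem edges_1_7 : edgesRange E 1 759 29288 = true := by decide +kernel

set_option maxRecDepth 1000000 in
theorem edges_3_10 : edgesRange E 3 442 29605 = true := by decide +kernel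

end Cfsg.Agent.Helper5.SuzbTC
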