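import Cfsg.Agent.Helper5.SuzbTCDatD
import Cfsg.Agent.Helper5.SuzbTCDatT
import Cfsg.Agent.Helper5.TC2C

/-! kernel checks of the coset table: SuzbTC -/

set_option autoImplicit false
set_option Elab.async false

namespace Cfsg.Agent.Helper5.SuzbTC
open Cfsg.Agent.Helper5.TC

set_option maxRecDepth 1000000 in
theorem relc_49_0 : relPtsF ctF (D.wlen 49) (D.wordP 49) 22222 0 = true := by decide +kernel

set_option maxRecDepth 1000000 in
theorem relc_53_1 : relPtsF ctF (D.wlen 53) (D.wordP 53) 2564 2564 = true := by decide +kernel

set_option maxRecDepth 1000000 in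
theorem relc_53_3 : relPtsF ctF (D.wlen 53) (D.wordP 53) 2564 7692 = true := by decide +kernel

set_option maxRecDepth 1000000 in
theorem relc_12_0 : relPtsF ctF (D.wlen 12) (D.wordP 12) 22880 0 = true := by decide +kernel

set_option maxRecDepth 1000000 in
theorem relc_43_0 : relPtsF ctF (D.wlen 43) (D.wordP 43) 22880 0 = true := by decide +kernel

set_option maxRecDepth 1000000 in
theorem relc_5_0 : relPtsF ctF (D.wlen 5) (D.wordP 5) 22880 0 = true := by decide +kernel

set_option maxRecDepth 1000000 in
theorem relc_18_0 : relPtsF ctF (D.wlen 18) (D.wordP 18) 22880 0 = true := by decide +kernel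

set_option maxRecDepth 1000000 in
theorem relc_27_0 : relPtsF ctF (D.wlen 27) (D.wordP 27) 22880 0 = true := by decide +kernel

set_option maxRecDepth 1000000 in
theorem relc_35_0 : relPtsF ctF (D.wlen 35) (D.wordP 35) 22880 0 = true := by decide +kernel

set_option maxRecDepth 1000000 in
theorem relc_45_0 : relPtsF ctF (D.wlen 45) (D.wordP 45) 22880 0 = true := by decide +kernel

set_option maxRecDepth 1000000 in
theorem relc_40_0 : relPtsF ctF (D.wlen 40) (D.wordP 40) 22880 0 = true := by decide +kernel

set_option maxRecDepth 1000000 in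
theorem inv_4 : invRowF ctF 22880 4 22880 0 = true := by decide +kernel

set_option maxRecDepth 1000000 in
theorem relc_7_1 : relPtsF ctF (D.wlen 7) (D.wordP 7) 2880 20000 = true := by decide +kernel

end Cfsg.Agent.Helper5.SuzbTC
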