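import Cfsg.Agent.Helper5.SuzbTCDatD
import Cfsg.Agent.Helper5.SuzbTCDatT
import Cfsg.Agent.Helper5.TC2C

/-! kernel checks of the coset table: SuzbTC -/

set_option autoImplicit false
set_option Elab.async false

namespace Cfsg.Agent.Helper5.SuzbTC
open Cfsg.Agent.Helper5.TC

set_option maxRecDepth 1000000 in
theorem relc_1_0 : relPtsF ctF (D.wlen 1) (D.wordP 1) 20000 0 = true := by decide +kernel

set_option maxRecDepth 1000000 in
theorem relc_51_1 : relPtsF ctF (D.wlen 51) (D.wordP 51) 10000 10000 = true := by decide +kernel

set_option maxRecDepth 1000000 in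
theorem relc_53_7 : relPtsF ctF (D.wlen 53) (D.wordP 53) 2564 17948 = true := by decide +kernel

set_option maxRecDepth 1000000 in
theorem relc_31_0 : relPtsF ctF (D.wlen 31) (D.wordP 31) 22880 0 = true := by decide +kernel

set_option maxRecDepth 1000000 in
theorem relc_50_0 : relPtsF ctF (D.wlen 50) (D.wordP 50) 22880 0 = true := by decide +kernel

set_option maxRecDepth 1000000 in
theorem relc_52_1 : relPtsF ctF (D.wlen 52) (D.wordP 52) 9547 13333 = true := by decide +kernel

set_option maxRecDepth 1000000 in
theorem relc_20_0 : relPtsF ctF (D.wlen 20) (D.wordP 20) 22880 0 = true := by decide +kernel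

set_option maxRecDepth 1000000 in
theorem relc_29_0 : relPtsF ctF (D.wlen 29) (D.wordP 29) 22880 0 = true := by decide +kernel

set_option maxRecDepth 1000000 in
theorem relc_38_0 : relPtsF ctF (D.wlen 38) (D.wordP 38) 22880 0 = true := by decide +kernel

set_option maxRecDepth 1000000 in
theorem relc_0_0 : relPtsF ctF (D.wlen 0) (D.wordP 0) 22880 0 = true := by decide +kernel

set_option maxRecDepth 1000000 in
theorem relc_8_0 : relPtsF ctF (D.wlen 8) (D.wordP 8) 22880 0 = true := by decide +kernel

set_option maxRecDepth 1000000 in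
theorem inv_0 : invRowF ctF 22880 0 22880 0 = true := by decide +kernel

set_option maxRecDepth 1000000 in
theorem inv_6 : invRowF ctF 22880 6 22880 0 = true := by decide +kernel

end Cfsg.Agent.Helper5.SuzbTC
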