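import Cfsg.Agent.Helper5.SuzbTCDatD
import Cfsg.Agent.Helper5.SuzbTCDatT
import Cfsg.Agent.Helper5.TC2C

/-! kernel checks of the coset table: SuzbTC -/

set_option autoImplicit false
set_option Elab.async false

namespace Cfsg.Agent.Helper5.SuzbTC
open Cfsg.Agent.Helper5.TC

set_option maxRecDepth 1000000 in
theorem relc_7_0 : relPtsF ctF (D.wlen 7) (D.wordP 7) 20000 0 = true := by decide +kernel

set_option maxRecDepth 1000000 in
theorem relc_53_0 : relPtsF ctF (D.wlen 53) (D.wordP 53) 2564 0 = true := by decide +kernel

set_option maxRecDepth 1000000 in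
theorem relc_53_2 : relPtsF ctF (D.wlen 53) (D.wordP 53) 2564 5128 = true := by decide +kernel

set_option maxRecDepth 1000000 in
theorem relc_9_0 : relPtsF ctF (D.wlen 9) (D.wordP 9) 22880 0 = true := by decide +kernel

set_option maxRecDepth 1000000 in
theorem relc_36_0 : relPtsF ctF (D.wlen 36) (D.wordP 36) 22880 0 = true := by decide +kernel

set_option maxRecDepth 1000000 in
theorem relc_2_0 : relPtsF ctF (D.wlen 2) (D.wordP 2) 22880 0 = true := by decide +kernel

set_option maxRecDepth 1000000 in
theorem relc_10_0 : relPtsF ctF (D.wlen 10) (D.wordP 10) 22880 0 = true := by decide +kernel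

set_option maxRecDepth 1000000 in
theorem relc_21_0 : relPtsF ctF (D.wlen 21) (D.wordP 21) 22880 0 = true := by decide +kernel

set_option maxRecDepth 1000000 in
theorem relc_30_0 : relPtsF ctF (D.wlen 30) (D.wordP 30) 22880 0 = true := by decide +kernel

set_option maxRecDepth 1000000 in
theorem relc_39_0 : relPtsF ctF (D.wlen 39) (D.wordP 39) 22880 0 = true := by decide +kernel

set_option maxRecDepth 1000000 in
theorem relc_16_0 : relPtsF ctF (D.wlen 16) (D.wordP 16) 22880 0 = true := by decide +kernel

set_option maxRecDepth 1000000 in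
theorem inv_1 : invRowF ctF 22880 1 22880 0 = true := by decide +kernel

set_option maxRecDepth 1000000 in
theorem relc_51_2 : relPtsF ctF (D.wlen 51) (D.wordP 51) 2880 20000 = true := by decide +kernel

end Cfsg.Agent.Helper5.SuzbTC
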