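import Cfsg.Agent.Helper5.SuzbTCDatD
import Cfsg.Agent.Helper5.SuzbTCDatT
import Cfsg.Agent.Helper5.TC2C

/-! kernel checks of the coset table: SuzbTC -/

set_option autoImplicit false
set_option Elab.async false

namespace Cfsg.Agent.Helper5.SuzbTC
open Cfsg.Agent.Helper5.TC

set_option maxRecDepth 1000000 in
theorem relc_41_0 : relPtsF ctF (D.wlen 41) (D.wordP 41) 22880 0 = true := by decide +kernel

set_option maxRecDepth 1000000 in
theorem relc_23_0 : relPtsF ctF (D.wlen 23) (D.wordP 23) 12500 0 = true := by decide +kernel

set_option maxRecDepth 1000000 in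
theorem relc_53_6 : relPtsF ctF (D.wlen 53) (D.wordP 53) 2564 15384 = true := by decide +kernel

set_option maxRecDepth 1000000 in
theorem relc_25_0 : relPtsF ctF (D.wlen 25) (D.wordP 25) 22880 0 = true := by decide +kernel

set_option maxRecDepth 1000000 in
theorem relc_53_8 : relPtsF ctF (D.wlen 53) (D.wordP 53) 2368 20512 = true := by decide +kernel

set_option maxRecDepth 1000000 in
theorem relc_6_0 : relPtsF ctF (D.wlen 6) (D.wordP 6) 22880 0 = true := by decide +kernel

set_option maxRecDepth 1000000 in
theorem relc_19_0 : relPtsF ctF (D.wlen 19) (D.wordP 19) 22880 0 = true := by decide +kernel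

set_option maxRecDepth 1000000 in
theorem relc_28_0 : relPtsF ctF (D.wlen 28) (D.wordP 28) 22880 0 = true := by decide +kernel

set_option maxRecDepth 1000000 in
theorem relc_37_0 : relPtsF ctF (D.wlen 37) (D.wordP 37) 22880 0 = true := by decide +kernel

set_option maxRecDepth 1000000 in
theorem relc_46_0 : relPtsF ctF (D.wlen 46) (D.wordP 46) 22880 0 = true := by decide +kernel

set_option maxRecDepth 1000000 in
theorem relc_48_0 : relPtsF ctF (D.wlen 48) (D.wordP 48) 22880 0 = true := by decide +kernel

set_option maxRecDepth 1000000 in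
theorem inv_5 : invRowF ctF 22880 5 22880 0 = true := by decide +kernel

set_option maxRecDepth 1000000 in
theorem relc_49_1 : relPtsF ctF (D.wlen 49) (D.wordP 49) 658 22222 = true := by decide +kernel

set_option maxRecDepth 1000000 in
theorem sub_ok : subAll ctF D D.nw = true := by decide +kernel

end Cfsg.Agent.Helper5.SuzbTC
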