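import Cfsg.Agent.Helper5.SuzbTCDatD
import Cfsg.Agent.Helper5.SuzbTCDatT
import Cfsg.Agent.Helper5.TC2C

/-! kernel checks of the coset table: SuzbTC -/

set_option autoImplicit false
set_option Elab.async false

namespace Cfsg.Agent.Helper5.SuzbTC
open Cfsg.Agent.Helper5.TC

set_option maxRecDepth 1000000 in
theorem relc_47_0 : relPtsF ctF (D.wlen 47) (D.wordP 47) 22880 0 = true := by decide +kernel

set_option maxRecDepth 1000000 in
theorem relc_51_0 : relPtsF ctF (D.wlen 51) (D.wordP 51) 10000 0 = true := by decide +kernel

set_option maxRecDepth 1000000 in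
theorem relc_53_5 : relPtsF ctF (D.wlen 53) (D.wordP 53) 2564 12820 = true := by decide +kernel

set_option maxRecDepth 1000000 in
theorem relc_15_0 : relPtsF ctF (D.wlen 15) (D.wordP 15) 22880 0 = true := by decide +kernel

set_option maxRecDepth 1000000 in
theorem relc_23_1 : relPtsF ctF (D.wlen 23) (D.wordP 23) 10380 12500 = true := by decide +kernel

set_option maxRecDepth 1000000 in
theorem relc_4_0 : relPtsF ctF (D.wlen 4) (D.wordP 4) 22880 0 = true := by decide +kernel

set_option maxRecDepth 1000000 in
theorem relc_14_0 : relPtsF ctF (D.wlen 14) (D.wordP 14) 22880 0 = true := by decide +kernel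

set_option maxRecDepth 1000000 in
theorem relc_26_0 : relPtsF ctF (D.wlen 26) (D.wordP 26) 22880 0 = true := by decide +kernel

set_option maxRecDepth 1000000 in
theorem relc_34_0 : relPtsF ctF (D.wlen 34) (D.wordP 34) 22880 0 = true := by decide +kernel

set_option maxRecDepth 1000000 in
theorem relc_44_0 : relPtsF ctF (D.wlen 44) (D.wordP 44) 22880 0 = true := by decide +kernel

set_option maxRecDepth 1000000 in
theorem relc_32_0 : relPtsF ctF (D.wlen 32) (D.wordP 32) 22880 0 = true := by decide +kernel

set_option maxRecDepth 1000000 in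
theorem inv_3 : invRowF ctF 22880 3 22880 0 = true := by decide +kernel

set_option maxRecDepth 1000000 in
theorem relc_1_1 : relPtsF ctF (D.wlen 1) (D.wordP 1) 2880 20000 = true := by decide +kernel

end Cfsg.Agent.Helper5.SuzbTC
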