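import Cfsg.Agent.Helper5.SuzbTCDatD
import Cfsg.Agent.Helper5.SuzbTCDatT
import Cfsg.Agent.Helper5.TC2C

/-! kernel checks of the coset table: SuzbTC -/

set_option autoImplicit false
set_option Elab.async false

namespace Cfsg.Agent.Helper5.SuzbTC
open Cfsg.Agent.Helper5.TC

set_option maxRecDepth 1000000 in
theorem relc_52_0 : relPtsF ctF (D.wlen 52) (D.wordP 52) 13333 0 = true := by decide +kernel

set_option maxRecDepth 1000000 in
theorem relc_17_0 : relPtsF ctF (D.wlen 17) (D.wordP 17) 12500 0 = true := by decide +kernel

set_option maxRecDepth 1000000 in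
theorem relc_53_4 : relPtsF ctF (D.wlen 53) (D.wordP 53) 2564 10256 = true := by decide +kernel

set_option maxRecDepth 1000000 in
theorem relc_13_0 : relPtsF ctF (D.wlen 13) (D.wordP 13) 22880 0 = true := by decide +kernel

set_option maxRecDepth 1000000 in
theorem relc_17_1 : relPtsF ctF (D.wlen 17) (D.wordP 17) 10380 12500 = true := by decide +kernel

set_option maxRecDepth 1000000 in
theorem relc_3_0 : relPtsF ctF (D.wlen 3) (D.wordP 3) 22880 0 = true := by decide +kernel

set_option maxRecDepth 1000000 in
theorem relc_11_0 : relPtsF ctF (D.wlen 11) (D.wordP 11) 22880 0 = true := by decide +kernel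

set_option maxRecDepth 1000000 in
theorem relc_22_0 : relPtsF ctF (D.wlen 22) (D.wordP 22) 22880 0 = true := by decide +kernel

set_option maxRecDepth 1000000 in
theorem relc_33_0 : relPtsF ctF (D.wlen 33) (D.wordP 33) 22880 0 = true := by decide +kernel

set_option maxRecDepth 1000000 in
theorem relc_42_0 : relPtsF ctF (D.wlen 42) (D.wordP 42) 22880 0 = true := by decide +kernel

set_option maxRecDepth 1000000 in
theorem relc_24_0 : relPtsF ctF (D.wlen 24) (D.wordP 24) 22880 0 = true := by decide +kernel

set_option maxRecDepth 1000000 in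
theorem inv_2 : invRowF ctF 22880 2 22880 0 = true := by decide +kernel

set_option maxRecDepth 1000000 in
theorem conn_ok : connF ctF 7 22880 0 = true := by decide +kernel

end Cfsg.Agent.Helper5.SuzbTC
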