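import Cfsg.Agent.Helper5.SuzbTCChkE0
import Cfsg.Agent.Helper5.SuzbTCChkE1
import Cfsg.Agent.Helper5.SuzbTCChkR0
import Cfsg.Agent.Helper5.SuzbTCChkR1
import Cfsg.Agent.Helper5.SuzbTCChkR2
import Cfsg.Agent.Helper5.SuzbTCChkR3
import Cfsg.Agent.Helper5.SuzbTCChkR4
import Cfsg.Agent.Helper5.SuzbTCChkR5
import Cfsg.Agent.Helper5.SuzbTCChkA
import Cfsg.Agent.Helper5.TC2C

/-! summary of the kernel checks: SuzbTC -/

set_option autoImplicit false
set_option Elab.async false

namespace Cfsg.Agent.Helper5.SuzbTC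
open Cfsg.Agent.Helper5.TC

theorem edgesx_0 : ∀ v, v < 30047 → edgeOK E 0 v = true := by
  intro v hv
  rcases Nat.lt_or_ge v 4139 with h0 | h0
  · exact edgesRange_spec E 0 4139 0 edges_0_0 v (by omega) (by omega)
  rcases Nat.lt_or_ge v 8260 with h1 | h1
  · exact edgesRange_spec E 0 4121 4139 edges_0_1 v (by omega) (by omega)
  rcases Nat.lt_or_ge v 11324 with h2 | h2
  · exact edgesRange_spec E 0 3064 8260 edges_0_2 v (by omega) (by omega)
  rcases Nat.lt_or_ge v 14190 with h3 | h3
  · exact edgesRange_spec E 0 2866 11324 edges_0_3 v (by omega) (by omega)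
  rcases Nat.lt_or_ge v 17251 with h4 | h4
  · exact edgesRange_spec E 0 3061 14190 edges_0_4 v (by omega) (by omega)
  rcases Nat.lt_or_ge v 19643 with h5 | h5
  · exact edgesRange_spec E 0 2392 17251 edges_0_5 v (by omega) (by omega)
  rcases Nat.lt_or_ge v 22004 with h6 | h6
  · exact edgesRange_spec E 0 2361 19643 edges_0_6 v (by omega) (by omega)
  rcases Nat.lt_or_ge v 24301 with h7 | h7
  · exact edgesRange_spec E 0 2297 22004 edges_0_7 v (by omega) (by omega)
  rcases Nat.lt_or_ge v 26633 with h8 | h8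
  · exact edgesRange_spec E 0 2332 24301 edges_0_8 v (by omega) (by omega)
  rcases Nat.lt_or_ge v 28855 with h9 | h9
  · exact edgesRange_spec E 0 2222 26633 edges_0_9 v (by omega) (by omega)
  exact edgesRange_spec E 0 1192 28855 edges_0_10 v (by omega) (by omega)

theorem edgesx_1 : ∀ v, v < 30047 → edgeOK E 1 v = true := by
  intro v hv
  rcases Nat.lt_or_ge v 7491 with h0 | h0
  · exact edgesRange_spec E 1 7491 0 edges_1_0 v (by omega) (by omega)
  rcases Nat.lt_or_ge v 12671 with h1 | h1
  · exact edgesRange_spec E 1 5180 7491 edges_1_1 v (by omega) (by omega)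
  rcases Nat.lt_or_ge v 16951 with h2 | h2
  · exact edgesRange_spec E 1 4280 12671 edges_1_2 v (by omega) (by omega)
  rcases Nat.lt_or_ge v 20250 with h3 | h3
  · exact edgesRange_spec E 1 3299 16951 edges_1_3 v (by omega) (by omega)
  rcases Nat.lt_or_ge v 23446 with h4 | h4
  · exact edgesRange_spec E 1 3196 20250 edges_1_4 v (by omega) (by omega)
  rcases Nat.lt_or_ge v 26453 with h5 | h5
  · exact edgesRange_spec E 1 3007 23446 edges_1_5 v (by omega) (by omega)
  rcases Nat.lt_or_ge v 29288 with h6 | h6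
  · exact edgesRange_spec E 1 2835 26453 edges_1_6 v (by omega) (by omega)
  exact edgesRange_spec E 1 759 29288 edges_1_7 v (by omega) (by omega)

theorem edgesx_2 : ∀ v, v < 30047 → edgeOK E 2 v = true := by
  intro v hv
  rcases Nat.lt_or_ge v 5877 with h0 | h0
  · exact edgesRange_spec E 2 5877 0 edges_2_0 v (by omega) (by omega)
  rcases Nat.lt_or_ge v 10049 with h1 | h1
  · exact edgesRange_spec E 2 4172 5877 edges_2_1 v (by omega) (by omega)
  rcases Nat.lt_or_ge v 13604 with h2 | h2
  · exact edgesRange_spec E 2 3555 10049 edges_2_2 v (by omega) (by omega)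
  rcases Nat.lt_or_ge v 17149 with h3 | h3
  · exact edgesRange_spec E 2 3545 13604 edges_2_3 v (by omega) (by omega)
  rcases Nat.lt_or_ge v 19950 with h4 | h4
  · exact edgesRange_spec E 2 2801 17149 edges_2_4 v (by omega) (by omega)
  rcases Nat.lt_or_ge v 22726 with h5 | h5
  · exact edgesRange_spec E 2 2776 19950 edges_2_5 v (by omega) (by omega)
  rcases Nat.lt_or_ge v 25287 with h6 | h6
  · exact edgesRange_spec E 2 2561 22726 edges_2_6 v (by omega) (by omega)
  rcases Nat.lt_or_ge v 27867 with h7 | h7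
  · exact edgesRange_spec E 2 2580 25287 edges_2_7 v (by omega) (by omega)
  exact edgesRange_spec E 2 2180 27867 edges_2_8 v (by omega) (by omega)

theorem edgesx_3 : ∀ v, v < 30047 → edgeOK E 3 v = true := by
  intro v hv
  rcases Nat.lt_or_ge v 3905 with h0 | h0
  · exact edgesRange_spec E 3 3905 0 edges_3_0 v (by omega) (by omega)
  rcases Nat.lt_or_ge v 8294 with h1 | h1
  · exact edgesRange_spec E 3 4389 3905 edges_3_1 v (by omega) (by omega)
  rcases Nat.lt_or_ge v 11426 with h2 | h2
  · exact edgesRange_spec E 3 3132 8294 edges_3_2 v (by omega) (by omega)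
  rcases Nat.lt_or_ge v 14540 with h3 | h3
  · exact edgesRange_spec E 3 3114 11426 edges_3_3 v (by omega) (by omega)
  rcases Nat.lt_or_ge v 17438 with h4 | h4
  · exact edgesRange_spec E 3 2898 14540 edges_3_4 v (by omega) (by omega)
  rcases Nat.lt_or_ge v 19923 with h5 | h5
  · exact edgesRange_spec E 3 2485 17438 edges_3_5 v (by omega) (by omega)
  rcases Nat.lt_or_ge v 22368 with h6 | h6
  · exact edgesRange_spec E 3 2445 19923 edges_3_6 v (by omega) (by omega)
  rcases Nat.lt_or_ge v 24867 with h7 | h7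
  · exact edgesRange_spec E 3 2499 22368 edges_3_7 v (by omega) (by omega)
  rcases Nat.lt_or_ge v 27292 with h8 | h8
  · exact edgesRange_spec E 3 2425 24867 edges_3_8 v (by omega) (by omega)
  rcases Nat.lt_or_ge v 29605 with h9 | h9
  · exact edgesRange_spec E 3 2313 27292 edges_3_9 v (by omega) (by omega)
  exact edgesRange_spec E 3 442 29605 edges_3_10 v (by omega) (by omega)

theorem edgesx_4 : ∀ v, v < 30047 → edgeOK E 4 v = true := by
  intro v hv
  rcases Nat.lt_or_ge v 3200 with h0 | h0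
  · exact edgesRange_spec E 4 3200 0 edges_4_0 v (by omega) (by omega)
  rcases Nat.lt_or_ge v 7405 with h1 | h1
  · exact edgesRange_spec E 4 4205 3200 edges_4_1 v (by omega) (by omega)
  rcases Nat.lt_or_ge v 10253 with h2 | h2
  · exact edgesRange_spec E 4 2848 7405 edges_4_2 v (by omega) (by omega)
  rcases Nat.lt_or_ge v 13018 with h3 | h3
  · exact edgesRange_spec E 4 2765 10253 edges_4_3 v (by omega) (by omega)
  rcases Nat.lt_or_ge v 16301 with h4 | h4
  · exact edgesRange_spec E 4 3283 13018 edges_4_4 v (by omega) (by omega)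
  rcases Nat.lt_or_ge v 18727 with h5 | h5
  · exact edgesRange_spec E 4 2426 16301 edges_4_5 v (by omega) (by omega)
  rcases Nat.lt_or_ge v 21061 with h6 | h6
  · exact edgesRange_spec E 4 2334 18727 edges_4_6 v (by omega) (by omega)
  rcases Nat.lt_or_ge v 23474 with h7 | h7
  · exact edgesRange_spec E 4 2413 21061 edges_4_7 v (by omega) (by omega)
  rcases Nat.lt_or_ge v 25772 with h8 | h8
  · exact edgesRange_spec E 4 2298 23474 edges_4_8 v (by omega) (by omega)
  rcases Nat.lt_or_ge v 28059 with h9 | h9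
  · exact edgesRange_spec E 4 2287 25772 edges_4_9 v (by omega) (by omega)
  exact edgesRange_spec E 4 1988 28059 edges_4_10 v (by omega) (by omega)

theorem edgesx_5 : ∀ v, v < 30047 → edgeOK E 5 v = true := by
  intro v hv
  rcases Nat.lt_or_ge v 6000 with h0 | h0
  · exact edgesRange_spec E 5 6000 0 edges_5_0 v (by omega) (by omega)
  rcases Nat.lt_or_ge v 11334 with h1 | h1
  · exact edgesRange_spec E 5 5334 6000 edges_5_1 v (by omega) (by omega)
  rcases Nat.lt_or_ge v 16000 with h2 | h2
  · exact edgesRange_spec E 5 4666 11334 edges_5_2 v (by omega) (by omega)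
  rcases Nat.lt_or_ge v 19610 with h3 | h3
  · exact edgesRange_spec E 5 3610 16000 edges_5_3 v (by omega) (by omega)
  rcases Nat.lt_or_ge v 22814 with h4 | h4
  · exact edgesRange_spec E 5 3204 19610 edges_5_4 v (by omega) (by omega)
  rcases Nat.lt_or_ge v 25911 with h5 | h5
  · exact edgesRange_spec E 5 3097 22814 edges_5_5 v (by omega) (by omega)
  rcases Nat.lt_or_ge v 28730 with h6 | h6
  · exact edgesRange_spec E 5 2819 25911 edges_5_6 v (by omega) (by omega)
  exact edgesRange_spec E 5 1317 28730 edges_5_7 v (by omega) (by omega)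

theorem edgesx_6 : ∀ v, v < 30047 → edgeOK E 6 v = true := by
  intro v hv
  rcases Nat.lt_or_ge v 6244 with h0 | h0
  · exact edgesRange_spec E 6 6244 0 edges_6_0 v (by omega) (by omega)
  rcases Nat.lt_or_ge v 11535 with h1 | h1
  · exact edgesRange_spec E 6 5291 6244 edges_6_1 v (by omega) (by omega)
  rcases Nat.lt_or_ge v 16181 with h2 | h2
  · exact edgesRange_spec E 6 4646 11535 edges_6_2 v (by omega) (by omega)
  rcases Nat.lt_or_ge v 19671 with h3 | h3
  · exact edgesRange_spec E 6 3490 16181 edges_6_3 v (by omega) (by omega)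
  rcases Nat.lt_or_ge v 22881 with h4 | h4
  · exact edgesRange_spec E 6 3210 19671 edges_6_4 v (by omega) (by omega)
  rcases Nat.lt_or_ge v 25944 with h5 | h5
  · exact edgesRange_spec E 6 3063 22881 edges_6_5 v (by omega) (by omega)
  rcases Nat.lt_or_ge v 28728 with h6 | h6
  · exact edgesRange_spec E 6 2784 25944 edges_6_6 v (by omega) (by omega)
  exact edgesRange_spec E 6 1319 28728 edges_6_7 v (by omega) (by omega)

theorem hA0 : ∀ v, v < 30047 → aliasOK E v = true := by
  intro v hv
  rcases Nat.lt_or_ge v 4508 with h0 | h0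
  · exact aliasRange_spec E 4508 0 aliases_0 v (by omega) (by omega)
  rcases Nat.lt_or_ge v 10928 with h1 | h1
  · exact aliasRange_spec E 6420 4508 aliases_1 v (by omega) (by omega)
  exact aliasRange_spec E 19119 10928 aliases_2 v (by omega) (by omega)

theorem hrows0 : ∀ v, v < 30047 → tb RS v = true → rowOK2 E RS v E.D.k = true := by
  intro v hv
  rcases Nat.lt_or_ge v 3000 with h0 | h0
  · exact rowsRange_spec E RS 3000 0 rows_0 v (by omega) (by omega)
  rcases Nat.lt_or_ge v 6000 with h1 | h1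
  · exact rowsRange_spec E RS 3000 3000 rows_1 v (by omega) (by omega)
  rcases Nat.lt_or_ge v 9000 with h2 | h2
  · exact rowsRange_spec E RS 3000 6000 rows_2 v (by omega) (by omega)
  rcases Nat.lt_or_ge v 12000 with h3 | h3
  · exact rowsRange_spec E RS 3000 9000 rows_3 v (by omega) (by omega)
  rcases Nat.lt_or_ge v 15000 with h4 | h4
  · exact rowsRange_spec E RS 3000 12000 rows_4 v (by omega) (by omega)
  rcases Nat.lt_or_ge v 18000 with h5 | h5
  · exact rowsRange_spec E RS 3000 15000 rows_5 v (by omega) (by omega)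
  rcases Nat.lt_or_ge v 21000 with h6 | h6
  · exact rowsRange_spec E RS 3000 18000 rows_6 v (by omega) (by omega)
  rcases Nat.lt_or_ge v 24000 with h7 | h7
  · exact rowsRange_spec E RS 3000 21000 rows_7 v (by omega) (by omega)
  rcases Nat.lt_or_ge v 27000 with h8 | h8
  · exact rowsRange_spec E RS 3000 24000 rows_8 v (by omega) (by omega)
  rcases Nat.lt_or_ge v 30000 with h9 | h9
  · exact rowsRange_spec E RS 3000 27000 rows_9 v (by omega) (by omega)
  exact rowsRange_spec E RS 47 30000 rows_10 v (by omega) (by omega)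

theorem relw_0 : ∀ v, v < 22880 → walkT ctF (D.wlen 0) (D.wordP 0) v = v := by
  intro v hv
  exact relPtsF_spec ctF _ _ 22880 0 relc_0_0 v (by omega) (by omega)

theorem relw_1 : ∀ v, v < 22880 → walkT ctF (D.wlen 1) (D.wordP 1) v = v := by
  intro v hv
  rcases Nat.lt_or_ge v 20000 with h0 | h0
  · exact relPtsF_spec ctF _ _ 20000 0 relc_1_0 v (by omega) (by omega)
  exact relPtsF_spec ctF _ _ 2880 20000 relc_1_1 v (by omega) (by omega)

theorem relw_2 : ∀ v, v < 22880 → walkT ctF (D.wlen 2) (D.wordP 2) v = v := by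
  intro v hv
  exact relPtsF_spec ctF _ _ 22880 0 relc_2_0 v (by omega) (by omega)

theorem relw_3 : ∀ v, v < 22880 → walkT ctF (D.wlen 3) (D.wordP 3) v = v := by
  intro v hv
  exact relPtsF_spec ctF _ _ 22880 0 relc_3_0 v (by omega) (by omega)

theorem relw_4 : ∀ v, v < 22880 → walkT ctF (D.wlen 4) (D.wordP 4) v = v := by
  intro v hv
  exact relPtsF_spec ctF _ _ 22880 0 relc_4_0 v (by omega) (by omega)

theorem relw_5 : ∀ v, v < 22880 → walkT ctF (D.wlen 5) (D.wordP 5) v = v := by
  intro v hv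
  exact relPtsF_spec ctF _ _ 22880 0 relc_5_0 v (by omega) (by omega)

theorem relw_6 : ∀ v, v < 22880 → walkT ctF (D.wlen 6) (D.wordP 6) v = v := by
  intro v hv
  exact relPtsF_spec ctF _ _ 22880 0 relc_6_0 v (by omega) (by omega)

theorem relw_7 : ∀ v, v < 22880 → walkT ctF (D.wlen 7) (D.wordP 7) v = v := by
  intro v hv
  rcases Nat.lt_or_ge v 20000 with h0 | h0
  · exact relPtsF_spec ctF _ _ 20000 0 relc_7_0 v (by omega) (by omega)
  exact relPtsF_spec ctF _ _ 2880 20000 relc_7_1 v (by omega) (by omega)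

theorem relw_8 : ∀ v, v < 22880 → walkT ctF (D.wlen 8) (D.wordP 8) v = v := by
  intro v hv
  exact relPtsF_spec ctF _ _ 22880 0 relc_8_0 v (by omega) (by omega)

theorem relw_9 : ∀ v, v < 22880 → walkT ctF (D.wlen 9) (D.wordP 9) v = v := by
  intro v hv
  exact relPtsF_spec ctF _ _ 22880 0 relc_9_0 v (by omega) (by omega)

theorem relw_10 : ∀ v, v < 22880 → walkT ctF (D.wlen 10) (D.wordP 10) v = v := by
  intro v hv
  exact relPtsF_spec ctF _ _ 22880 0 relc_10_0 v (by omega) (by omega)

theorem relw_11 : ∀ v, v < 22880 → walkT ctF (D.wlen 11) (D.wordP 11) v = v := by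
  intro v hv
  exact relPtsF_spec ctF _ _ 22880 0 relc_11_0 v (by omega) (by omega)

theorem relw_12 : ∀ v, v < 22880 → walkT ctF (D.wlen 12) (D.wordP 12) v = v := by
  intro v hv
  exact relPtsF_spec ctF _ _ 22880 0 relc_12_0 v (by omega) (by omega)

theorem relw_13 : ∀ v, v < 22880 → walkT ctF (D.wlen 13) (D.wordP 13) v = v := by
  intro v hv
  exact relPtsF_spec ctF _ _ 22880 0 relc_13_0 v (by omega) (by omega)

theorem relw_14 : ∀ v, v < 22880 → walkT ctF (D.wlen 14) (D.wordP 14) v = v := by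
  intro v hv
  exact relPtsF_spec ctF _ _ 22880 0 relc_14_0 v (by omega) (by omega)

theorem relw_15 : ∀ v, v < 22880 → walkT ctF (D.wlen 15) (D.wordP 15) v = v := by
  intro v hv
  exact relPtsF_spec ctF _ _ 22880 0 relc_15_0 v (by omega) (by omega)

theorem relw_16 : ∀ v, v < 22880 → walkT ctF (D.wlen 16) (D.wordP 16) v = v := by
  intro v hv
  exact relPtsF_spec ctF _ _ 22880 0 relc_16_0 v (by omega) (by omega)

theorem relw_17 : ∀ v, v < 22880 → walkT ctF (D.wlen 17) (D.wordP 17) v = v := by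
  intro v hv
  rcases Nat.lt_or_ge v 12500 with h0 | h0
  · exact relPtsF_spec ctF _ _ 12500 0 relc_17_0 v (by omega) (by omega)
  exact relPtsF_spec ctF _ _ 10380 12500 relc_17_1 v (by omega) (by omega)

theorem relw_18 : ∀ v, v < 22880 → walkT ctF (D.wlen 18) (D.wordP 18) v = v := by
  intro v hv
  exact relPtsF_spec ctF _ _ 22880 0 relc_18_0 v (by omega) (by omega)

theorem relw_19 : ∀ v, v < 22880 → walkT ctF (D.wlen 19) (D.wordP 19) v = v := by
  intro v hv
  exact relPtsF_spec ctF _ _ 22880 0 relc_19_0 v (by omega) (by omega)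

theorem relw_20 : ∀ v, v < 22880 → walkT ctF (D.wlen 20) (D.wordP 20) v = v := by
  intro v hv
  exact relPtsF_spec ctF _ _ 22880 0 relc_20_0 v (by omega) (by omega)

theorem relw_21 : ∀ v, v < 22880 → walkT ctF (D.wlen 21) (D.wordP 21) v = v := by
  intro v hv
  exact relPtsF_spec ctF _ _ 22880 0 relc_21_0 v (by omega) (by omega)

theorem relw_22 : ∀ v, v < 22880 → walkT ctF (D.wlen 22) (D.wordP 22) v = v := by
  intro v hv
  exact relPtsF_spec ctF _ _ 22880 0 relc_22_0 v (by omega) (by omega)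

theorem relw_23 : ∀ v, v < 22880 → walkT ctF (D.wlen 23) (D.wordP 23) v = v := by
  intro v hv
  rcases Nat.lt_or_ge v 12500 with h0 | h0
  · exact relPtsF_spec ctF _ _ 12500 0 relc_23_0 v (by omega) (by omega)
  exact relPtsF_spec ctF _ _ 10380 12500 relc_23_1 v (by omega) (by omega)

theorem relw_24 : ∀ v, v < 22880 → walkT ctF (D.wlen 24) (D.wordP 24) v = v := by
  intro v hv
  exact relPtsF_spec ctF _ _ 22880 0 relc_24_0 v (by omega) (by omega)

theorem relw_25 : ∀ v, v < 22880 → walkT ctF (D.wlen 25) (D.wordP 25) v = v := by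
  intro v hv
  exact relPtsF_spec ctF _ _ 22880 0 relc_25_0 v (by omega) (by omega)

theorem relw_26 : ∀ v, v < 22880 → walkT ctF (D.wlen 26) (D.wordP 26) v = v := by
  intro v hv
  exact relPtsF_spec ctF _ _ 22880 0 relc_26_0 v (by omega) (by omega)

theorem relw_27 : ∀ v, v < 22880 → walkT ctF (D.wlen 27) (D.wordP 27) v = v := by
  intro v hv
  exact relPtsF_spec ctF _ _ 22880 0 relc_27_0 v (by omega) (by omega)

theorem relw_28 : ∀ v, v < 22880 → walkT ctF (D.wlen 28) (D.wordP 28) v = v := by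
  intro v hv
  exact relPtsF_spec ctF _ _ 22880 0 relc_28_0 v (by omega) (by omega)

theorem relw_29 : ∀ v, v < 22880 → walkT ctF (D.wlen 29) (D.wordP 29) v = v := by
  intro v hv
  exact relPtsF_spec ctF _ _ 22880 0 relc_29_0 v (by omega) (by omega)

theorem relw_30 : ∀ v, v < 22880 → walkT ctF (D.wlen 30) (D.wordP 30) v = v := by
  intro v hv
  exact relPtsF_spec ctF _ _ 22880 0 relc_30_0 v (by omega) (by omega)

theorem relw_31 : ∀ v, v < 22880 → walkT ctF (D.wlen 31) (D.wordP 31) v = v := by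
  intro v hv
  exact relPtsF_spec ctF _ _ 22880 0 relc_31_0 v (by omega) (by omega)

theorem relw_32 : ∀ v, v < 22880 → walkT ctF (D.wlen 32) (D.wordP 32) v = v := by
  intro v hv
  exact relPtsF_spec ctF _ _ 22880 0 relc_32_0 v (by omega) (by omega)

theorem relw_33 : ∀ v, v < 22880 → walkT ctF (D.wlen 33) (D.wordP 33) v = v := by
  intro v hv
  exact relPtsF_spec ctF _ _ 22880 0 relc_33_0 v (by omega) (by omega)

theorem relw_34 : ∀ v, v < 22880 → walkT ctF (D.wlen 34) (D.wordP 34) v = v := by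
  intro v hv
  exact relPtsF_spec ctF _ _ 22880 0 relc_34_0 v (by omega) (by omega)

theorem relw_35 : ∀ v, v < 22880 → walkT ctF (D.wlen 35) (D.wordP 35) v = v := by
  intro v hv
  exact relPtsF_spec ctF _ _ 22880 0 relc_35_0 v (by omega) (by omega)

theorem relw_36 : ∀ v, v < 22880 → walkT ctF (D.wlen 36) (D.wordP 36) v = v := by
  intro v hv
  exact relPtsF_spec ctF _ _ 22880 0 relc_36_0 v (by omega) (by omega)

theorem relw_37 : ∀ v, v < 22880 → walkT ctF (D.wlen 37) (D.wordP 37) v = v := by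
  intro v hv
  exact relPtsF_spec ctF _ _ 22880 0 relc_37_0 v (by omega) (by omega)

theorem relw_38 : ∀ v, v < 22880 → walkT ctF (D.wlen 38) (D.wordP 38) v = v := by
  intro v hv
  exact relPtsF_spec ctF _ _ 22880 0 relc_38_0 v (by omega) (by omega)

theorem relw_39 : ∀ v, v < 22880 → walkT ctF (D.wlen 39) (D.wordP 39) v = v := by
  intro v hv
  exact relPtsF_spec ctF _ _ 22880 0 relc_39_0 v (by omega) (by omega)

theorem relw_40 : ∀ v, v < 22880 → walkT ctF (D.wlen 40) (D.wordP 40) v = v := by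
  intro v hv
  exact relPtsF_spec ctF _ _ 22880 0 relc_40_0 v (by omega) (by omega)

theorem relw_41 : ∀ v, v < 22880 → walkT ctF (D.wlen 41) (D.wordP 41) v = v := by
  intro v hv
  exact relPtsF_spec ctF _ _ 22880 0 relc_41_0 v (by omega) (by omega)

theorem relw_42 : ∀ v, v < 22880 → walkT ctF (D.wlen 42) (D.wordP 42) v = v := by
  intro v hv
  exact relPtsF_spec ctF _ _ 22880 0 relc_42_0 v (by omega) (by omega)

theorem relw_43 : ∀ v, v < 22880 → walkT ctF (D.wlen 43) (D.wordP 43) v = v := by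
  intro v hv
  exact relPtsF_spec ctF _ _ 22880 0 relc_43_0 v (by omega) (by omega)

theorem relw_44 : ∀ v, v < 22880 → walkT ctF (D.wlen 44) (D.wordP 44) v = v := by
  intro v hv
  exact relPtsF_spec ctF _ _ 22880 0 relc_44_0 v (by omega) (by omega)

theorem relw_45 : ∀ v, v < 22880 → walkT ctF (D.wlen 45) (D.wordP 45) v = v := by
  intro v hv
  exact relPtsF_spec ctF _ _ 22880 0 relc_45_0 v (by omega) (by omega)

theorem relw_46 : ∀ v, v < 22880 → walkT ctF (D.wlen 46) (D.wordP 46) v = v := by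
  intro v hv
  exact relPtsF_spec ctF _ _ 22880 0 relc_46_0 v (by omega) (by omega)

theorem relw_47 : ∀ v, v < 22880 → walkT ctF (D.wlen 47) (D.wordP 47) v = v := by
  intro v hv
  exact relPtsF_spec ctF _ _ 22880 0 relc_47_0 v (by omega) (by omega)

theorem relw_48 : ∀ v, v < 22880 → walkT ctF (D.wlen 48) (D.wordP 48) v = v := by
  intro v hv
  exact relPtsF_spec ctF _ _ 22880 0 relc_48_0 v (by omega) (by omega)

theorem relw_49 : ∀ v, v < 22880 → walkT ctF (D.wlen 49) (D.wordP 49) v = v := by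
  intro v hv
  rcases Nat.lt_or_ge v 22222 with h0 | h0
  · exact relPtsF_spec ctF _ _ 22222 0 relc_49_0 v (by omega) (by omega)
  exact relPtsF_spec ctF _ _ 658 22222 relc_49_1 v (by omega) (by omega)

theorem relw_50 : ∀ v, v < 22880 → walkT ctF (D.wlen 50) (D.wordP 50) v = v := by
  intro v hv
  exact relPtsF_spec ctF _ _ 22880 0 relc_50_0 v (by omega) (by omega)

theorem relw_51 : ∀ v, v < 22880 → walkT ctF (D.wlen 51) (D.wordP 51) v = v := by
  intro v hv
  rcases Nat.lt_or_ge v 10000 with h0 | h0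
  · exact relPtsF_spec ctF _ _ 10000 0 relc_51_0 v (by omega) (by omega)
  rcases Nat.lt_or_ge v 20000 with h1 | h1
  · exact relPtsF_spec ctF _ _ 10000 10000 relc_51_1 v (by omega) (by omega)
  exact relPtsF_spec ctF _ _ 2880 20000 relc_51_2 v (by omega) (by omega)

theorem relw_52 : ∀ v, v < 22880 → walkT ctF (D.wlen 52) (D.wordP 52) v = v := by
  intro v hv
  rcases Nat.lt_or_ge v 13333 with h0 | h0
  · exact relPtsF_spec ctF _ _ 13333 0 relc_52_0 v (by omega) (by omega)
  exact relPtsF_spec ctF _ _ 9547 13333 relc_52_1 v (by omega) (by omega)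

theorem relw_53 : ∀ v, v < 22880 → walkT ctF (D.wlen 53) (D.wordP 53) v = v := by
  intro v hv
  rcases Nat.lt_or_ge v 2564 with h0 | h0
  · exact relPtsF_spec ctF _ _ 2564 0 relc_53_0 v (by omega) (by omega)
  rcases Nat.lt_or_ge v 5128 with h1 | h1
  · exact relPtsF_spec ctF _ _ 2564 2564 relc_53_1 v (by omega) (by omega)
  rcases Nat.lt_or_ge v 7692 with h2 | h2
  · exact relPtsF_spec ctF _ _ 2564 5128 relc_53_2 v (by omega) (by omega)
  rcases Nat.lt_or_ge v 10256 with h3 | h3
  · exact relPtsF_spec ctF _ _ 2564 7692 relc_53_3 v (by omega) (by omega)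
  rcases Nat.lt_or_ge v 12820 with h4 | h4
  · exact relPtsF_spec ctF _ _ 2564 10256 relc_53_4 v (by omega) (by omega)
  rcases Nat.lt_or_ge v 15384 with h5 | h5
  · exact relPtsF_spec ctF _ _ 2564 12820 relc_53_5 v (by omega) (by omega)
  rcases Nat.lt_or_ge v 17948 with h6 | h6
  · exact relPtsF_spec ctF _ _ 2564 15384 relc_53_6 v (by omega) (by omega)
  rcases Nat.lt_or_ge v 20512 with h7 | h7
  · exact relPtsF_spec ctF _ _ 2564 17948 relc_53_7 v (by omega) (by omega)
  exact relPtsF_spec ctF _ _ 2368 20512 relc_53_8 v (by omega) (by omega)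

theorem hE : ∀ v, v < E.M → ∀ x, x < E.D.k → edgeOK E x v = true := by
  intro v hv x hx
  have hv' : v < 30047 := hv
  have hx' : x < 7 := hx
  interval_cases x
  · exact edgesx_0 v hv'
  · exact edgesx_1 v hv'
  · exact edgesx_2 v hv'
  · exact edgesx_3 v hv'
  · exact edgesx_4 v hv'
  · exact edgesx_5 v hv'
  · exact edgesx_6 v hv'

theorem hA : ∀ v, v < E.M → aliasOK E v = true := fun v hv => hA0 v hv

theorem hrows : ∀ v, v < E.M → tb RS v = true → rowOK2 E RS v E.D.k = true := fun v hv => hrows0 v hv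

theorem hT : ∀ x, x < E.D.k → ∀ v, v < 22880 → ctF x v < 22880 ∧ ctF x (ctF x v) = v := by
  intro x hx v hv
  have hx' : x < 7 := hx
  interval_cases x
  · exact invRowF_spec ctF 22880 0 22880 0 inv_0 v (Nat.zero_le _) (by omega)
  · exact invRowF_spec ctF 22880 1 22880 0 inv_1 v (Nat.zero_le _) (by omega)
  · exact invRowF_spec ctF 22880 2 22880 0 inv_2 v (Nat.zero_le _) (by omega)
  · exact invRowF_spec ctF 22880 3 22880 0 inv_3 v (Nat.zero_le _) (by omega)
  · exact invRowF_spec ctF 22880 4 22880 0 inv_4 v (Nat.zero_le _) (by omega)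
  · exact invRowF_spec ctF 22880 5 22880 0 inv_5 v (Nat.zero_le _) (by omega)
  · exact invRowF_spec ctF 22880 6 22880 0 inv_6 v (Nat.zero_le _) (by omega)

theorem hltr : ∀ j, j < E.D.nw → lettersOK E.D.k (E.D.wlen j) (E.D.wordP j) = true :=
  wordsOK_spec D D.nw words_ok

theorem hrelT : ∀ wi, wi < E.D.nrel → ∀ v, v < 22880 →
    walkT ctF (E.D.wlen wi) (E.D.wordP wi) v = v := by
  intro wi hwi
  have hwi' : wi < 54 := hwi
  interval_cases wi
  · exact relw_0
  · exact relw_1
  · exact relw_2
  · exact relw_3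
  · exact relw_4
  · exact relw_5
  · exact relw_6
  · exact relw_7
  · exact relw_8
  · exact relw_9
  · exact relw_10
  · exact relw_11
  · exact relw_12
  · exact relw_13
  · exact relw_14
  · exact relw_15
  · exact relw_16
  · exact relw_17
  · exact relw_18
  · exact relw_19
  · exact relw_20
  · exact relw_21
  · exact relw_22
  · exact relw_23
  · exact relw_24
  · exact relw_25
  · exact relw_26
  · exact relw_27
  · exact relw_28
  · exact relw_29
  · exact relw_30
  · exact relw_31
  · exact relw_32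
  · exact relw_33
  · exact relw_34
  · exact relw_35
  · exact relw_36
  · exact relw_37
  · exact relw_38
  · exact relw_39
  · exact relw_40
  · exact relw_41
  · exact relw_42
  · exact relw_43
  · exact relw_44
  · exact relw_45
  · exact relw_46
  · exact relw_47
  · exact relw_48
  · exact relw_49
  · exact relw_50
  · exact relw_51
  · exact relw_52
  · exact relw_53

theorem hsubT : ∀ wi, wi < E.D.nw → E.D.nrel ≤ wi →
    walkT ctF (E.D.wlen wi) (E.D.wordP wi) 0 = 0 :=
  subAll_spec ctF D D.nw sub_ok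

theorem hconn : ∀ v, v < 22880 → v ≠ 0 → ∃ x, x < E.D.k ∧ ctF x v < v := by
  intro v hv
  exact connF_spec ctF 7 22880 0 conn_ok v (Nat.zero_le _) (by omega)

end Cfsg.Agent.Helper5.SuzbTC
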