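import Cfsg.Agent.Helper5.SuzcTCDatD

/-! kernel checks of edges, aliases, rows: SuzcTC -/

set_option autoImplicit false
set_option Elab.async false

namespace Cfsg.Agent.Helper5.SuzcTC
open Cfsg.Agent.Helper5.TC

set_option maxRecDepth 1000000 in
theorem edges_1_0 : edgesRange E 1 7518 0 = true := by decide +kernel

set_option maxRecDepth 1000000 in
theorem edges_6_0 : edgesRange E 6 6590 0 = true := by decide +kernel

set_option maxRecDepth 1000000 in
theorem edges_5_0 : edgesRange E 5 5625 0 = true := by decide +kernel

set_option maxRecDepth 1000000 in
theorem edges_2_0 : edgesRange E 2 5531 0 = true := by decide +kernel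

set_option maxRecDepth 1000000 in
theorem edges_4_1 : edgesRange E 4 4750 3100 = true := by decide +kernel

set_option maxRecDepth 1000000 in
theorem aliases_0 : aliasRange E 4286 0 = true := by decide +kernel

set_option maxRecDepth 1000000 in
theorem edges_0_0 : edgesRange E 0 3898 0 = true := by decide +kernel

set_option maxRecDepth 1000000 in
theorem edges_3_0 : edgesRange E 3 3647 0 = true := by decide +kernel

set_option maxRecDepth 1000000 in
theorem edges_4_0 : edgesRange E 4 3100 0 = true := by decide +kernel

set_option maxRecDepth 1000000 in
theorem aliases_1 : aliasRange E 2782 4286 = true := by decide +kernel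

set_option maxRecDepth 1000000 in
theorem edges_0_1 : edgesRange E 0 4171 3898 = true := by decide +kernel

set_option maxRecDepth 1000000 in
theorem edges_3_1 : edgesRange E 3 4422 3647 = true := by decide +kernel

set_option maxRecDepth 1000000 in
theorem edges_5_1 : edgesRange E 5 2444 5625 = true := by decide +kernel

set_option maxRecDepth 1000000 in
theorem aliases_2 : aliasRange E 1001 7068 = true := by decide +kernel

set_option maxRecDepth 1000000 in
theorem rows_0 : rowsRange E RS 3000 0 = true := by decide +kernel

set_option maxRecDepth 1000000 in
theorem rows_1 : rowsRange E RS 3000 3000 = true := by decide +kernel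

set_option maxRecDepth 1000000 in
theorem edges_2_1 : edgesRange E 2 2538 5531 = true := by decide +kernel

set_option maxRecDepth 1000000 in
theorem rows_2 : rowsRange E RS 2069 6000 = true := by decide +kernel

set_option maxRecDepth 1000000 in
theorem edges_6_1 : edgesRange E 6 1479 6590 = true := by decide +kernel

set_option maxRecDepth 1000000 in
theorem edges_1_1 : edgesRange E 1 551 7518 = true := by decide +kernel

set_option maxRecDepth 1000000 in
theorem edges_4_2 : edgesRange E 4 219 7850 = true := by decide +kernel

end Cfsg.Agent.Helper5.SuzcTC
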