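import Cfsg.Agent.Helper5.SuzcTCDatD
import Cfsg.Agent.Helper5.SuzcTCDatT
import Cfsg.Agent.Helper5.TC2C

/-! kernel checks of the coset table: SuzcTC -/

set_option autoImplicit false
set_option Elab.async false

namespace Cfsg.Agent.Helper5.SuzcTC
open Cfsg.Agent.Helper5.TC

set_option maxRecDepth 1000000 in
theorem relc_53_0 : relPtsF ctF (D.wlen 53) (D.wordP 53) 1782 0 = true := by decide +kernel

set_option maxRecDepth 1000000 in
theorem relc_51_0 : relPtsF ctF (D.wlen 51) (D.wordP 51) 1782 0 = true := by decide +kernel

set_option maxRecDepth 1000000 in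
theorem orb1_ok : orbOK ctF D 1782 S1 1 1365 oc1 = true := by decide +kernel

set_option maxRecDepth 1000000 in
theorem orb2_ok : orbOK ctF D 1782 S2 47 416 oc2 = true := by decide +kernel

set_option maxRecDepth 1000000 in
theorem relc_17_0 : relPtsF ctF (D.wlen 17) (D.wordP 17) 1782 0 = true := by decide +kernel

set_option maxRecDepth 1000000 in
theorem relc_23_0 : relPtsF ctF (D.wlen 23) (D.wordP 23) 1782 0 = true := by decide +kernel

set_option maxRecDepth 1000000 in
theorem relc_52_0 : relPtsF ctF (D.wlen 52) (D.wordP 52) 1782 0 = true := by decide +kernel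

set_option maxRecDepth 1000000 in
theorem relc_1_0 : relPtsF ctF (D.wlen 1) (D.wordP 1) 1782 0 = true := by decide +kernel

set_option maxRecDepth 1000000 in
theorem relc_7_0 : relPtsF ctF (D.wlen 7) (D.wordP 7) 1782 0 = true := by decide +kernel

set_option maxRecDepth 1000000 in
theorem relc_49_0 : relPtsF ctF (D.wlen 49) (D.wordP 49) 1782 0 = true := by decide +kernel

set_option maxRecDepth 1000000 in
theorem relc_41_0 : relPtsF ctF (D.wlen 41) (D.wordP 41) 1782 0 = true := by decide +kernel

set_option maxRecDepth 1000000 in
theorem relc_47_0 : relPtsF ctF (D.wlen 47) (D.wordP 47) 1782 0 = true := by decide +kernel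

set_option maxRecDepth 1000000 in
theorem relc_9_0 : relPtsF ctF (D.wlen 9) (D.wordP 9) 1782 0 = true := by decide +kernel

set_option maxRecDepth 1000000 in
theorem relc_12_0 : relPtsF ctF (D.wlen 12) (D.wordP 12) 1782 0 = true := by decide +kernel

set_option maxRecDepth 1000000 in
theorem relc_13_0 : relPtsF ctF (D.wlen 13) (D.wordP 13) 1782 0 = true := by decide +kernel

set_option maxRecDepth 1000000 in
theorem relc_15_0 : relPtsF ctF (D.wlen 15) (D.wordP 15) 1782 0 = true := by decide +kernel

set_option maxRecDepth 1000000 in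
theorem relc_25_0 : relPtsF ctF (D.wlen 25) (D.wordP 25) 1782 0 = true := by decide +kernel

set_option maxRecDepth 1000000 in
theorem relc_31_0 : relPtsF ctF (D.wlen 31) (D.wordP 31) 1782 0 = true := by decide +kernel

set_option maxRecDepth 1000000 in
theorem relc_36_0 : relPtsF ctF (D.wlen 36) (D.wordP 36) 1782 0 = true := by decide +kernel

set_option maxRecDepth 1000000 in
theorem relc_43_0 : relPtsF ctF (D.wlen 43) (D.wordP 43) 1782 0 = true := by decide +kernel

set_option maxRecDepth 1000000 in
theorem relc_50_0 : relPtsF ctF (D.wlen 50) (D.wordP 50) 1782 0 = true := by decide +kernel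

set_option maxRecDepth 1000000 in
theorem relc_2_0 : relPtsF ctF (D.wlen 2) (D.wordP 2) 1782 0 = true := by decide +kernel

set_option maxRecDepth 1000000 in
theorem relc_3_0 : relPtsF ctF (D.wlen 3) (D.wordP 3) 1782 0 = true := by decide +kernel

set_option maxRecDepth 1000000 in
theorem relc_4_0 : relPtsF ctF (D.wlen 4) (D.wordP 4) 1782 0 = true := by decide +kernel

set_option maxRecDepth 1000000 in
theorem relc_5_0 : relPtsF ctF (D.wlen 5) (D.wordP 5) 1782 0 = true := by decide +kernel

set_option maxRecDepth 1000000 in
theorem relc_6_0 : relPtsF ctF (D.wlen 6) (D.wordP 6) 1782 0 = true := by decide +kernel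

set_option maxRecDepth 1000000 in
theorem relc_10_0 : relPtsF ctF (D.wlen 10) (D.wordP 10) 1782 0 = true := by decide +kernel

set_option maxRecDepth 1000000 in
theorem relc_11_0 : relPtsF ctF (D.wlen 11) (D.wordP 11) 1782 0 = true := by decide +kernel

set_option maxRecDepth 1000000 in
theorem relc_14_0 : relPtsF ctF (D.wlen 14) (D.wordP 14) 1782 0 = true := by decide +kernel

set_option maxRecDepth 1000000 in
theorem relc_18_0 : relPtsF ctF (D.wlen 18) (D.wordP 18) 1782 0 = true := by decide +kernel

set_option maxRecDepth 1000000 in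
theorem relc_19_0 : relPtsF ctF (D.wlen 19) (D.wordP 19) 1782 0 = true := by decide +kernel

set_option maxRecDepth 1000000 in
theorem relc_20_0 : relPtsF ctF (D.wlen 20) (D.wordP 20) 1782 0 = true := by decide +kernel

set_option maxRecDepth 1000000 in
theorem relc_21_0 : relPtsF ctF (D.wlen 21) (D.wordP 21) 1782 0 = true := by decide +kernel

set_option maxRecDepth 1000000 in
theorem relc_22_0 : relPtsF ctF (D.wlen 22) (D.wordP 22) 1782 0 = true := by decide +kernel

set_option maxRecDepth 1000000 in
theorem relc_26_0 : relPtsF ctF (D.wlen 26) (D.wordP 26) 1782 0 = true := by decide +kernel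

set_option maxRecDepth 1000000 in
theorem relc_27_0 : relPtsF ctF (D.wlen 27) (D.wordP 27) 1782 0 = true := by decide +kernel

set_option maxRecDepth 1000000 in
theorem relc_28_0 : relPtsF ctF (D.wlen 28) (D.wordP 28) 1782 0 = true := by decide +kernel

set_option maxRecDepth 1000000 in
theorem relc_29_0 : relPtsF ctF (D.wlen 29) (D.wordP 29) 1782 0 = true := by decide +kernel

set_option maxRecDepth 1000000 in
theorem relc_30_0 : relPtsF ctF (D.wlen 30) (D.wordP 30) 1782 0 = true := by decide +kernel

set_option maxRecDepth 1000000 in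
theorem relc_33_0 : relPtsF ctF (D.wlen 33) (D.wordP 33) 1782 0 = true := by decide +kernel

set_option maxRecDepth 1000000 in
theorem relc_34_0 : relPtsF ctF (D.wlen 34) (D.wordP 34) 1782 0 = true := by decide +kernel

set_option maxRecDepth 1000000 in
theorem relc_35_0 : relPtsF ctF (D.wlen 35) (D.wordP 35) 1782 0 = true := by decide +kernel

set_option maxRecDepth 1000000 in
theorem relc_37_0 : relPtsF ctF (D.wlen 37) (D.wordP 37) 1782 0 = true := by decide +kernel

set_option maxRecDepth 1000000 in
theorem relc_38_0 : relPtsF ctF (D.wlen 38) (D.wordP 38) 1782 0 = true := by decide +kernel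

set_option maxRecDepth 1000000 in
theorem relc_39_0 : relPtsF ctF (D.wlen 39) (D.wordP 39) 1782 0 = true := by decide +kernel

set_option maxRecDepth 1000000 in
theorem relc_42_0 : relPtsF ctF (D.wlen 42) (D.wordP 42) 1782 0 = true := by decide +kernel

set_option maxRecDepth 1000000 in
theorem relc_44_0 : relPtsF ctF (D.wlen 44) (D.wordP 44) 1782 0 = true := by decide +kernel

set_option maxRecDepth 1000000 in
theorem relc_45_0 : relPtsF ctF (D.wlen 45) (D.wordP 45) 1782 0 = true := by decide +kernel

set_option maxRecDepth 1000000 in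
theorem relc_46_0 : relPtsF ctF (D.wlen 46) (D.wordP 46) 1782 0 = true := by decide +kernel

set_option maxRecDepth 1000000 in
theorem relc_0_0 : relPtsF ctF (D.wlen 0) (D.wordP 0) 1782 0 = true := by decide +kernel

set_option maxRecDepth 1000000 in
theorem relc_8_0 : relPtsF ctF (D.wlen 8) (D.wordP 8) 1782 0 = true := by decide +kernel

set_option maxRecDepth 1000000 in
theorem relc_16_0 : relPtsF ctF (D.wlen 16) (D.wordP 16) 1782 0 = true := by decide +kernel

set_option maxRecDepth 1000000 in
theorem relc_24_0 : relPtsF ctF (D.wlen 24) (D.wordP 24) 1782 0 = true := by decide +kernel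

set_option maxRecDepth 1000000 in
theorem relc_32_0 : relPtsF ctF (D.wlen 32) (D.wordP 32) 1782 0 = true := by decide +kernel

set_option maxRecDepth 1000000 in
theorem relc_40_0 : relPtsF ctF (D.wlen 40) (D.wordP 40) 1782 0 = true := by decide +kernel

set_option maxRecDepth 1000000 in
theorem relc_48_0 : relPtsF ctF (D.wlen 48) (D.wordP 48) 1782 0 = true := by decide +kernel

set_option maxRecDepth 1000000 in
theorem inv_0 : invRowF ctF 1782 0 1782 0 = true := by decide +kernel

set_option maxRecDepth 1000000 in
theorem inv_1 : invRowF ctF 1782 1 1782 0 = true := by decide +kernel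

set_option maxRecDepth 1000000 in
theorem inv_2 : invRowF ctF 1782 2 1782 0 = true := by decide +kernel

set_option maxRecDepth 1000000 in
theorem inv_3 : invRowF ctF 1782 3 1782 0 = true := by decide +kernel

set_option maxRecDepth 1000000 in
theorem inv_4 : invRowF ctF 1782 4 1782 0 = true := by decide +kernel

set_option maxRecDepth 1000000 in
theorem inv_5 : invRowF ctF 1782 5 1782 0 = true := by decide +kernel

set_option maxRecDepth 1000000 in
theorem inv_6 : invRowF ctF 1782 6 1782 0 = true := by decide +kernel

set_option maxRecDepth 1000000 in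
theorem conn_ok : connF ctF 7 1782 0 = true := by decide +kernel

set_option maxRecDepth 1000000 in
theorem sub_ok : subAll ctF D D.nw = true := by decide +kernel

end Cfsg.Agent.Helper5.SuzcTC
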