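import Cfsg.Agent.Helper5.SuzcTCDatA
import Cfsg.Agent.Helper5.SuzcTCDatB
import Cfsg.Agent.Helper5.SuzcTCDatC

/-! generated certificate data (D): SuzcTC -/

set_option autoImplicit false
set_option Elab.async false

namespace Cfsg.Agent.Helper5.SuzcTC
open Cfsg.Agent.Helper5.TC

def D : Dat where
  k := 7
  tgt := tgF
  par := parF
  gen := genF
  ali := aliF
  wordP := fun wi => Nat.mod (Nat.shiftRight wtT (Nat.mul 512 wi)) 13407807929942597099574024998205846127479365820592393377723561443721764030073546976801874298166903427690031858186486050853753882811946569946433649006084096
  wordR := fun wi => Nat.mod (Nat.shiftRight wrT (Nat.mul 512 wi)) 13407807929942597099574024998205846127479365820592393377723561443721764030073546976801874298166903427690031858186486050853753882811946569946433649006084096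
  wlen := fun wi => Nat.mod (Nat.shiftRight wlT (Nat.mul 8 wi)) 256
  nrel := 54
  nw := 60
  fuel := 5

def E : Dat2 where
  D := D
  rank := rkF
  arank := arkF
  ev := evF
  M := 8069

def RS : ℕ := 0x1600000000000000000040000000000000000000000000000000000000000000000000000000000000000000000000000000000005800000000004000000000000000020000000000000000000000000000000000000000000000000000000000000020000061801c000002000000000000000000160000000000000000000000000000000000000000800000000000002800000000004010000000000000000004000008000000000000000001040200000000000000000000000002000000100000000000000000000000000000040000005400000000000000000000000000000000414000000120028100000400000000000000004000003a2d000002c00004400001100010001040000000202000a00030000800000000200100ca40000008000000000000000000000000000000000020082e4160004080000000000000200880006204098680000000000000000030040108001890020808080020003a00041000000c00028bf7d800000b9800180000000000000010000000000000000000000004400000000000000001000000000018002000000000000009a00011003002800000000000000000000212000007000000000000000440000016002400000000002008000000000404000000800000640000000200030000000532000034c00000080000000000800000000000790001dc00787409108004000000f3e7fe023f85901b064292db000802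907460ff219831023a24fc000a024803005700010001039e79c11105000000041bd81269b3c8c48065018317058790709fc9c01a00a828002000e7ec404d00300000000000080000000000c720e0d0000000c002001af000369007807851800040090087c00e000004800b60037a00004c500090308240960000006c0007dc0007ec1e018201003a00010001ed7f7b9e55700007f7f7fe1f7df808716dffde9552e039e3ce0883df6caf800277ec235fffafe157bfba3e407870a40d07f72c0c40020000800003ef6000d38783f07f9a105bc7a60082bfbfce6b0e51ef0008b80fe1fef71f771affffffe03fffaef2caffffffbed95fffd5ff5fffd7feaec00000c171c7f8a05200010000212003f70ff1ffb5ff1008009dffefe0000000001ca81006e3fffffe11ffe00001000020061deffe045f840001fff000bf01f002700000001b02d7c0000fe005c000000000000019af6d0880042400dc07ffffe0c80131ffe0000000001fc033fffc00ef800000500062c7fc05e100001bf017c0f8138000000003815c000000f80b0000000000000001ffc34001b835ffc06c77c0000001f3ff1de000d8b3bd7201bf7fe3800000ab003e16000000005fb831fc778000ff7839dfd5ffd002b0e30000f8fde0ffbbffe16e88fff7fffbefffff6fffffeff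

end Cfsg.Agent.Helper5.SuzcTC
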