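import Cfsg.Agent.Helper5.SuzcTCChkE0
import Cfsg.Agent.Helper5.SuzcTCChkR0
import Cfsg.Agent.Helper5.SuzcTCChkA
import Cfsg.Agent.Helper5.TC2C

/-! summary of the kernel checks: SuzcTC -/

set_option autoImplicit false
set_option Elab.async false

namespace Cfsg.Agent.Helper5.SuzcTC
open Cfsg.Agent.Helper5.TC

theorem edgesx_0 : ∀ v, v < 8069 → edgeOK E 0 v = true := by
  intro v hv
  rcases Nat.lt_or_ge v 3898 with h0 | h0
  · exact edgesRange_spec E 0 3898 0 edges_0_0 v (by omega) (by omega)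
  exact edgesRange_spec E 0 4171 3898 edges_0_1 v (by omega) (by omega)

theorem edgesx_1 : ∀ v, v < 8069 → edgeOK E 1 v = true := by
  intro v hv
  rcases Nat.lt_or_ge v 7518 with h0 | h0
  · exact edgesRange_spec E 1 7518 0 edges_1_0 v (by omega) (by omega)
  exact edgesRange_spec E 1 551 7518 edges_1_1 v (by omega) (by omega)

theorem edgesx_2 : ∀ v, v < 8069 → edgeOK E 2 v = true := by
  intro v hv
  rcases Nat.lt_or_ge v 5531 with h0 | h0
  · exact edgesRange_spec E 2 5531 0 edges_2_0 v (by omega) (by omega)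
  exact edgesRange_spec E 2 2538 5531 edges_2_1 v (by omega) (by omega)

theorem edgesx_3 : ∀ v, v < 8069 → edgeOK E 3 v = true := by
  intro v hv
  rcases Nat.lt_or_ge v 3647 with h0 | h0
  · exact edgesRange_spec E 3 3647 0 edges_3_0 v (by omega) (by omega)
  exact edgesRange_spec E 3 4422 3647 edges_3_1 v (by omega) (by omega)

theorem edgesx_4 : ∀ v, v < 8069 → edgeOK E 4 v = true := by
  intro v hv
  rcases Nat.lt_or_ge v 3100 with h0 | h0
  · exact edgesRange_spec E 4 3100 0 edges_4_0 v (by omega) (by omega)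
  rcases Nat.lt_or_ge v 7850 with h1 | h1
  · exact edgesRange_spec E 4 4750 3100 edges_4_1 v (by omega) (by omega)
  exact edgesRange_spec E 4 219 7850 edges_4_2 v (by omega) (by omega)

theorem edgesx_5 : ∀ v, v < 8069 → edgeOK E 5 v = true := by
  intro v hv
  rcases Nat.lt_or_ge v 5625 with h0 | h0
  · exact edgesRange_spec E 5 5625 0 edges_5_0 v (by omega) (by omega)
  exact edgesRange_spec E 5 2444 5625 edges_5_1 v (by omega) (by omega)

theorem edgesx_6 : ∀ v, v < 8069 → edgeOK E 6 v = true := by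
  intro v hv
  rcases Nat.lt_or_ge v 6590 with h0 | h0
  · exact edgesRange_spec E 6 6590 0 edges_6_0 v (by omega) (by omega)
  exact edgesRange_spec E 6 1479 6590 edges_6_1 v (by omega) (by omega)

theorem hA0 : ∀ v, v < 8069 → aliasOK E v = true := by
  intro v hv
  rcases Nat.lt_or_ge v 4286 with h0 | h0
  · exact aliasRange_spec E 4286 0 aliases_0 v (by omega) (by omega)
  rcases Nat.lt_or_ge v 7068 with h1 | h1
  · exact aliasRange_spec E 2782 4286 aliases_1 v (by omega) (by omega)
  exact aliasRange_spec E 1001 7068 aliases_2 v (by omega) (by omega)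

theorem hrows0 : ∀ v, v < 8069 → tb RS v = true → rowOK2 E RS v E.D.k = true := by
  intro v hv
  rcases Nat.lt_or_ge v 3000 with h0 | h0
  · exact rowsRange_spec E RS 3000 0 rows_0 v (by omega) (by omega)
  rcases Nat.lt_or_ge v 6000 with h1 | h1
  · exact rowsRange_spec E RS 3000 3000 rows_1 v (by omega) (by omega)
  exact rowsRange_spec E RS 2069 6000 rows_2 v (by omega) (by omega)

theorem relw_0 : ∀ v, v < 1782 → walkT ctF (D.wlen 0) (D.wordP 0) v = v := by
  intro v hv
  exact relPtsF_spec ctF _ _ 1782 0 relc_0_0 v (by omega) (by omega)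

theorem relw_1 : ∀ v, v < 1782 → walkT ctF (D.wlen 1) (D.wordP 1) v = v := by
  intro v hv
  exact relPtsF_spec ctF _ _ 1782 0 relc_1_0 v (by omega) (by omega)

theorem relw_2 : ∀ v, v < 1782 → walkT ctF (D.wlen 2) (D.wordP 2) v = v := by
  intro v hv
  exact relPtsF_spec ctF _ _ 1782 0 relc_2_0 v (by omega) (by omega)

theorem relw_3 : ∀ v, v < 1782 → walkT ctF (D.wlen 3) (D.wordP 3) v = v := by
  intro v hv
  exact relPtsF_spec ctF _ _ 1782 0 relc_3_0 v (by omega) (by omega)

theorem relw_4 : ∀ v, v < 1782 → walkT ctF (D.wlen 4) (D.wordP 4) v = v := by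
  intro v hv
  exact relPtsF_spec ctF _ _ 1782 0 relc_4_0 v (by omega) (by omega)

theorem relw_5 : ∀ v, v < 1782 → walkT ctF (D.wlen 5) (D.wordP 5) v = v := by
  intro v hv
  exact relPtsF_spec ctF _ _ 1782 0 relc_5_0 v (by omega) (by omega)

theorem relw_6 : ∀ v, v < 1782 → walkT ctF (D.wlen 6) (D.wordP 6) v = v := by
  intro v hv
  exact relPtsF_spec ctF _ _ 1782 0 relc_6_0 v (by omega) (by omega)

theorem relw_7 : ∀ v, v < 1782 → walkT ctF (D.wlen 7) (D.wordP 7) v = v := by
  intro v hv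
  exact relPtsF_spec ctF _ _ 1782 0 relc_7_0 v (by omega) (by omega)

theorem relw_8 : ∀ v, v < 1782 → walkT ctF (D.wlen 8) (D.wordP 8) v = v := by
  intro v hv
  exact relPtsF_spec ctF _ _ 1782 0 relc_8_0 v (by omega) (by omega)

theorem relw_9 : ∀ v, v < 1782 → walkT ctF (D.wlen 9) (D.wordP 9) v = v := by
  intro v hv
  exact relPtsF_spec ctF _ _ 1782 0 relc_9_0 v (by omega) (by omega)

theorem relw_10 : ∀ v, v < 1782 → walkT ctF (D.wlen 10) (D.wordP 10) v = v := by
  intro v hv
  exact relPtsF_spec ctF _ _ 1782 0 relc_10_0 v (by omega) (by omega)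

theorem relw_11 : ∀ v, v < 1782 → walkT ctF (D.wlen 11) (D.wordP 11) v = v := by
  intro v hv
  exact relPtsF_spec ctF _ _ 1782 0 relc_11_0 v (by omega) (by omega)

theorem relw_12 : ∀ v, v < 1782 → walkT ctF (D.wlen 12) (D.wordP 12) v = v := by
  intro v hv
  exact relPtsF_spec ctF _ _ 1782 0 relc_12_0 v (by omega) (by omega)

theorem relw_13 : ∀ v, v < 1782 → walkT ctF (D.wlen 13) (D.wordP 13) v = v := by
  intro v hv
  exact relPtsF_spec ctF _ _ 1782 0 relc_13_0 v (by omega) (by omega)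

theorem relw_14 : ∀ v, v < 1782 → walkT ctF (D.wlen 14) (D.wordP 14) v = v := by
  intro v hv
  exact relPtsF_spec ctF _ _ 1782 0 relc_14_0 v (by omega) (by omega)

theorem relw_15 : ∀ v, v < 1782 → walkT ctF (D.wlen 15) (D.wordP 15) v = v := by
  intro v hv
  exact relPtsF_spec ctF _ _ 1782 0 relc_15_0 v (by omega) (by omega)

theorem relw_16 : ∀ v, v < 1782 → walkT ctF (D.wlen 16) (D.wordP 16) v = v := by
  intro v hv
  exact relPtsF_spec ctF _ _ 1782 0 relc_16_0 v (by omega) (by omega)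

theorem relw_17 : ∀ v, v < 1782 → walkT ctF (D.wlen 17) (D.wordP 17) v = v := by
  intro v hv
  exact relPtsF_spec ctF _ _ 1782 0 relc_17_0 v (by omega) (by omega)

theorem relw_18 : ∀ v, v < 1782 → walkT ctF (D.wlen 18) (D.wordP 18) v = v := by
  intro v hv
  exact relPtsF_spec ctF _ _ 1782 0 relc_18_0 v (by omega) (by omega)

theorem relw_19 : ∀ v, v < 1782 → walkT ctF (D.wlen 19) (D.wordP 19) v = v := by
  intro v hv
  exact relPtsF_spec ctF _ _ 1782 0 relc_19_0 v (by omega) (by omega)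

theorem relw_20 : ∀ v, v < 1782 → walkT ctF (D.wlen 20) (D.wordP 20) v = v := by
  intro v hv
  exact relPtsF_spec ctF _ _ 1782 0 relc_20_0 v (by omega) (by omega)

theorem relw_21 : ∀ v, v < 1782 → walkT ctF (D.wlen 21) (D.wordP 21) v = v := by
  intro v hv
  exact relPtsF_spec ctF _ _ 1782 0 relc_21_0 v (by omega) (by omega)

theorem relw_22 : ∀ v, v < 1782 → walkT ctF (D.wlen 22) (D.wordP 22) v = v := by
  intro v hv
  exact relPtsF_spec ctF _ _ 1782 0 relc_22_0 v (by omega) (by omega)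

theorem relw_23 : ∀ v, v < 1782 → walkT ctF (D.wlen 23) (D.wordP 23) v = v := by
  intro v hv
  exact relPtsF_spec ctF _ _ 1782 0 relc_23_0 v (by omega) (by omega)

theorem relw_24 : ∀ v, v < 1782 → walkT ctF (D.wlen 24) (D.wordP 24) v = v := by
  intro v hv
  exact relPtsF_spec ctF _ _ 1782 0 relc_24_0 v (by omega) (by omega)

theorem relw_25 : ∀ v, v < 1782 → walkT ctF (D.wlen 25) (D.wordP 25) v = v := by
  intro v hv
  exact relPtsF_spec ctF _ _ 1782 0 relc_25_0 v (by omega) (by omega)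

theorem relw_26 : ∀ v, v < 1782 → walkT ctF (D.wlen 26) (D.wordP 26) v = v := by
  intro v hv
  exact relPtsF_spec ctF _ _ 1782 0 relc_26_0 v (by omega) (by omega)

theorem relw_27 : ∀ v, v < 1782 → walkT ctF (D.wlen 27) (D.wordP 27) v = v := by
  intro v hv
  exact relPtsF_spec ctF _ _ 1782 0 relc_27_0 v (by omega) (by omega)

theorem relw_28 : ∀ v, v < 1782 → walkT ctF (D.wlen 28) (D.wordP 28) v = v := by
  intro v hv
  exact relPtsF_spec ctF _ _ 1782 0 relc_28_0 v (by omega) (by omega)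

theorem relw_29 : ∀ v, v < 1782 → walkT ctF (D.wlen 29) (D.wordP 29) v = v := by
  intro v hv
  exact relPtsF_spec ctF _ _ 1782 0 relc_29_0 v (by omega) (by omega)

theorem relw_30 : ∀ v, v < 1782 → walkT ctF (D.wlen 30) (D.wordP 30) v = v := by
  intro v hv
  exact relPtsF_spec ctF _ _ 1782 0 relc_30_0 v (by omega) (by omega)

theorem relw_31 : ∀ v, v < 1782 → walkT ctF (D.wlen 31) (D.wordP 31) v = v := by
  intro v hv
  exact relPtsF_spec ctF _ _ 1782 0 relc_31_0 v (by omega) (by omega)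

theorem relw_32 : ∀ v, v < 1782 → walkT ctF (D.wlen 32) (D.wordP 32) v = v := by
  intro v hv
  exact relPtsF_spec ctF _ _ 1782 0 relc_32_0 v (by omega) (by omega)

theorem relw_33 : ∀ v, v < 1782 → walkT ctF (D.wlen 33) (D.wordP 33) v = v := by
  intro v hv
  exact relPtsF_spec ctF _ _ 1782 0 relc_33_0 v (by omega) (by omega)

theorem relw_34 : ∀ v, v < 1782 → walkT ctF (D.wlen 34) (D.wordP 34) v = v := by
  intro v hv
  exact relPtsF_spec ctF _ _ 1782 0 relc_34_0 v (by omega) (by omega)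

theorem relw_35 : ∀ v, v < 1782 → walkT ctF (D.wlen 35) (D.wordP 35) v = v := by
  intro v hv
  exact relPtsF_spec ctF _ _ 1782 0 relc_35_0 v (by omega) (by omega)

theorem relw_36 : ∀ v, v < 1782 → walkT ctF (D.wlen 36) (D.wordP 36) v = v := by
  intro v hv
  exact relPtsF_spec ctF _ _ 1782 0 relc_36_0 v (by omega) (by omega)

theorem relw_37 : ∀ v, v < 1782 → walkT ctF (D.wlen 37) (D.wordP 37) v = v := by
  intro v hv
  exact relPtsF_spec ctF _ _ 1782 0 relc_37_0 v (by omega) (by omega)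

theorem relw_38 : ∀ v, v < 1782 → walkT ctF (D.wlen 38) (D.wordP 38) v = v := by
  intro v hv
  exact relPtsF_spec ctF _ _ 1782 0 relc_38_0 v (by omega) (by omega)

theorem relw_39 : ∀ v, v < 1782 → walkT ctF (D.wlen 39) (D.wordP 39) v = v := by
  intro v hv
  exact relPtsF_spec ctF _ _ 1782 0 relc_39_0 v (by omega) (by omega)

theorem relw_40 : ∀ v, v < 1782 → walkT ctF (D.wlen 40) (D.wordP 40) v = v := by
  intro v hv
  exact relPtsF_spec ctF _ _ 1782 0 relc_40_0 v (by omega) (by omega)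

theorem relw_41 : ∀ v, v < 1782 → walkT ctF (D.wlen 41) (D.wordP 41) v = v := by
  intro v hv
  exact relPtsF_spec ctF _ _ 1782 0 relc_41_0 v (by omega) (by omega)

theorem relw_42 : ∀ v, v < 1782 → walkT ctF (D.wlen 42) (D.wordP 42) v = v := by
  intro v hv
  exact relPtsF_spec ctF _ _ 1782 0 relc_42_0 v (by omega) (by omega)

theorem relw_43 : ∀ v, v < 1782 → walkT ctF (D.wlen 43) (D.wordP 43) v = v := by
  intro v hv
  exact relPtsF_spec ctF _ _ 1782 0 relc_43_0 v (by omega) (by omega)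

theorem relw_44 : ∀ v, v < 1782 → walkT ctF (D.wlen 44) (D.wordP 44) v = v := by
  intro v hv
  exact relPtsF_spec ctF _ _ 1782 0 relc_44_0 v (by omega) (by omega)

theorem relw_45 : ∀ v, v < 1782 → walkT ctF (D.wlen 45) (D.wordP 45) v = v := by
  intro v hv
  exact relPtsF_spec ctF _ _ 1782 0 relc_45_0 v (by omega) (by omega)

theorem relw_46 : ∀ v, v < 1782 → walkT ctF (D.wlen 46) (D.wordP 46) v = v := by
  intro v hv
  exact relPtsF_spec ctF _ _ 1782 0 relc_46_0 v (by omega) (by omega)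

theorem relw_47 : ∀ v, v < 1782 → walkT ctF (D.wlen 47) (D.wordP 47) v = v := by
  intro v hv
  exact relPtsF_spec ctF _ _ 1782 0 relc_47_0 v (by omega) (by omega)

theorem relw_48 : ∀ v, v < 1782 → walkT ctF (D.wlen 48) (D.wordP 48) v = v := by
  intro v hv
  exact relPtsF_spec ctF _ _ 1782 0 relc_48_0 v (by omega) (by omega)

theorem relw_49 : ∀ v, v < 1782 → walkT ctF (D.wlen 49) (D.wordP 49) v = v := by
  intro v hv
  exact relPtsF_spec ctF _ _ 1782 0 relc_49_0 v (by omega) (by omega)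

theorem relw_50 : ∀ v, v < 1782 → walkT ctF (D.wlen 50) (D.wordP 50) v = v := by
  intro v hv
  exact relPtsF_spec ctF _ _ 1782 0 relc_50_0 v (by omega) (by omega)

theorem relw_51 : ∀ v, v < 1782 → walkT ctF (D.wlen 51) (D.wordP 51) v = v := by
  intro v hv
  exact relPtsF_spec ctF _ _ 1782 0 relc_51_0 v (by omega) (by omega)

theorem relw_52 : ∀ v, v < 1782 → walkT ctF (D.wlen 52) (D.wordP 52) v = v := by
  intro v hv
  exact relPtsF_spec ctF _ _ 1782 0 relc_52_0 v (by omega) (by omega)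

theorem relw_53 : ∀ v, v < 1782 → walkT ctF (D.wlen 53) (D.wordP 53) v = v := by
  intro v hv
  exact relPtsF_spec ctF _ _ 1782 0 relc_53_0 v (by omega) (by omega)

theorem hE : ∀ v, v < E.M → ∀ x, x < E.D.k → edgeOK E x v = true := by
  intro v hv x hx
  have hv' : v < 8069 := hv
  have hx' : x < 7 := hx
  interval_cases x
  · exact edgesx_0 v hv'
  · exact edgesx_1 v hv'
  · exact edgesx_2 v hv'
  · exact edgesx_3 v hv'
  · exact edgesx_4 v hv'
  · exact edgesx_5 v hv'
  · exact edgesx_6 v hv'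

theorem hA : ∀ v, v < E.M → aliasOK E v = true := fun v hv => hA0 v hv

theorem hrows : ∀ v, v < E.M → tb RS v = true → rowOK2 E RS v E.D.k = true := fun v hv => hrows0 v hv

theorem hT : ∀ x, x < E.D.k → ∀ v, v < 1782 → ctF x v < 1782 ∧ ctF x (ctF x v) = v := by
  intro x hx v hv
  have hx' : x < 7 := hx
  interval_cases x
  · exact invRowF_spec ctF 1782 0 1782 0 inv_0 v (Nat.zero_le _) (by omega)
  · exact invRowF_spec ctF 1782 1 1782 0 inv_1 v (Nat.zero_le _) (by omega)
  · exact invRowF_spec ctF 1782 2 1782 0 inv_2 v (Nat.zero_le _) (by omega)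
  · exact invRowF_spec ctF 1782 3 1782 0 inv_3 v (Nat.zero_le _) (by omega)
  · exact invRowF_spec ctF 1782 4 1782 0 inv_4 v (Nat.zero_le _) (by omega)
  · exact invRowF_spec ctF 1782 5 1782 0 inv_5 v (Nat.zero_le _) (by omega)
  · exact invRowF_spec ctF 1782 6 1782 0 inv_6 v (Nat.zero_le _) (by omega)

theorem hltr : ∀ j, j < E.D.nw → lettersOK E.D.k (E.D.wlen j) (E.D.wordP j) = true :=
  wordsOK_spec D D.nw words_ok

theorem hrelT : ∀ wi, wi < E.D.nrel → ∀ v, v < 1782 →
    walkT ctF (E.D.wlen wi) (E.D.wordP wi) v = v := by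
  intro wi hwi
  have hwi' : wi < 54 := hwi
  interval_cases wi
  · exact relw_0
  · exact relw_1
  · exact relw_2
  · exact relw_3
  · exact relw_4
  · exact relw_5
  · exact relw_6
  · exact relw_7
  · exact relw_8
  · exact relw_9
  · exact relw_10
  · exact relw_11
  · exact relw_12
  · exact relw_13
  · exact relw_14
  · exact relw_15
  · exact relw_16
  · exact relw_17
  · exact relw_18
  · exact relw_19
  · exact relw_20
  · exact relw_21
  · exact relw_22
  · exact relw_23
  · exact relw_24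
  · exact relw_25
  · exact relw_26
  · exact relw_27
  · exact relw_28
  · exact relw_29
  · exact relw_30
  · exact relw_31
  · exact relw_32
  · exact relw_33
  · exact relw_34
  · exact relw_35
  · exact relw_36
  · exact relw_37
  · exact relw_38
  · exact relw_39
  · exact relw_40
  · exact relw_41
  · exact relw_42
  · exact relw_43
  · exact relw_44
  · exact relw_45
  · exact relw_46
  · exact relw_47
  · exact relw_48
  · exact relw_49
  · exact relw_50
  · exact relw_51
  · exact relw_52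
  · exact relw_53

theorem hsubT : ∀ wi, wi < E.D.nw → E.D.nrel ≤ wi →
    walkT ctF (E.D.wlen wi) (E.D.wordP wi) 0 = 0 :=
  subAll_spec ctF D D.nw sub_ok

theorem hconn : ∀ v, v < 1782 → v ≠ 0 → ∃ x, x < E.D.k ∧ ctF x v < v := by
  intro v hv
  exact connF_spec ctF 7 1782 0 conn_ok v (Nat.zero_le _) (by omega)

end Cfsg.Agent.Helper5.SuzcTC
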