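/-
Helper lemmas (helper5): regularity of a subgroup for a normalizer functor (control of Sylow
intersections by the induced family of normalizers) in ambient chain form, and the factorization
theorem G = G₁G₂.
-/
import Mathlib
import Cfsg.Prelude.Def_SylowChains

set_option autoImplicit false
open Cfsg

namespace Cfsg.Agent.Helper5.SCR

variable {G : Type*} [Group G]

/-- left conjugate `g K g⁻¹` of a subgroup -/
def cj (g : G) (K : Subgroup G) : Subgroup G := K.map (MulAut.conj g).toMonoidHom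

theorem mem_cj {g x : G} {K : Subgroup G} : x ∈ cj g K ↔ g⁻¹ * x * g ∈ K := by
  unfold cj
  constructor
  · rintro ⟨y, hy, rfl⟩
    simpa [MulAut.conj_apply, mul_assoc] using hy
  · intro h
    exact ⟨g⁻¹ * x * g, h, by simp [MulAut.conj_apply, mul_assoc]⟩

theorem cj_mul (g h : G) (K : Subgroup G) : cj (g * h) K = cj g (cj h K) := by
  ext x
  simp only [mem_cj, mul_inv_rev, mul_assoc]

theorem cj_one (K : Subgroup G) : cj 1 K = K := by
  ext x
  simp [mem_cj]

theorem cj_mono {g : G} {K L : Subgroup G} (h : K ≤ L) : cj g K ≤ cj g L :=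
  Subgroup.map_mono h

theorem cj_le_of_mem {g : G} {K M : Subgroup G} (hg : g ∈ M) (h : K ≤ M) : cj g K ≤ M := by
  intro x hx
  rw [mem_cj] at hx
  have := M.mul_mem (M.mul_mem hg (h hx)) (M.inv_mem hg)
  simpa [mul_assoc] using this

theorem card_cj (g : G) (K : Subgroup G) : Nat.card (cj g K) = Nat.card K :=
  Subgroup.card_map_of_injective (MulAut.conj g).injective

theorem cj_inf (g : G) (K L : Subgroup G) : cj g (K ⊓ L) = cj g K ⊓ cj g L :=
  Subgroup.map_inf K L _ (MulAut.conj g).injective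

theorem cj_inv_cj (g : G) (K : Subgroup G) : cj g⁻¹ (cj g K) = K := by
  rw [← cj_mul, inv_mul_cancel, cj_one]

theorem cj_cj_inv (g : G) (K : Subgroup G) : cj g (cj g⁻¹ K) = K := by
  rw [← cj_mul, mul_inv_cancel, cj_one]

theorem cj_bot (g : G) : cj g (⊥ : Subgroup G) = ⊥ := Subgroup.map_bot _

theorem cj_ne_bot {g : G} {K : Subgroup G} (h : K ≠ ⊥) : cj g K ≠ ⊥ := by
  intro h'
  apply h
  have := congrArg (cj g⁻¹) h'
  rw [cj_inv_cj] at this
  rw [this]
  ext x
  simp [mem_cj]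

theorem cj_normalizer (g : G) (K : Subgroup G) :
    cj g (Subgroup.normalizer (K : Set G)) = Subgroup.normalizer ((cj g K : Subgroup G) : Set G) := by
  ext x
  rw [mem_cj, Subgroup.mem_normalizer_iff, Subgroup.mem_normalizer_iff]
  constructor
  · intro h y
    rw [mem_cj, mem_cj, h (g⁻¹ * y * g)]
    simp [mul_assoc]
  · intro h y
    have := h (g * y * g⁻¹)
    rw [mem_cj, mem_cj] at this
    simp only [mul_assoc, inv_mul_cancel_left, inv_mul_cancel, mul_one] at this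
    rw [this]
    simp [mul_assoc]

theorem card_subgroupOf_of_le {H K : Subgroup G} (h : H ≤ K) :
    Nat.card (H.subgroupOf K) = Nat.card H :=
  Nat.card_congr (Subgroup.subgroupOfEquivOfLe h).toEquiv

/-- `p`-part of the order of `M`. -/
noncomputable def pk (p : ℕ) (M : Subgroup G) : ℕ := p ^ (Nat.card M).factorization p

variable [Finite G] (p : ℕ) [Fact p.Prime]

/-- A subgroup of `M` of Sylow order as a Sylow subgroup of `M`. -/
noncomputable def toSyl (M A : Subgroup G) (hAM : A ≤ M) (hA : Nat.card A = pk p M) : Sylow p ↥M :=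
  Sylow.ofCard (A.subgroupOf M) (by rw [card_subgroupOf_of_le hAM, hA]; rfl)

theorem toSyl_map (M A : Subgroup G) (hAM : A ≤ M) (hA : Nat.card A = pk p M) :
    ((toSyl p M A hAM hA : Sylow p ↥M) : Subgroup ↥M).map M.subtype = A := by
  unfold toSyl
  rw [Sylow.coe_ofCard, Subgroup.map_subgroupOf_eq_of_le hAM]

theorem card_lift (M : Subgroup G) (Q : Sylow p ↥M) :
    Nat.card ((Q : Subgroup ↥M).map M.subtype) = pk p M := by
  rw [Subgroup.card_subtype, Q.card_eq_multiplicity]; rfl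

omit [Finite G] [Fact p.Prime] in
theorem lift_injective (M : Subgroup G) (Q R : Sylow p ↥M)
    (h : (Q : Subgroup ↥M).map M.subtype = (R : Subgroup ↥M).map M.subtype) : Q = R :=
  Sylow.ext (Subgroup.map_injective M.subtype_injective h)

omit [Finite G] [Fact p.Prime] in
theorem mem_lift {M : Subgroup G} {Q : Sylow p ↥M} {y : ↥M} :
    (y : G) ∈ (Q : Subgroup ↥M).map M.subtype ↔ y ∈ (Q : Subgroup ↥M) := by
  constructor
  · rintro ⟨z, hz, hzy⟩
    have : z = y := Subtype.ext hzy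
    exact this ▸ hz
  · intro h
    exact ⟨y, h, rfl⟩

/-- Sylow conjugacy for subgroups of Sylow order inside `M`. -/
theorem exists_cj_eq (M A B : Subgroup G) (hAM : A ≤ M) (hBM : B ≤ M)
    (hA : Nat.card A = pk p M) (hB : Nat.card B = pk p M) : ∃ g ∈ M, cj g A = B := by
  obtain ⟨g, hg⟩ := MulAction.exists_smul_eq ↥M (toSyl p M A hAM hA) (toSyl p M B hBM hB)
  refine ⟨g.1, g.2, ?_⟩
  symm
  apply Subgroup.eq_of_le_of_card_ge
  · intro x hx
    have hx' : (⟨x, hBM hx⟩ : ↥M) ∈ toSyl p M B hBM hB := by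
      change (⟨x, hBM hx⟩ : ↥M) ∈ ((toSyl p M B hBM hB : Sylow p ↥M) : Subgroup ↥M)
      unfold toSyl
      rw [Sylow.coe_ofCard]
      exact hx
    rw [← hg] at hx'
    change (⟨x, hBM hx⟩ : ↥M) ∈ ((g • toSyl p M A hAM hA : Sylow p ↥M) : Subgroup ↥M) at hx'
    rw [Sylow.coe_subgroup_smul, Subgroup.mem_pointwise_smul_iff_inv_smul_mem, ← map_inv,
      MulAut.smul_def, MulAut.conj_apply, inv_inv] at hx'
    unfold toSyl at hx'
    rw [Sylow.coe_ofCard, Subgroup.mem_subgroupOf] at hx'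
    rw [mem_cj]
    simpa using hx'
  · rw [card_cj, hA, hB]

theorem exists_cj_le (M A D : Subgroup G) (hAM : A ≤ M) (hDM : D ≤ M)
    (hA : Nat.card A = pk p M) (hD : IsPGroup p D) : ∃ g ∈ M, D ≤ cj g A := by
  have hD' : IsPGroup p (D.subgroupOf M) := hD.comap_subtype
  obtain ⟨Q, hQ⟩ := hD'.exists_le_sylow
  obtain ⟨g, hg, hgA⟩ := exists_cj_eq p M A ((Q : Subgroup ↥M).map M.subtype) hAM
    (Subgroup.map_subtype_le _) hA (card_lift p M Q)
  refine ⟨g, hg, ?_⟩
  rw [hgA]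
  intro x hx
  exact ⟨⟨x, hDM hx⟩, hQ hx, rfl⟩


variable (f : Subgroup G → Set (Subgroup G))

/-- one link of a chain in `M` (ambient form) -/
def Step (M D A B : Subgroup G) : Prop :=
  A ≤ M ∧ B ≤ M ∧ Nat.card A = pk p M ∧ Nat.card B = pk p M ∧ D ≤ A ∧ D ≤ B ∧
  ∃ P : Subgroup G, P ≤ M ∧ Nat.card P = pk p M ∧ ∃ F ∈ f P,
    A ≤ Subgroup.normalizer (F : Set G) ∧ B ≤ Subgroup.normalizer (F : Set G)

omit [Finite G] [Fact p.Prime] in
theorem Step.mono {M D D' A B : Subgroup G} (h : Step p f M D' A B) (hD : D ≤ D') :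
    Step p f M D A B := by
  obtain ⟨h1, h2, h3, h4, h5, h6, h7⟩ := h
  exact ⟨h1, h2, h3, h4, hD.trans h5, hD.trans h6, h7⟩

omit [Finite G] [Fact p.Prime] in
theorem Step.of_le {M M' D A B : Subgroup G} (h : Step p f M D A B) (hM : M ≤ M')
    (hpk : pk p M = pk p M') : Step p f M' D A B := by
  obtain ⟨h1, h2, h3, h4, h5, h6, P, hP, hPc, F, hF, hA, hB⟩ := h
  exact ⟨h1.trans hM, h2.trans hM, hpk ▸ h3, hpk ▸ h4, h5, h6, P, hP.trans hM, hpk ▸ hPc, F, hF, hA, hB⟩

omit [Finite G] [Fact p.Prime] in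
theorem Step.conj (hf : IsNormalizerFunctor p f) {D A B : Subgroup G} (h : Step p f ⊤ D A B) (g : G) :
    Step p f ⊤ (cj g D) (cj g A) (cj g B) := by
  obtain ⟨h1, h2, h3, h4, h5, h6, P, hP, hPc, F, hF, hA, hB⟩ := h
  refine ⟨le_top, le_top, by rw [card_cj, h3], by rw [card_cj, h4], cj_mono h5, cj_mono h6,
    cj g P, le_top, by rw [card_cj, hPc], cj g F, ?_, ?_, ?_⟩
  · have hPp : IsPGroup p ↥P := IsPGroup.of_card hPc
    have := (hf P hPp).2 g
    change f (cj g P) = _ at this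
    rw [this]
    exact ⟨F, hF, rfl⟩
  · rw [← cj_normalizer]; exact cj_mono hA
  · rw [← cj_normalizer]; exact cj_mono hB

omit [Finite G] [Fact p.Prime] in
theorem chain_mono {M D D' A B : Subgroup G} (h : Relation.ReflTransGen (Step p f M D') A B)
    (hD : D ≤ D') : Relation.ReflTransGen (Step p f M D) A B :=
  Relation.ReflTransGen.mono (fun _ _ (h : Step p f M D' _ _) => h.mono p f hD) _ _ h

omit [Finite G] [Fact p.Prime] in
theorem chain_of_le {M M' D A B : Subgroup G} (h : Relation.ReflTransGen (Step p f M D) A B)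
    (hM : M ≤ M') (hpk : pk p M = pk p M') : Relation.ReflTransGen (Step p f M' D) A B :=
  Relation.ReflTransGen.mono (fun _ _ (h : Step p f M D _ _) => h.of_le p f hM hpk) _ _ h

omit [Finite G] [Fact p.Prime] in
theorem chain_conj (hf : IsNormalizerFunctor p f) {D A B : Subgroup G}
    (h : Relation.ReflTransGen (Step p f ⊤ D) A B) (g : G) :
    Relation.ReflTransGen (Step p f ⊤ (cj g D)) (cj g A) (cj g B) :=
  Relation.ReflTransGen.lift (cj g) (fun _ _ (h : Step p f ⊤ D _ _) => h.conj p f hf g) _ _ h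

/-- Generic: a `ReflTransGen` chain gives `Fin`-indexed data. -/
theorem exists_fin_chain {α β : Type*} (R : α → α → β → Prop) {a b : α}
    (h : Relation.ReflTransGen (fun x y => ∃ e, R x y e) a b) :
    ∃ (n : ℕ) (c : Fin (n + 1) → α) (e : Fin n → β), c 0 = a ∧ c (Fin.last n) = b ∧
      ∀ i : Fin n, R (c i.castSucc) (c i.succ) (e i) := by
  induction h with
  | refl => exact ⟨0, fun _ => a, Fin.elim0, rfl, rfl, fun i => i.elim0⟩
  | @tail b c' _ hbc ih =>
    obtain ⟨n, c, e, h0, hl, hi⟩ := ih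
    obtain ⟨e0, he0⟩ := hbc
    refine ⟨n + 1, @Fin.snoc (n + 1) (fun _ => α) c c', @Fin.snoc n (fun _ => β) e e0, ?_, ?_, ?_⟩
    · rw [← Fin.castSucc_zero, Fin.snoc_castSucc]; exact h0
    · rw [Fin.snoc_last]
    · intro i
      refine Fin.lastCases ?_ (fun j => ?_) i
      · rw [Fin.snoc_castSucc, Fin.succ_last, Fin.snoc_last, Fin.snoc_last, hl]
        exact he0
      · rw [Fin.snoc_castSucc, Fin.snoc_castSucc, ← Fin.castSucc_succ, Fin.snoc_castSucc]
        exact hi j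


/-- the induced family of `M` as subgroups of `M` -/
def famM (M : Subgroup G) : Set (Subgroup ↥M) :=
  (fun X : Subgroup G => X.subgroupOf M) '' functorFamily p f M

theorem le_of_mem_sylowMembers (hf : IsNormalizerFunctor p f) (M : Subgroup G) (c : Sylow p ↥M)
    (X : Subgroup ↥M) (hX : X ∈ sylowMembers p (famM p f M) (c : Subgroup ↥M)) :
    ∃ P : Sylow p ↥M, ∃ F ∈ f ((P : Subgroup ↥M).map M.subtype),
      X = (M ⊓ Subgroup.normalizer (F : Set G)).subgroupOf M ∧ (c : Subgroup ↥M) ≤ X := by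
  obtain ⟨⟨Y, ⟨P, F, hF, rfl⟩, rfl⟩, Q, hQ⟩ := hX
  refine ⟨P, F, hF, rfl, ?_⟩
  set X : Subgroup ↥M := (M ⊓ Subgroup.normalizer (F : Set G)).subgroupOf M with hXdef
  have hPp : IsPGroup p ↥((P : Subgroup ↥M).map M.subtype) := P.isPGroup'.map _
  have hPX : (P : Subgroup ↥M) ≤ X := by
    intro y hy
    rw [hXdef, Subgroup.mem_subgroupOf]
    refine ⟨y.2, ?_⟩
    have h1 := ((hf _ hPp).1 F hF).2
    apply h1
    apply Subgroup.le_normalizer
    exact ⟨y, hy, rfl⟩
  have h1 : (Nat.card X).factorization p ≤ (Nat.card M).factorization p :=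
    (Nat.factorization_le_iff_dvd (Nat.card_pos.ne') (Nat.card_pos.ne')).mpr
      (Subgroup.card_subgroup_dvd_card X) p
  have h2 : (Nat.card M).factorization p ≤ (Nat.card X).factorization p := by
    have : p ^ (Nat.card M).factorization p ∣ Nat.card X := by
      rw [← P.card_eq_multiplicity]; exact Subgroup.card_dvd_of_le hPX
    exact (Nat.Prime.pow_dvd_iff_le_factorization Fact.out Nat.card_pos.ne').mp this
  have hcard : Nat.card ((c : Subgroup ↥M) ⊓ X : Subgroup ↥M) = Nat.card (c : Subgroup ↥M) := by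
    rw [← hQ, Subgroup.card_subtype, Q.card_eq_multiplicity, c.card_eq_multiplicity, le_antisymm h1 h2]
  have : (c : Subgroup ↥M) ⊓ X = c :=
    Subgroup.eq_of_le_of_card_ge inf_le_left hcard.ge
  rw [← this]
  exact inf_le_right

theorem chain_of_regular (hf : IsNormalizerFunctor p f) (M : Subgroup G)
    (hr : IsFunctorRegular p f M) (A B : Subgroup G) (hAM : A ≤ M) (hBM : B ≤ M)
    (hA : Nat.card A = pk p M) (hB : Nat.card B = pk p M) (hne : A ≠ B) (hD : A ⊓ B ≠ ⊥) :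
    Relation.ReflTransGen (Step p f M (A ⊓ B)) A B := by
  have hA' := toSyl_map p M A hAM hA
  have hB' := toSyl_map p M B hBM hB
  have hne' : toSyl p M A hAM hA ≠ toSyl p M B hBM hB := by
    intro h
    apply hne
    rw [← hA', ← hB', h]
  have hD' : ((toSyl p M A hAM hA : Sylow p ↥M) : Subgroup ↥M) ⊓ (toSyl p M B hBM hB : Sylow p ↥M) ≠ ⊥ := by
    intro h
    apply hD
    rw [Subgroup.eq_bot_iff_forall] at h ⊢
    intro x hx
    have hx := Subgroup.mem_inf.mp hx
    have hxA : (⟨x, hAM hx.1⟩ : ↥M) ∈ ((toSyl p M A hAM hA : Sylow p ↥M) : Subgroup ↥M) := by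
      rw [← mem_lift, hA']; exact hx.1
    have hxB : (⟨x, hAM hx.1⟩ : ↥M) ∈ ((toSyl p M B hBM hB : Sylow p ↥M) : Subgroup ↥M) := by
      rw [← mem_lift, hB']; exact hx.2
    exact congrArg Subtype.val (h _ ⟨hxA, hxB⟩)
  obtain ⟨n, c, X, x, h0, hl, hi⟩ := hr _ _ hne' hD'
  have key : ∀ i : Fin (n + 1), Relation.ReflTransGen (Step p f M (A ⊓ B)) A
      ((c i : Subgroup ↥M).map M.subtype) ∧ A ⊓ B ≤ (c i : Subgroup ↥M).map M.subtype := by
    intro i
    induction i using Fin.induction with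
    | zero =>
      rw [h0, hA']
      exact ⟨Relation.ReflTransGen.refl, inf_le_left⟩
    | succ i ih =>
      obtain ⟨ih1, ih2⟩ := ih
      obtain ⟨hX1, hX2, -, -, hDi⟩ := hi i
      obtain ⟨P, F, hF, hXF, hc1⟩ := le_of_mem_sylowMembers p f hf M _ _ hX1
      obtain ⟨P', F', hF', hXF', hc2⟩ := le_of_mem_sylowMembers p f hf M _ _ hX2
      have hDle : A ⊓ B ≤ (c i.succ : Subgroup ↥M).map M.subtype := by
        intro y hy
        have hy := Subgroup.mem_inf.mp hy
        have hyA : (⟨y, hAM hy.1⟩ : ↥M) ∈ ((toSyl p M A hAM hA : Sylow p ↥M) : Subgroup ↥M) := by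
          rw [← mem_lift, hA']; exact hy.1
        have hyB : (⟨y, hAM hy.1⟩ : ↥M) ∈ ((toSyl p M B hBM hB : Sylow p ↥M) : Subgroup ↥M) := by
          rw [← mem_lift, hB']; exact hy.2
        exact ⟨_, (hDi ⟨hyA, hyB⟩).1, rfl⟩
      refine ⟨ih1.tail ?_, hDle⟩
      refine ⟨Subgroup.map_subtype_le _, Subgroup.map_subtype_le _, card_lift p M _, card_lift p M _,
        ih2, hDle, (P : Subgroup ↥M).map M.subtype, Subgroup.map_subtype_le _, card_lift p M _, F, hF,
        ?_, ?_⟩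
      · rintro _ ⟨y, hy, rfl⟩
        have := hc1 hy
        rw [hXF, Subgroup.mem_subgroupOf] at this
        exact this.2
      · rintro _ ⟨y, hy, rfl⟩
        have := hc2 hy
        rw [hXF, Subgroup.mem_subgroupOf] at this
        exact this.2
  have := (key (Fin.last n)).1
  rwa [hl, hB'] at this


/-- one link, on the Sylow subgroups of `M`, in the form of the frozen definition -/
def StepS (M : Subgroup G) (D : Subgroup ↥M) (Q R : Sylow p ↥M) (e : Subgroup ↥M × ↥M) : Prop :=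
  e.1 ∈ sylowMembers p (famM p f M) (Q : Subgroup ↥M) ∧
  e.1 ∈ sylowMembers p (famM p f M) (R : Subgroup ↥M) ∧
  e.2 ∈ e.1 ∧ subgroupConjRight e.2 (R : Subgroup ↥M) = (Q : Subgroup ↥M) ∧
  D ≤ (R : Subgroup ↥M) ⊓ e.1

theorem stepS_of_step (M : Subgroup G) (D : Subgroup ↥M) (Q R : Sylow p ↥M) (D' : Subgroup G)
    (hDD : ∀ y ∈ D, (y : G) ∈ D')
    (h : Step p f M D' ((Q : Subgroup ↥M).map M.subtype) ((R : Subgroup ↥M).map M.subtype)) :
    ∃ e, StepS p f M D Q R e := by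
  obtain ⟨-, -, -, -, -, h6, P, hPM, hPc, F, hF, hA, hB⟩ := h
  set X : Subgroup ↥M := (M ⊓ Subgroup.normalizer (F : Set G)).subgroupOf M with hXdef
  have hXfam : X ∈ famM p f M := by
    refine ⟨M ⊓ Subgroup.normalizer (F : Set G), ⟨toSyl p M P hPM hPc, F, ?_, rfl⟩, rfl⟩
    rw [toSyl_map]; exact hF
  have hQX : (Q : Subgroup ↥M) ≤ X := by
    intro y hy
    rw [hXdef, Subgroup.mem_subgroupOf]
    exact ⟨y.2, hA ⟨y, hy, rfl⟩⟩
  have hRX : (R : Subgroup ↥M) ≤ X := by
    intro y hy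
    rw [hXdef, Subgroup.mem_subgroupOf]
    exact ⟨y.2, hB ⟨y, hy, rfl⟩⟩
  have hmem : ∀ (T : Sylow p ↥M), (T : Subgroup ↥M) ≤ X → X ∈ sylowMembers p (famM p f M) (T : Subgroup ↥M) := by
    intro T hT
    refine ⟨hXfam, T.subtype hT, ?_⟩
    rw [Sylow.coe_subtype, Subgroup.subgroupOf_map_subtype]
  obtain ⟨g, hg⟩ := MulAction.exists_smul_eq ↥X (R.subtype hRX) (Q.subtype hQX)
  refine ⟨(X, ((g⁻¹ : ↥X) : ↥M)), hmem Q hQX, hmem R hRX, (g⁻¹).2, ?_, ?_⟩
  · symm
    apply Subgroup.eq_of_le_of_card_ge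
    · intro y hy
      have hy' : (⟨y, hQX hy⟩ : ↥X) ∈ ((Q.subtype hQX : Sylow p ↥X) : Subgroup ↥X) := by
        rw [Sylow.coe_subtype, Subgroup.mem_subgroupOf]; exact hy
      rw [← hg, Sylow.coe_subgroup_smul, Subgroup.mem_pointwise_smul_iff_inv_smul_mem, ← map_inv,
        MulAut.smul_def, MulAut.conj_apply, inv_inv, Sylow.coe_subtype, Subgroup.mem_subgroupOf] at hy'
      unfold subgroupConjRight
      refine ⟨_, hy', ?_⟩
      simp [MulAut.conj_apply, mul_assoc]
    · unfold subgroupConjRight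
      rw [Subgroup.card_map_of_injective (MulAut.conj _).injective, Q.card_eq_multiplicity,
        R.card_eq_multiplicity]
  · intro y hy
    have : (y : G) ∈ (R : Subgroup ↥M).map M.subtype := h6 (hDD y hy)
    rw [mem_lift] at this
    exact ⟨this, hRX this⟩

theorem regular_of_chain (M : Subgroup G)
    (h : ∀ A B : Subgroup G, A ≤ M → B ≤ M → Nat.card A = pk p M → Nat.card B = pk p M → A ≠ B →
      A ⊓ B ≠ ⊥ → Relation.ReflTransGen (Step p f M (A ⊓ B)) A B) :
    IsFunctorRegular p f M := by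
  intro S T hne hD
  have hne' : (S : Subgroup ↥M).map M.subtype ≠ (T : Subgroup ↥M).map M.subtype :=
    fun h => hne (lift_injective p M S T h)
  have hDD : ∀ y ∈ (S : Subgroup ↥M) ⊓ T, (y : G) ∈
      (S : Subgroup ↥M).map M.subtype ⊓ (T : Subgroup ↥M).map M.subtype := by
    intro y hy
    have hy := Subgroup.mem_inf.mp hy
    exact Subgroup.mem_inf.mpr ⟨⟨y, hy.1, rfl⟩, ⟨y, hy.2, rfl⟩⟩
  have hD' : (S : Subgroup ↥M).map M.subtype ⊓ (T : Subgroup ↥M).map M.subtype ≠ ⊥ := by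
    intro h0
    apply hD
    rw [Subgroup.eq_bot_iff_forall] at h0 ⊢
    intro y hy
    exact Subtype.ext (h0 _ (hDD y hy))
  have hch := h _ _ (Subgroup.map_subtype_le _) (Subgroup.map_subtype_le _) (card_lift p M S)
    (card_lift p M T) hne' hD'
  have key : ∀ K : Subgroup G, Relation.ReflTransGen (Step p f M
      ((S : Subgroup ↥M).map M.subtype ⊓ (T : Subgroup ↥M).map M.subtype))
      ((S : Subgroup ↥M).map M.subtype) K →
      ∃ R : Sylow p ↥M, (R : Subgroup ↥M).map M.subtype = K ∧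
        Relation.ReflTransGen (fun Q R => ∃ e, StepS p f M ((S : Subgroup ↥M) ⊓ T) Q R e) S R := by
    intro K hK
    induction hK with
    | refl => exact ⟨S, rfl, Relation.ReflTransGen.refl⟩
    | @tail K' K _ hst ih =>
      obtain ⟨R', hR', hch'⟩ := ih
      have hst' := hst
      obtain ⟨-, hKM, -, hKc, -⟩ := hst'
      refine ⟨toSyl p M K hKM hKc, toSyl_map p M K hKM hKc, hch'.tail ?_⟩
      apply stepS_of_step p f M _ _ _ _ hDD
      rw [hR', toSyl_map]
      exact hst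
  obtain ⟨R, hR, hch'⟩ := key _ hch
  have hRT : R = T := lift_injective p M R T hR
  rw [hRT] at hch'
  obtain ⟨n, c, e, h0, hl, hi⟩ := exists_fin_chain _ hch'
  exact ⟨n, c, fun i => (e i).1, fun i => (e i).2, h0, hl, hi⟩

theorem regular_iff (hf : IsNormalizerFunctor p f) (M : Subgroup G) :
    IsFunctorRegular p f M ↔
    ∀ A B : Subgroup G, A ≤ M → B ≤ M → Nat.card A = pk p M → Nat.card B = pk p M → A ≠ B →
      A ⊓ B ≠ ⊥ → Relation.ReflTransGen (Step p f M (A ⊓ B)) A B :=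
  ⟨fun hr A B hAM hBM hA hB hne hD => chain_of_regular p f hf M hr A B hAM hBM hA hB hne hD,
   regular_of_chain p f M⟩


omit [Finite G] [Fact p.Prime] in
theorem pk_top : pk p (⊤ : Subgroup G) = p ^ (Nat.card G).factorization p := by
  unfold pk; rw [Subgroup.card_top]

/-- a subgroup containing a Sylow subgroup has the same `p`-part -/
theorem pk_eq_of_le (S : Sylow p G) (M : Subgroup G) (h : (S : Subgroup G) ≤ M) :
    pk p M = pk p (⊤ : Subgroup G) := by
  rw [pk_top]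
  unfold pk
  congr 1
  apply le_antisymm
  · exact (Nat.factorization_le_iff_dvd (Nat.card_pos.ne') (Nat.card_pos.ne')).mpr
      (Subgroup.card_subgroup_dvd_card M) p
  · have : p ^ (Nat.card G).factorization p ∣ Nat.card M := by
      rw [← S.card_eq_multiplicity]; exact Subgroup.card_dvd_of_le h
    exact (Nat.Prime.pow_dvd_iff_le_factorization Fact.out Nat.card_pos.ne').mp this

theorem core (hf : IsNormalizerFunctor p f) (S : Sylow p G)
    (G₁ G₂ : Subgroup G) (h₁ : (S : Subgroup G) ≤ G₁) (h₂ : (S : Subgroup G) ≤ G₂)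
    (hprod : ∀ g : G, ∃ g₁ ∈ G₁, ∃ g₂ ∈ G₂, g = g₁ * g₂)
    (hr₁ : IsFunctorRegular p f G₁) (hr₂ : IsFunctorRegular p f G₂) (g : G)
    (hD : (S : Subgroup G) ⊓ cj g S ≠ ⊥) :
    Relation.ReflTransGen (Step p f ⊤ ((S : Subgroup G) ⊓ cj g S)) S (cj g S) := by
  have hSc : Nat.card (S : Subgroup G) = pk p (⊤ : Subgroup G) := by
    rw [pk_top, S.card_eq_multiplicity]
  have hpk1 := pk_eq_of_le p S G₁ h₁
  have hpk2 := pk_eq_of_le p S G₂ h₂
  obtain ⟨k₁, hk₁, k₂, hk₂, hk⟩ := hprod g⁻¹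
  have hg : g = k₂⁻¹ * k₁⁻¹ := by rw [← mul_inv_rev, ← hk, inv_inv]
  set g₂ := k₂⁻¹ with hg₂def
  set g₁ := k₁⁻¹ with hg₁def
  have hg₁ : g₁ ∈ G₁ := G₁.inv_mem hk₁
  have hg₂ : g₂ ∈ G₂ := G₂.inv_mem hk₂
  set D := (S : Subgroup G) ⊓ cj g S with hDdef
  set D₁ := cj g₂⁻¹ D with hD₁def
  have hDp : IsPGroup p D := S.isPGroup'.to_le inf_le_left
  have hD₁p : IsPGroup p D₁ := IsPGroup.of_card (n := (Nat.card D).factorization p) (by
    rw [hD₁def, card_cj]
    obtain ⟨n, hn⟩ := hDp.exists_card_eq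
    rw [hn, Nat.Prime.factorization_pow Fact.out]; simp)
  have hD₁1 : D₁ ≤ cj g₁ S := by
    rw [hD₁def]
    have : D ≤ cj g₂ (cj g₁ S) := by rw [← cj_mul, ← hg]; exact inf_le_right
    have := cj_mono (g := g₂⁻¹) this
    rwa [cj_inv_cj] at this
  have hD₁G₁ : D₁ ≤ G₁ := hD₁1.trans (cj_le_of_mem hg₁ h₁)
  have hD₁G₂ : D₁ ≤ G₂ := cj_le_of_mem (G₂.inv_mem hg₂) (inf_le_left.trans h₂)
  obtain ⟨h, hh, hDh⟩ := exists_cj_le p (G₁ ⊓ G₂) S D₁ (le_inf h₁ h₂) (le_inf hD₁G₁ hD₁G₂)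
    (by rw [hSc]; exact (pk_eq_of_le p S _ (le_inf h₁ h₂)).symm) hD₁p
  have hh := Subgroup.mem_inf.mp hh
  -- first part: from S to S₁ inside G₂
  set S₁ := cj (g₂ * h) S with hS₁def
  have hDS₁ : D ≤ S₁ := by
    rw [hS₁def, cj_mul]
    have := cj_mono (g := g₂) hDh
    rwa [hD₁def, cj_cj_inv] at this
  have part1 : Relation.ReflTransGen (Step p f ⊤ D) S S₁ := by
    by_cases heq : (S : Subgroup G) = S₁
    · rw [← heq]
    · have hS₁G₂ : S₁ ≤ G₂ := cj_le_of_mem (G₂.mul_mem hg₂ hh.2) h₂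
      have hne0 : (S : Subgroup G) ⊓ S₁ ≠ ⊥ := by
        intro h0
        apply hD
        rw [eq_bot_iff, ← h0]
        exact le_inf inf_le_left hDS₁
      have := chain_of_regular p f hf G₂ hr₂ S S₁ h₂ hS₁G₂ (by rw [hSc, hpk2])
        (by rw [hS₁def, card_cj, hSc, hpk2]) heq hne0
      exact chain_mono p f (chain_of_le p f this le_top hpk2) (le_inf inf_le_left hDS₁)
  -- second part: from h S h⁻¹ to g₁ S g₁⁻¹ inside G₁, then conjugate by g₂
  have part2 : Relation.ReflTransGen (Step p f ⊤ D) S₁ (cj g S) := by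
    by_cases heq : cj h S = cj g₁ S
    · rw [hS₁def, cj_mul, heq, ← cj_mul, ← hg]
    · have hne0 : cj h S ⊓ cj g₁ S ≠ ⊥ := by
        intro h0
        apply hD
        have h1 : D₁ = ⊥ := by
          rw [eq_bot_iff, ← h0]
          exact le_inf hDh hD₁1
        have h2 : D = cj g₂ D₁ := by rw [hD₁def, cj_cj_inv]
        rw [h2, h1, cj_bot]
      have := chain_of_regular p f hf G₁ hr₁ (cj h S) (cj g₁ S) (cj_le_of_mem hh.1 h₁)
        (cj_le_of_mem hg₁ h₁) (by rw [card_cj, hSc, hpk1]) (by rw [card_cj, hSc, hpk1]) heq hne0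
      have := chain_conj p f hf (chain_mono p f (chain_of_le p f this le_top hpk1)
        (le_inf hDh hD₁1)) g₂
      rwa [hD₁def, cj_cj_inv, ← cj_mul, ← cj_mul, ← hg] at this
  exact part1.trans part2

theorem regular_of_factorization (hf : IsNormalizerFunctor p f) (S : Sylow p G)
    (G₁ G₂ : Subgroup G) (h₁ : (S : Subgroup G) ≤ G₁) (h₂ : (S : Subgroup G) ≤ G₂)
    (hprod : ∀ g : G, ∃ g₁ ∈ G₁, ∃ g₂ ∈ G₂, g = g₁ * g₂)
    (hr₁ : IsFunctorRegular p f G₁) (hr₂ : IsFunctorRegular p f G₂) :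
    IsFunctorRegular p f ⊤ := by
  apply regular_of_chain
  intro A B _ _ hA hB hne hD
  have hSc : Nat.card (S : Subgroup G) = pk p (⊤ : Subgroup G) := by
    rw [pk_top, S.card_eq_multiplicity]
  obtain ⟨a, -, ha⟩ := exists_cj_eq p ⊤ S A le_top le_top hSc hA
  obtain ⟨b, -, hb⟩ := exists_cj_eq p ⊤ S B le_top le_top hSc hB
  have hb' : B = cj a (cj (a⁻¹ * b) S) := by rw [← cj_mul, mul_inv_cancel_left, hb]
  have hD' : (S : Subgroup G) ⊓ cj (a⁻¹ * b) S ≠ ⊥ := by
    intro h0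
    apply hD
    rw [← ha, hb', ← cj_inf, h0, cj_bot]
  have := chain_conj p f hf (core p f hf S G₁ G₂ h₁ h₂ hprod hr₁ hr₂ (a⁻¹ * b) hD') a
  rwa [cj_inf, ha, ← hb'] at this

end Cfsg.Agent.Helper5.SCR
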