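/-
Helper lemmas (helper5): the normalizers of the functor members over the Sylow subgroups together with
the singular maximal p-local subgroups control Sylow intersections.
-/
import Mathlib
import Cfsg.Prelude.Def_SylowChains
import Cfsg.Agent.Helper5.SylowChainReg
import Cfsg.Agent.Helper5.SylowSub

set_option autoImplicit false
open Cfsg

namespace Cfsg.Agent.Helper5.SCL
open Cfsg.Agent.Helper5.SCR

variable {G : Type*} [Group G] [Finite G] (p : ℕ) [Fact p.Prime]

omit [Finite G] in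
theorem pk_pos (M : Subgroup G) : 0 < pk p M := by
  unfold pk
  exact pow_pos (Nat.Prime.pos Fact.out) _

theorem card_dvd_pk (M K : Subgroup G) (hKM : K ≤ M) (hK : IsPGroup p K) : Nat.card K ∣ pk p M := by
  obtain ⟨a, ha⟩ := hK.exists_card_eq
  rw [ha]; unfold pk
  apply pow_dvd_pow
  have : p ^ a ∣ Nat.card M := ha ▸ Subgroup.card_dvd_of_le hKM
  exact (Nat.Prime.pow_dvd_iff_le_factorization Fact.out Nat.card_pos.ne').mp this

theorem card_le_pk (M K : Subgroup G) (hKM : K ≤ M) (hK : IsPGroup p K) : Nat.card K ≤ pk p M :=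
  Nat.le_of_dvd (pk_pos p M) (card_dvd_pk p M K hKM hK)

theorem pk_le_of_le {L M : Subgroup G} (h : L ≤ M) : pk p L ≤ pk p M := by
  unfold pk
  apply Nat.pow_le_pow_right (Nat.Prime.pos Fact.out)
  exact (Nat.factorization_le_iff_dvd (Nat.card_pos.ne') (Nat.card_pos.ne')).mpr
      (Subgroup.card_dvd_of_le h) p

theorem exists_syl_ge (M P : Subgroup G) (hPM : P ≤ M) (hP : IsPGroup p P) :
    ∃ R : Subgroup G, R ≤ M ∧ Nat.card R = pk p M ∧ P ≤ R := by
  have hP' : IsPGroup p (P.subgroupOf M) := hP.comap_subtype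
  obtain ⟨Q, hQ⟩ := hP'.exists_le_sylow
  refine ⟨(Q : Subgroup ↥M).map M.subtype, Subgroup.map_subtype_le _, card_lift p M Q, ?_⟩
  intro x hx
  exact ⟨⟨x, hPM hx⟩, hQ hx, rfl⟩

theorem card_lt_of_le_of_ne {P Q : Subgroup G} (h : P ≤ Q) (hne : P ≠ Q) : Nat.card P < Nat.card Q := by
  by_contra hlt
  exact hne (Subgroup.eq_of_le_of_card_ge h (not_lt.mp hlt))

theorem mem_sylowMembers_of (fam : Set (Subgroup G)) (X A R : Subgroup G) (hX : X ∈ fam)
    (hA : IsPGroup p A) (hR : R ≤ A ⊓ X) (hRc : Nat.card R = pk p X) :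
    X ∈ sylowMembers p fam A := by
  have hc : Nat.card (A ⊓ X : Subgroup G) = pk p X := by
    apply le_antisymm (card_le_pk p X _ inf_le_right (hA.to_le inf_le_left))
    rw [← hRc]; exact Subgroup.card_le_of_le hR
  exact ⟨hX, toSyl p X (A ⊓ X) inf_le_right hc, toSyl_map p X _ _ _⟩

omit [Fact p.Prime] in
theorem exists_maximal_plocal (L : Subgroup G) (hL : IsPLocal p L) :
    ∃ M, IsMaximalPLocal p M ∧ L ≤ M := by
  have hfin : {N : Subgroup G | IsPLocal p N ∧ L ≤ N}.Finite := Set.toFinite _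
  obtain ⟨M, hM⟩ := hfin.exists_maximal ⟨L, hL, le_rfl⟩
  refine ⟨M, ⟨hM.prop.1, fun N hN hMN => ?_⟩, hM.prop.2⟩
  exact le_antisymm (hM.le_of_ge ⟨hN, hM.prop.2.trans hMN⟩ hMN) hMN

theorem lt_pk_of_normalizer_le (P L' : Subgroup G) (hP : IsPGroup p P)
    (hPlt : Nat.card P < pk p (⊤ : Subgroup G)) (hN : Subgroup.normalizer (P : Set G) ≤ L') :
    Nat.card P < pk p L' := by
  obtain ⟨Ps, -, hPsc, hPPs⟩ := exists_syl_ge p ⊤ P le_top hP
  have hne : P ≠ Ps := by
    intro h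
    rw [← h] at hPsc
    omega
  obtain ⟨n, hnPs, hnN, hnP⟩ := exists_mem_normalizer_not_mem Ps P (IsPGroup.of_card hPsc) hPPs hne
  have hPQ : P ≤ Ps ⊓ Subgroup.normalizer (P : Set G) := le_inf hPPs Subgroup.le_normalizer
  have hne' : P ≠ Ps ⊓ Subgroup.normalizer (P : Set G) := by
    intro h
    apply hnP
    rw [h]
    exact ⟨hnPs, hnN⟩
  calc Nat.card P < Nat.card (Ps ⊓ Subgroup.normalizer (P : Set G) : Subgroup G) :=
        card_lt_of_le_of_ne hPQ hne'
    _ ≤ pk p L' := card_le_pk p L' _ (inf_le_right.trans hN)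
        ((IsPGroup.of_card hPsc).to_le inf_le_left)

variable (f : Subgroup G → Set (Subgroup G))

/-- one link in `G`, in the form of the frozen definition -/
def GStep (fam : Set (Subgroup G)) (D A B : Subgroup G) : Prop :=
  Nat.card A = pk p (⊤ : Subgroup G) ∧ Nat.card B = pk p (⊤ : Subgroup G) ∧
  ∃ (X : Subgroup G) (x : G), X ∈ sylowMembers p fam A ∧ X ∈ sylowMembers p fam B ∧ x ∈ X ∧
    subgroupConjRight x B = A ∧ D ≤ B ⊓ X

omit [Finite G] [Fact p.Prime] in
theorem GStep.mono {fam : Set (Subgroup G)} {D D' A B : Subgroup G} (h : GStep p fam D' A B)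
    (hD : D ≤ D') : GStep p fam D A B := by
  obtain ⟨h1, h2, X, x, h3, h4, h5, h6, h7⟩ := h
  exact ⟨h1, h2, X, x, h3, h4, h5, h6, hD.trans h7⟩

omit [Finite G] [Fact p.Prime] in
theorem gchain_mono {fam : Set (Subgroup G)} {D D' A B : Subgroup G}
    (h : Relation.ReflTransGen (GStep p fam D') A B) (hD : D ≤ D') :
    Relation.ReflTransGen (GStep p fam D) A B :=
  Relation.ReflTransGen.mono (fun _ _ (h : GStep p fam D' _ _) => h.mono p hD) _ _ h

theorem controls_of_chain (fam : Set (Subgroup G))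
    (h : ∀ A B : Subgroup G, Nat.card A = pk p (⊤ : Subgroup G) → Nat.card B = pk p (⊤ : Subgroup G) →
      A ≠ B → A ⊓ B ≠ ⊥ → Relation.ReflTransGen (GStep p fam (A ⊓ B)) A B) :
    ControlsSylowIntersections p fam := by
  intro S T hne hD
  have hSc : Nat.card (S : Subgroup G) = pk p (⊤ : Subgroup G) := by
    rw [pk_top, S.card_eq_multiplicity]
  have hTc : Nat.card (T : Subgroup G) = pk p (⊤ : Subgroup G) := by
    rw [pk_top, T.card_eq_multiplicity]
  have hch := h S T hSc hTc (fun h => hne (Sylow.ext h)) hD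
  have key : ∀ K : Subgroup G, Relation.ReflTransGen (GStep p fam ((S : Subgroup G) ⊓ T)) S K →
      ∃ R : Sylow p G, (R : Subgroup G) = K ∧
        Relation.ReflTransGen (fun Q R : Sylow p G => ∃ e : Subgroup G × G,
          e.1 ∈ sylowMembers p fam (Q : Subgroup G) ∧ e.1 ∈ sylowMembers p fam (R : Subgroup G) ∧
          e.2 ∈ e.1 ∧ subgroupConjRight e.2 (R : Subgroup G) = (Q : Subgroup G) ∧
          (S : Subgroup G) ⊓ T ≤ (R : Subgroup G) ⊓ e.1) S R := by
    intro K hK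
    induction hK with
    | refl => exact ⟨S, rfl, Relation.ReflTransGen.refl⟩
    | @tail K' K _ hst ih =>
      obtain ⟨R', hR', hch'⟩ := ih
      obtain ⟨-, hKc, X, x, h3, h4, h5, h6, h7⟩ := hst
      refine ⟨Sylow.ofCard K (by rw [hKc, pk_top]), rfl, hch'.tail ⟨(X, x), ?_, ?_, h5, ?_, ?_⟩⟩
      · rw [hR']; exact h3
      · exact h4
      · rw [hR']; exact h6
      · exact h7
  obtain ⟨R, hR, hch'⟩ := key _ hch
  have hRT : R = T := Sylow.ext hR
  rw [hRT] at hch'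
  obtain ⟨n, c, e, h0, hl, hi⟩ := exists_fin_chain _ hch'
  exact ⟨n, c, fun i => (e i).1, fun i => (e i).2, h0, hl, hi⟩


/-- the family of the statement -/
def fam2 : Set (Subgroup G) :=
  functorFamily p f ⊤ ∪ {M | IsMaximalPLocal p M ∧ ¬ IsFunctorRegular p f M}

theorem gstep_of_normalizer (D A B P F : Subgroup G) (hA : Nat.card A = pk p (⊤ : Subgroup G))
    (hB : Nat.card B = pk p (⊤ : Subgroup G)) (hP : Nat.card P = pk p (⊤ : Subgroup G))
    (hF : F ∈ f P) (hAF : A ≤ Subgroup.normalizer (F : Set G))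
    (hBF : B ≤ Subgroup.normalizer (F : Set G)) (hDB : D ≤ B) :
    GStep p (fam2 p f) D A B := by
  set X : Subgroup G := ⊤ ⊓ Subgroup.normalizer (F : Set G) with hXdef
  have hXfam : X ∈ fam2 p f := by
    left
    refine ⟨toSyl p ⊤ P le_top hP, F, ?_, rfl⟩
    rw [toSyl_map]; exact hF
  have hAX : A ≤ X := le_inf le_top hAF
  have hBX : B ≤ X := le_inf le_top hBF
  have hpkX : pk p X = pk p (⊤ : Subgroup G) :=
    pk_eq_of_le p (Sylow.ofCard A (by rw [hA, pk_top])) X hAX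
  obtain ⟨g, hg, hgBA⟩ := exists_cj_eq p X B A hBX hAX (hB.trans hpkX.symm) (hA.trans hpkX.symm)
  refine ⟨hA, hB, X, g⁻¹, ?_, ?_, X.inv_mem hg, ?_, le_inf hDB (hDB.trans hBX)⟩
  · exact mem_sylowMembers_of p _ X A A hXfam (IsPGroup.of_card hA) (le_inf le_rfl hAX)
      (hA.trans hpkX.symm)
  · exact mem_sylowMembers_of p _ X B B hXfam (IsPGroup.of_card hB) (le_inf le_rfl hBX)
      (hB.trans hpkX.symm)
  · unfold subgroupConjRight
    rw [inv_inv]
    exact hgBA

theorem sub_claim (hf : IsNormalizerFunctor p f)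
    (hf1 : ∀ P : Subgroup G, IsPGroup p ↥P → P ≠ ⊥ → ∀ F ∈ f P, F ≠ ⊥)
    (D : Subgroup G) (hD : D ≠ ⊥)
    (IH : ∀ A B : Subgroup G, Nat.card A = pk p (⊤ : Subgroup G) → Nat.card B = pk p (⊤ : Subgroup G) →
      Nat.card D < Nat.card (A ⊓ B : Subgroup G) →
      Relation.ReflTransGen (GStep p (fam2 p f) (A ⊓ B)) A B) :
    ∀ n : ℕ, ∀ L : Subgroup G, IsPLocal p L → pk p (⊤ : Subgroup G) - pk p L = n →
      ∀ P₁ P₂ A B : Subgroup G, P₁ ≤ L → P₂ ≤ L → D ≤ P₁ → D ≤ P₂ →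
        Nat.card D < Nat.card P₁ → Nat.card D < Nat.card P₂ → P₁ ≤ A → P₂ ≤ B →
        Nat.card A = pk p (⊤ : Subgroup G) → Nat.card B = pk p (⊤ : Subgroup G) →
        Relation.ReflTransGen (GStep p (fam2 p f) D) A B := by
  intro n
  induction n using Nat.strong_induction_on with
  | _ n ihn =>
  intro L hL hn P₁ P₂ A B hP₁L hP₂L hDP₁ hDP₂ hcP₁ hcP₂ hP₁A hP₂B hA hB
  -- IH in the convenient form
  have IH' : ∀ (R A' B' : Subgroup G), Nat.card A' = pk p (⊤ : Subgroup G) →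
      Nat.card B' = pk p (⊤ : Subgroup G) → D ≤ R → Nat.card D < Nat.card R → R ≤ A' → R ≤ B' →
      Relation.ReflTransGen (GStep p (fam2 p f) D) A' B' := by
    intro R A' B' hA' hB' hDR hcR hRA' hRB'
    exact gchain_mono p (IH A' B' hA' hB'
      (lt_of_lt_of_le hcR (Subgroup.card_le_of_le (le_inf hRA' hRB'))))
      (le_inf (hDR.trans hRA') (hDR.trans hRB'))
  obtain ⟨M, hMmax, hLM⟩ := exists_maximal_plocal p L hL
  have hP₁p : IsPGroup p P₁ := (IsPGroup.of_card hA).to_le hP₁A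
  have hP₂p : IsPGroup p P₂ := (IsPGroup.of_card hB).to_le hP₂B
  obtain ⟨R₁, hR₁M, hR₁c, hPR₁⟩ := exists_syl_ge p M P₁ (hP₁L.trans hLM) hP₁p
  obtain ⟨R₂, hR₂M, hR₂c, hPR₂⟩ := exists_syl_ge p M P₂ (hP₂L.trans hLM) hP₂p
  obtain ⟨A₁, -, hA₁c, hRA₁⟩ := exists_syl_ge p ⊤ R₁ le_top (IsPGroup.of_card hR₁c)
  obtain ⟨B₁, -, hB₁c, hRB₁⟩ := exists_syl_ge p ⊤ R₂ le_top (IsPGroup.of_card hR₂c)
  have hcR₁ : Nat.card D < Nat.card R₁ := lt_of_lt_of_le hcP₁ (Subgroup.card_le_of_le hPR₁)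
  have hcR₂ : Nat.card D < Nat.card R₂ := lt_of_lt_of_le hcP₂ (Subgroup.card_le_of_le hPR₂)
  have hDR₁ : D ≤ R₁ := hDP₁.trans hPR₁
  have hDR₂ : D ≤ R₂ := hDP₂.trans hPR₂
  have hAA₁ := IH' P₁ A A₁ hA hA₁c hDP₁ hcP₁ hP₁A (hPR₁.trans hRA₁)
  have hB₁B := IH' P₂ B₁ B hB₁c hB hDP₂ hcP₂ (hPR₂.trans hRB₁) hP₂B
  suffices hmid : Relation.ReflTransGen (GStep p (fam2 p f) D) A₁ B₁ from (hAA₁.trans hmid).trans hB₁B
  by_cases hreg : IsFunctorRegular p f M
  · by_cases hRR : R₁ = R₂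
    · exact IH' R₁ A₁ B₁ hA₁c hB₁c hDR₁ hcR₁ hRA₁ (hRR ▸ hRB₁)
    · have hRD : R₁ ⊓ R₂ ≠ ⊥ := by
        intro h0
        apply hD
        rw [eq_bot_iff, ← h0]
        exact le_inf hDR₁ hDR₂
      have hch := chain_of_regular p f hf M hreg R₁ R₂ hR₁M hR₂M hR₁c hR₂c hRR hRD
      have key : ∀ K : Subgroup G, Relation.ReflTransGen (Step p f M (R₁ ⊓ R₂)) R₁ K →
          ∀ C : Subgroup G, K ≤ C → Nat.card C = pk p (⊤ : Subgroup G) →
          Relation.ReflTransGen (GStep p (fam2 p f) D) A₁ C := by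
        intro K hK
        induction hK with
        | refl =>
          intro C hKC hC
          exact IH' R₁ A₁ C hA₁c hC hDR₁ hcR₁ hRA₁ hKC
        | @tail K' K _ hst ih =>
          intro C hKC hC
          obtain ⟨hK'M, hKM, hK'c, hKc, hDK', hDK, P, hPM, hPc, F, hF, hK'F, hKF⟩ := hst
          obtain ⟨C', -, hC'c, hK'C'⟩ := exists_syl_ge p ⊤ K' le_top (IsPGroup.of_card hK'c)
          refine (ih C' hK'C' hC'c).trans ?_
          have hDK'' : D ≤ K' := (le_inf hDR₁ hDR₂).trans hDK'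
          have hDK0 : D ≤ K := (le_inf hDR₁ hDR₂).trans hDK
          by_cases hpk : pk p M = pk p (⊤ : Subgroup G)
          · have e1 : K' = C' := Subgroup.eq_of_le_of_card_ge hK'C' (by rw [hC'c, hK'c, hpk])
            have e2 : K = C := Subgroup.eq_of_le_of_card_ge hKC (by rw [hC, hKc, hpk])
            rw [← e1, ← e2]
            exact Relation.ReflTransGen.single (gstep_of_normalizer p f D K' K P F
              (hK'c.trans hpk) (hKc.trans hpk) (hPc.trans hpk) hF hK'F hKF hDK0)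
          · have hpkle : pk p M ≤ pk p (⊤ : Subgroup G) := pk_le_of_le p le_top
            have hPp : IsPGroup p P := IsPGroup.of_card hPc
            have hPne : P ≠ ⊥ := by
              intro h0
              have h1 : Nat.card P = 1 := by rw [h0]; exact Subgroup.card_bot
              have h2 : 1 ≤ Nat.card D := Nat.card_pos
              have h3 : Nat.card R₁ = Nat.card P := by rw [hR₁c, hPc]
              omega
            have hFne : F ≠ ⊥ := hf1 P hPp hPne F hF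
            have hFP := (hf P hPp).1 F hF
            have hFp : IsPGroup p F := hPp.to_le hFP.1
            have hL' : IsPLocal p (Subgroup.normalizer (F : Set G)) := ⟨F, hFp, hFne, rfl⟩
            have hlt : Nat.card P < pk p (Subgroup.normalizer (F : Set G)) :=
              lt_pk_of_normalizer_le p P _ hPp (by rw [hPc]; omega) hFP.2
            have hLM' : pk p L ≤ pk p M := pk_le_of_le p hLM
            have hle' : pk p (Subgroup.normalizer (F : Set G)) ≤ pk p (⊤ : Subgroup G) :=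
              pk_le_of_le p le_top
            refine ihn (pk p (⊤ : Subgroup G) - pk p (Subgroup.normalizer (F : Set G))) (by omega)
              (Subgroup.normalizer (F : Set G)) hL' rfl K' K C' C hK'F hKF hDK'' hDK0 ?_ ?_ hK'C' hKC
              hC'c hC
            · rw [hK'c, ← hR₁c]; exact hcR₁
            · rw [hKc, ← hR₁c]; exact hcR₁
      exact key R₂ hch B₁ hRB₁ hB₁c
  · -- singular maximal local
    obtain ⟨m, hm, hmR⟩ := exists_cj_eq p M R₂ R₁ hR₂M hR₁M hR₂c hR₁c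
    have hA₂c : Nat.card (cj m B₁) = pk p (⊤ : Subgroup G) := by rw [card_cj, hB₁c]
    have hR₁A₂ : R₁ ≤ cj m B₁ := by rw [← hmR]; exact cj_mono hRB₁
    have h1 := IH' R₁ A₁ (cj m B₁) hA₁c hA₂c hDR₁ hcR₁ hRA₁ hR₁A₂
    have hMfam : M ∈ fam2 p f := Or.inr ⟨hMmax, hreg⟩
    have h2 : GStep p (fam2 p f) D (cj m B₁) B₁ := by
      refine ⟨hA₂c, hB₁c, M, m⁻¹, ?_, ?_, M.inv_mem hm, ?_, le_inf (hDR₂.trans hRB₁) (hDR₁.trans hR₁M)⟩
      · exact mem_sylowMembers_of p _ M _ R₁ hMfam (IsPGroup.of_card hA₂c) (le_inf hR₁A₂ hR₁M) hR₁c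
      · exact mem_sylowMembers_of p _ M _ R₂ hMfam (IsPGroup.of_card hB₁c) (le_inf hRB₁ hR₂M) hR₂c
      · unfold subgroupConjRight
        rw [inv_inv]
        rfl
    exact h1.tail h2

theorem main_chain (hf : IsNormalizerFunctor p f)
    (hf1 : ∀ P : Subgroup G, IsPGroup p ↥P → P ≠ ⊥ → ∀ F ∈ f P, F ≠ ⊥) :
    ∀ n : ℕ, ∀ A B : Subgroup G, Nat.card A = pk p (⊤ : Subgroup G) →
      Nat.card B = pk p (⊤ : Subgroup G) → A ⊓ B ≠ ⊥ →
      pk p (⊤ : Subgroup G) - Nat.card (A ⊓ B : Subgroup G) = n →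
      Relation.ReflTransGen (GStep p (fam2 p f) (A ⊓ B)) A B := by
  intro n
  induction n using Nat.strong_induction_on with
  | _ n ih =>
  intro A B hA hB hD hn
  by_cases hAB : A = B
  · rw [hAB]
  have hDA : A ⊓ B ≠ A := by
    intro h
    apply hAB
    exact Subgroup.eq_of_le_of_card_ge (inf_eq_left.mp h) (by rw [hA, hB])
  have hDB : A ⊓ B ≠ B := by
    intro h
    apply hAB
    exact (Subgroup.eq_of_le_of_card_ge (inf_eq_right.mp h) (by rw [hA, hB])).symm
  have hDp : IsPGroup p (A ⊓ B : Subgroup G) := (IsPGroup.of_card hA).to_le inf_le_left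
  obtain ⟨n₁, hn₁A, hn₁N, hn₁D⟩ := exists_mem_normalizer_not_mem A (A ⊓ B) (IsPGroup.of_card hA)
    inf_le_left hDA
  obtain ⟨n₂, hn₂B, hn₂N, hn₂D⟩ := exists_mem_normalizer_not_mem B (A ⊓ B) (IsPGroup.of_card hB)
    inf_le_right hDB
  have hcA : Nat.card (A ⊓ B : Subgroup G) ≤ pk p (⊤ : Subgroup G) := by
    rw [← hA]; exact Subgroup.card_le_of_le inf_le_left
  have hlt1 : Nat.card (A ⊓ B : Subgroup G) <
      Nat.card (A ⊓ Subgroup.normalizer ((A ⊓ B : Subgroup G) : Set G) : Subgroup G) := by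
    apply card_lt_of_le_of_ne (le_inf inf_le_left Subgroup.le_normalizer)
    intro h
    apply hn₁D
    rw [h]
    exact ⟨hn₁A, hn₁N⟩
  have hlt2 : Nat.card (A ⊓ B : Subgroup G) <
      Nat.card (B ⊓ Subgroup.normalizer ((A ⊓ B : Subgroup G) : Set G) : Subgroup G) := by
    apply card_lt_of_le_of_ne (le_inf inf_le_right Subgroup.le_normalizer)
    intro h
    apply hn₂D
    rw [h]
    exact ⟨hn₂B, hn₂N⟩
  have IH : ∀ A' B' : Subgroup G, Nat.card A' = pk p (⊤ : Subgroup G) →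
      Nat.card B' = pk p (⊤ : Subgroup G) →
      Nat.card (A ⊓ B : Subgroup G) < Nat.card (A' ⊓ B' : Subgroup G) →
      Relation.ReflTransGen (GStep p (fam2 p f) (A' ⊓ B')) A' B' := by
    intro A' B' hA' hB' hlt
    have hc' : Nat.card (A' ⊓ B' : Subgroup G) ≤ pk p (⊤ : Subgroup G) := by
      rw [← hA']; exact Subgroup.card_le_of_le inf_le_left
    have hne : A' ⊓ B' ≠ ⊥ := by
      intro h0
      rw [h0, Subgroup.card_bot] at hlt
      have : 1 ≤ Nat.card (A ⊓ B : Subgroup G) := Nat.card_pos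
      omega
    exact ih (pk p (⊤ : Subgroup G) - Nat.card (A' ⊓ B' : Subgroup G)) (by omega) A' B' hA' hB' hne rfl
  exact sub_claim p f hf hf1 (A ⊓ B) hD IH _ (Subgroup.normalizer ((A ⊓ B : Subgroup G) : Set G))
    ⟨A ⊓ B, hDp, hD, rfl⟩ rfl _ _ A B inf_le_right inf_le_right
    (le_inf inf_le_left Subgroup.le_normalizer) (le_inf inf_le_right Subgroup.le_normalizer)
    hlt1 hlt2 inf_le_left inf_le_left hA hB

theorem controls (hf : IsNormalizerFunctor p f)
    (hf1 : ∀ P : Subgroup G, IsPGroup p ↥P → P ≠ ⊥ → ∀ F ∈ f P, F ≠ ⊥) :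
    ControlsSylowIntersections p (fam2 p f) := by
  apply controls_of_chain
  intro A B hA hB _ hD
  exact main_chain p f hf hf1 _ A B hA hB hD rfl

end Cfsg.Agent.Helper5.SCL
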