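import Mathlib
import Cfsg.Prelude.Def_SylowChains
import Cfsg.Agent.Helper5.Basic

/-!
Helper lemmas (helper5): members of a family meeting a Sylow subgroup in a Sylow subgroup; transport under
conjugation.
-/

set_option autoImplicit false

namespace Cfsg.Agent.Helper5

variable {G : Type*} [Group G]

/-- `X ∈ 𝓕(S)` in terms of the relative index, for a `p`-subgroup `S`. -/
theorem mem_sylowMembers_iff [Finite G] {p : ℕ} [Fact p.Prime] (𝓕 : Set (Subgroup G)) (S X : Subgroup G)
    (hS : IsPGroup p S) :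
    X ∈ Cfsg.sylowMembers p 𝓕 S ↔ X ∈ 𝓕 ∧ ¬ p ∣ (S ⊓ X).relIndex X := by
  constructor
  · rintro ⟨hX, P, hP⟩
    refine ⟨hX, ?_⟩
    have h1 : (S ⊓ X).subgroupOf X = (P : Subgroup X) := by
      rw [← hP]
      ext x
      simp [Subgroup.mem_subgroupOf]
    rw [Subgroup.relIndex, h1]
    exact P.not_dvd_index
  · rintro ⟨hX, hidx⟩
    refine ⟨hX, ?_⟩
    have hp : IsPGroup p ((S ⊓ X).subgroupOf X) := by
      have : IsPGroup p (S ⊓ X : Subgroup G) := hS.to_le inf_le_left
      exact this.comap_subtype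
    have hidx' : ¬ p ∣ ((S ⊓ X).subgroupOf X).index := hidx
    refine ⟨hp.toSylow hidx', ?_⟩
    rw [IsPGroup.toSylow_coe]
    rw [Subgroup.subgroupOf, Subgroup.map_comap_eq, Subgroup.range_subtype]
    rw [inf_comm, inf_assoc, inf_idem, inf_comm]

theorem subgroupConjRight_def (g : G) (X : Subgroup G) :
    Cfsg.subgroupConjRight g X = X.map (MulAut.conj g⁻¹).toMonoidHom := rfl

theorem subgroupConjRight_mul (g h : G) (X : Subgroup G) :
    Cfsg.subgroupConjRight h (Cfsg.subgroupConjRight g X) = Cfsg.subgroupConjRight (g * h) X := by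
  rw [subgroupConjRight_def, subgroupConjRight_def, subgroupConjRight_def, map_conj_map_conj, mul_inv_rev]

theorem subgroupConjRight_one (X : Subgroup G) : Cfsg.subgroupConjRight 1 X = X := by
  rw [subgroupConjRight_def, inv_one, map_conj_one]

/-- transport of `𝓕(S)` under conjugation -/
theorem sylowMembers_conjRight [Finite G] {p : ℕ} [Fact p.Prime] (𝓕 : Set (Subgroup G))
    (h𝓕 : Cfsg.IsNormalSet 𝓕) (S X : Subgroup G) (hS : IsPGroup p S) (g : G)
    (hX : X ∈ Cfsg.sylowMembers p 𝓕 S) :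
    Cfsg.subgroupConjRight g X ∈ Cfsg.sylowMembers p 𝓕 (Cfsg.subgroupConjRight g S) := by
  have hS' : IsPGroup p (Cfsg.subgroupConjRight g S) := by
    rw [subgroupConjRight_def]
    exact hS.map _
  rw [mem_sylowMembers_iff 𝓕 _ _ hS'] 
  rw [mem_sylowMembers_iff 𝓕 _ _ hS] at hX
  refine ⟨h𝓕 X hX.1 g, ?_⟩
  have hinj : Function.Injective (MulAut.conj g⁻¹).toMonoidHom := (MulAut.conj g⁻¹).injective
  rw [subgroupConjRight_def, subgroupConjRight_def, ← Subgroup.map_inf _ _ _ hinj,
    Subgroup.relIndex_map_map_of_injective _ _ hinj]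
  exact hX.2

/-- a conjugate by an element of `K` of a subgroup of `K` lies in `K` -/
theorem subgroupConjRight_le_of_mem (K X : Subgroup G) (k : G) (hk : k ∈ K) (hX : X ≤ K) :
    Cfsg.subgroupConjRight k X ≤ K := by
  rw [subgroupConjRight_def, map_conj_le_iff]
  intro x hx
  exact K.mul_mem (K.mul_mem (K.inv_mem hk) (hX hx)) (K.inv_mem (K.inv_mem hk))

end Cfsg.Agent.Helper5
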