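import Cfsg.Agent.Helper5.Sz8CTCDatD
import Cfsg.Agent.Helper5.Sz8CTCDatT
import Cfsg.Agent.Helper5.TCIB

/-! kernel checks of the coset table: Sz8CTC -/

set_option autoImplicit false
set_option Elab.async false

namespace Cfsg.Agent.Helper5.Sz8CTC
open Cfsg.Agent.Helper5.TC Cfsg.Agent.Helper5.TCI

set_option maxRecDepth 1000000 in
theorem relc_7_0 : fixPtsF W_7 8960 0 = true := by decide +kernel

set_option maxRecDepth 1000000 in
theorem relc_9_0 : fixPtsF W_9 8960 0 = true := by decide +kernel

set_option maxRecDepth 1000000 in
theorem relc_11_0 : fixPtsF W_11 8960 0 = true := by decide +kernel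

set_option maxRecDepth 1000000 in
theorem relc_13_0 : fixPtsF W_13 8960 0 = true := by decide +kernel

set_option maxRecDepth 1000000 in
theorem relc_15_0 : fixPtsF W_15 7142 0 = true := by decide +kernel

set_option maxRecDepth 1000000 in
theorem relc_17_0 : fixPtsF W_17 7142 0 = true := by decide +kernel

set_option maxRecDepth 1000000 in
theorem relc_19_0 : fixPtsF W_19 7142 0 = true := by decide +kernel

set_option maxRecDepth 1000000 in
theorem relc_21_0 : fixPtsF W_21 7142 0 = true := by decide +kernel

set_option maxRecDepth 1000000 in
theorem relc_23_0 : fixPtsF W_23 5882 0 = true := by decide +kernel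

set_option maxRecDepth 1000000 in
theorem relc_25_0 : fixPtsF W_25 5882 0 = true := by decide +kernel

set_option maxRecDepth 1000000 in
theorem relc_27_0 : fixPtsF W_27 5882 0 = true := by decide +kernel

set_option maxRecDepth 1000000 in
theorem relc_29_0 : fixPtsF W_29 5882 0 = true := by decide +kernel

set_option maxRecDepth 1000000 in
theorem relc_31_0 : fixPtsF W_31 5000 0 = true := by decide +kernel

set_option maxRecDepth 1000000 in
theorem relc_33_0 : fixPtsF W_33 5000 0 = true := by decide +kernel

set_option maxRecDepth 1000000 in
theorem relc_34_1 : fixPtsF W_34 3846 3846 = true := by decide +kernel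

set_option maxRecDepth 1000000 in
theorem relc_35_1 : fixPtsF W_35 3846 3846 = true := by decide +kernel

set_option maxRecDepth 1000000 in
theorem relc_36_1 : fixPtsF W_36 3846 3846 = true := by decide +kernel

set_option maxRecDepth 1000000 in
theorem relc_37_1 : fixPtsF W_37 3846 3846 = true := by decide +kernel

set_option maxRecDepth 1000000 in
theorem relc_38_1 : fixPtsF W_38 3125 3125 = true := by decide +kernel

set_option maxRecDepth 1000000 in
theorem relc_39_1 : fixPtsF W_39 3125 3125 = true := by decide +kernel

set_option maxRecDepth 1000000 in
theorem relc_40_1 : fixPtsF W_40 3125 3125 = true := by decide +kernel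

set_option maxRecDepth 1000000 in
theorem relc_41_1 : fixPtsF W_41 3125 3125 = true := by decide +kernel

set_option maxRecDepth 1000000 in
theorem relc_39_2 : fixPtsF W_39 2710 6250 = true := by decide +kernel

set_option maxRecDepth 1000000 in
theorem relc_41_2 : fixPtsF W_41 2710 6250 = true := by decide +kernel

set_option maxRecDepth 1000000 in
theorem relc_31_1 : fixPtsF W_31 3960 5000 = true := by decide +kernel

set_option maxRecDepth 1000000 in
theorem relc_33_1 : fixPtsF W_33 3960 5000 = true := by decide +kernel

set_option maxRecDepth 1000000 in
theorem relc_5_0 : fixPtsF W_5 8960 0 = true := by decide +kernel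

set_option maxRecDepth 1000000 in
theorem relc_23_1 : fixPtsF W_23 3078 5882 = true := by decide +kernel

set_option maxRecDepth 1000000 in
theorem relc_25_1 : fixPtsF W_25 3078 5882 = true := by decide +kernel

set_option maxRecDepth 1000000 in
theorem relc_27_1 : fixPtsF W_27 3078 5882 = true := by decide +kernel

set_option maxRecDepth 1000000 in
theorem relc_29_1 : fixPtsF W_29 3078 5882 = true := by decide +kernel

set_option maxRecDepth 1000000 in
theorem relc_35_2 : fixPtsF W_35 1268 7692 = true := by decide +kernel

set_option maxRecDepth 1000000 in
theorem relc_37_2 : fixPtsF W_37 1268 7692 = true := by decide +kernel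

set_option maxRecDepth 1000000 in
theorem relc_15_1 : fixPtsF W_15 1818 7142 = true := by decide +kernel

set_option maxRecDepth 1000000 in
theorem relc_17_1 : fixPtsF W_17 1818 7142 = true := by decide +kernel

set_option maxRecDepth 1000000 in
theorem relc_19_1 : fixPtsF W_19 1818 7142 = true := by decide +kernel

set_option maxRecDepth 1000000 in
theorem relc_21_1 : fixPtsF W_21 1818 7142 = true := by decide +kernel

set_option maxRecDepth 1000000 in
theorem relc_1_0 : fixPtsF W_1 8960 0 = true := by decide +kernel

set_option maxRecDepth 1000000 in
theorem relc_4_0 : fixPtsF W_4 8960 0 = true := by decide +kernel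

set_option maxRecDepth 1000000 in
theorem inv_1_0 : invRowFI ctF 8960 1 0 8960 0 = true := by decide +kernel

set_option maxRecDepth 1000000 in
theorem inv_3_0 : invRowFI ctF 8960 3 2 8960 0 = true := by decide +kernel

end Cfsg.Agent.Helper5.Sz8CTC
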