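import Cfsg.Agent.Helper5.Sz8CTCChkE0
import Cfsg.Agent.Helper5.Sz8CTCChkE1
import Cfsg.Agent.Helper5.Sz8CTCChkR0
import Cfsg.Agent.Helper5.Sz8CTCChkR1
import Cfsg.Agent.Helper5.Sz8CTCChkA
import Cfsg.Agent.Helper5.TCIB

/-! summary of the kernel checks: Sz8CTC -/

set_option autoImplicit false
set_option Elab.async false

namespace Cfsg.Agent.Helper5.Sz8CTC
open Cfsg.Agent.Helper5.TC Cfsg.Agent.Helper5.TCI

theorem edgesx_0 : ∀ v, v < 121209 → edgeOKI iota E 0 v = true := by
  intro v hv
  rcases Nat.lt_or_ge v 57365 with h | h
  · rcases Nat.lt_or_ge v 27655 with h | h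
    · rcases Nat.lt_or_ge v 13743 with h | h
      · rcases Nat.lt_or_ge v 5580 with h | h
        · rcases Nat.lt_or_ge v 2792 with h | h
          · exact edgesRangeI_spec iota E 0 2792 0 edges_0_0 v (by omega) (by omega)
          · exact edgesRangeI_spec iota E 0 2788 2792 edges_0_1 v (by omega) (by omega)
        · rcases Nat.lt_or_ge v 8361 with h | h
          · exact edgesRangeI_spec iota E 0 2781 5580 edges_0_2 v (by omega) (by omega)
          · rcases Nat.lt_or_ge v 11385 with h | h
            · exact edgesRangeI_spec iota E 0 3024 8361 edges_0_3 v (by omega) (by omega)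
            · exact edgesRangeI_spec iota E 0 2358 11385 edges_0_4 v (by omega) (by omega)
      · rcases Nat.lt_or_ge v 20883 with h | h
        · rcases Nat.lt_or_ge v 15909 with h | h
          · exact edgesRangeI_spec iota E 0 2166 13743 edges_0_5 v (by omega) (by omega)
          · rcases Nat.lt_or_ge v 18485 with h | h
            · exact edgesRangeI_spec iota E 0 2576 15909 edges_0_6 v (by omega) (by omega)
            · exact edgesRangeI_spec iota E 0 2398 18485 edges_0_7 v (by omega) (by omega)
        · rcases Nat.lt_or_ge v 23020 with h | h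
          · exact edgesRangeI_spec iota E 0 2137 20883 edges_0_8 v (by omega) (by omega)
          · rcases Nat.lt_or_ge v 25430 with h | h
            · exact edgesRangeI_spec iota E 0 2410 23020 edges_0_9 v (by omega) (by omega)
            · exact edgesRangeI_spec iota E 0 2225 25430 edges_0_10 v (by omega) (by omega)
    · rcases Nat.lt_or_ge v 40043 with h | h
      · rcases Nat.lt_or_ge v 32101 with h | h
        · rcases Nat.lt_or_ge v 29959 with h | h
          · exact edgesRangeI_spec iota E 0 2304 27655 edges_0_11 v (by omega) (by omega)
          · exact edgesRangeI_spec iota E 0 2142 29959 edges_0_12 v (by omega) (by omega)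
        · rcases Nat.lt_or_ge v 34702 with h | h
          · exact edgesRangeI_spec iota E 0 2601 32101 edges_0_13 v (by omega) (by omega)
          · rcases Nat.lt_or_ge v 37284 with h | h
            · exact edgesRangeI_spec iota E 0 2582 34702 edges_0_14 v (by omega) (by omega)
            · exact edgesRangeI_spec iota E 0 2759 37284 edges_0_15 v (by omega) (by omega)
      · rcases Nat.lt_or_ge v 48699 with h | h
        · rcases Nat.lt_or_ge v 42803 with h | h
          · exact edgesRangeI_spec iota E 0 2760 40043 edges_0_16 v (by omega) (by omega)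
          · rcases Nat.lt_or_ge v 45643 with h | h
            · exact edgesRangeI_spec iota E 0 2840 42803 edges_0_17 v (by omega) (by omega)
            · exact edgesRangeI_spec iota E 0 3056 45643 edges_0_18 v (by omega) (by omega)
        · rcases Nat.lt_or_ge v 51844 with h | h
          · exact edgesRangeI_spec iota E 0 3145 48699 edges_0_19 v (by omega) (by omega)
          · rcases Nat.lt_or_ge v 54643 with h | h
            · exact edgesRangeI_spec iota E 0 2799 51844 edges_0_20 v (by omega) (by omega)
            · exact edgesRangeI_spec iota E 0 2722 54643 edges_0_21 v (by omega) (by omega)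
  · rcases Nat.lt_or_ge v 89686 with h | h
    · rcases Nat.lt_or_ge v 70677 with h | h
      · rcases Nat.lt_or_ge v 62185 with h | h
        · rcases Nat.lt_or_ge v 60023 with h | h
          · exact edgesRangeI_spec iota E 0 2658 57365 edges_0_22 v (by omega) (by omega)
          · exact edgesRangeI_spec iota E 0 2162 60023 edges_0_23 v (by omega) (by omega)
        · rcases Nat.lt_or_ge v 64821 with h | h
          · exact edgesRangeI_spec iota E 0 2636 62185 edges_0_24 v (by omega) (by omega)
          · rcases Nat.lt_or_ge v 67778 with h | h
            · exact edgesRangeI_spec iota E 0 2957 64821 edges_0_25 v (by omega) (by omega)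
            · exact edgesRangeI_spec iota E 0 2899 67778 edges_0_26 v (by omega) (by omega)
      · rcases Nat.lt_or_ge v 80360 with h | h
        · rcases Nat.lt_or_ge v 73840 with h | h
          · exact edgesRangeI_spec iota E 0 3163 70677 edges_0_27 v (by omega) (by omega)
          · rcases Nat.lt_or_ge v 76912 with h | h
            · exact edgesRangeI_spec iota E 0 3072 73840 edges_0_28 v (by omega) (by omega)
            · exact edgesRangeI_spec iota E 0 3448 76912 edges_0_29 v (by omega) (by omega)
        · rcases Nat.lt_or_ge v 83571 with h | h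
          · exact edgesRangeI_spec iota E 0 3211 80360 edges_0_30 v (by omega) (by omega)
          · rcases Nat.lt_or_ge v 86782 with h | h
            · exact edgesRangeI_spec iota E 0 3211 83571 edges_0_31 v (by omega) (by omega)
            · exact edgesRangeI_spec iota E 0 2904 86782 edges_0_32 v (by omega) (by omega)
    · rcases Nat.lt_or_ge v 107016 with h | h
      · rcases Nat.lt_or_ge v 98010 with h | h
        · rcases Nat.lt_or_ge v 92643 with h | h
          · exact edgesRangeI_spec iota E 0 2957 89686 edges_0_33 v (by omega) (by omega)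
          · rcases Nat.lt_or_ge v 95413 with h | h
            · exact edgesRangeI_spec iota E 0 2770 92643 edges_0_34 v (by omega) (by omega)
            · exact edgesRangeI_spec iota E 0 2597 95413 edges_0_35 v (by omega) (by omega)
        · rcases Nat.lt_or_ge v 100958 with h | h
          · exact edgesRangeI_spec iota E 0 2948 98010 edges_0_36 v (by omega) (by omega)
          · rcases Nat.lt_or_ge v 103795 with h | h
            · exact edgesRangeI_spec iota E 0 2837 100958 edges_0_37 v (by omega) (by omega)
            · exact edgesRangeI_spec iota E 0 3221 103795 edges_0_38 v (by omega) (by omega)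
      · rcases Nat.lt_or_ge v 116317 with h | h
        · rcases Nat.lt_or_ge v 110036 with h | h
          · exact edgesRangeI_spec iota E 0 3020 107016 edges_0_39 v (by omega) (by omega)
          · rcases Nat.lt_or_ge v 113092 with h | h
            · exact edgesRangeI_spec iota E 0 3056 110036 edges_0_40 v (by omega) (by omega)
            · exact edgesRangeI_spec iota E 0 3225 113092 edges_0_41 v (by omega) (by omega)
        · rcases Nat.lt_or_ge v 119160 with h | h
          · exact edgesRangeI_spec iota E 0 2843 116317 edges_0_42 v (by omega) (by omega)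
          · rcases Nat.lt_or_ge v 121178 with h | h
            · exact edgesRangeI_spec iota E 0 2018 119160 edges_0_43 v (by omega) (by omega)
            · exact edgesRangeI_spec iota E 0 31 121178 edges_0_44 v (by omega) (by omega)

theorem edgesx_1 : ∀ v, v < 121209 → edgeOKI iota E 1 v = true := by
  intro v hv
  rcases Nat.lt_or_ge v 53998 with h | h
  · rcases Nat.lt_or_ge v 29056 with h | h
    · rcases Nat.lt_or_ge v 13442 with h | h
      · rcases Nat.lt_or_ge v 5735 with h | h
        · rcases Nat.lt_or_ge v 2814 with h | h
          · exact edgesRangeI_spec iota E 1 2814 0 edges_1_0 v (by omega) (by omega)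
          · exact edgesRangeI_spec iota E 1 2921 2814 edges_1_1 v (by omega) (by omega)
        · rcases Nat.lt_or_ge v 9258 with h | h
          · exact edgesRangeI_spec iota E 1 3523 5735 edges_1_2 v (by omega) (by omega)
          · exact edgesRangeI_spec iota E 1 4184 9258 edges_1_3 v (by omega) (by omega)
      · rcases Nat.lt_or_ge v 19789 with h | h
        · rcases Nat.lt_or_ge v 16312 with h | h
          · exact edgesRangeI_spec iota E 1 2870 13442 edges_1_4 v (by omega) (by omega)
          · exact edgesRangeI_spec iota E 1 3477 16312 edges_1_5 v (by omega) (by omega)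
        · rcases Nat.lt_or_ge v 22972 with h | h
          · exact edgesRangeI_spec iota E 1 3183 19789 edges_1_6 v (by omega) (by omega)
          · rcases Nat.lt_or_ge v 26159 with h | h
            · exact edgesRangeI_spec iota E 1 3187 22972 edges_1_7 v (by omega) (by omega)
            · exact edgesRangeI_spec iota E 1 2897 26159 edges_1_8 v (by omega) (by omega)
    · rcases Nat.lt_or_ge v 40345 with h | h
      · rcases Nat.lt_or_ge v 34607 with h | h
        · rcases Nat.lt_or_ge v 32136 with h | h
          · exact edgesRangeI_spec iota E 1 3080 29056 edges_1_9 v (by omega) (by omega)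
          · exact edgesRangeI_spec iota E 1 2471 32136 edges_1_10 v (by omega) (by omega)
        · rcases Nat.lt_or_ge v 37518 with h | h
          · exact edgesRangeI_spec iota E 1 2911 34607 edges_1_11 v (by omega) (by omega)
          · exact edgesRangeI_spec iota E 1 2827 37518 edges_1_12 v (by omega) (by omega)
      · rcases Nat.lt_or_ge v 45285 with h | h
        · rcases Nat.lt_or_ge v 42762 with h | h
          · exact edgesRangeI_spec iota E 1 2417 40345 edges_1_13 v (by omega) (by omega)
          · exact edgesRangeI_spec iota E 1 2523 42762 edges_1_14 v (by omega) (by omega)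
        · rcases Nat.lt_or_ge v 48034 with h | h
          · exact edgesRangeI_spec iota E 1 2749 45285 edges_1_15 v (by omega) (by omega)
          · rcases Nat.lt_or_ge v 50889 with h | h
            · exact edgesRangeI_spec iota E 1 2855 48034 edges_1_16 v (by omega) (by omega)
            · exact edgesRangeI_spec iota E 1 3109 50889 edges_1_17 v (by omega) (by omega)
  · rcases Nat.lt_or_ge v 84880 with h | h
    · rcases Nat.lt_or_ge v 65781 with h | h
      · rcases Nat.lt_or_ge v 60019 with h | h
        · rcases Nat.lt_or_ge v 57171 with h | h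
          · exact edgesRangeI_spec iota E 1 3173 53998 edges_1_18 v (by omega) (by omega)
          · exact edgesRangeI_spec iota E 1 2848 57171 edges_1_19 v (by omega) (by omega)
        · rcases Nat.lt_or_ge v 63002 with h | h
          · exact edgesRangeI_spec iota E 1 2983 60019 edges_1_20 v (by omega) (by omega)
          · exact edgesRangeI_spec iota E 1 2779 63002 edges_1_21 v (by omega) (by omega)
      · rcases Nat.lt_or_ge v 73526 with h | h
        · rcases Nat.lt_or_ge v 70092 with h | h
          · exact edgesRangeI_spec iota E 1 4311 65781 edges_1_22 v (by omega) (by omega)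
          · exact edgesRangeI_spec iota E 1 3434 70092 edges_1_23 v (by omega) (by omega)
        · rcases Nat.lt_or_ge v 77154 with h | h
          · exact edgesRangeI_spec iota E 1 3628 73526 edges_1_24 v (by omega) (by omega)
          · rcases Nat.lt_or_ge v 80799 with h | h
            · exact edgesRangeI_spec iota E 1 3645 77154 edges_1_25 v (by omega) (by omega)
            · exact edgesRangeI_spec iota E 1 4081 80799 edges_1_26 v (by omega) (by omega)
    · rcases Nat.lt_or_ge v 105445 with h | h
      · rcases Nat.lt_or_ge v 94583 with h | h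
        · rcases Nat.lt_or_ge v 89784 with h | h
          · exact edgesRangeI_spec iota E 1 4904 84880 edges_1_27 v (by omega) (by omega)
          · exact edgesRangeI_spec iota E 1 4799 89784 edges_1_28 v (by omega) (by omega)
        · rcases Nat.lt_or_ge v 98592 with h | h
          · exact edgesRangeI_spec iota E 1 4009 94583 edges_1_29 v (by omega) (by omega)
          · rcases Nat.lt_or_ge v 101977 with h | h
            · exact edgesRangeI_spec iota E 1 3385 98592 edges_1_30 v (by omega) (by omega)
            · exact edgesRangeI_spec iota E 1 3468 101977 edges_1_31 v (by omega) (by omega)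
      · rcases Nat.lt_or_ge v 112630 with h | h
        · rcases Nat.lt_or_ge v 109488 with h | h
          · exact edgesRangeI_spec iota E 1 4043 105445 edges_1_32 v (by omega) (by omega)
          · exact edgesRangeI_spec iota E 1 3142 109488 edges_1_33 v (by omega) (by omega)
        · rcases Nat.lt_or_ge v 116345 with h | h
          · exact edgesRangeI_spec iota E 1 3715 112630 edges_1_34 v (by omega) (by omega)
          · rcases Nat.lt_or_ge v 120533 with h | h
            · exact edgesRangeI_spec iota E 1 4188 116345 edges_1_35 v (by omega) (by omega)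
            · exact edgesRangeI_spec iota E 1 676 120533 edges_1_36 v (by omega) (by omega)

theorem edgesx_2 : ∀ v, v < 121209 → edgeOKI iota E 2 v = true := by
  intro v hv
  rcases Nat.lt_or_ge v 54884 with h | h
  · rcases Nat.lt_or_ge v 26396 with h | h
    · rcases Nat.lt_or_ge v 13320 with h | h
      · rcases Nat.lt_or_ge v 5436 with h | h
        · rcases Nat.lt_or_ge v 1995 with h | h
          · exact edgesRangeI_spec iota E 2 1995 0 edges_2_0 v (by omega) (by omega)
          · rcases Nat.lt_or_ge v 3590 with h | h
            · exact edgesRangeI_spec iota E 2 1595 1995 edges_2_1 v (by omega) (by omega)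
            · exact edgesRangeI_spec iota E 2 1846 3590 edges_2_2 v (by omega) (by omega)
        · rcases Nat.lt_or_ge v 7442 with h | h
          · exact edgesRangeI_spec iota E 2 2006 5436 edges_2_3 v (by omega) (by omega)
          · rcases Nat.lt_or_ge v 10291 with h | h
            · exact edgesRangeI_spec iota E 2 2849 7442 edges_2_4 v (by omega) (by omega)
            · exact edgesRangeI_spec iota E 2 3029 10291 edges_2_5 v (by omega) (by omega)
      · rcases Nat.lt_or_ge v 19626 with h | h
        · rcases Nat.lt_or_ge v 15251 with h | h
          · exact edgesRangeI_spec iota E 2 1931 13320 edges_2_6 v (by omega) (by omega)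
          · rcases Nat.lt_or_ge v 17185 with h | h
            · exact edgesRangeI_spec iota E 2 1934 15251 edges_2_7 v (by omega) (by omega)
            · exact edgesRangeI_spec iota E 2 2441 17185 edges_2_8 v (by omega) (by omega)
        · rcases Nat.lt_or_ge v 22161 with h | h
          · exact edgesRangeI_spec iota E 2 2535 19626 edges_2_9 v (by omega) (by omega)
          · rcases Nat.lt_or_ge v 24353 with h | h
            · exact edgesRangeI_spec iota E 2 2192 22161 edges_2_10 v (by omega) (by omega)
            · exact edgesRangeI_spec iota E 2 2043 24353 edges_2_11 v (by omega) (by omega)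
    · rcases Nat.lt_or_ge v 39442 with h | h
      · rcases Nat.lt_or_ge v 32601 with h | h
        · rcases Nat.lt_or_ge v 28306 with h | h
          · exact edgesRangeI_spec iota E 2 1910 26396 edges_2_12 v (by omega) (by omega)
          · rcases Nat.lt_or_ge v 30569 with h | h
            · exact edgesRangeI_spec iota E 2 2263 28306 edges_2_13 v (by omega) (by omega)
            · exact edgesRangeI_spec iota E 2 2032 30569 edges_2_14 v (by omega) (by omega)
        · rcases Nat.lt_or_ge v 34955 with h | h
          · exact edgesRangeI_spec iota E 2 2354 32601 edges_2_15 v (by omega) (by omega)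
          · rcases Nat.lt_or_ge v 36935 with h | h
            · exact edgesRangeI_spec iota E 2 1980 34955 edges_2_16 v (by omega) (by omega)
            · exact edgesRangeI_spec iota E 2 2507 36935 edges_2_17 v (by omega) (by omega)
      · rcases Nat.lt_or_ge v 47024 with h | h
        · rcases Nat.lt_or_ge v 41594 with h | h
          · exact edgesRangeI_spec iota E 2 2152 39442 edges_2_18 v (by omega) (by omega)
          · rcases Nat.lt_or_ge v 44200 with h | h
            · exact edgesRangeI_spec iota E 2 2606 41594 edges_2_19 v (by omega) (by omega)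
            · exact edgesRangeI_spec iota E 2 2824 44200 edges_2_20 v (by omega) (by omega)
        · rcases Nat.lt_or_ge v 49644 with h | h
          · exact edgesRangeI_spec iota E 2 2620 47024 edges_2_21 v (by omega) (by omega)
          · rcases Nat.lt_or_ge v 52368 with h | h
            · exact edgesRangeI_spec iota E 2 2724 49644 edges_2_22 v (by omega) (by omega)
            · exact edgesRangeI_spec iota E 2 2516 52368 edges_2_23 v (by omega) (by omega)
  · rcases Nat.lt_or_ge v 90058 with h | h
    · rcases Nat.lt_or_ge v 71948 with h | h
      · rcases Nat.lt_or_ge v 62777 with h | h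
        · rcases Nat.lt_or_ge v 57659 with h | h
          · exact edgesRangeI_spec iota E 2 2775 54884 edges_2_24 v (by omega) (by omega)
          · rcases Nat.lt_or_ge v 60264 with h | h
            · exact edgesRangeI_spec iota E 2 2605 57659 edges_2_25 v (by omega) (by omega)
            · exact edgesRangeI_spec iota E 2 2513 60264 edges_2_26 v (by omega) (by omega)
        · rcases Nat.lt_or_ge v 65186 with h | h
          · exact edgesRangeI_spec iota E 2 2409 62777 edges_2_27 v (by omega) (by omega)
          · rcases Nat.lt_or_ge v 68414 with h | h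
            · exact edgesRangeI_spec iota E 2 3228 65186 edges_2_28 v (by omega) (by omega)
            · exact edgesRangeI_spec iota E 2 3534 68414 edges_2_29 v (by omega) (by omega)
      · rcases Nat.lt_or_ge v 80006 with h | h
        · rcases Nat.lt_or_ge v 74584 with h | h
          · exact edgesRangeI_spec iota E 2 2636 71948 edges_2_30 v (by omega) (by omega)
          · rcases Nat.lt_or_ge v 77133 with h | h
            · exact edgesRangeI_spec iota E 2 2549 74584 edges_2_31 v (by omega) (by omega)
            · exact edgesRangeI_spec iota E 2 2873 77133 edges_2_32 v (by omega) (by omega)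
        · rcases Nat.lt_or_ge v 83080 with h | h
          · exact edgesRangeI_spec iota E 2 3074 80006 edges_2_33 v (by omega) (by omega)
          · rcases Nat.lt_or_ge v 86537 with h | h
            · exact edgesRangeI_spec iota E 2 3457 83080 edges_2_34 v (by omega) (by omega)
            · exact edgesRangeI_spec iota E 2 3521 86537 edges_2_35 v (by omega) (by omega)
    · rcases Nat.lt_or_ge v 108065 with h | h
      · rcases Nat.lt_or_ge v 99160 with h | h
        · rcases Nat.lt_or_ge v 93291 with h | h
          · exact edgesRangeI_spec iota E 2 3233 90058 edges_2_36 v (by omega) (by omega)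
          · rcases Nat.lt_or_ge v 96440 with h | h
            · exact edgesRangeI_spec iota E 2 3149 93291 edges_2_37 v (by omega) (by omega)
            · exact edgesRangeI_spec iota E 2 2720 96440 edges_2_38 v (by omega) (by omega)
        · rcases Nat.lt_or_ge v 101979 with h | h
          · exact edgesRangeI_spec iota E 2 2819 99160 edges_2_39 v (by omega) (by omega)
          · rcases Nat.lt_or_ge v 104844 with h | h
            · exact edgesRangeI_spec iota E 2 2865 101979 edges_2_40 v (by omega) (by omega)
            · exact edgesRangeI_spec iota E 2 3221 104844 edges_2_41 v (by omega) (by omega)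
      · rcases Nat.lt_or_ge v 116691 with h | h
        · rcases Nat.lt_or_ge v 111197 with h | h
          · exact edgesRangeI_spec iota E 2 3132 108065 edges_2_42 v (by omega) (by omega)
          · rcases Nat.lt_or_ge v 113910 with h | h
            · exact edgesRangeI_spec iota E 2 2713 111197 edges_2_43 v (by omega) (by omega)
            · exact edgesRangeI_spec iota E 2 2781 113910 edges_2_44 v (by omega) (by omega)
        · rcases Nat.lt_or_ge v 119599 with h | h
          · exact edgesRangeI_spec iota E 2 2908 116691 edges_2_45 v (by omega) (by omega)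
          · rcases Nat.lt_or_ge v 121145 with h | h
            · exact edgesRangeI_spec iota E 2 1546 119599 edges_2_46 v (by omega) (by omega)
            · exact edgesRangeI_spec iota E 2 64 121145 edges_2_47 v (by omega) (by omega)

theorem edgesx_3 : ∀ v, v < 121209 → edgeOKI iota E 3 v = true := by
  intro v hv
  rcases Nat.lt_or_ge v 51996 with h | h
  · rcases Nat.lt_or_ge v 25101 with h | h
    · rcases Nat.lt_or_ge v 13492 with h | h
      · rcases Nat.lt_or_ge v 5689 with h | h
        · rcases Nat.lt_or_ge v 3050 with h | h
          · exact edgesRangeI_spec iota E 3 3050 0 edges_3_0 v (by omega) (by omega)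
          · exact edgesRangeI_spec iota E 3 2639 3050 edges_3_1 v (by omega) (by omega)
        · rcases Nat.lt_or_ge v 9497 with h | h
          · exact edgesRangeI_spec iota E 3 3808 5689 edges_3_2 v (by omega) (by omega)
          · exact edgesRangeI_spec iota E 3 3995 9497 edges_3_3 v (by omega) (by omega)
      · rcases Nat.lt_or_ge v 18830 with h | h
        · rcases Nat.lt_or_ge v 16085 with h | h
          · exact edgesRangeI_spec iota E 3 2593 13492 edges_3_4 v (by omega) (by omega)
          · exact edgesRangeI_spec iota E 3 2745 16085 edges_3_5 v (by omega) (by omega)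
        · rcases Nat.lt_or_ge v 22210 with h | h
          · exact edgesRangeI_spec iota E 3 3380 18830 edges_3_6 v (by omega) (by omega)
          · exact edgesRangeI_spec iota E 3 2891 22210 edges_3_7 v (by omega) (by omega)
    · rcases Nat.lt_or_ge v 36187 with h | h
      · rcases Nat.lt_or_ge v 30666 with h | h
        · rcases Nat.lt_or_ge v 27855 with h | h
          · exact edgesRangeI_spec iota E 3 2754 25101 edges_3_8 v (by omega) (by omega)
          · exact edgesRangeI_spec iota E 3 2811 27855 edges_3_9 v (by omega) (by omega)
        · rcases Nat.lt_or_ge v 33212 with h | h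
          · exact edgesRangeI_spec iota E 3 2546 30666 edges_3_10 v (by omega) (by omega)
          · exact edgesRangeI_spec iota E 3 2975 33212 edges_3_11 v (by omega) (by omega)
      · rcases Nat.lt_or_ge v 41851 with h | h
        · rcases Nat.lt_or_ge v 39177 with h | h
          · exact edgesRangeI_spec iota E 3 2990 36187 edges_3_12 v (by omega) (by omega)
          · exact edgesRangeI_spec iota E 3 2674 39177 edges_3_13 v (by omega) (by omega)
        · rcases Nat.lt_or_ge v 45258 with h | h
          · exact edgesRangeI_spec iota E 3 3407 41851 edges_3_14 v (by omega) (by omega)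
          · rcases Nat.lt_or_ge v 48288 with h | h
            · exact edgesRangeI_spec iota E 3 3030 45258 edges_3_15 v (by omega) (by omega)
            · exact edgesRangeI_spec iota E 3 3708 48288 edges_3_16 v (by omega) (by omega)
  · rcases Nat.lt_or_ge v 86620 with h | h
    · rcases Nat.lt_or_ge v 64879 with h | h
      · rcases Nat.lt_or_ge v 58733 with h | h
        · rcases Nat.lt_or_ge v 55316 with h | h
          · exact edgesRangeI_spec iota E 3 3320 51996 edges_3_17 v (by omega) (by omega)
          · exact edgesRangeI_spec iota E 3 3417 55316 edges_3_18 v (by omega) (by omega)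
        · rcases Nat.lt_or_ge v 61641 with h | h
          · exact edgesRangeI_spec iota E 3 2908 58733 edges_3_19 v (by omega) (by omega)
          · exact edgesRangeI_spec iota E 3 3238 61641 edges_3_20 v (by omega) (by omega)
      · rcases Nat.lt_or_ge v 74288 with h | h
        · rcases Nat.lt_or_ge v 69952 with h | h
          · exact edgesRangeI_spec iota E 3 5073 64879 edges_3_21 v (by omega) (by omega)
          · exact edgesRangeI_spec iota E 3 4336 69952 edges_3_22 v (by omega) (by omega)
        · rcases Nat.lt_or_ge v 78127 with h | h
          · exact edgesRangeI_spec iota E 3 3839 74288 edges_3_23 v (by omega) (by omega)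
          · rcases Nat.lt_or_ge v 82281 with h | h
            · exact edgesRangeI_spec iota E 3 4154 78127 edges_3_24 v (by omega) (by omega)
            · exact edgesRangeI_spec iota E 3 4339 82281 edges_3_25 v (by omega) (by omega)
    · rcases Nat.lt_or_ge v 103612 with h | h
      · rcases Nat.lt_or_ge v 96156 with h | h
        · rcases Nat.lt_or_ge v 91316 with h | h
          · exact edgesRangeI_spec iota E 3 4696 86620 edges_3_26 v (by omega) (by omega)
          · exact edgesRangeI_spec iota E 3 4840 91316 edges_3_27 v (by omega) (by omega)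
        · rcases Nat.lt_or_ge v 99906 with h | h
          · exact edgesRangeI_spec iota E 3 3750 96156 edges_3_28 v (by omega) (by omega)
          · exact edgesRangeI_spec iota E 3 3706 99906 edges_3_29 v (by omega) (by omega)
      · rcases Nat.lt_or_ge v 112604 with h | h
        · rcases Nat.lt_or_ge v 108335 with h | h
          · exact edgesRangeI_spec iota E 3 4723 103612 edges_3_30 v (by omega) (by omega)
          · exact edgesRangeI_spec iota E 3 4269 108335 edges_3_31 v (by omega) (by omega)
        · rcases Nat.lt_or_ge v 116814 with h | h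
          · exact edgesRangeI_spec iota E 3 4210 112604 edges_3_32 v (by omega) (by omega)
          · rcases Nat.lt_or_ge v 120814 with h | h
            · exact edgesRangeI_spec iota E 3 4000 116814 edges_3_33 v (by omega) (by omega)
            · exact edgesRangeI_spec iota E 3 395 120814 edges_3_34 v (by omega) (by omega)

theorem hA0 : ∀ v, v < 121209 → aliasOK E v = true := by
  intro v hv
  rcases Nat.lt_or_ge v 59623 with h | h
  · rcases Nat.lt_or_ge v 30640 with h | h
    · rcases Nat.lt_or_ge v 14727 with h | h
      · rcases Nat.lt_or_ge v 7732 with h | h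
        · rcases Nat.lt_or_ge v 2640 with h | h
          · exact aliasRange_spec E 2640 0 aliases_0 v (by omega) (by omega)
          · rcases Nat.lt_or_ge v 5261 with h | h
            · exact aliasRange_spec E 2621 2640 aliases_1 v (by omega) (by omega)
            · exact aliasRange_spec E 2471 5261 aliases_2 v (by omega) (by omega)
        · rcases Nat.lt_or_ge v 9936 with h | h
          · exact aliasRange_spec E 2204 7732 aliases_3 v (by omega) (by omega)
          · rcases Nat.lt_or_ge v 12237 with h | h
            · exact aliasRange_spec E 2301 9936 aliases_4 v (by omega) (by omega)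
            · exact aliasRange_spec E 2490 12237 aliases_5 v (by omega) (by omega)
      · rcases Nat.lt_or_ge v 21830 with h | h
        · rcases Nat.lt_or_ge v 17232 with h | h
          · exact aliasRange_spec E 2505 14727 aliases_6 v (by omega) (by omega)
          · rcases Nat.lt_or_ge v 19424 with h | h
            · exact aliasRange_spec E 2192 17232 aliases_7 v (by omega) (by omega)
            · exact aliasRange_spec E 2406 19424 aliases_8 v (by omega) (by omega)
        · rcases Nat.lt_or_ge v 26301 with h | h
          · rcases Nat.lt_or_ge v 24085 with h | h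
            · exact aliasRange_spec E 2255 21830 aliases_9 v (by omega) (by omega)
            · exact aliasRange_spec E 2216 24085 aliases_10 v (by omega) (by omega)
          · rcases Nat.lt_or_ge v 28600 with h | h
            · exact aliasRange_spec E 2299 26301 aliases_11 v (by omega) (by omega)
            · exact aliasRange_spec E 2040 28600 aliases_12 v (by omega) (by omega)
    · rcases Nat.lt_or_ge v 45650 with h | h
      · rcases Nat.lt_or_ge v 36945 with h | h
        · rcases Nat.lt_or_ge v 32696 with h | h
          · exact aliasRange_spec E 2056 30640 aliases_13 v (by omega) (by omega)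
          · rcases Nat.lt_or_ge v 34911 with h | h
            · exact aliasRange_spec E 2215 32696 aliases_14 v (by omega) (by omega)
            · exact aliasRange_spec E 2034 34911 aliases_15 v (by omega) (by omega)
        · rcases Nat.lt_or_ge v 41123 with h | h
          · rcases Nat.lt_or_ge v 39099 with h | h
            · exact aliasRange_spec E 2154 36945 aliases_16 v (by omega) (by omega)
            · exact aliasRange_spec E 2024 39099 aliases_17 v (by omega) (by omega)
          · rcases Nat.lt_or_ge v 43331 with h | h
            · exact aliasRange_spec E 2208 41123 aliases_18 v (by omega) (by omega)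
            · exact aliasRange_spec E 2319 43331 aliases_19 v (by omega) (by omega)
      · rcases Nat.lt_or_ge v 51951 with h | h
        · rcases Nat.lt_or_ge v 47870 with h | h
          · exact aliasRange_spec E 2220 45650 aliases_20 v (by omega) (by omega)
          · rcases Nat.lt_or_ge v 49984 with h | h
            · exact aliasRange_spec E 2114 47870 aliases_21 v (by omega) (by omega)
            · exact aliasRange_spec E 1967 49984 aliases_22 v (by omega) (by omega)
        · rcases Nat.lt_or_ge v 55752 with h | h
          · rcases Nat.lt_or_ge v 53889 with h | h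
            · exact aliasRange_spec E 1938 51951 aliases_23 v (by omega) (by omega)
            · exact aliasRange_spec E 1863 53889 aliases_24 v (by omega) (by omega)
          · rcases Nat.lt_or_ge v 57725 with h | h
            · exact aliasRange_spec E 1973 55752 aliases_25 v (by omega) (by omega)
            · exact aliasRange_spec E 1898 57725 aliases_26 v (by omega) (by omega)
  · rcases Nat.lt_or_ge v 92775 with h | h
    · rcases Nat.lt_or_ge v 75890 with h | h
      · rcases Nat.lt_or_ge v 65763 with h | h
        · rcases Nat.lt_or_ge v 61792 with h | h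
          · exact aliasRange_spec E 2169 59623 aliases_27 v (by omega) (by omega)
          · rcases Nat.lt_or_ge v 63755 with h | h
            · exact aliasRange_spec E 1963 61792 aliases_28 v (by omega) (by omega)
            · exact aliasRange_spec E 2008 63755 aliases_29 v (by omega) (by omega)
        · rcases Nat.lt_or_ge v 70974 with h | h
          · rcases Nat.lt_or_ge v 68538 with h | h
            · exact aliasRange_spec E 2775 65763 aliases_30 v (by omega) (by omega)
            · exact aliasRange_spec E 2436 68538 aliases_31 v (by omega) (by omega)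
          · rcases Nat.lt_or_ge v 73378 with h | h
            · exact aliasRange_spec E 2404 70974 aliases_32 v (by omega) (by omega)
            · exact aliasRange_spec E 2512 73378 aliases_33 v (by omega) (by omega)
      · rcases Nat.lt_or_ge v 82768 with h | h
        · rcases Nat.lt_or_ge v 78022 with h | h
          · exact aliasRange_spec E 2132 75890 aliases_34 v (by omega) (by omega)
          · rcases Nat.lt_or_ge v 80418 with h | h
            · exact aliasRange_spec E 2396 78022 aliases_35 v (by omega) (by omega)
            · exact aliasRange_spec E 2350 80418 aliases_36 v (by omega) (by omega)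
        · rcases Nat.lt_or_ge v 87787 with h | h
          · rcases Nat.lt_or_ge v 85363 with h | h
            · exact aliasRange_spec E 2595 82768 aliases_37 v (by omega) (by omega)
            · exact aliasRange_spec E 2424 85363 aliases_38 v (by omega) (by omega)
          · rcases Nat.lt_or_ge v 90415 with h | h
            · exact aliasRange_spec E 2628 87787 aliases_39 v (by omega) (by omega)
            · exact aliasRange_spec E 2360 90415 aliases_40 v (by omega) (by omega)
    · rcases Nat.lt_or_ge v 107837 with h | h
      · rcases Nat.lt_or_ge v 99092 with h | h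
        · rcases Nat.lt_or_ge v 95283 with h | h
          · exact aliasRange_spec E 2508 92775 aliases_41 v (by omega) (by omega)
          · rcases Nat.lt_or_ge v 97254 with h | h
            · exact aliasRange_spec E 1971 95283 aliases_42 v (by omega) (by omega)
            · exact aliasRange_spec E 1838 97254 aliases_43 v (by omega) (by omega)
        · rcases Nat.lt_or_ge v 102976 with h | h
          · rcases Nat.lt_or_ge v 101011 with h | h
            · exact aliasRange_spec E 1919 99092 aliases_44 v (by omega) (by omega)
            · exact aliasRange_spec E 1965 101011 aliases_45 v (by omega) (by omega)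
          · rcases Nat.lt_or_ge v 105441 with h | h
            · exact aliasRange_spec E 2465 102976 aliases_46 v (by omega) (by omega)
            · exact aliasRange_spec E 2396 105441 aliases_47 v (by omega) (by omega)
      · rcases Nat.lt_or_ge v 113925 with h | h
        · rcases Nat.lt_or_ge v 109955 with h | h
          · exact aliasRange_spec E 2118 107837 aliases_48 v (by omega) (by omega)
          · rcases Nat.lt_or_ge v 111952 with h | h
            · exact aliasRange_spec E 1997 109955 aliases_49 v (by omega) (by omega)
            · exact aliasRange_spec E 1973 111952 aliases_50 v (by omega) (by omega)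
        · rcases Nat.lt_or_ge v 117651 with h | h
          · rcases Nat.lt_or_ge v 115880 with h | h
            · exact aliasRange_spec E 1955 113925 aliases_51 v (by omega) (by omega)
            · exact aliasRange_spec E 1771 115880 aliases_52 v (by omega) (by omega)
          · rcases Nat.lt_or_ge v 119597 with h | h
            · exact aliasRange_spec E 1946 117651 aliases_53 v (by omega) (by omega)
            · exact aliasRange_spec E 1612 119597 aliases_54 v (by omega) (by omega)

theorem hrows0 : ∀ v, v < 121209 → tb RS v = true → rowOK2 E RS v E.D.k = true := by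
  intro v hv
  rcases Nat.lt_or_ge v 60000 with h | h
  · rcases Nat.lt_or_ge v 30000 with h | h
    · rcases Nat.lt_or_ge v 15000 with h | h
      · rcases Nat.lt_or_ge v 7500 with h | h
        · rcases Nat.lt_or_ge v 3000 with h | h
          · rcases Nat.lt_or_ge v 1500 with h | h
            · exact rowsRange_spec E RS 1500 0 rows_0 v (by omega) (by omega)
            · exact rowsRange_spec E RS 1500 1500 rows_1 v (by omega) (by omega)
          · rcases Nat.lt_or_ge v 4500 with h | h
            · exact rowsRange_spec E RS 1500 3000 rows_2 v (by omega) (by omega)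
            · rcases Nat.lt_or_ge v 6000 with h | h
              · exact rowsRange_spec E RS 1500 4500 rows_3 v (by omega) (by omega)
              · exact rowsRange_spec E RS 1500 6000 rows_4 v (by omega) (by omega)
        · rcases Nat.lt_or_ge v 10500 with h | h
          · rcases Nat.lt_or_ge v 9000 with h | h
            · exact rowsRange_spec E RS 1500 7500 rows_5 v (by omega) (by omega)
            · exact rowsRange_spec E RS 1500 9000 rows_6 v (by omega) (by omega)
          · rcases Nat.lt_or_ge v 12000 with h | h
            · exact rowsRange_spec E RS 1500 10500 rows_7 v (by omega) (by omega)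
            · rcases Nat.lt_or_ge v 13500 with h | h
              · exact rowsRange_spec E RS 1500 12000 rows_8 v (by omega) (by omega)
              · exact rowsRange_spec E RS 1500 13500 rows_9 v (by omega) (by omega)
      · rcases Nat.lt_or_ge v 22500 with h | h
        · rcases Nat.lt_or_ge v 18000 with h | h
          · rcases Nat.lt_or_ge v 16500 with h | h
            · exact rowsRange_spec E RS 1500 15000 rows_10 v (by omega) (by omega)
            · exact rowsRange_spec E RS 1500 16500 rows_11 v (by omega) (by omega)
          · rcases Nat.lt_or_ge v 19500 with h | h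
            · exact rowsRange_spec E RS 1500 18000 rows_12 v (by omega) (by omega)
            · rcases Nat.lt_or_ge v 21000 with h | h
              · exact rowsRange_spec E RS 1500 19500 rows_13 v (by omega) (by omega)
              · exact rowsRange_spec E RS 1500 21000 rows_14 v (by omega) (by omega)
        · rcases Nat.lt_or_ge v 25500 with h | h
          · rcases Nat.lt_or_ge v 24000 with h | h
            · exact rowsRange_spec E RS 1500 22500 rows_15 v (by omega) (by omega)
            · exact rowsRange_spec E RS 1500 24000 rows_16 v (by omega) (by omega)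
          · rcases Nat.lt_or_ge v 27000 with h | h
            · exact rowsRange_spec E RS 1500 25500 rows_17 v (by omega) (by omega)
            · rcases Nat.lt_or_ge v 28500 with h | h
              · exact rowsRange_spec E RS 1500 27000 rows_18 v (by omega) (by omega)
              · exact rowsRange_spec E RS 1500 28500 rows_19 v (by omega) (by omega)
    · rcases Nat.lt_or_ge v 45000 with h | h
      · rcases Nat.lt_or_ge v 37500 with h | h
        · rcases Nat.lt_or_ge v 33000 with h | h
          · rcases Nat.lt_or_ge v 31500 with h | h
            · exact rowsRange_spec E RS 1500 30000 rows_20 v (by omega) (by omega)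
            · exact rowsRange_spec E RS 1500 31500 rows_21 v (by omega) (by omega)
          · rcases Nat.lt_or_ge v 34500 with h | h
            · exact rowsRange_spec E RS 1500 33000 rows_22 v (by omega) (by omega)
            · rcases Nat.lt_or_ge v 36000 with h | h
              · exact rowsRange_spec E RS 1500 34500 rows_23 v (by omega) (by omega)
              · exact rowsRange_spec E RS 1500 36000 rows_24 v (by omega) (by omega)
        · rcases Nat.lt_or_ge v 40500 with h | h
          · rcases Nat.lt_or_ge v 39000 with h | h
            · exact rowsRange_spec E RS 1500 37500 rows_25 v (by omega) (by omega)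
            · exact rowsRange_spec E RS 1500 39000 rows_26 v (by omega) (by omega)
          · rcases Nat.lt_or_ge v 42000 with h | h
            · exact rowsRange_spec E RS 1500 40500 rows_27 v (by omega) (by omega)
            · rcases Nat.lt_or_ge v 43500 with h | h
              · exact rowsRange_spec E RS 1500 42000 rows_28 v (by omega) (by omega)
              · exact rowsRange_spec E RS 1500 43500 rows_29 v (by omega) (by omega)
      · rcases Nat.lt_or_ge v 52500 with h | h
        · rcases Nat.lt_or_ge v 48000 with h | h
          · rcases Nat.lt_or_ge v 46500 with h | h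
            · exact rowsRange_spec E RS 1500 45000 rows_30 v (by omega) (by omega)
            · exact rowsRange_spec E RS 1500 46500 rows_31 v (by omega) (by omega)
          · rcases Nat.lt_or_ge v 49500 with h | h
            · exact rowsRange_spec E RS 1500 48000 rows_32 v (by omega) (by omega)
            · rcases Nat.lt_or_ge v 51000 with h | h
              · exact rowsRange_spec E RS 1500 49500 rows_33 v (by omega) (by omega)
              · exact rowsRange_spec E RS 1500 51000 rows_34 v (by omega) (by omega)
        · rcases Nat.lt_or_ge v 55500 with h | h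
          · rcases Nat.lt_or_ge v 54000 with h | h
            · exact rowsRange_spec E RS 1500 52500 rows_35 v (by omega) (by omega)
            · exact rowsRange_spec E RS 1500 54000 rows_36 v (by omega) (by omega)
          · rcases Nat.lt_or_ge v 57000 with h | h
            · exact rowsRange_spec E RS 1500 55500 rows_37 v (by omega) (by omega)
            · rcases Nat.lt_or_ge v 58500 with h | h
              · exact rowsRange_spec E RS 1500 57000 rows_38 v (by omega) (by omega)
              · exact rowsRange_spec E RS 1500 58500 rows_39 v (by omega) (by omega)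
  · rcases Nat.lt_or_ge v 90000 with h | h
    · rcases Nat.lt_or_ge v 75000 with h | h
      · rcases Nat.lt_or_ge v 67500 with h | h
        · rcases Nat.lt_or_ge v 63000 with h | h
          · rcases Nat.lt_or_ge v 61500 with h | h
            · exact rowsRange_spec E RS 1500 60000 rows_40 v (by omega) (by omega)
            · exact rowsRange_spec E RS 1500 61500 rows_41 v (by omega) (by omega)
          · rcases Nat.lt_or_ge v 64500 with h | h
            · exact rowsRange_spec E RS 1500 63000 rows_42 v (by omega) (by omega)
            · rcases Nat.lt_or_ge v 66000 with h | h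
              · exact rowsRange_spec E RS 1500 64500 rows_43 v (by omega) (by omega)
              · exact rowsRange_spec E RS 1500 66000 rows_44 v (by omega) (by omega)
        · rcases Nat.lt_or_ge v 70500 with h | h
          · rcases Nat.lt_or_ge v 69000 with h | h
            · exact rowsRange_spec E RS 1500 67500 rows_45 v (by omega) (by omega)
            · exact rowsRange_spec E RS 1500 69000 rows_46 v (by omega) (by omega)
          · rcases Nat.lt_or_ge v 72000 with h | h
            · exact rowsRange_spec E RS 1500 70500 rows_47 v (by omega) (by omega)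
            · rcases Nat.lt_or_ge v 73500 with h | h
              · exact rowsRange_spec E RS 1500 72000 rows_48 v (by omega) (by omega)
              · exact rowsRange_spec E RS 1500 73500 rows_49 v (by omega) (by omega)
      · rcases Nat.lt_or_ge v 82500 with h | h
        · rcases Nat.lt_or_ge v 78000 with h | h
          · rcases Nat.lt_or_ge v 76500 with h | h
            · exact rowsRange_spec E RS 1500 75000 rows_50 v (by omega) (by omega)
            · exact rowsRange_spec E RS 1500 76500 rows_51 v (by omega) (by omega)
          · rcases Nat.lt_or_ge v 79500 with h | h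
            · exact rowsRange_spec E RS 1500 78000 rows_52 v (by omega) (by omega)
            · rcases Nat.lt_or_ge v 81000 with h | h
              · exact rowsRange_spec E RS 1500 79500 rows_53 v (by omega) (by omega)
              · exact rowsRange_spec E RS 1500 81000 rows_54 v (by omega) (by omega)
        · rcases Nat.lt_or_ge v 85500 with h | h
          · rcases Nat.lt_or_ge v 84000 with h | h
            · exact rowsRange_spec E RS 1500 82500 rows_55 v (by omega) (by omega)
            · exact rowsRange_spec E RS 1500 84000 rows_56 v (by omega) (by omega)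
          · rcases Nat.lt_or_ge v 87000 with h | h
            · exact rowsRange_spec E RS 1500 85500 rows_57 v (by omega) (by omega)
            · rcases Nat.lt_or_ge v 88500 with h | h
              · exact rowsRange_spec E RS 1500 87000 rows_58 v (by omega) (by omega)
              · exact rowsRange_spec E RS 1500 88500 rows_59 v (by omega) (by omega)
    · rcases Nat.lt_or_ge v 105000 with h | h
      · rcases Nat.lt_or_ge v 97500 with h | h
        · rcases Nat.lt_or_ge v 93000 with h | h
          · rcases Nat.lt_or_ge v 91500 with h | h
            · exact rowsRange_spec E RS 1500 90000 rows_60 v (by omega) (by omega)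
            · exact rowsRange_spec E RS 1500 91500 rows_61 v (by omega) (by omega)
          · rcases Nat.lt_or_ge v 94500 with h | h
            · exact rowsRange_spec E RS 1500 93000 rows_62 v (by omega) (by omega)
            · rcases Nat.lt_or_ge v 96000 with h | h
              · exact rowsRange_spec E RS 1500 94500 rows_63 v (by omega) (by omega)
              · exact rowsRange_spec E RS 1500 96000 rows_64 v (by omega) (by omega)
        · rcases Nat.lt_or_ge v 100500 with h | h
          · rcases Nat.lt_or_ge v 99000 with h | h
            · exact rowsRange_spec E RS 1500 97500 rows_65 v (by omega) (by omega)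
            · exact rowsRange_spec E RS 1500 99000 rows_66 v (by omega) (by omega)
          · rcases Nat.lt_or_ge v 102000 with h | h
            · exact rowsRange_spec E RS 1500 100500 rows_67 v (by omega) (by omega)
            · rcases Nat.lt_or_ge v 103500 with h | h
              · exact rowsRange_spec E RS 1500 102000 rows_68 v (by omega) (by omega)
              · exact rowsRange_spec E RS 1500 103500 rows_69 v (by omega) (by omega)
      · rcases Nat.lt_or_ge v 112500 with h | h
        · rcases Nat.lt_or_ge v 108000 with h | h
          · rcases Nat.lt_or_ge v 106500 with h | h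
            · exact rowsRange_spec E RS 1500 105000 rows_70 v (by omega) (by omega)
            · exact rowsRange_spec E RS 1500 106500 rows_71 v (by omega) (by omega)
          · rcases Nat.lt_or_ge v 109500 with h | h
            · exact rowsRange_spec E RS 1500 108000 rows_72 v (by omega) (by omega)
            · rcases Nat.lt_or_ge v 111000 with h | h
              · exact rowsRange_spec E RS 1500 109500 rows_73 v (by omega) (by omega)
              · exact rowsRange_spec E RS 1500 111000 rows_74 v (by omega) (by omega)
        · rcases Nat.lt_or_ge v 117000 with h | h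
          · rcases Nat.lt_or_ge v 114000 with h | h
            · exact rowsRange_spec E RS 1500 112500 rows_75 v (by omega) (by omega)
            · rcases Nat.lt_or_ge v 115500 with h | h
              · exact rowsRange_spec E RS 1500 114000 rows_76 v (by omega) (by omega)
              · exact rowsRange_spec E RS 1500 115500 rows_77 v (by omega) (by omega)
          · rcases Nat.lt_or_ge v 118500 with h | h
            · exact rowsRange_spec E RS 1500 117000 rows_78 v (by omega) (by omega)
            · rcases Nat.lt_or_ge v 120000 with h | h
              · exact rowsRange_spec E RS 1500 118500 rows_79 v (by omega) (by omega)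
              · exact rowsRange_spec E RS 1209 120000 rows_80 v (by omega) (by omega)

theorem cb_0 : cntBits RS 0 = 0 := rfl

theorem cb_1 : cntBits RS 20000 = 3672 := by
  have h := cntBits_step RS 0 20000
  rw [cb_0, cnt_0] at h
  exact h

theorem cb_2 : cntBits RS 40000 = 6565 := by
  have h := cntBits_step RS 20000 20000
  rw [cb_1, cnt_1] at h
  exact h

theorem cb_3 : cntBits RS 60000 = 7698 := by
  have h := cntBits_step RS 40000 20000
  rw [cb_2, cnt_2] at h
  exact h

theorem cb_4 : cntBits RS 80000 = 8159 := by
  have h := cntBits_step RS 60000 20000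
  rw [cb_3, cnt_3] at h
  exact h

theorem cb_5 : cntBits RS 100000 = 8275 := by
  have h := cntBits_step RS 80000 20000
  rw [cb_4, cnt_4] at h
  exact h

theorem cb_6 : cntBits RS 120000 = 8513 := by
  have h := cntBits_step RS 100000 20000
  rw [cb_5, cnt_5] at h
  exact h

theorem cb_7 : cntBits RS 121209 = 8960 := by
  have h := cntBits_step RS 120000 1209
  rw [cb_6, cnt_6] at h
  exact h

theorem set_ok : setOK 121209 8960 RS = true :=
  setOK_of_parts cb_7 set_zero set_lt

theorem relf_0 : ∀ v, v < 8960 → W_0 v = v := by
  intro v hv
  exact fixPtsF_spec W_0 8960 0 relc_0_0 v (by omega) (by omega)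

set_option maxRecDepth 1000000 in
theorem walk_0 : ∀ v, walkT ctF (D.wlen 0) (D.wordP 0) v = W_0 v := by
  intro v
  simp only [W_0, forceL_eq]
  rfl

theorem relw_0 : ∀ v, v < 8960 → walkT ctF (D.wlen 0) (D.wordP 0) v = v := by
  intro v hv
  rw [walk_0]
  exact relf_0 v hv

theorem relf_1 : ∀ v, v < 8960 → W_1 v = v := by
  intro v hv
  exact fixPtsF_spec W_1 8960 0 relc_1_0 v (by omega) (by omega)

set_option maxRecDepth 1000000 in
theorem walk_1 : ∀ v, walkT ctF (D.wlen 1) (D.wordP 1) v = W_1 v := by
  intro v
  simp only [W_1, forceL_eq]
  rfl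

theorem relw_1 : ∀ v, v < 8960 → walkT ctF (D.wlen 1) (D.wordP 1) v = v := by
  intro v hv
  rw [walk_1]
  exact relf_1 v hv

theorem relf_2 : ∀ v, v < 8960 → W_2 v = v := by
  intro v hv
  exact fixPtsF_spec W_2 8960 0 relc_2_0 v (by omega) (by omega)

set_option maxRecDepth 1000000 in
theorem walk_2 : ∀ v, walkT ctF (D.wlen 2) (D.wordP 2) v = W_2 v := by
  intro v
  simp only [W_2, forceL_eq]
  rfl

theorem relw_2 : ∀ v, v < 8960 → walkT ctF (D.wlen 2) (D.wordP 2) v = v := by
  intro v hv
  rw [walk_2]
  exact relf_2 v hv

theorem relf_3 : ∀ v, v < 8960 → W_3 v = v := by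
  intro v hv
  exact fixPtsF_spec W_3 8960 0 relc_3_0 v (by omega) (by omega)

set_option maxRecDepth 1000000 in
theorem walk_3 : ∀ v, walkT ctF (D.wlen 3) (D.wordP 3) v = W_3 v := by
  intro v
  simp only [W_3, forceL_eq]
  rfl

theorem relw_3 : ∀ v, v < 8960 → walkT ctF (D.wlen 3) (D.wordP 3) v = v := by
  intro v hv
  rw [walk_3]
  exact relf_3 v hv

theorem relf_4 : ∀ v, v < 8960 → W_4 v = v := by
  intro v hv
  exact fixPtsF_spec W_4 8960 0 relc_4_0 v (by omega) (by omega)

set_option maxRecDepth 1000000 in
theorem walk_4 : ∀ v, walkT ctF (D.wlen 4) (D.wordP 4) v = W_4 v := by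
  intro v
  simp only [W_4, forceL_eq]
  rfl

theorem relw_4 : ∀ v, v < 8960 → walkT ctF (D.wlen 4) (D.wordP 4) v = v := by
  intro v hv
  rw [walk_4]
  exact relf_4 v hv

theorem relf_5 : ∀ v, v < 8960 → W_5 v = v := by
  intro v hv
  exact fixPtsF_spec W_5 8960 0 relc_5_0 v (by omega) (by omega)

set_option maxRecDepth 1000000 in
theorem walk_5 : ∀ v, walkT ctF (D.wlen 5) (D.wordP 5) v = W_5 v := by
  intro v
  simp only [W_5, forceL_eq]
  rfl

theorem relw_5 : ∀ v, v < 8960 → walkT ctF (D.wlen 5) (D.wordP 5) v = v := by
  intro v hv
  rw [walk_5]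
  exact relf_5 v hv

theorem relf_6 : ∀ v, v < 8960 → W_6 v = v := by
  intro v hv
  exact fixPtsF_spec W_6 8960 0 relc_6_0 v (by omega) (by omega)

set_option maxRecDepth 1000000 in
theorem walk_6 : ∀ v, walkT ctF (D.wlen 6) (D.wordP 6) v = W_6 v := by
  intro v
  simp only [W_6, forceL_eq]
  rfl

theorem relw_6 : ∀ v, v < 8960 → walkT ctF (D.wlen 6) (D.wordP 6) v = v := by
  intro v hv
  rw [walk_6]
  exact relf_6 v hv

theorem relf_7 : ∀ v, v < 8960 → W_7 v = v := by
  intro v hv
  exact fixPtsF_spec W_7 8960 0 relc_7_0 v (by omega) (by omega)

set_option maxRecDepth 1000000 in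
theorem walk_7 : ∀ v, walkT ctF (D.wlen 7) (D.wordP 7) v = W_7 v := by
  intro v
  simp only [W_7, forceL_eq]
  rfl

theorem relw_7 : ∀ v, v < 8960 → walkT ctF (D.wlen 7) (D.wordP 7) v = v := by
  intro v hv
  rw [walk_7]
  exact relf_7 v hv

theorem relf_8 : ∀ v, v < 8960 → W_8 v = v := by
  intro v hv
  exact fixPtsF_spec W_8 8960 0 relc_8_0 v (by omega) (by omega)

set_option maxRecDepth 1000000 in
theorem walk_8 : ∀ v, walkT ctF (D.wlen 8) (D.wordP 8) v = W_8 v := by
  intro v
  simp only [W_8, forceL_eq]
  rfl

theorem relw_8 : ∀ v, v < 8960 → walkT ctF (D.wlen 8) (D.wordP 8) v = v := by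
  intro v hv
  rw [walk_8]
  exact relf_8 v hv

theorem relf_9 : ∀ v, v < 8960 → W_9 v = v := by
  intro v hv
  exact fixPtsF_spec W_9 8960 0 relc_9_0 v (by omega) (by omega)

set_option maxRecDepth 1000000 in
theorem walk_9 : ∀ v, walkT ctF (D.wlen 9) (D.wordP 9) v = W_9 v := by
  intro v
  simp only [W_9, forceL_eq]
  rfl

theorem relw_9 : ∀ v, v < 8960 → walkT ctF (D.wlen 9) (D.wordP 9) v = v := by
  intro v hv
  rw [walk_9]
  exact relf_9 v hv

theorem relf_10 : ∀ v, v < 8960 → W_10 v = v := by
  intro v hv
  exact fixPtsF_spec W_10 8960 0 relc_10_0 v (by omega) (by omega)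

set_option maxRecDepth 1000000 in
theorem walk_10 : ∀ v, walkT ctF (D.wlen 10) (D.wordP 10) v = W_10 v := by
  intro v
  simp only [W_10, forceL_eq]
  rfl

theorem relw_10 : ∀ v, v < 8960 → walkT ctF (D.wlen 10) (D.wordP 10) v = v := by
  intro v hv
  rw [walk_10]
  exact relf_10 v hv

theorem relf_11 : ∀ v, v < 8960 → W_11 v = v := by
  intro v hv
  exact fixPtsF_spec W_11 8960 0 relc_11_0 v (by omega) (by omega)

set_option maxRecDepth 1000000 in
theorem walk_11 : ∀ v, walkT ctF (D.wlen 11) (D.wordP 11) v = W_11 v := by
  intro v
  simp only [W_11, forceL_eq]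
  rfl

theorem relw_11 : ∀ v, v < 8960 → walkT ctF (D.wlen 11) (D.wordP 11) v = v := by
  intro v hv
  rw [walk_11]
  exact relf_11 v hv

theorem relf_12 : ∀ v, v < 8960 → W_12 v = v := by
  intro v hv
  exact fixPtsF_spec W_12 8960 0 relc_12_0 v (by omega) (by omega)

set_option maxRecDepth 1000000 in
theorem walk_12 : ∀ v, walkT ctF (D.wlen 12) (D.wordP 12) v = W_12 v := by
  intro v
  simp only [W_12, forceL_eq]
  rfl

theorem relw_12 : ∀ v, v < 8960 → walkT ctF (D.wlen 12) (D.wordP 12) v = v := by
  intro v hv
  rw [walk_12]
  exact relf_12 v hv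

theorem relf_13 : ∀ v, v < 8960 → W_13 v = v := by
  intro v hv
  exact fixPtsF_spec W_13 8960 0 relc_13_0 v (by omega) (by omega)

set_option maxRecDepth 1000000 in
theorem walk_13 : ∀ v, walkT ctF (D.wlen 13) (D.wordP 13) v = W_13 v := by
  intro v
  simp only [W_13, forceL_eq]
  rfl

theorem relw_13 : ∀ v, v < 8960 → walkT ctF (D.wlen 13) (D.wordP 13) v = v := by
  intro v hv
  rw [walk_13]
  exact relf_13 v hv

theorem relf_14 : ∀ v, v < 8960 → W_14 v = v := by
  intro v hv
  rcases Nat.lt_or_ge v 7142 with h | h
  · exact fixPtsF_spec W_14 7142 0 relc_14_0 v (by omega) (by omega)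
  · exact fixPtsF_spec W_14 1818 7142 relc_14_1 v (by omega) (by omega)

set_option maxRecDepth 1000000 in
theorem walk_14 : ∀ v, walkT ctF (D.wlen 14) (D.wordP 14) v = W_14 v := by
  intro v
  simp only [W_14, forceL_eq]
  rfl

theorem relw_14 : ∀ v, v < 8960 → walkT ctF (D.wlen 14) (D.wordP 14) v = v := by
  intro v hv
  rw [walk_14]
  exact relf_14 v hv

theorem relf_15 : ∀ v, v < 8960 → W_15 v = v := by
  intro v hv
  rcases Nat.lt_or_ge v 7142 with h | h
  · exact fixPtsF_spec W_15 7142 0 relc_15_0 v (by omega) (by omega)
  · exact fixPtsF_spec W_15 1818 7142 relc_15_1 v (by omega) (by omega)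

set_option maxRecDepth 1000000 in
theorem walk_15 : ∀ v, walkT ctF (D.wlen 15) (D.wordP 15) v = W_15 v := by
  intro v
  simp only [W_15, forceL_eq]
  rfl

theorem relw_15 : ∀ v, v < 8960 → walkT ctF (D.wlen 15) (D.wordP 15) v = v := by
  intro v hv
  rw [walk_15]
  exact relf_15 v hv

theorem relf_16 : ∀ v, v < 8960 → W_16 v = v := by
  intro v hv
  rcases Nat.lt_or_ge v 7142 with h | h
  · exact fixPtsF_spec W_16 7142 0 relc_16_0 v (by omega) (by omega)
  · exact fixPtsF_spec W_16 1818 7142 relc_16_1 v (by omega) (by omega)

set_option maxRecDepth 1000000 in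
theorem walk_16 : ∀ v, walkT ctF (D.wlen 16) (D.wordP 16) v = W_16 v := by
  intro v
  simp only [W_16, forceL_eq]
  rfl

theorem relw_16 : ∀ v, v < 8960 → walkT ctF (D.wlen 16) (D.wordP 16) v = v := by
  intro v hv
  rw [walk_16]
  exact relf_16 v hv

theorem relf_17 : ∀ v, v < 8960 → W_17 v = v := by
  intro v hv
  rcases Nat.lt_or_ge v 7142 with h | h
  · exact fixPtsF_spec W_17 7142 0 relc_17_0 v (by omega) (by omega)
  · exact fixPtsF_spec W_17 1818 7142 relc_17_1 v (by omega) (by omega)

set_option maxRecDepth 1000000 in
theorem walk_17 : ∀ v, walkT ctF (D.wlen 17) (D.wordP 17) v = W_17 v := by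
  intro v
  simp only [W_17, forceL_eq]
  rfl

theorem relw_17 : ∀ v, v < 8960 → walkT ctF (D.wlen 17) (D.wordP 17) v = v := by
  intro v hv
  rw [walk_17]
  exact relf_17 v hv

theorem relf_18 : ∀ v, v < 8960 → W_18 v = v := by
  intro v hv
  rcases Nat.lt_or_ge v 7142 with h | h
  · exact fixPtsF_spec W_18 7142 0 relc_18_0 v (by omega) (by omega)
  · exact fixPtsF_spec W_18 1818 7142 relc_18_1 v (by omega) (by omega)

set_option maxRecDepth 1000000 in
theorem walk_18 : ∀ v, walkT ctF (D.wlen 18) (D.wordP 18) v = W_18 v := by
  intro v
  simp only [W_18, forceL_eq]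
  rfl

theorem relw_18 : ∀ v, v < 8960 → walkT ctF (D.wlen 18) (D.wordP 18) v = v := by
  intro v hv
  rw [walk_18]
  exact relf_18 v hv

theorem relf_19 : ∀ v, v < 8960 → W_19 v = v := by
  intro v hv
  rcases Nat.lt_or_ge v 7142 with h | h
  · exact fixPtsF_spec W_19 7142 0 relc_19_0 v (by omega) (by omega)
  · exact fixPtsF_spec W_19 1818 7142 relc_19_1 v (by omega) (by omega)

set_option maxRecDepth 1000000 in
theorem walk_19 : ∀ v, walkT ctF (D.wlen 19) (D.wordP 19) v = W_19 v := by
  intro v
  simp only [W_19, forceL_eq]
  rfl

theorem relw_19 : ∀ v, v < 8960 → walkT ctF (D.wlen 19) (D.wordP 19) v = v := by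
  intro v hv
  rw [walk_19]
  exact relf_19 v hv

theorem relf_20 : ∀ v, v < 8960 → W_20 v = v := by
  intro v hv
  rcases Nat.lt_or_ge v 7142 with h | h
  · exact fixPtsF_spec W_20 7142 0 relc_20_0 v (by omega) (by omega)
  · exact fixPtsF_spec W_20 1818 7142 relc_20_1 v (by omega) (by omega)

set_option maxRecDepth 1000000 in
theorem walk_20 : ∀ v, walkT ctF (D.wlen 20) (D.wordP 20) v = W_20 v := by
  intro v
  simp only [W_20, forceL_eq]
  rfl

theorem relw_20 : ∀ v, v < 8960 → walkT ctF (D.wlen 20) (D.wordP 20) v = v := by
  intro v hv
  rw [walk_20]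
  exact relf_20 v hv

theorem relf_21 : ∀ v, v < 8960 → W_21 v = v := by
  intro v hv
  rcases Nat.lt_or_ge v 7142 with h | h
  · exact fixPtsF_spec W_21 7142 0 relc_21_0 v (by omega) (by omega)
  · exact fixPtsF_spec W_21 1818 7142 relc_21_1 v (by omega) (by omega)

set_option maxRecDepth 1000000 in
theorem walk_21 : ∀ v, walkT ctF (D.wlen 21) (D.wordP 21) v = W_21 v := by
  intro v
  simp only [W_21, forceL_eq]
  rfl

theorem relw_21 : ∀ v, v < 8960 → walkT ctF (D.wlen 21) (D.wordP 21) v = v := by
  intro v hv
  rw [walk_21]
  exact relf_21 v hv

theorem relf_22 : ∀ v, v < 8960 → W_22 v = v := by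
  intro v hv
  rcases Nat.lt_or_ge v 5882 with h | h
  · exact fixPtsF_spec W_22 5882 0 relc_22_0 v (by omega) (by omega)
  · exact fixPtsF_spec W_22 3078 5882 relc_22_1 v (by omega) (by omega)

set_option maxRecDepth 1000000 in
theorem walk_22 : ∀ v, walkT ctF (D.wlen 22) (D.wordP 22) v = W_22 v := by
  intro v
  simp only [W_22, forceL_eq]
  rfl

theorem relw_22 : ∀ v, v < 8960 → walkT ctF (D.wlen 22) (D.wordP 22) v = v := by
  intro v hv
  rw [walk_22]
  exact relf_22 v hv

theorem relf_23 : ∀ v, v < 8960 → W_23 v = v := by
  intro v hv
  rcases Nat.lt_or_ge v 5882 with h | h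
  · exact fixPtsF_spec W_23 5882 0 relc_23_0 v (by omega) (by omega)
  · exact fixPtsF_spec W_23 3078 5882 relc_23_1 v (by omega) (by omega)

set_option maxRecDepth 1000000 in
theorem walk_23 : ∀ v, walkT ctF (D.wlen 23) (D.wordP 23) v = W_23 v := by
  intro v
  simp only [W_23, forceL_eq]
  rfl

theorem relw_23 : ∀ v, v < 8960 → walkT ctF (D.wlen 23) (D.wordP 23) v = v := by
  intro v hv
  rw [walk_23]
  exact relf_23 v hv

theorem relf_24 : ∀ v, v < 8960 → W_24 v = v := by
  intro v hv
  rcases Nat.lt_or_ge v 5882 with h | h
  · exact fixPtsF_spec W_24 5882 0 relc_24_0 v (by omega) (by omega)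
  · exact fixPtsF_spec W_24 3078 5882 relc_24_1 v (by omega) (by omega)

set_option maxRecDepth 1000000 in
theorem walk_24 : ∀ v, walkT ctF (D.wlen 24) (D.wordP 24) v = W_24 v := by
  intro v
  simp only [W_24, forceL_eq]
  rfl

theorem relw_24 : ∀ v, v < 8960 → walkT ctF (D.wlen 24) (D.wordP 24) v = v := by
  intro v hv
  rw [walk_24]
  exact relf_24 v hv

theorem relf_25 : ∀ v, v < 8960 → W_25 v = v := by
  intro v hv
  rcases Nat.lt_or_ge v 5882 with h | h
  · exact fixPtsF_spec W_25 5882 0 relc_25_0 v (by omega) (by omega)
  · exact fixPtsF_spec W_25 3078 5882 relc_25_1 v (by omega) (by omega)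

set_option maxRecDepth 1000000 in
theorem walk_25 : ∀ v, walkT ctF (D.wlen 25) (D.wordP 25) v = W_25 v := by
  intro v
  simp only [W_25, forceL_eq]
  rfl

theorem relw_25 : ∀ v, v < 8960 → walkT ctF (D.wlen 25) (D.wordP 25) v = v := by
  intro v hv
  rw [walk_25]
  exact relf_25 v hv

theorem relf_26 : ∀ v, v < 8960 → W_26 v = v := by
  intro v hv
  rcases Nat.lt_or_ge v 5882 with h | h
  · exact fixPtsF_spec W_26 5882 0 relc_26_0 v (by omega) (by omega)
  · exact fixPtsF_spec W_26 3078 5882 relc_26_1 v (by omega) (by omega)

set_option maxRecDepth 1000000 in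
theorem walk_26 : ∀ v, walkT ctF (D.wlen 26) (D.wordP 26) v = W_26 v := by
  intro v
  simp only [W_26, forceL_eq]
  rfl

theorem relw_26 : ∀ v, v < 8960 → walkT ctF (D.wlen 26) (D.wordP 26) v = v := by
  intro v hv
  rw [walk_26]
  exact relf_26 v hv

theorem relf_27 : ∀ v, v < 8960 → W_27 v = v := by
  intro v hv
  rcases Nat.lt_or_ge v 5882 with h | h
  · exact fixPtsF_spec W_27 5882 0 relc_27_0 v (by omega) (by omega)
  · exact fixPtsF_spec W_27 3078 5882 relc_27_1 v (by omega) (by omega)

set_option maxRecDepth 1000000 in
theorem walk_27 : ∀ v, walkT ctF (D.wlen 27) (D.wordP 27) v = W_27 v := by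
  intro v
  simp only [W_27, forceL_eq]
  rfl

theorem relw_27 : ∀ v, v < 8960 → walkT ctF (D.wlen 27) (D.wordP 27) v = v := by
  intro v hv
  rw [walk_27]
  exact relf_27 v hv

theorem relf_28 : ∀ v, v < 8960 → W_28 v = v := by
  intro v hv
  rcases Nat.lt_or_ge v 5882 with h | h
  · exact fixPtsF_spec W_28 5882 0 relc_28_0 v (by omega) (by omega)
  · exact fixPtsF_spec W_28 3078 5882 relc_28_1 v (by omega) (by omega)

set_option maxRecDepth 1000000 in
theorem walk_28 : ∀ v, walkT ctF (D.wlen 28) (D.wordP 28) v = W_28 v := by
  intro v
  simp only [W_28, forceL_eq]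
  rfl

theorem relw_28 : ∀ v, v < 8960 → walkT ctF (D.wlen 28) (D.wordP 28) v = v := by
  intro v hv
  rw [walk_28]
  exact relf_28 v hv

theorem relf_29 : ∀ v, v < 8960 → W_29 v = v := by
  intro v hv
  rcases Nat.lt_or_ge v 5882 with h | h
  · exact fixPtsF_spec W_29 5882 0 relc_29_0 v (by omega) (by omega)
  · exact fixPtsF_spec W_29 3078 5882 relc_29_1 v (by omega) (by omega)

set_option maxRecDepth 1000000 in
theorem walk_29 : ∀ v, walkT ctF (D.wlen 29) (D.wordP 29) v = W_29 v := by
  intro v
  simp only [W_29, forceL_eq]
  rfl

theorem relw_29 : ∀ v, v < 8960 → walkT ctF (D.wlen 29) (D.wordP 29) v = v := by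
  intro v hv
  rw [walk_29]
  exact relf_29 v hv

theorem relf_30 : ∀ v, v < 8960 → W_30 v = v := by
  intro v hv
  rcases Nat.lt_or_ge v 5000 with h | h
  · exact fixPtsF_spec W_30 5000 0 relc_30_0 v (by omega) (by omega)
  · exact fixPtsF_spec W_30 3960 5000 relc_30_1 v (by omega) (by omega)

set_option maxRecDepth 1000000 in
theorem walk_30 : ∀ v, walkT ctF (D.wlen 30) (D.wordP 30) v = W_30 v := by
  intro v
  simp only [W_30, forceL_eq]
  rfl

theorem relw_30 : ∀ v, v < 8960 → walkT ctF (D.wlen 30) (D.wordP 30) v = v := by
  intro v hv
  rw [walk_30]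
  exact relf_30 v hv

theorem relf_31 : ∀ v, v < 8960 → W_31 v = v := by
  intro v hv
  rcases Nat.lt_or_ge v 5000 with h | h
  · exact fixPtsF_spec W_31 5000 0 relc_31_0 v (by omega) (by omega)
  · exact fixPtsF_spec W_31 3960 5000 relc_31_1 v (by omega) (by omega)

set_option maxRecDepth 1000000 in
theorem walk_31 : ∀ v, walkT ctF (D.wlen 31) (D.wordP 31) v = W_31 v := by
  intro v
  simp only [W_31, forceL_eq]
  rfl

theorem relw_31 : ∀ v, v < 8960 → walkT ctF (D.wlen 31) (D.wordP 31) v = v := by
  intro v hv
  rw [walk_31]
  exact relf_31 v hv

theorem relf_32 : ∀ v, v < 8960 → W_32 v = v := by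
  intro v hv
  rcases Nat.lt_or_ge v 5000 with h | h
  · exact fixPtsF_spec W_32 5000 0 relc_32_0 v (by omega) (by omega)
  · exact fixPtsF_spec W_32 3960 5000 relc_32_1 v (by omega) (by omega)

set_option maxRecDepth 1000000 in
theorem walk_32 : ∀ v, walkT ctF (D.wlen 32) (D.wordP 32) v = W_32 v := by
  intro v
  simp only [W_32, forceL_eq]
  rfl

theorem relw_32 : ∀ v, v < 8960 → walkT ctF (D.wlen 32) (D.wordP 32) v = v := by
  intro v hv
  rw [walk_32]
  exact relf_32 v hv

theorem relf_33 : ∀ v, v < 8960 → W_33 v = v := by
  intro v hv
  rcases Nat.lt_or_ge v 5000 with h | h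
  · exact fixPtsF_spec W_33 5000 0 relc_33_0 v (by omega) (by omega)
  · exact fixPtsF_spec W_33 3960 5000 relc_33_1 v (by omega) (by omega)

set_option maxRecDepth 1000000 in
theorem walk_33 : ∀ v, walkT ctF (D.wlen 33) (D.wordP 33) v = W_33 v := by
  intro v
  simp only [W_33, forceL_eq]
  rfl

theorem relw_33 : ∀ v, v < 8960 → walkT ctF (D.wlen 33) (D.wordP 33) v = v := by
  intro v hv
  rw [walk_33]
  exact relf_33 v hv

theorem relf_34 : ∀ v, v < 8960 → W_34 v = v := by
  intro v hv
  rcases Nat.lt_or_ge v 3846 with h | h
  · exact fixPtsF_spec W_34 3846 0 relc_34_0 v (by omega) (by omega)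
  · rcases Nat.lt_or_ge v 7692 with h | h
    · exact fixPtsF_spec W_34 3846 3846 relc_34_1 v (by omega) (by omega)
    · exact fixPtsF_spec W_34 1268 7692 relc_34_2 v (by omega) (by omega)

set_option maxRecDepth 1000000 in
theorem walk_34 : ∀ v, walkT ctF (D.wlen 34) (D.wordP 34) v = W_34 v := by
  intro v
  simp only [W_34, forceL_eq]
  rfl

theorem relw_34 : ∀ v, v < 8960 → walkT ctF (D.wlen 34) (D.wordP 34) v = v := by
  intro v hv
  rw [walk_34]
  exact relf_34 v hv

theorem relf_35 : ∀ v, v < 8960 → W_35 v = v := by
  intro v hv
  rcases Nat.lt_or_ge v 3846 with h | h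
  · exact fixPtsF_spec W_35 3846 0 relc_35_0 v (by omega) (by omega)
  · rcases Nat.lt_or_ge v 7692 with h | h
    · exact fixPtsF_spec W_35 3846 3846 relc_35_1 v (by omega) (by omega)
    · exact fixPtsF_spec W_35 1268 7692 relc_35_2 v (by omega) (by omega)

set_option maxRecDepth 1000000 in
theorem walk_35 : ∀ v, walkT ctF (D.wlen 35) (D.wordP 35) v = W_35 v := by
  intro v
  simp only [W_35, forceL_eq]
  rfl

theorem relw_35 : ∀ v, v < 8960 → walkT ctF (D.wlen 35) (D.wordP 35) v = v := by
  intro v hv
  rw [walk_35]
  exact relf_35 v hv

theorem relf_36 : ∀ v, v < 8960 → W_36 v = v := by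
  intro v hv
  rcases Nat.lt_or_ge v 3846 with h | h
  · exact fixPtsF_spec W_36 3846 0 relc_36_0 v (by omega) (by omega)
  · rcases Nat.lt_or_ge v 7692 with h | h
    · exact fixPtsF_spec W_36 3846 3846 relc_36_1 v (by omega) (by omega)
    · exact fixPtsF_spec W_36 1268 7692 relc_36_2 v (by omega) (by omega)

set_option maxRecDepth 1000000 in
theorem walk_36 : ∀ v, walkT ctF (D.wlen 36) (D.wordP 36) v = W_36 v := by
  intro v
  simp only [W_36, forceL_eq]
  rfl

theorem relw_36 : ∀ v, v < 8960 → walkT ctF (D.wlen 36) (D.wordP 36) v = v := by
  intro v hv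
  rw [walk_36]
  exact relf_36 v hv

theorem relf_37 : ∀ v, v < 8960 → W_37 v = v := by
  intro v hv
  rcases Nat.lt_or_ge v 3846 with h | h
  · exact fixPtsF_spec W_37 3846 0 relc_37_0 v (by omega) (by omega)
  · rcases Nat.lt_or_ge v 7692 with h | h
    · exact fixPtsF_spec W_37 3846 3846 relc_37_1 v (by omega) (by omega)
    · exact fixPtsF_spec W_37 1268 7692 relc_37_2 v (by omega) (by omega)

set_option maxRecDepth 1000000 in
theorem walk_37 : ∀ v, walkT ctF (D.wlen 37) (D.wordP 37) v = W_37 v := by
  intro v
  simp only [W_37, forceL_eq]
  rfl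

theorem relw_37 : ∀ v, v < 8960 → walkT ctF (D.wlen 37) (D.wordP 37) v = v := by
  intro v hv
  rw [walk_37]
  exact relf_37 v hv

theorem relf_38 : ∀ v, v < 8960 → W_38 v = v := by
  intro v hv
  rcases Nat.lt_or_ge v 3125 with h | h
  · exact fixPtsF_spec W_38 3125 0 relc_38_0 v (by omega) (by omega)
  · rcases Nat.lt_or_ge v 6250 with h | h
    · exact fixPtsF_spec W_38 3125 3125 relc_38_1 v (by omega) (by omega)
    · exact fixPtsF_spec W_38 2710 6250 relc_38_2 v (by omega) (by omega)

set_option maxRecDepth 1000000 in
theorem walk_38 : ∀ v, walkT ctF (D.wlen 38) (D.wordP 38) v = W_38 v := by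
  intro v
  simp only [W_38, forceL_eq]
  rfl

theorem relw_38 : ∀ v, v < 8960 → walkT ctF (D.wlen 38) (D.wordP 38) v = v := by
  intro v hv
  rw [walk_38]
  exact relf_38 v hv

theorem relf_39 : ∀ v, v < 8960 → W_39 v = v := by
  intro v hv
  rcases Nat.lt_or_ge v 3125 with h | h
  · exact fixPtsF_spec W_39 3125 0 relc_39_0 v (by omega) (by omega)
  · rcases Nat.lt_or_ge v 6250 with h | h
    · exact fixPtsF_spec W_39 3125 3125 relc_39_1 v (by omega) (by omega)
    · exact fixPtsF_spec W_39 2710 6250 relc_39_2 v (by omega) (by omega)

set_option maxRecDepth 1000000 in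
theorem walk_39 : ∀ v, walkT ctF (D.wlen 39) (D.wordP 39) v = W_39 v := by
  intro v
  simp only [W_39, forceL_eq]
  rfl

theorem relw_39 : ∀ v, v < 8960 → walkT ctF (D.wlen 39) (D.wordP 39) v = v := by
  intro v hv
  rw [walk_39]
  exact relf_39 v hv

theorem relf_40 : ∀ v, v < 8960 → W_40 v = v := by
  intro v hv
  rcases Nat.lt_or_ge v 3125 with h | h
  · exact fixPtsF_spec W_40 3125 0 relc_40_0 v (by omega) (by omega)
  · rcases Nat.lt_or_ge v 6250 with h | h
    · exact fixPtsF_spec W_40 3125 3125 relc_40_1 v (by omega) (by omega)
    · exact fixPtsF_spec W_40 2710 6250 relc_40_2 v (by omega) (by omega)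

set_option maxRecDepth 1000000 in
theorem walk_40 : ∀ v, walkT ctF (D.wlen 40) (D.wordP 40) v = W_40 v := by
  intro v
  simp only [W_40, forceL_eq]
  rfl

theorem relw_40 : ∀ v, v < 8960 → walkT ctF (D.wlen 40) (D.wordP 40) v = v := by
  intro v hv
  rw [walk_40]
  exact relf_40 v hv

theorem relf_41 : ∀ v, v < 8960 → W_41 v = v := by
  intro v hv
  rcases Nat.lt_or_ge v 3125 with h | h
  · exact fixPtsF_spec W_41 3125 0 relc_41_0 v (by omega) (by omega)
  · rcases Nat.lt_or_ge v 6250 with h | h
    · exact fixPtsF_spec W_41 3125 3125 relc_41_1 v (by omega) (by omega)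
    · exact fixPtsF_spec W_41 2710 6250 relc_41_2 v (by omega) (by omega)

set_option maxRecDepth 1000000 in
theorem walk_41 : ∀ v, walkT ctF (D.wlen 41) (D.wordP 41) v = W_41 v := by
  intro v
  simp only [W_41, forceL_eq]
  rfl

theorem relw_41 : ∀ v, v < 8960 → walkT ctF (D.wlen 41) (D.wordP 41) v = v := by
  intro v hv
  rw [walk_41]
  exact relf_41 v hv

theorem invx_0 : ∀ v, v < 8960 → ctF 0 v < 8960 ∧ ctF 1 (ctF 0 v) = v := by
  intro v hv
  exact invRowFI_spec ctF 8960 0 1 8960 0 inv_0_0 v (by omega) (by omega)

theorem invx_1 : ∀ v, v < 8960 → ctF 1 v < 8960 ∧ ctF 0 (ctF 1 v) = v := by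
  intro v hv
  exact invRowFI_spec ctF 8960 1 0 8960 0 inv_1_0 v (by omega) (by omega)

theorem invx_2 : ∀ v, v < 8960 → ctF 2 v < 8960 ∧ ctF 3 (ctF 2 v) = v := by
  intro v hv
  exact invRowFI_spec ctF 8960 2 3 8960 0 inv_2_0 v (by omega) (by omega)

theorem invx_3 : ∀ v, v < 8960 → ctF 3 v < 8960 ∧ ctF 2 (ctF 3 v) = v := by
  intro v hv
  exact invRowFI_spec ctF 8960 3 2 8960 0 inv_3_0 v (by omega) (by omega)

theorem hconn : ∀ v, v < 8960 → v ≠ 0 → ∃ x, x < E.D.k ∧ ctF x v < v := by
  intro v hv
  exact connF_spec ctF 4 8960 0 conn_0 v (by omega) (by omega)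

theorem hE : ∀ v, v < E.M → ∀ x, x < E.D.k → edgeOKI iota E x v = true := by
  intro v hv x hx
  have hv' : v < 121209 := hv
  have hx' : x < 4 := hx
  interval_cases x
  · exact edgesx_0 v hv'
  · exact edgesx_1 v hv'
  · exact edgesx_2 v hv'
  · exact edgesx_3 v hv'

theorem hA : ∀ v, v < E.M → aliasOK E v = true := fun v hv => hA0 v hv

theorem hrows : ∀ v, v < E.M → tb RS v = true → rowOK2 E RS v E.D.k = true := fun v hv => hrows0 v hv

theorem hT : ∀ x, x < E.D.k → ∀ v, v < 8960 → ctF x v < 8960 ∧ ctF (iota x) (ctF x v) = v := by
  intro x hx
  have hx' : x < 4 := hx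
  interval_cases x
  · exact invx_0
  · exact invx_1
  · exact invx_2
  · exact invx_3

theorem hltr : ∀ j, j < E.D.nw → lettersOK E.D.k (E.D.wlen j) (E.D.wordP j) = true :=
  wordsOK_spec D D.nw words_ok

theorem hrelT : ∀ wi, wi < E.D.nrel → ∀ v, v < 8960 →
    walkT ctF (E.D.wlen wi) (E.D.wordP wi) v = v := by
  intro wi hwi
  have hwi' : wi < 42 := hwi
  interval_cases wi
  · exact relw_0
  · exact relw_1
  · exact relw_2
  · exact relw_3
  · exact relw_4
  · exact relw_5
  · exact relw_6
  · exact relw_7
  · exact relw_8
  · exact relw_9
  · exact relw_10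
  · exact relw_11
  · exact relw_12
  · exact relw_13
  · exact relw_14
  · exact relw_15
  · exact relw_16
  · exact relw_17
  · exact relw_18
  · exact relw_19
  · exact relw_20
  · exact relw_21
  · exact relw_22
  · exact relw_23
  · exact relw_24
  · exact relw_25
  · exact relw_26
  · exact relw_27
  · exact relw_28
  · exact relw_29
  · exact relw_30
  · exact relw_31
  · exact relw_32
  · exact relw_33
  · exact relw_34
  · exact relw_35
  · exact relw_36
  · exact relw_37
  · exact relw_38
  · exact relw_39
  · exact relw_40
  · exact relw_41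

theorem hsubT : ∀ wi, wi < E.D.nw → E.D.nrel ≤ wi →
    walkT ctF (E.D.wlen wi) (E.D.wordP wi) 0 = 0 :=
  subAll_spec ctF D D.nw sub_ok

end Cfsg.Agent.Helper5.Sz8CTC
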