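import Mathlib
import Cfsg.Agent.Helper7.SzElts
import Cfsg.Agent.Helper5.GF8
import Cfsg.Agent.Helper5.StemPB

/-! generated: two generators of order 13 of the Suzuki group `Sz(8)`, relators, generation -/

set_option autoImplicit false

namespace Cfsg.Agent.Helper5.Sz8Cov

open Cfsg.Agent.Helper7.Sz Cfsg.Agent.Helper5.GF8 Cfsg.Agent.Helper5.StemP

universe u

/-- a `4 × 4` matrix over the field with eight elements from a table of numbers `0, …, 7`. -/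
def mk84 (l : List (List ℕ)) : Matrix (Fin 4) (Fin 4) F8 :=
  fun i j => F8.ofN ((l.getD i.val []).getD j.val 0)

/-- the matrices of the letters `x, x⁻¹, y, y⁻¹` over the model field. -/
def M8 (c : ℕ) : Matrix (Fin 4) (Fin 4) F8 :=
  if c = 0 then mk84 [[7, 2, 5, 4], [0, 2, 5, 0], [7, 2, 0, 0], [7, 0, 0, 0]]
  else if c = 1 then mk84 [[0, 0, 0, 4], [0, 0, 5, 5], [0, 2, 2, 2], [7, 7, 0, 7]]
  else if c = 2 then mk84 [[0, 0, 0, 7], [0, 0, 2, 7], [0, 5, 2, 0], [4, 5, 2, 7]]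
  else mk84 [[7, 0, 7, 7], [2, 2, 2, 0], [5, 5, 0, 0], [4, 0, 0, 0]]

/-- the relator words. -/
def CC : List (List ℕ) := [[1, 2, 1, 2, 2, 1, 2, 1, 2, 2], [0, 3, 3, 0, 3, 0, 3, 3, 0, 3], [1, 1, 2, 1, 2, 1, 1, 2, 1, 2], [0, 3, 0, 0, 3, 0, 3, 0, 0, 3], [0, 0, 2, 2, 0, 0, 3, 3, 3, 1, 3, 3, 3], [0, 0, 0, 2, 0, 0, 0, 3, 3, 1, 1, 3, 3], [0, 2, 2, 2, 1, 1, 3, 3, 1, 1, 2, 2, 2], [0, 0, 2, 2, 1, 1, 1, 3, 1, 1, 1, 2, 2], [0, 0, 2, 1, 1, 1, 1, 3, 3, 3, 3, 1, 1, 1, 1, 2], [0, 2, 0, 2, 1, 1, 1, 1, 3, 3, 1, 1, 3, 3, 3, 3], [0, 0, 2, 2, 0, 0, 0, 0, 3, 1, 3, 1, 2, 2, 2, 2], [0, 2, 2, 0, 0, 3, 1, 1, 1, 1, 1, 3, 0, 0, 2, 2]]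

theorem CC_lt : ∀ r ∈ CC, ∀ c ∈ r, c < 2 * 2 := by decide +kernel

set_option maxRecDepth 100000 in
theorem M8_rels : ∀ r ∈ CC, (r.map M8).prod = 1 := by decide +kernel

set_option maxRecDepth 100000 in
theorem M8_x : M8 0 = Tmat 1 1 0 * Wmat * Hmat 1 (F8.ofN 2) := by decide +kernel

set_option maxRecDepth 100000 in
theorem M8_y : M8 2 = Wmat * M8 0 * Wmat := by decide +kernel

set_option maxRecDepth 100000 in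
theorem M8_xpow : M8 0 ^ 13 = 1 := by decide +kernel

set_option maxRecDepth 100000 in
theorem M8_ypow : M8 2 ^ 13 = 1 := by decide +kernel

set_option maxRecDepth 100000 in
theorem M8_xinv : M8 1 = M8 0 ^ 12 := by decide +kernel

set_option maxRecDepth 100000 in
theorem M8_yinv : M8 3 = M8 2 ^ 12 := by decide +kernel

/-- the code of an element of the model field. -/
def code (a : F8) : ℕ := a.c0.val + 2 * a.c1.val + 4 * a.c2.val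

/-- words for the elements `T(a, b)`. -/
def wTtab : List (List (List ℕ)) := [[[], [1, 3, 3, 1, 2, 0, 2, 2, 2], [0, 3, 1, 1, 3, 0, 2, 0, 0], [1, 1, 2, 2, 0, 2, 1, 2, 0], [0, 2, 2, 0, 3, 0, 2, 2, 2, 2], [2, 2, 0, 3, 1, 3, 3, 3, 1, 2, 2], [0, 0, 2, 2, 2, 0, 3, 1, 1, 3, 3], [0, 0, 3, 1, 1, 2, 2, 1, 3, 0, 2, 0]], [[1, 3, 1, 1, 3, 0, 0, 0, 3], [2, 1, 1, 1, 2, 0, 0, 2, 0], [1, 3, 3, 0, 0, 3, 3, 3, 3, 3], [0, 3, 3, 3, 0, 0, 0, 0, 2, 2], [3, 0, 2, 2, 2, 1, 3, 3, 3], [2, 2, 2, 0, 3, 3, 3, 1, 2], [2, 1, 3, 0, 2, 0, 2, 1], [0, 3, 1, 3, 1, 2, 0, 3]], [[1, 1, 2, 0, 0, 3, 3, 3], [0, 2, 2, 1, 3, 3, 1, 2, 0, 2, 0], [0, 2, 0, 2, 2, 1, 3, 1, 1], [3, 3, 1, 1, 3, 1, 3, 0, 0, 0], [1, 1, 1, 2, 0, 2, 0, 0, 2, 2], [0, 0, 2, 0, 3, 3, 1, 3, 1], [0, 0, 3, 3, 1, 2, 1, 3, 0, 0, 3], [2, 2, 2, 1, 1, 3, 0, 0]], [[3,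 3, 1, 2, 0, 0, 3, 3, 0], [2, 1, 3, 1, 2, 0, 2], [1, 2, 2, 1, 1, 3, 0, 2, 2], [3, 1, 3, 0, 2, 0, 3], [2, 2, 0, 3, 3, 1, 1, 3, 0], [0, 0, 0, 0, 2, 1, 1, 1, 3], [1, 1, 1, 3, 3, 0, 2, 2, 2], [2, 0, 0, 0, 3, 1, 1, 1, 1]], [[0, 3, 1, 1, 2, 1, 1, 2, 0], [1, 2, 1, 3, 1, 1, 3, 3, 3], [2, 2, 2, 0, 0, 2, 0, 3, 0], [1, 1, 2, 1, 1, 2, 0, 2, 1], [2, 0, 2, 2, 1, 3, 0, 2, 2, 2], [0, 2, 2, 1, 3, 1, 2], [3, 0, 2, 0, 3, 3, 1], [3, 3, 3, 1, 2, 0, 3, 3, 1, 3]], [[3, 1, 2, 0, 2, 1, 1], [0, 3, 3, 3, 1, 1, 2, 0, 0], [0, 3, 0, 0, 3, 3, 1, 2, 0], [1, 3, 1, 2, 2, 1, 2, 2, 2], [0, 0, 3, 1, 3, 0, 2], [1, 1, 3, 0, 0, 2, 2, 2, 1], [1, 1, 2, 1, 1, 1, 2, 0, 3], [3, 3, 1, 2, 2, 1, 2, 2, 0]], [[2, 1, 1, 3, 3, 1, 3, 1, 3, 0], [0, 3, 3, 3, 0, 2, 0, 2, 2, 0], [0, 0, 3, 1, 3, 3, 0, 2, 0, 3], [1, 2, 0, 3, 0, 0, 2, 0], [1,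 1, 1, 2, 2, 2, 2, 0, 0, 2], [1, 1, 3, 3, 1, 3, 1, 3, 0, 3], [1, 3, 1, 1, 2, 1, 3, 0], [0, 0, 0, 0, 3, 3, 1, 2, 2, 1]], [[1, 1, 1, 3, 0, 3, 3, 1, 3], [2, 1, 1, 1, 2, 2, 1, 3, 0], [1, 2, 2, 0, 0, 3, 1, 1, 2, 2], [0, 2, 0, 0, 3, 1, 3], [3, 0, 0, 0, 3, 3, 1, 2, 2, 2], [2, 0, 2, 1, 1, 3, 1], [2, 0, 2, 2, 1, 2, 0, 0, 0], [1, 2, 0, 3, 3, 0, 0, 0, 3]]]

/-- words for the elements `H(t)`. -/
def wHtab : List (List ℕ) := [[], [], [2, 1, 1, 3, 0, 2, 2, 1], [1, 3, 3, 3, 3, 0, 0, 0, 0, 2], [1, 2, 0, 3, 3, 0, 0, 3, 1, 2], [0, 3, 3, 1, 2, 0, 0, 3], [0, 0, 2, 2, 1, 3, 1, 1, 2, 2], [3, 0, 2, 1, 1, 2, 2, 1, 3, 0]]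

/-- a word for the element `W`. -/
def wW : List ℕ := [0, 2, 0, 2, 0, 2, 0]

/-- the word for `T(a, b)`. -/
def wT (a b : F8) : List ℕ := (wTtab.getD (code a) []).getD (code b) []

/-- the word for `H(t)`. -/
def wH (t : F8) : List ℕ := wHtab.getD (code t) []

set_option maxRecDepth 100000 in
theorem wT_lt : ∀ a b : F8, ∀ c ∈ wT a b, c < 2 * 2 := by decide +kernel

set_option maxRecDepth 100000 in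
theorem wH_lt : ∀ t : F8, ∀ c ∈ wH t, c < 2 * 2 := by decide +kernel

theorem wW_lt : ∀ c ∈ wW, c < 2 * 2 := by decide +kernel

set_option maxRecDepth 100000 in
theorem wT_eq : ∀ a b : F8, ((wT a b).map M8).prod = Tmat 1 a b := by decide +kernel

set_option maxRecDepth 100000 in
theorem wH_eq : ∀ t : F8, t ≠ 0 → ((wH t).map M8).prod = Hmat 1 t := by decide +kernel

set_option maxRecDepth 100000 in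
theorem wW_eq : (wW.map M8).prod = Wmat := by decide +kernel

end Cfsg.Agent.Helper5.Sz8Cov
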