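import Mathlib
import Cfsg.Agent.Helper7.SzLie
import Cfsg.Agent.Helper7.SzOrder
import Cfsg.Agent.Helper5.Sz8Dat

/-!
# Two generators of order 13 of the Suzuki group `Sz(8)` over any field with eight elements

relators (`g_rels`), generation (`g_closure`), the order (`card_Sz8`).
-/

set_option autoImplicit false

namespace Cfsg.Agent.Helper5.Sz8Cov

open Cfsg.Agent.Helper7.Sz Cfsg.Agent.Helper5.GF8 Cfsg.Agent.Helper5.StemP

universe u

section
variable {F : Type u} [Field F] [Fintype F]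

theorem fh (hF : Fintype.card F = 8) : FH F 1 := ⟨le_refl 1, by rw [hF]; norm_num⟩

/-- the model field is the given field with eight elements. -/
noncomputable def e8F (hF : Fintype.card F = 8) : F8 ≃+* F :=
  FiniteField.ringEquivOfCardEq (by rw [F8.card_eq, hF])

/-- the induced map of matrices. -/
noncomputable def Phi (hF : Fintype.card F = 8) :
    Matrix (Fin 4) (Fin 4) F8 →+* Matrix (Fin 4) (Fin 4) F :=
  ((e8F hF : F8 ≃+* F) : F8 →+* F).mapMatrix

theorem Phi_apply (hF : Fintype.card F = 8) (M : Matrix (Fin 4) (Fin 4) F8) (i j : Fin 4) :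
    Phi hF M i j = e8F hF (M i j) := rfl

theorem sg_map (hF : Fintype.card F = 8) (x : F8) : e8F hF (sg 1 x) = sg 1 (e8F hF x) := by
  unfold sg
  rw [map_pow]

theorem Phi_Tmat (hF : Fintype.card F = 8) (a b : F8) :
    Phi hF (Tmat 1 a b) = Tmat 1 (e8F hF a) (e8F hF b) := by
  ext i j
  rw [Phi_apply]
  fin_cases i <;> fin_cases j <;>
    simp [Tmat, map_add, map_mul, sg_map]

theorem Phi_Hmat (hF : Fintype.card F = 8) (t : F8) :
    Phi hF (Hmat 1 t) = Hmat 1 (e8F hF t) := by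
  ext i j
  rw [Phi_apply]
  fin_cases i <;> fin_cases j <;>
    simp [Hmat, map_mul, sg_map, map_inv₀]

theorem Phi_Wmat (hF : Fintype.card F = 8) :
    Phi hF (Wmat : Matrix (Fin 4) (Fin 4) F8) = Wmat := by
  ext i j
  rw [Phi_apply]
  fin_cases i <;> fin_cases j <;> simp [Wmat]

/-- the underlying matrix, as a homomorphism. -/
def cm : Cfsg.Sz F 1 →* Matrix (Fin 4) (Fin 4) F where
  toFun s := s.1.1
  map_one' := rfl
  map_mul' _ _ := rfl

omit [Fintype F] in
theorem cm_injective : Function.Injective (cm : Cfsg.Sz F 1 → Matrix (Fin 4) (Fin 4) F) := by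
  intro s t h
  exact Subtype.ext (Subtype.ext h)

/-- the primitive element. -/
noncomputable def al (hF : Fintype.card F = 8) : Fˣ :=
  Units.mk0 (e8F hF (F8.ofN 2)) (by
    rw [Ne, map_eq_zero_iff _ (e8F hF).injective]
    decide)

/-- the first generator. -/
noncomputable def xS (hF : Fintype.card F = 8) : Cfsg.Sz F 1 :=
  TelS (fh hF) 1 0 * WelS (fh hF) * HelS (fh hF) (al hF)

/-- the second generator. -/
noncomputable def yS (hF : Fintype.card F = 8) : Cfsg.Sz F 1 :=
  WelS (fh hF) * xS hF * WelS (fh hF)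

/-- the generators. -/
noncomputable def g (hF : Fintype.card F = 8) (i : ℕ) : Cfsg.Sz F 1 :=
  if i = 0 then xS hF else if i = 1 then yS hF else 1

/-- the orders. -/
def mm (_ : ℕ) : ℕ := 13

theorem cm_TelS (hF : Fintype.card F = 8) (a b : F) : cm (TelS (fh hF) a b) = Tmat 1 a b := rfl

theorem cm_HelS (hF : Fintype.card F = 8) (t : Fˣ) : cm (HelS (fh hF) t) = Hmat 1 (t : F) := rfl

theorem cm_WelS (hF : Fintype.card F = 8) : cm (WelS (fh hF) : Cfsg.Sz F 1) = Wmat := rfl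

theorem cm_xS (hF : Fintype.card F = 8) : cm (xS hF) = Phi hF (M8 0) := by
  unfold xS
  rw [map_mul, map_mul, cm_TelS hF, cm_HelS hF, cm_WelS hF, M8_x, map_mul, map_mul, Phi_Tmat, Phi_Wmat,
    Phi_Hmat, map_one, map_zero]
  rfl

theorem cm_yS (hF : Fintype.card F = 8) : cm (yS hF) = Phi hF (M8 2) := by
  unfold yS
  rw [map_mul, map_mul, cm_WelS hF, cm_xS, M8_y, map_mul, map_mul, Phi_Wmat]

theorem xS_pow (hF : Fintype.card F = 8) : xS hF ^ 13 = 1 := by
  apply cm_injective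
  rw [map_pow, cm_xS, ← map_pow, M8_xpow, map_one, map_one]

theorem yS_pow (hF : Fintype.card F = 8) : yS hF ^ 13 = 1 := by
  apply cm_injective
  rw [map_pow, cm_yS, ← map_pow, M8_ypow, map_one, map_one]

theorem xS_inv (hF : Fintype.card F = 8) : (xS hF)⁻¹ = xS hF ^ 12 := by
  apply inv_eq_of_mul_eq_one_right
  rw [← pow_succ', xS_pow]

theorem yS_inv (hF : Fintype.card F = 8) : (yS hF)⁻¹ = yS hF ^ 12 := by
  apply inv_eq_of_mul_eq_one_right
  rw [← pow_succ', yS_pow]

theorem lval_g0 (hF : Fintype.card F = 8) : lval (g hF) 0 = xS hF := rfl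

theorem lval_g1 (hF : Fintype.card F = 8) : lval (g hF) 1 = (xS hF)⁻¹ := rfl

theorem lval_g2 (hF : Fintype.card F = 8) : lval (g hF) 2 = yS hF := rfl

theorem lval_g3 (hF : Fintype.card F = 8) : lval (g hF) 3 = (yS hF)⁻¹ := rfl

theorem cm_lval (hF : Fintype.card F = 8) : ∀ c, c < 2 * 2 →
    cm (lval (g hF) c) = Phi hF (M8 c) := by
  intro c hc
  interval_cases c
  · rw [lval_g0, cm_xS]
  · rw [lval_g1, xS_inv, map_pow, cm_xS, ← map_pow, ← M8_xinv]
  · rw [lval_g2, cm_yS]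
  · rw [lval_g3, yS_inv, map_pow, cm_yS, ← map_pow, ← M8_yinv]

theorem cm_word (hF : Fintype.card F = 8) : ∀ l : List ℕ, (∀ c ∈ l, c < 2 * 2) →
    cm ((l.map (lval (g hF))).prod) = Phi hF ((l.map M8).prod)
  | [], _ => by simp
  | c :: l, hl => by
    rw [List.map_cons, List.prod_cons, List.map_cons, List.prod_cons, map_mul, map_mul,
      cm_lval hF c (hl c List.mem_cons_self),
      cm_word hF l (fun c hc => hl c (List.mem_cons_of_mem _ hc))]

theorem g_pow (hF : Fintype.card F = 8) : ∀ i, i < 2 → g hF i ^ mm i = 1 := by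
  intro i hi
  interval_cases i
  · exact xS_pow hF
  · exact yS_pow hF

theorem g_rels (hF : Fintype.card F = 8) : ∀ r ∈ CC, (r.map (lval (g hF))).prod = 1 := by
  intro r hr
  apply cm_injective
  rw [cm_word hF r (CC_lt r hr), M8_rels r hr, map_one, map_one]

theorem prod_lval_mem' {K : Type*} [Group K] (x : ℕ → K) (d : ℕ) : ∀ r : List ℕ,
    (∀ c ∈ r, c < 2 * d) →
    (r.map (lval x)).prod ∈ Subgroup.closure {y | ∃ i, i < d ∧ y = x i} := by
  intro r hr
  apply Subgroup.list_prod_mem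
  intro y hy
  obtain ⟨c, hc, rfl⟩ := List.mem_map.mp hy
  have hi : c / 2 < d := by have := hr c hc; omega
  unfold lval
  split_ifs
  · exact Subgroup.subset_closure ⟨c / 2, hi, rfl⟩
  · exact inv_mem (Subgroup.subset_closure ⟨c / 2, hi, rfl⟩)

theorem TelS_mem (hF : Fintype.card F = 8) (a b : F) :
    TelS (fh hF) a b ∈ Subgroup.closure {y | ∃ i, i < 2 ∧ y = g hF i} := by
  obtain ⟨a', rfl⟩ := (e8F hF).surjective a
  obtain ⟨b', rfl⟩ := (e8F hF).surjective b
  have h : TelS (fh hF) (e8F hF a') (e8F hF b') = ((wT a' b').map (lval (g hF))).prod := by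
    apply cm_injective
    rw [cm_word hF _ (wT_lt a' b'), wT_eq, Phi_Tmat, cm_TelS hF]
  rw [h]
  exact prod_lval_mem' (g hF) 2 _ (wT_lt a' b')

theorem HelS_mem (hF : Fintype.card F = 8) (t : Fˣ) :
    HelS (fh hF) t ∈ Subgroup.closure {y | ∃ i, i < 2 ∧ y = g hF i} := by
  obtain ⟨t', ht'⟩ := (e8F hF).surjective (t : F)
  have hne : t' ≠ 0 := by
    rintro rfl
    rw [map_zero] at ht'
    exact t.ne_zero ht'.symm
  have h : HelS (fh hF) t = ((wH t').map (lval (g hF))).prod := by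
    apply cm_injective
    rw [cm_word hF _ (wH_lt t'), wH_eq t' hne, Phi_Hmat, cm_HelS hF, ht']
  rw [h]
  exact prod_lval_mem' (g hF) 2 _ (wH_lt t')

theorem WelS_mem (hF : Fintype.card F = 8) :
    WelS (fh hF) ∈ Subgroup.closure {y | ∃ i, i < 2 ∧ y = g hF i} := by
  have h : WelS (fh hF) = ((wW.map (lval (g hF))).prod : Cfsg.Sz F 1) := by
    apply cm_injective
    rw [cm_word hF _ wW_lt, wW_eq, Phi_Wmat, cm_WelS hF]
  rw [h]
  exact prod_lval_mem' (g hF) 2 _ wW_lt

theorem g_closure (hF : Fintype.card F = 8) :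
    Subgroup.closure {y | ∃ i, i < 2 ∧ y = g hF i} = ⊤ := by
  rw [eq_top_iff]
  rintro ⟨s, hs⟩ -
  rcases eq_prod (fh hF) hs with ⟨a, b, t, ht, e⟩ | ⟨a, b, a', b', t, ht, e⟩
  · have h : (⟨s, hs⟩ : Cfsg.Sz F 1) = TelS (fh hF) a b * HelS (fh hF) (Units.mk0 t ht) :=
      Subtype.ext e
    rw [h]
    exact mul_mem (TelS_mem hF a b) (HelS_mem hF _)
  · have h : (⟨s, hs⟩ : Cfsg.Sz F 1) = TelS (fh hF) a b * WelS (fh hF) *
        (TelS (fh hF) a' b' * HelS (fh hF) (Units.mk0 t ht)) := Subtype.ext e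
    rw [h]
    exact mul_mem (mul_mem (TelS_mem hF a b) (WelS_mem hF))
      (mul_mem (TelS_mem hF a' b') (HelS_mem hF _))

theorem card_Sz8 (hF : Fintype.card F = 8) : Nat.card (Cfsg.Sz F 1) = 29120 := by
  rw [card_Sz (fh hF), hF]
  norm_num

end

end Cfsg.Agent.Helper5.Sz8Cov
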