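import Mathlib
import Cfsg.Agent.Helper5.Sz8Cov

/-!
# The Schur multiplier of `Sz(8)` is a four-group
-/

set_option autoImplicit false

namespace Cfsg.Agent.Helper5.Sz8Cov

open Cfsg.Agent.Helper5.TC Cfsg.Agent.Helper5.TCI Cfsg.Agent.Helper5.LP Cfsg.Agent.Helper5.StemP
open Cfsg.Agent.Helper7.Sz

universe u

section
variable {F : Type u} [Field F] [Fintype F]

theorem g_rels2 (hF : Fintype.card F = 8) :
    ∀ r ∈ CC ++ CC, (r.map (lval (g hF))).prod = 1 := by
  intro r hr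
  rcases List.mem_append.mp hr with h | h <;> exact g_rels hF r h

theorem mm_cop (hF : Fintype.card F = 8) :
    ∀ i, i < 2 → g hF i ^ mm i = 1 ∧ (mm i).Coprime (2 ^ 6) := by
  intro i hi
  refine ⟨g_pow hF i hi, ?_⟩
  unfold mm
  decide

/-- the natural map of the covering group onto `Sz(8)`. -/
noncomputable def piE (hF : Fintype.card F = 8) : CovG 2 mm CC CC 4 →* Cfsg.Sz F 1 :=
  coverHomU 2 mm CC CC 4 CC2_lt (g hF) (g_pow hF) (g_rels2 hF)

theorem piE_surjective (hF : Fintype.card F = 8) : Function.Surjective (piE hF) :=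
  coverHomU_surjective 2 mm CC CC 4 CC2_lt (g hF) (g_pow hF) (g_rels2 hF) (g_closure hF)

theorem card_ker_piE (hF : Fintype.card F = 8) : Nat.card (piE hF).ker ∣ 4 := by
  have : Finite (Cfsg.Sz F 1) := Nat.finite_of_card_ne_zero (by rw [card_Sz8 hF]; norm_num)
  apply card_ker_dvd_of_card_dvd (piE hF) (piE_surjective hF) 4
  rw [card_Sz8 hF]
  exact finE.2

theorem ker_facts (hF : Fintype.card F = 8) :
    (piE hF).ker ≤ Subgroup.center (CovG 2 mm CC CC 4) ∧ IsKleinFour (piE hF).ker ∧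
      ∀ y ∈ (piE hF).ker, y ^ 2 = 1 :=
  klein_of_two_involutions (piE hF).ker (card_ker_piE hF) (ev (2 * 2) RR z1w) (ev (2 * 2) RR z2w)
    (coverHomU_ker 2 mm CC CC 4 CC2_lt (g hF) (g_pow hF) (g_rels2 hF) z1_mem)
    (coverHomU_ker 2 mm CC CC 4 CC2_lt (g hF) (g_pow hF) (g_rels2 hF) z2_mem)
    (cover_center 2 mm CC CC 4 z1_mem (CC_lt _ z1_mem))
    (cover_center 2 mm CC CC 4 z2_mem (CC_lt _ z2_mem))
    z1_sq z2_sq z1_ne z2_ne z12_ne

theorem bound (hF : Fintype.card F = 8) (Γ : Type u) [Group Γ] [Finite Γ]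
    (σ : Γ →* Cfsg.Sz F 1) (hσ : Cfsg.IsStemExtension σ) : Nat.card σ.ker ∣ 4 := by
  have : Finite (Cfsg.Sz F 1) := Nat.finite_of_card_ne_zero (by rw [card_Sz8 hF]; norm_num)
  have hc := hσ.2.1
  have : Finite (CovG 2 mm CC CC (2 ^ 2)) := finE.1
  have h2 : Nat.card (qmap σ hc 455).ker ∣ 4 :=
    card_qmap_ker_dvd_of_exp σ hσ hc 2 6 1 2 455 (by norm_num) (by rw [card_Sz8 hF]; norm_num)
      2 mm CC CC CC2_lt (g hF) (g_closure hF) (mm_cop hF) (g_rels2 hF) 4
      (by rw [card_Sz8 hF]; exact finE.2) (fun y hy => (ker_facts hF).2.2 y hy)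
  have h5 : ∀ z ∈ σ.ker, z ^ 455 = 1 → z = 1 := by
    intro z hz hz1
    refine eq_one_of_pow_eq_one σ hσ 455 ?_ z hz hz1
    intro q hq hq455
    rw [card_Sz8 hF]
    have h455 : (455 : ℕ) = 5 * (7 * 13) := by norm_num
    rw [h455] at hq455
    rcases (Nat.Prime.dvd_mul hq).mp hq455 with h | h
    · rw [(Nat.prime_dvd_prime_iff_eq hq (by norm_num)).mp h]
      decide
    · rcases (Nat.Prime.dvd_mul hq).mp h with h | h
      · rw [(Nat.prime_dvd_prime_iff_eq hq (by norm_num)).mp h]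
        decide
      · rw [(Nat.prime_dvd_prime_iff_eq hq (by norm_num)).mp h]
        decide
  rw [← card_qmap_ker σ hc 455 h5]
  exact h2

/-- **The Schur multiplier of `Sz(8)` is a four-group.** -/
theorem main (hF : Fintype.card F = 8) :
    Cfsg.HasSchurMultiplier (Cfsg.Sz F 1) (Multiplicative (ZMod 2 × ZMod 2)) := by
  have : Finite (Cfsg.Sz F 1) := Nat.finite_of_card_ne_zero (by rw [card_Sz8 hF]; norm_num)
  apply hasSchurMultiplier_of_exists_of_card_le
  · obtain ⟨hcen, hklein, hsq⟩ := ker_facts hF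
    have hstem := isStem_of_central (piE hF) (piE_surjective hF) (piE hF).ker hcen le_rfl le_rfl
      {x | ∃ i, i < 2 ∧ x = cgen 2 mm CC CC 4 i} (closure_cgen 2 mm CC CC 4) 13
      (by
        rintro x ⟨i, hi, rfl⟩
        exact cgen_pow 2 mm CC CC 4 hi)
      2 (fun z hz => hsq z hz) (by decide)
    let φ : ULift.{u} (CovG 2 mm CC CC 4) ≃* CovG 2 mm CC CC 4 := MulEquiv.ulift
    refine ⟨ULift.{u} (CovG 2 mm CC CC 4), inferInstance, inferInstance,
      (piE hF).comp φ.toMonoidHom, isStem_equiv_comp (piE hF) hstem.1 φ, ?_⟩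
    obtain ⟨e2⟩ := IsKleinFour.nonempty_mulEquiv (G₁ := (piE hF).ker)
      (G₂ := Multiplicative (ZMod 2 × ZMod 2))
    exact ⟨(kerEquivComp (piE hF) φ).trans e2⟩
  · intro Γ _ _ σ hσ
    have h4 : Nat.card (Multiplicative (ZMod 2 × ZMod 2)) = 4 := by
      rw [Nat.card_eq_fintype_card]
      rfl
    rw [h4]
    exact Nat.le_of_dvd (by norm_num) (bound hF Γ σ hσ)

end

end Cfsg.Agent.Helper5.Sz8Cov
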