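import Mathlib
import Cfsg.Prelude.Def_SporCoxeter
import Cfsg.Agent.Helper5.TC2F
import Cfsg.Agent.Helper5.TC3A

/-!
# Certified coset enumeration: Coxeter relators checked on the table for one orientation only
-/

set_option autoImplicit false

namespace Cfsg.Agent.Helper5.TC

open Cfsg.Spor

theorem coxLabel_swap {α : Type*} [DecidableEq α] (edges : List (α × ℕ × α)) (x y : α) :
    coxLabel edges x y = coxLabel edges y x := by
  unfold coxLabel
  by_cases h : x = y
  · subst h; rfl
  · rw [if_neg h, if_neg (Ne.symm h)]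
    have e : (fun e : α × ℕ × α => decide ((e.1 = x ∧ e.2.2 = y) ∨ (e.1 = y ∧ e.2.2 = x)))
        = (fun e : α × ℕ × α => decide ((e.1 = y ∧ e.2.2 = x) ∨ (e.1 = x ∧ e.2.2 = y))) := by
      funext e
      exact decide_eq_decide.mpr or_comm
    rw [e]

theorem walkT_id_of_rprod {T : ℕ → ℕ → ℕ} {N k : ℕ}
    (hT : ∀ x, x < k → ∀ v, v < N → T x v < N ∧ T x (T x v) = v) (n w : ℕ)
    (hl : lettersOK k n w = true) (h : rprod (tblPerm T N) (unpack n w) = 1) :
    ∀ v, v < N → walkT T n w v = v := by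
  intro v hv
  have h1 := walkT_spec hT n w hl ⟨v, hv⟩
  rw [h] at h1
  exact h1.symm

theorem rprod_of_walkT_id {T : ℕ → ℕ → ℕ} {N k : ℕ}
    (hT : ∀ x, x < k → ∀ v, v < N → T x v < N ∧ T x (T x v) = v) (n w : ℕ)
    (hl : lettersOK k n w = true) (h : ∀ v, v < N → walkT T n w v = v) :
    rprod (tblPerm T N) (unpack n w) = 1 := by
  ext v
  rw [walkT_spec hT n w hl, h v.1 v.2]
  rfl

theorem swap_pow_eq_one {K : Type*} [Group K] (a b : K) (m : ℕ) (h : (a * b) ^ m = 1) :
    (b * a) ^ m = 1 := by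
  have e : b * a = b * (a * b) * b⁻¹ := by group
  rw [e, conj_pow, h, mul_one, mul_inv_cancel]

section
variable {α : Type} [DecidableEq α]

/-- **Certified coset enumeration in a Coxeter-style presented group**, the Coxeter relators being
checked on the coset table for pairs `x < y` only. -/
theorem presented_index3 (edges : List (α × ℕ × α)) (extra subs : List (FreeGroup α))
    (dec : ℕ → α) (enc : α → ℕ) (E : Dat2) {N RS : ℕ} {T : ℕ → ℕ → ℕ}
    (hde : ∀ z, dec (enc z) = z) (hed : ∀ x, x < E.D.k → enc (dec x) = x)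
    (henc : ∀ z, enc z < E.D.k) (hnodes : ∀ z, z ∈ coxNodes edges)
    (hnrel : E.D.nrel = E.D.k * E.D.k + extra.length) (hnw : E.D.nw = E.D.nrel + subs.length)
    (hextra : ∀ i (hi : i < extra.length),
      WordMatch enc (extra[i]) (E.D.wlen (E.D.k * E.D.k + i)) (E.D.wordP (E.D.k * E.D.k + i)))
    (hsubs : ∀ i (hi : i < subs.length),
      WordMatch enc (subs[i]) (E.D.wlen (E.D.nrel + i)) (E.D.wordP (E.D.nrel + i)))
    (hcox : coxOK E.D (fun x y => coxLabel edges (dec y) (dec x)) = true)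
    (hrev : revOK E.D E.D.nw = true)
    (hE : ∀ v, v < E.M → ∀ x, x < E.D.k → edgeOK E x v = true)
    (hA : ∀ v, v < E.M → aliasOK E v = true)
    (hset : setOK E.M N RS = true)
    (hrows : ∀ v, v < E.M → tb RS v = true → rowOK2 E RS v E.D.k = true)
    (hN : 0 < N)
    (hT : ∀ x, x < E.D.k → ∀ v, v < N → T x v < N ∧ T x (T x v) = v)
    (hltr : ∀ j, j < E.D.nw → lettersOK E.D.k (E.D.wlen j) (E.D.wordP j) = true)
    (hrelC : ∀ x y, x < y → y < E.D.k → ∀ v, v < N →
      walkT T (E.D.wlen (x * E.D.k + y)) (E.D.wordP (x * E.D.k + y)) v = v)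
    (hrelX : ∀ i, i < extra.length → ∀ v, v < N →
      walkT T (E.D.wlen (E.D.k * E.D.k + i)) (E.D.wordP (E.D.k * E.D.k + i)) v = v)
    (hsubT : ∀ wi, wi < E.D.nw → E.D.nrel ≤ wi →
      walkT T (E.D.wlen wi) (E.D.wordP wi) 0 = 0)
    (hconn : ∀ v, v < N → v ≠ 0 → ∃ x, x < E.D.k ∧ T x v < v) :
    ((Subgroup.closure {s | s ∈ subs}).map
        (PresentedGroup.mk (coxRelators edges ∪ {r | r ∈ extra}))).index = N := by
  have hrelT : ∀ wi, wi < E.D.nrel → ∀ v, v < N →
      walkT T (E.D.wlen wi) (E.D.wordP wi) v = v := by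
    intro wi hwi
    have hwnw : wi < E.D.nw := by omega
    by_cases h : wi < E.D.k * E.D.k
    · have hk : 0 < E.D.k := by
        rcases Nat.eq_zero_or_pos E.D.k with h0 | h0
        · rw [h0] at h; omega
        · exact h0
      have hx : wi / E.D.k < E.D.k := Nat.div_lt_of_lt_mul h
      have hy : wi % E.D.k < E.D.k := Nat.mod_lt _ hk
      have e : wi / E.D.k * E.D.k + wi % E.D.k = wi := Nat.div_add_mod' wi E.D.k
      rcases lt_trichotomy (wi / E.D.k) (wi % E.D.k) with hlt | heq | hgt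
      · have := hrelC _ _ hlt hy
        rwa [e] at this
      · apply walkT_id_of_rprod hT _ _ (hltr wi hwnw)
        have h1 := (coxOK_spec hcox (tblPerm T N) hx hy).2
        rw [e] at h1
        rw [h1, heq, tblPerm_sq, one_pow]
      · apply walkT_id_of_rprod hT _ _ (hltr wi hwnw)
        have h1 := (coxOK_spec hcox (tblPerm T N) hx hy).2
        rw [e] at h1
        rw [h1]
        -- the other orientation
        have h2 := coxOK_spec hcox (tblPerm T N) hy hx
        have h3 := rprod_of_walkT_id hT _ _ (hltr _ (lt_of_lt_of_le h2.1 (by omega)))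
          (hrelC _ _ hgt hx)
        rw [h2.2] at h3
        rw [coxLabel_swap edges (dec (wi % E.D.k)) (dec (wi / E.D.k))]
        exact swap_pow_eq_one _ _ _ h3
    · rw [not_lt] at h
      obtain ⟨i, rfl⟩ := Nat.exists_eq_add_of_le h
      exact hrelX i (by omega)
  exact (presented_index2 edges extra subs dec enc E hde hed henc hnodes hnrel hnw hextra hsubs
    hcox hrev hE hA hset hrows hN hT hltr hrelT hsubT hconn).1

end

end Cfsg.Agent.Helper5.TC
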