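import Cfsg.Agent.Helper3.TensFibCrit
import Cfsg.Agent.Helper5.TensSX

/-!
# S5666, case `a = 2`, step (S1) (helper5)

If an automorphism `g` of `V = U ⊗ W` is not a tensor, then some NONSINGULAR `y` (for a
non-degenerate symmetric form `f₂` on `W`, `dim W ≥ 3`, `2 ≠ 0`) has `g (U ⊗ y)` not a fibre.
-/

set_option autoImplicit false
set_option linter.unusedSectionVars false
set_option linter.unusedVariables false

namespace Cfsg.Agent.Helper5.TensA2

open Module Cfsg.Agent.Helper7.ExtF Cfsg.Agent.Helper8.Tens Cfsg.Agent.Helper3.TensS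
  Cfsg.Agent.Helper3.TensOm

variable {F : Type*} [Field F] {U W V : Type*} [AddCommGroup U] [Module F U]
  [AddCommGroup W] [Module F W] [AddCommGroup V] [Module F V]
  {t : U →ₗ[F] W →ₗ[F] V}
  [FiniteDimensional F U] [FiniteDimensional F W] [FiniteDimensional F V]

/-- if the fibres at `a`, `b`, `a + b` (`a`, `b` independent) go to fibres, so does the one at
`a - b`. -/
theorem fibTo_sub_of_three (ht : IsTensorProduct t) (hU : 1 ≤ finrank F U) {g : V ≃ₗ[F] V}
    {a b : W} (hab : KInd (K := F) a b)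
    (Ha : ∃ a' : W, a' ≠ 0 ∧ img g (fib t a) = fib t a')
    (Hb : ∃ b' : W, b' ≠ 0 ∧ img g (fib t b) = fib t b')
    (Hc : ∃ c' : W, c' ≠ 0 ∧ img g (fib t (a + b)) = fib t c') :
    ∃ d' : W, d' ≠ 0 ∧ img g (fib t (a - b)) = fib t d' := by
  obtain ⟨a', ha', hSa⟩ := Ha
  obtain ⟨b', hb', hSb⟩ := Hb
  obtain ⟨c', hc', hSc⟩ := Hc
  have ha0 : a ≠ 0 := hab.1
  have hb0 : b ≠ 0 := hab.symm.1
  have hsum : a + b ≠ 0 := by
    intro h0
    apply hab.2
    have : b = (-1 : F) • a := by
      rw [neg_one_smul]; exact eq_neg_of_add_eq_zero_right h0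
    rw [this]
    exact Submodule.smul_mem _ _ (Submodule.mem_span_singleton_self _)
  obtain ⟨Aa, hAa⟩ := exists_A_of_fibTo ht ha0 ha' hSa
  obtain ⟨Ab, hAb⟩ := exists_A_of_fibTo ht hb0 hb' hSb
  obtain ⟨Ac, hAc⟩ := exists_A_of_fibTo ht hsum hc' hSc
  obtain ⟨u₀, hu₀⟩ := exists_ne_zero_of_one_le (F := F) (M := U) hU
  have hne : ∀ A : U ≃ₗ[F] U, A u₀ ≠ 0 := by
    intro A h0
    apply hu₀
    have : A u₀ = A 0 := by rw [h0, map_zero]
    exact A.injective this
  have hind : b' ∉ Submodule.span F {a'} := by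
    intro hmem
    obtain ⟨c, hc⟩ := Submodule.mem_span_singleton.mp hmem
    have hc0 : c ≠ 0 := by
      rintro rfl
      rw [zero_smul] at hc
      exact hb' hc.symm
    have hff : fib t b' = fib t a' := by rw [← hc, fib_smul hc0]
    have h1 : img g (fib t b) = img g (fib t a) := by rw [hSb, hSa, hff]
    have h2 : fib t b = fib t a := by
      have := congrArg (img g⁻¹) h1
      rwa [img_inv_img, img_inv_img] at this
    have h3 : t u₀ b ∈ fib t a := by rw [← h2]; exact t_mem_fib u₀ b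
    obtain ⟨c'', hc''⟩ := span_of_t_mem_fib ht hu₀ h3
    exact hab.2 (by
      rw [hc'']; exact Submodule.smul_mem _ _ (Submodule.mem_span_singleton_self _))
  have hK : KInd (K := F) a' b' := ⟨ha', hind⟩
  obtain ⟨l, hl1, hl2⟩ := exists_kfunc_two hK 1 0
  obtain ⟨l', hl'1, hl'2⟩ := exists_kfunc_two hK 0 1
  have heq : ∀ u, t (Ac u) c' = t (Aa u) a' + t (Ab u) b' := by
    intro u
    rw [← hAc, map_add, map_add, hAa, hAb]
  have e1 : ∀ u, l c' • Ac u = Aa u := by
    intro u
    have := congrArg (ev ht l) (heq u)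
    rw [ev_t, map_add, ev_t, ev_t, hl1, hl2, zero_smul, add_zero, one_smul] at this
    exact this
  have e2 : ∀ u, l' c' • Ac u = Ab u := by
    intro u
    have := congrArg (ev ht l') (heq u)
    rw [ev_t, map_add, ev_t, ev_t, hl'1, hl'2, zero_smul, zero_add, one_smul] at this
    exact this
  have hα : l c' ≠ 0 := by
    intro h0
    have := e1 u₀
    rw [h0, zero_smul] at this
    exact hne Aa this.symm
  have key : ∀ u, g (t u (a - b)) = t (Ac u) (l c' • a' - l' c' • b') := by
    intro u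
    rw [map_sub, map_sub, hAa, hAb, ← e1 u, ← e2 u, map_sub]
    simp only [map_smul, LinearMap.smul_apply]
  refine ⟨l c' • a' - l' c' • b', ?_, ?_⟩
  · intro h0
    have := congrArg l h0
    rw [map_sub, map_smul, map_smul, hl1, hl2, map_zero, smul_eq_mul, smul_eq_mul, mul_one,
      mul_zero, sub_zero] at this
    exact hα this
  · ext v
    rw [mem_img, mem_fib]
    constructor
    · rintro ⟨x, hx, rfl⟩
      obtain ⟨u, rfl⟩ := mem_fib.mp hx
      exact ⟨Ac u, (key u).symm⟩
    · rintro ⟨u, rfl⟩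
      refine ⟨t (Ac.symm u) (a - b), t_mem_fib _ _, ?_⟩
      rw [key, LinearEquiv.apply_symm_apply]

variable (f₂ : LinearMap.BilinForm F W)

/-- a non-zero singular vector has a nonsingular vector in its perp. -/
theorem exists_nonsing_perp (symm₂ : ∀ w w', f₂ w w' = f₂ w' w)
    (nd₂ : ∀ w, (∀ y, f₂ w y = 0) → w = 0) (h2 : (2 : F) ≠ 0) (hb : 3 ≤ finrank F W)
    {w : W} (hw : w ≠ 0) : ∃ y, f₂ w y = 0 ∧ f₂ y y ≠ 0 := by
  obtain ⟨v, hv1, hv2⟩ := Cfsg.Agent.Helper5.TensSX.x1 f₂ hb w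
  by_cases hvv : f₂ v v = 0
  · obtain ⟨v', hv'1, hv'2⟩ := exists_perp_not_perp f₂ nd₂ hw hv2
    by_cases hv'v' : f₂ v' v' = 0
    · refine ⟨v' + v, ?_, ?_⟩
      · rw [map_add, hv'1, hv1, add_zero]
      · have : f₂ (v' + v) (v' + v) = 2 * f₂ v v' := by
          rw [map_add, map_add, LinearMap.add_apply, LinearMap.add_apply, hv'v', hvv,
            symm₂ v' v]
          ring
        rw [this]
        exact mul_ne_zero h2 hv'2
    · exact ⟨v', hv'1, hv'v'⟩
  · exact ⟨v, hv1, hvv⟩

/-- **(S1)** a non-tensor automorphism moves some nonsingular fibre off the fibres. -/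
theorem exists_nonsing_not_fibre (ht : IsTensorProduct t) (hU : 1 ≤ finrank F U)
    (symm₂ : ∀ w w', f₂ w w' = f₂ w' w) (nd₂ : ∀ w, (∀ y, f₂ w y = 0) → w = 0)
    (h2 : (2 : F) ≠ 0) (hb : 3 ≤ finrank F W) {g : V ≃ₗ[F] V} (hg : ¬ IsTens t g) :
    ∃ y : W, f₂ y y ≠ 0 ∧ ¬ ∃ w' : W, w' ≠ 0 ∧ img g (fib t y) = fib t w' := by
  by_contra hcon
  push Not at hcon
  apply hg
  refine isTens_of_perm ht hU (fun w hw => ?_)
  by_cases hww : f₂ w w = 0
  · obtain ⟨y, hy1, hy2⟩ := exists_nonsing_perp f₂ symm₂ nd₂ h2 hb hw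
    have hy1' : f₂ y w = 0 := by rw [symm₂]; exact hy1
    have hy0 : y ≠ 0 := by
      rintro rfl
      exact hy2 (by simp)
    have hK : KInd (K := F) y (y - w) := by
      refine ⟨hy0, fun hmem => ?_⟩
      obtain ⟨c, hc⟩ := Submodule.mem_span_singleton.mp hmem
      have hw' : w = (1 - c) • y := by
        rw [sub_smul, one_smul, hc]; abel
      have h0 : f₂ w y = (1 - c) * f₂ y y := by
        rw [hw', map_smul, LinearMap.smul_apply, smul_eq_mul]
      rw [hy1] at h0
      rcases mul_eq_zero.mp h0.symm with h1 | h1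
      · apply hw
        rw [hw', h1, zero_smul]
      · exact hy2 h1
    have hb' : f₂ (y - w) (y - w) ≠ 0 := by
      have : f₂ (y - w) (y - w) = f₂ y y := by
        rw [map_sub, map_sub, LinearMap.sub_apply, LinearMap.sub_apply, hy1, hy1', hww]
        ring
      rw [this]; exact hy2
    have hc' : f₂ (y + (y - w)) (y + (y - w)) ≠ 0 := by
      have : f₂ (y + (y - w)) (y + (y - w)) = 4 * f₂ y y := by
        simp only [map_add, map_sub, LinearMap.add_apply, LinearMap.sub_apply, hy1, hy1', hww]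
        ring
      rw [this]
      have h4 : (4 : F) ≠ 0 := by
        have : (4 : F) = 2 * 2 := by norm_num
        rw [this]; exact mul_ne_zero h2 h2
      exact mul_ne_zero h4 hy2
    have := fibTo_sub_of_three ht hU hK (hcon y hy2) (hcon _ hb') (hcon _ hc')
    have hsub : y - (y - w) = w := by abel
    rwa [hsub] at this
  · exact hcon w hww

end Cfsg.Agent.Helper5.TensA2
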