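import Cfsg.Agent.Helper2.AschO9Tr
import Cfsg.Agent.Helper7.OSubQ

/-!
# S5704 [FIN], part A (helper5): transport of the tensor-product subgroup of `Ω` to the model
`Fin n₁ × Fin n₂ → F`.

* `modelQ e P Q x = Q (P *ᵥ (x ∘ e))`, the quadratic form carried to the model;
* `map_omegaGL_modelQ`: the transport map `φ = conj P ∘ glReindex e.symm` carries `Ω(modelQ)` onto `Ω(Q)`;
* `maximal_of_model`: the reduction of the maximality statement to the model.
-/

set_option autoImplicit false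
set_option linter.unusedSectionVars false
set_option linter.unusedVariables false
set_option linter.style.haveILetI false

namespace Cfsg.Agent.Helper5.TensOmFin

open Matrix Cfsg Cfsg.Geo Cfsg.Agent.Helper2.AschTr Cfsg.Agent.Helper2.AschO9

variable {F : Type*} [Field F]

/-- the form carried to the model `Fin n₁ × Fin n₂ → F`. -/
def modelQ {n n₁ n₂ : ℕ} (e : Fin n ≃ Fin n₁ × Fin n₂) (P : GL (Fin n) F) (Q : (Fin n → F) → F) :
    (Fin n₁ × Fin n₂ → F) → F := fun x => Q ((P : Matrix (Fin n) (Fin n) F) *ᵥ (x ∘ e))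

theorem modelQ_eq_rq {n n₁ n₂ : ℕ} (e : Fin n ≃ Fin n₁ × Fin n₂) (P : GL (Fin n) F)
    (Q : (Fin n → F) → F) :
    modelQ e P Q = rq e (fun v => Q ((P : Matrix (Fin n) (Fin n) F) *ᵥ v)) := rfl

/-- the transport map. -/
def phi {n n₁ n₂ : ℕ} (e : Fin n ≃ Fin n₁ × Fin n₂) (P : GL (Fin n) F) :
    GL (Fin n₁ × Fin n₂) F ≃* GL (Fin n) F :=
  (glReindex e.symm).trans (MulAut.conj P)

theorem phi_apply {n n₁ n₂ : ℕ} (e : Fin n ≃ Fin n₁ × Fin n₂) (P : GL (Fin n) F)
    (g : GL (Fin n₁ × Fin n₂) F) : phi e P g = P * glReindex e.symm g * P⁻¹ := rfl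

theorem map_phi {n n₁ n₂ : ℕ} (e : Fin n ≃ Fin n₁ × Fin n₂) (P : GL (Fin n) F)
    (H : Subgroup (GL (Fin n₁ × Fin n₂) F)) :
    H.map (phi e P).toMonoidHom =
      (H.map (glReindex e.symm).toMonoidHom).map (MulAut.conj P).toMonoidHom := by
  rw [Subgroup.map_map]
  rfl

theorem map_kronecker {n n₁ n₂ : ℕ} (e : Fin n ≃ Fin n₁ × Fin n₂) (P : GL (Fin n) F) :
    (kroneckerSubgroup n₁ n₂ F).map (phi e P).toMonoidHom = tensorProductSubgroup n₁ n₂ e P := by
  rw [map_phi]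
  rfl

theorem map_omegaGL_modelQ {n n₁ n₂ : ℕ} (e : Fin n ≃ Fin n₁ × Fin n₂) (P : GL (Fin n) F)
    (Q : (Fin n → F) → F) :
    (omegaGL (modelQ e P Q)).map (phi e P).toMonoidHom = omegaGL Q := by
  rw [map_phi, modelQ_eq_rq, map_omegaGL_rq e.symm, rq_symm_rq]
  exact Cfsg.Agent.Helper7.OSub.omegaGL_map_conj Q _ P one_ne_zero (fun v => (one_mul _).symm)

theorem phi_mem_omegaGL_iff {n n₁ n₂ : ℕ} (e : Fin n ≃ Fin n₁ × Fin n₂) (P : GL (Fin n) F)
    (Q : (Fin n → F) → F) (g : GL (Fin n₁ × Fin n₂) F) :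
    phi e P g ∈ omegaGL Q ↔ g ∈ omegaGL (modelQ e P Q) := by
  rw [← map_omegaGL_modelQ e P Q]
  constructor
  · rintro ⟨k, hk, hkg⟩
    have : k = g := (phi e P).injective hkg
    rwa [← this]
  · intro hg
    exact ⟨g, hg, rfl⟩

theorem phi_mem_tensor_iff {n n₁ n₂ : ℕ} (e : Fin n ≃ Fin n₁ × Fin n₂) (P : GL (Fin n) F)
    (g : GL (Fin n₁ × Fin n₂) F) :
    phi e P g ∈ tensorProductSubgroup n₁ n₂ e P ↔ g ∈ kroneckerSubgroup n₁ n₂ F := by
  rw [← map_kronecker e P]
  constructor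
  · rintro ⟨k, hk, hkg⟩
    have : k = g := (phi e P).injective hkg
    rwa [← this]
  · intro hg
    exact ⟨g, hg, rfl⟩

/-- properness transported: `Ω(Q) ≰` the tensor subgroup iff the same holds in the model. -/
theorem not_le_tensor_iff {n n₁ n₂ : ℕ} (e : Fin n ≃ Fin n₁ × Fin n₂) (P : GL (Fin n) F)
    (Q : (Fin n → F) → F) :
    ¬ omegaGL Q ≤ tensorProductSubgroup n₁ n₂ e P ↔
      ¬ omegaGL (modelQ e P Q) ≤ kroneckerSubgroup n₁ n₂ F := by
  apply not_congr
  constructor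
  · intro h g hg
    exact (phi_mem_tensor_iff e P g).mp (h ((phi_mem_omegaGL_iff e P Q g).mpr hg))
  · intro h y hy
    obtain ⟨g, rfl⟩ := (phi e P).surjective y
    exact (phi_mem_tensor_iff e P g).mpr (h ((phi_mem_omegaGL_iff e P Q g).mp hy))

/-- **Reduction to the model.**  If `Ω` of the model form is not contained in the Kronecker subgroup, and
every subgroup of `Ω(modelQ)` containing `kronecker ⊓ Ω(modelQ)` and not inside the Kronecker subgroup is all
of `Ω(modelQ)`, then the tensor-product subgroup is maximal in `Ω(Q)`. -/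
theorem maximal_of_model {n n₁ n₂ : ℕ} (e : Fin n ≃ Fin n₁ × Fin n₂) (P : GL (Fin n) F)
    (Q : (Fin n → F) → F)
    (hproper : ¬ omegaGL (modelQ e P Q) ≤ kroneckerSubgroup n₁ n₂ F)
    (hmain : ∀ X : Subgroup (GL (Fin n₁ × Fin n₂) F),
      kroneckerSubgroup n₁ n₂ F ⊓ omegaGL (modelQ e P Q) ≤ X → X ≤ omegaGL (modelQ e P Q) →
      ¬ X ≤ kroneckerSubgroup n₁ n₂ F → X = omegaGL (modelQ e P Q)) :
    IsMaximalIn (omegaGL Q) (tensorProductSubgroup n₁ n₂ e P ⊓ omegaGL Q) := by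
  refine ⟨?_, ?_⟩
  · refine lt_of_le_of_ne inf_le_right ?_
    intro heq
    apply (not_le_tensor_iff e P Q).mpr hproper
    rw [← heq]
    exact inf_le_left
  · intro M hHM hMK
    set X : Subgroup (GL (Fin n₁ × Fin n₂) F) := M.comap (phi e P).toMonoidHom with hX
    have hX1 : kroneckerSubgroup n₁ n₂ F ⊓ omegaGL (modelQ e P Q) ≤ X := by
      rintro g ⟨hgK, hgS⟩
      rw [hX, Subgroup.mem_comap]
      apply hHM
      exact ⟨(phi_mem_tensor_iff e P g).mpr hgK, (phi_mem_omegaGL_iff e P Q g).mpr hgS⟩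
    have hX2 : X ≤ omegaGL (modelQ e P Q) := by
      intro g hg
      rw [hX, Subgroup.mem_comap] at hg
      exact (phi_mem_omegaGL_iff e P Q g).mp (hMK hg)
    by_cases hX3 : X ≤ kroneckerSubgroup n₁ n₂ F
    · left
      refine le_antisymm ?_ hHM
      intro y hy
      obtain ⟨g, rfl⟩ := (phi e P).surjective y
      exact ⟨(phi_mem_tensor_iff e P g).mpr (hX3 hy), hMK hy⟩
    · right
      have hXeq := hmain X hX1 hX2 hX3
      refine le_antisymm hMK ?_
      intro y hy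
      obtain ⟨g, rfl⟩ := (phi e P).surjective y
      have hg : g ∈ X := by
        rw [hXeq]
        exact (phi_mem_omegaGL_iff e P Q g).mp hy
      exact hg

end Cfsg.Agent.Helper5.TensOmFin
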