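import Cfsg.Agent.Helper5.TensOmFinA
import Cfsg.Agent.Helper4.TPBase
import Cfsg.Agent.Helper7.TensNMA
import Cfsg.Agent.Helper7.TnSpB

/-!
# S5704 [FIN], part B (helper5): the model form on `Fin n₁ × Fin n₂ → F`

`modelQ e P Q` is a non-degenerate quadratic form, it vanishes on the pure tensors `TP.tmul u w`, and its polar
form on pure tensors is `c * (f₁ u u' * f₂ w w')`.
-/

set_option autoImplicit false
set_option linter.unusedSectionVars false
set_option linter.unusedVariables false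
set_option linter.style.haveILetI false

namespace Cfsg.Agent.Helper5.TensOmFin

open Matrix Cfsg Cfsg.Geo Cfsg.Agent.Helper2.AschTr Cfsg.Agent.Helper2.AschO9 Cfsg.Agent.Helper4
  Cfsg.Agent.Helper7.TensNM Cfsg.Agent.Helper7.TnSp
open scoped Kronecker

variable {F : Type*} [Field F] {n n₁ n₂ : ℕ}

theorem tmul_eq_pt (u : Fin n₁ → F) (w : Fin n₂ → F) :
    (TP.tmul u w : Fin n₁ × Fin n₂ → F) = pt u w := rfl

/-- a form transported by an invertible matrix is again a non-degenerate quadratic form. -/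
theorem nondeg_mulVec {ι : Type} [Fintype ι] [DecidableEq ι] (P : GL ι F) (Q : (ι → F) → F)
    (hQ : IsNondegenerateQuadraticForm Q) :
    IsNondegenerateQuadraticForm (fun v => Q ((P : Matrix ι ι F) *ᵥ v)) := by
  have hpol : ∀ u v : ι → F, QuadraticMap.polar (fun v => Q ((P : Matrix ι ι F) *ᵥ v)) u v =
      QuadraticMap.polar Q ((P : Matrix ι ι F) *ᵥ u) ((P : Matrix ι ι F) *ᵥ v) := by
    intro u v
    unfold QuadraticMap.polar
    show Q ((P : Matrix ι ι F) *ᵥ (u + v)) - Q ((P : Matrix ι ι F) *ᵥ u) - Q ((P : Matrix ι ι F) *ᵥ v) = _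
    rw [Matrix.mulVec_add]
  have hb := hQ.polar_bilinear
  refine ⟨fun c v => ?_, ⟨fun x y v => ?_, fun c x v => ?_, fun v x y => ?_, fun c v x => ?_⟩,
    fun v hv => ?_⟩
  · show Q ((P : Matrix ι ι F) *ᵥ (c • v)) = c ^ 2 * Q ((P : Matrix ι ι F) *ᵥ v)
    rw [Matrix.mulVec_smul, hQ.smul]
  · rw [hpol, hpol, hpol, Matrix.mulVec_add, hb.add_left]
  · rw [hpol, hpol, Matrix.mulVec_smul, hb.smul_left]
  · rw [hpol, hpol, hpol, Matrix.mulVec_add, hb.add_right]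
  · rw [hpol, hpol, Matrix.mulVec_smul, hb.smul_right]
  · have hPv : (P : Matrix ι ι F) *ᵥ v ≠ 0 := by
      intro h0
      apply hv
      have := congrArg (fun z => ((P⁻¹ : GL ι F) : Matrix ι ι F) *ᵥ z) h0
      simp only [Matrix.mulVec_mulVec, Matrix.mulVec_zero] at this
      rw [← Units.val_mul, inv_mul_cancel, Units.val_one, Matrix.one_mulVec] at this
      exact this
    obtain ⟨⟨x, hx⟩, ⟨y, hy⟩⟩ := hQ.nondegenerate _ hPv
    have hback : ∀ z : ι → F, (P : Matrix ι ι F) *ᵥ (((P⁻¹ : GL ι F) : Matrix ι ι F) *ᵥ z) = z := by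
      intro z
      rw [Matrix.mulVec_mulVec, ← Units.val_mul, mul_inv_cancel, Units.val_one, Matrix.one_mulVec]
    refine ⟨⟨((P⁻¹ : GL ι F) : Matrix ι ι F) *ᵥ x, ?_⟩, ⟨((P⁻¹ : GL ι F) : Matrix ι ι F) *ᵥ y, ?_⟩⟩
    · rw [hpol, hback]; exact hx
    · rw [hpol, hback]; exact hy

theorem modelQ_nondeg (e : Fin n ≃ Fin n₁ × Fin n₂) (P : GL (Fin n) F) (Q : (Fin n → F) → F)
    (hQ : IsNondegenerateQuadraticForm Q) : IsNondegenerateQuadraticForm (modelQ e P Q) := by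
  rw [modelQ_eq_rq]
  exact rq_nondegenerate e _ (nondeg_mulVec P Q hQ)

theorem polar_modelQ (e : Fin n ≃ Fin n₁ × Fin n₂) (P : GL (Fin n) F) (Q : (Fin n → F) → F)
    (x y : Fin n₁ × Fin n₂ → F) :
    QuadraticMap.polar (modelQ e P Q) x y =
      QuadraticMap.polar Q ((P : Matrix (Fin n) (Fin n) F) *ᵥ (x ∘ e))
        ((P : Matrix (Fin n) (Fin n) F) *ᵥ (y ∘ e)) := by
  unfold QuadraticMap.polar modelQ
  have : (x + y) ∘ e = x ∘ e + y ∘ e := rfl
  rw [this, Matrix.mulVec_add]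

theorem modelQ_tmul (e : Fin n ≃ Fin n₁ × Fin n₂) (P : GL (Fin n) F) (Q : (Fin n → F) → F)
    (hpure : ∀ (x₁ : Fin n₁ → F) (x₂ : Fin n₂ → F),
      Q ((P : Matrix (Fin n) (Fin n) F) *ᵥ ((fun a : Fin n₁ × Fin n₂ => x₁ a.1 * x₂ a.2) ∘ e)) = 0)
    (u : Fin n₁ → F) (w : Fin n₂ → F) : modelQ e P Q (TP.tmul u w) = 0 :=
  hpure u w

theorem formOfGram_gram' {κ : Type} [Fintype κ] [DecidableEq κ] (f : (κ → F) → (κ → F) → F)
    (hf : IsBilinearForm f) (u v : κ → F) : formOfGram id (gramMatrix f) u v = f u v := by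
  rw [formOfGram_id, ← eq_dot_gram f hf]

theorem polar_modelQ_tmul (e : Fin n ≃ Fin n₁ × Fin n₂) (P : GL (Fin n) F) (Q : (Fin n → F) → F)
    {f₁ : (Fin n₁ → F) → (Fin n₁ → F) → F} {f₂ : (Fin n₂ → F) → (Fin n₂ → F) → F}
    (h₁ : IsBilinearForm f₁) (h₂ : IsBilinearForm f₂) {c : F}
    (hc : ∀ x y : Fin n₁ × Fin n₂ → F,
      QuadraticMap.polar Q ((P : Matrix (Fin n) (Fin n) F) *ᵥ (x ∘ e))
        ((P : Matrix (Fin n) (Fin n) F) *ᵥ (y ∘ e)) =
        c * formOfGram id (gramMatrix f₁ ⊗ₖ gramMatrix f₂) x y)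
    (u u' : Fin n₁ → F) (w w' : Fin n₂ → F) :
    QuadraticMap.polar (modelQ e P Q) (TP.tmul u w) (TP.tmul u' w') = c * (f₁ u u' * f₂ w w') := by
  rw [polar_modelQ, hc, tmul_eq_pt, tmul_eq_pt]
  have h := formOfGram_pt (RingHom.id F) (gramMatrix f₁) (gramMatrix f₂) u u' w w'
  have h' : formOfGram id (gramMatrix f₁ ⊗ₖ gramMatrix f₂) (pt u w) (pt u' w') =
      formOfGram id (gramMatrix f₁) u u' * formOfGram id (gramMatrix f₂) w w' := h
  rw [h', formOfGram_gram' f₁ h₁, formOfGram_gram' f₂ h₂]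

end Cfsg.Agent.Helper5.TensOmFin
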