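import Cfsg.Agent.Helper5.TensOmFinB
import Cfsg.Agent.Helper3.TensOmBD
import Cfsg.Agent.Helper8.TensG
import Cfsg.Agent.Lead.AschOmB

/-!
# S5704 [FIN], part C (helper5): from the abstract dichotomy to the model statement

`model_main`: in the model `Fin n₁ × Fin n₂ → F`, given that the symplectic transvections of both factors are
products of Siegel elements (`hrootA`, `hrootB`) and the abstract dichotomy `hmainS`
(`SG Q ≤ M ∨ ∀ g ∈ M, IsTens t g` for every `M` satisfying helper3's `Hyp`), every subgroup `X` between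
`kronecker ⊓ Ω` and `Ω` which is not inside the Kronecker subgroup is `Ω`.
-/

set_option autoImplicit false
set_option linter.unusedSectionVars false
set_option linter.unusedVariables false
set_option linter.style.haveILetI false

namespace Cfsg.Agent.Helper5.TensOmFin

open Matrix Module Cfsg Cfsg.Geo Cfsg.Agent.Helper4 Cfsg.Agent.Helper7.TnSp
  Cfsg.Agent.Helper8.OrthOrder Cfsg.Agent.Helper8.SiegelGroup Cfsg.Agent.Helper8.Tens
  Cfsg.Agent.Helper3.TensOm Cfsg.Agent.Lead.AschOm Cfsg.Agent.Helper7.OrthMax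
open scoped Kronecker

variable {F : Type*} [Field F] {n₁ n₂ : ℕ}

/-- an isometry which is `tt A B` as a linear map has the Kronecker matrix `kr A B`. -/
theorem toGL_eq_kr (QF : QuadraticForm F (Fin n₁ × Fin n₂ → F)) (k : ↥(Isom QF))
    (A : GL (Fin n₁) F) (B : GL (Fin n₂) F)
    (h : ((k : ↥(Isom QF)) : (Fin n₁ × Fin n₂ → F) ≃ₗ[F] (Fin n₁ × Fin n₂ → F)) = TP.tt A B) :
    toGL QF k = TP.kr A B := by
  apply (TP.thetaG (F := F) (ι := Fin n₁ × Fin n₂)).injective
  apply LinearEquiv.ext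
  intro v
  rw [TP.thetaG_apply, toGL_mulVec, h]
  rfl

theorem toGL_mem_kronecker_of_isTens (QF : QuadraticForm F (Fin n₁ × Fin n₂ → F)) (k : ↥(Isom QF))
    (h : IsTens (TP.tmul (F := F) (m := Fin n₁) (n := Fin n₂))
      ((k : ↥(Isom QF)) : (Fin n₁ × Fin n₂ → F) ≃ₗ[F] (Fin n₁ × Fin n₂ → F))) :
    toGL QF k ∈ kroneckerSubgroup n₁ n₂ F := by
  obtain ⟨A, B, hAB⟩ := isTens_iff_tt.mp h
  rw [toGL_eq_kr QF k A B hAB]
  exact ⟨A, B, rfl⟩

/-- the scaled first form and the second form as Mathlib bilinear forms. -/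
noncomputable def B₁ {f₁ : (Fin n₁ → F) → (Fin n₁ → F) → F} (h₁ : IsBilinearForm f₁) (c : F) :
    LinearMap.BilinForm F (Fin n₁ → F) := c • toBF f₁ h₁

theorem B₁_apply {f₁ : (Fin n₁ → F) → (Fin n₁ → F) → F} (h₁ : IsBilinearForm f₁) (c : F)
    (u u' : Fin n₁ → F) : B₁ h₁ c u u' = c * f₁ u u' := rfl

theorem exists_ne_zero_ne_one [Fintype F] (h : Fintype.card F ≠ 2) : ∃ c : F, c ≠ 0 ∧ c ≠ 1 := by
  classical
  have h1c : 1 < Fintype.card F := Fintype.one_lt_card
  have h3c : 2 < Fintype.card F := by omega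
  obtain ⟨x, y, z, hxy, hxz, hyz⟩ := Fintype.two_lt_card_iff.mp h3c
  by_cases hx : x ≠ 0 ∧ x ≠ 1
  · exact ⟨x, hx.1, hx.2⟩
  · by_cases hy : y ≠ 0 ∧ y ≠ 1
    · exact ⟨y, hy.1, hy.2⟩
    · refine ⟨z, ?_, ?_⟩
      · rintro rfl
        push Not at hx hy
        by_cases hx0 : x = 0
        · exact hxz hx0
        · have hx1 := hx hx0
          by_cases hy0 : y = 0
          · exact hyz hy0
          · have hy1 := hy hy0
            exact hxy (hx1.trans hy1.symm)
      · rintro rfl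
        push Not at hx hy
        by_cases hx0 : x = 0
        · by_cases hy0 : y = 0
          · exact hxy (hx0.trans hy0.symm)
          · exact hyz (hy hy0)
        · exact hxz (hx hx0)

section main

variable [Fintype F]

/-- **The model statement.** -/
theorem model_main (Q₂ : (Fin n₁ × Fin n₂ → F) → F) (hQ₂ : IsNondegenerateQuadraticForm Q₂)
    {f₁ : (Fin n₁ → F) → (Fin n₁ → F) → F} {f₂ : (Fin n₂ → F) → (Fin n₂ → F) → F}
    (hf₁ : IsSymplecticForm f₁) (hf₂ : IsSymplecticForm f₂) {c : F} (hc : c ≠ 0)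
    (hpure : ∀ u w, Q₂ (TP.tmul u w) = 0)
    (hpol : ∀ u w u' w', QuadraticMap.polar Q₂ (TP.tmul u w) (TP.tmul u' w') =
      c * (f₁ u u' * f₂ w w'))
    (h5 : 5 ≤ n₂) (h1 : 1 ≤ n₁)
    (hrootA : ∀ (v : Fin n₁ → F) (a : F), ∃ g ∈ SG (toQF Q₂ hQ₂), ∀ u w,
      ((g : ↥(Isom (toQF Q₂ hQ₂))) : (Fin n₁ × Fin n₂ → F) ≃ₗ[F] (Fin n₁ × Fin n₂ → F))
        (TP.tmul u w) = TP.tmul (u + (a * B₁ hf₁.bilinear c u v) • v) w)
    (hrootB : ∀ (y : Fin n₂ → F) (a : F), ∃ g ∈ SG (toQF Q₂ hQ₂), ∀ u w,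
      ((g : ↥(Isom (toQF Q₂ hQ₂))) : (Fin n₁ × Fin n₂ → F) ≃ₗ[F] (Fin n₁ × Fin n₂ → F))
        (TP.tmul u w) = TP.tmul u (w + (a * toBF f₂ hf₂.bilinear w y) • y))
    (hmainS : ∀ M : Subgroup ↥(Isom (toQF Q₂ hQ₂)),
      Hyp (TP.tmul (F := F) (m := Fin n₁) (n := Fin n₂)) (toQF Q₂ hQ₂) (B₁ hf₁.bilinear c)
        (toBF f₂ hf₂.bilinear) M →
      SG (toQF Q₂ hQ₂) ≤ M ∨ ∀ g ∈ M, IsTens (TP.tmul (F := F) (m := Fin n₁) (n := Fin n₂))
        ((g : ↥(Isom (toQF Q₂ hQ₂))) : (Fin n₁ × Fin n₂ → F) ≃ₗ[F] (Fin n₁ × Fin n₂ → F)))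
    (X : Subgroup (GL (Fin n₁ × Fin n₂) F))
    (hX1 : kroneckerSubgroup n₁ n₂ F ⊓ omegaGL Q₂ ≤ X) (hX2 : X ≤ omegaGL Q₂)
    (hX3 : ¬ X ≤ kroneckerSubgroup n₁ n₂ F) : X = omegaGL Q₂ := by
  classical
  set QF := toQF Q₂ hQ₂ with hQF
  have hQnd := toQF_polarBilin_nondegenerate Q₂ hQ₂
  have hcard : 5 ≤ Fintype.card (Fin n₁ × Fin n₂) := by
    rw [Fintype.card_prod, Fintype.card_fin, Fintype.card_fin]
    calc 5 ≤ n₂ := h5
      _ = 1 * n₂ := (one_mul _).symm
      _ ≤ n₁ * n₂ := Nat.mul_le_mul_right _ h1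
  set M : Subgroup ↥(Isom QF) := X.comap (toGL QF) with hM
  have hb₁ := hf₁.bilinear
  have hb₂ := hf₂.bilinear
  -- elements of `SG` acting as `A ⊗ B` on pure tensors lie in `M`
  have hmemM : ∀ g ∈ SG QF, IsTens (TP.tmul (F := F) (m := Fin n₁) (n := Fin n₂))
      ((g : ↥(Isom QF)) : (Fin n₁ × Fin n₂ → F) ≃ₗ[F] (Fin n₁ × Fin n₂ → F)) → g ∈ M := by
    intro g hg hT
    rw [hM, Subgroup.mem_comap]
    apply hX1
    exact ⟨toGL_mem_kronecker_of_isTens QF g hT, toGL_mem_omegaGL QF hQnd hcard hg⟩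
  have hspan : Submodule.span F {v : Fin n₁ × Fin n₂ → F | ∃ u w, v = TP.tmul u w} = ⊤ := by
    have h := span_pure (isTP (F := F) (m := Fin n₁) (n := Fin n₂))
    have hset : {v : Fin n₁ × Fin n₂ → F | ∃ u w, v = TP.tmul u w} =
        {v : Fin n₁ × Fin n₂ → F | ∃ u w, TP.tmul u w = v} := by
      ext v
      constructor
      · rintro ⟨u, w, h⟩; exact ⟨u, w, h.symm⟩
      · rintro ⟨u, w, h⟩; exact ⟨u, w, h.symm⟩
    rw [hset]
    exact h
  have hHyp : Hyp (TP.tmul (F := F) (m := Fin n₁) (n := Fin n₂)) QF (B₁ hb₁ c) (toBF f₂ hb₂) M := by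
    refine ⟨fun u => ?_, fun w => hf₂.alternating w, fun u hu => ?_, fun w hw => ?_, hpure, ?_, hspan,
      fun y hy => ?_, fun v a => ?_, fun y a => ?_, ?_⟩
    · rw [B₁_apply, hf₁.alternating, mul_zero]
    · by_contra hu0
      obtain ⟨-, x, hx⟩ := hf₁.nondegenerate u hu0
      have := hu x
      rw [B₁_apply] at this
      rcases mul_eq_zero.mp this with h | h
      · exact hc h
      · exact hx h
    · by_contra hw0
      obtain ⟨-, x, hx⟩ := hf₂.nondegenerate w hw0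
      exact hx (hw x)
    · intro u w u' w'
      rw [B₁_apply]
      show QuadraticMap.polar Q₂ (TP.tmul u w) (TP.tmul u' w') = c * f₁ u u' * f₂ w w'
      rw [hpol, mul_assoc]
    · -- nondegeneracy against pure tensors
      have hker : ∀ z : Fin n₁ × Fin n₂ → F, QuadraticMap.polar QF y z = 0 := by
        intro z
        have hz : z ∈ Submodule.span F {v : Fin n₁ × Fin n₂ → F | ∃ u w, v = TP.tmul u w} := by
          rw [hspan]; trivial
        refine Submodule.span_induction ?_ ?_ ?_ ?_ hz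
        · rintro _ ⟨u, w, rfl⟩; exact hy u w
        · exact QuadraticMap.polar_zero_right _ _
        · intro a b _ _ ha hb
          rw [QuadraticMap.polar_add_right, ha, hb, add_zero]
        · intro a b _ hb
          rw [QuadraticMap.polar_smul_right, hb, smul_zero]
      exact toQF_nondeg Q₂ hQ₂ y hker
    · obtain ⟨g, hg, hgt⟩ := hrootA v a
      refine ⟨g, hmemM g hg ?_, hgt⟩
      have hlin : (a • (B₁ hb₁ c).flip v) v = 0 := by
        show a * (B₁ hb₁ c v v) = 0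
        rw [B₁_apply, hf₁.alternating, mul_zero, mul_zero]
      refine ⟨LinearEquiv.transvection hlin, LinearEquiv.refl F _, fun u w => ?_⟩
      rw [hgt, LinearEquiv.transvection.apply]
      rfl
    · obtain ⟨g, hg, hgt⟩ := hrootB y a
      refine ⟨g, hmemM g hg ?_, hgt⟩
      have hlin : (a • (toBF f₂ hb₂).flip y) y = 0 := by
        show a * (toBF f₂ hb₂ y y) = 0
        rw [toBF_apply, hf₂.alternating, mul_zero]
      refine ⟨LinearEquiv.refl F _, LinearEquiv.transvection hlin, fun u w => ?_⟩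
      rw [hgt, LinearEquiv.transvection.apply]
      rfl
    · intro w w₂
      have hnd₂ : ∀ x : Fin n₂ → F, (∀ y, toBF f₂ hb₂ x y = 0) → x = 0 := by
        intro x hx
        by_contra hx0
        obtain ⟨-, z, hz⟩ := hf₂.nondegenerate x hx0
        exact hz (hx z)
      exact six_of_finrank (toBF f₂ hb₂) (fun x => hf₂.alternating x) hnd₂
        (by rw [Module.finrank_fin_fun]; exact h5) w w₂
  rcases hmainS M hHyp with hSG | hT
  · apply le_antisymm hX2
    intro g hg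
    obtain ⟨k, hk, rfl⟩ := exists_toGL_eq QF hQnd hcard hg
    exact Subgroup.mem_comap.mp (hSG hk)
  · exfalso
    apply hX3
    intro x hx
    obtain ⟨k, hk, rfl⟩ := exists_toGL_eq QF hQnd hcard (hX2 hx)
    exact toGL_mem_kronecker_of_isTens QF k (hT k (Subgroup.mem_comap.mpr hx))

end main

end Cfsg.Agent.Helper5.TensOmFin
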