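import Cfsg.Agent.Helper5.TensOmFinC
import Cfsg.Agent.Helper6.AschGenEven

/-!
# S5704 [FIN], part D (helper5): the assembly

`tensor_omega_maximal`: S5704 from (HRA)/(HRB) "the symplectic transvections of the two factors are products of
Siegel elements", (HM) the abstract dichotomy `mainS`, and (HP) properness in the model.
-/

set_option autoImplicit false
set_option linter.unusedSectionVars false
set_option linter.unusedVariables false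
set_option linter.style.haveILetI false

namespace Cfsg.Agent.Helper5.TensOmFin

open Matrix Module Cfsg Cfsg.Geo Cfsg.Agent.Helper4 Cfsg.Agent.Helper7.TnSp
  Cfsg.Agent.Helper8.OrthOrder Cfsg.Agent.Helper8.SiegelGroup Cfsg.Agent.Helper8.Tens
  Cfsg.Agent.Helper3.TensOm Cfsg.Agent.Lead.AschOm Cfsg.Agent.Helper7.OrthMax
open scoped Kronecker

variable {F : Type*} [Field F] [Fintype F]

/-- the arithmetic of the dimensions. -/
theorem dims {n n₁ n₂ : ℕ} (hn : 13 ≤ n) (hcard : n = n₁ * n₂) (h12 : n₁ < n₂) (he₁ : Even n₁)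
    (he₂ : Even n₂) : 2 ≤ n₁ ∧ n₁ + 2 ≤ n₂ ∧ 5 ≤ n₂ := by
  obtain ⟨a, ha⟩ := he₁
  obtain ⟨b, hb⟩ := he₂
  have h1 : 1 ≤ n₁ := by
    by_contra h
    have h0 : n₁ = 0 := by omega
    rw [h0, zero_mul] at hcard
    omega
  refine ⟨by omega, by omega, ?_⟩
  by_contra h
  have h2 : n₂ ≤ 4 := by omega
  have h3 : n₁ ≤ 2 := by omega
  have : n₁ * n₂ ≤ 2 * 4 := Nat.mul_le_mul h3 h2
  omega

theorem tensor_omega_maximal {n : ℕ} (hn : 13 ≤ n) (Q : (Fin n → F) → F)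
    (hQ : IsNondegenerateQuadraticForm Q) (n₁ n₂ : ℕ) (h12 : n₁ < n₂)
    (hex : ¬ (Fintype.card F = 2 ∧ n₁ = 2)) (e : Fin n ≃ Fin n₁ × Fin n₂) (P : GL (Fin n) F)
    (f₁ : (Fin n₁ → F) → (Fin n₁ → F) → F) (f₂ : (Fin n₂ → F) → (Fin n₂ → F) → F)
    (hf₁ : IsSymplecticForm f₁) (hf₂ : IsSymplecticForm f₂)
    (hT : IsTensorFormStructure id (QuadraticMap.polar Q) f₁ f₂ e P)
    (hpure : ∀ (x₁ : Fin n₁ → F) (x₂ : Fin n₂ → F),
      Q ((P : Matrix (Fin n) (Fin n) F) *ᵥ ((fun a : Fin n₁ × Fin n₂ => x₁ a.1 * x₂ a.2) ∘ e)) = 0)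
    (HRA : ∀ (QF : QuadraticForm F (Fin n₁ × Fin n₂ → F)) (g₁ : LinearMap.BilinForm F (Fin n₁ → F))
      (g₂ : LinearMap.BilinForm F (Fin n₂ → F)), (∀ u, g₁ u u = 0) → (∀ w, g₂ w w = 0) →
      (∀ w, (∀ y, g₂ w y = 0) → w = 0) → (∀ u w, QF (TP.tmul u w) = 0) →
      (∀ u w u' w', QuadraticMap.polar QF (TP.tmul u w) (TP.tmul u' w') = g₁ u u' * g₂ w w') →
      ∀ (v : Fin n₁ → F) (a : F), ∃ g ∈ SG QF, ∀ u w,
        ((g : ↥(Isom QF)) : (Fin n₁ × Fin n₂ → F) ≃ₗ[F] (Fin n₁ × Fin n₂ → F)) (TP.tmul u w) =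
          TP.tmul (u + (a * g₁ u v) • v) w)
    (HRB : ∀ (QF : QuadraticForm F (Fin n₁ × Fin n₂ → F)) (g₁ : LinearMap.BilinForm F (Fin n₁ → F))
      (g₂ : LinearMap.BilinForm F (Fin n₂ → F)), (∀ u, g₁ u u = 0) → (∀ w, g₂ w w = 0) →
      (∀ u, (∀ y, g₁ u y = 0) → u = 0) → (∀ u w, QF (TP.tmul u w) = 0) →
      (∀ u w u' w', QuadraticMap.polar QF (TP.tmul u w) (TP.tmul u' w') = g₁ u u' * g₂ w w') →
      ∀ (y : Fin n₂ → F) (a : F), ∃ g ∈ SG QF, ∀ u w,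
        ((g : ↥(Isom QF)) : (Fin n₁ × Fin n₂ → F) ≃ₗ[F] (Fin n₁ × Fin n₂ → F)) (TP.tmul u w) =
          TP.tmul u (w + (a * g₂ w y) • y))
    (HM : ∀ (QF : QuadraticForm F (Fin n₁ × Fin n₂ → F)) (g₁ : LinearMap.BilinForm F (Fin n₁ → F))
      (g₂ : LinearMap.BilinForm F (Fin n₂ → F)) (M : Subgroup ↥(Isom QF)),
      Hyp (TP.tmul (F := F) (m := Fin n₁) (n := Fin n₂)) QF g₁ g₂ M →
      2 ≤ finrank F (Fin n₁ → F) → finrank F (Fin n₁ → F) + 2 ≤ finrank F (Fin n₂ → F) →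
      (finrank F (Fin n₁ → F) = 2 → ∃ c : F, c ≠ 0 ∧ c ≠ 1) →
      SG QF ≤ M ∨ ∀ g ∈ M, IsTens (TP.tmul (F := F) (m := Fin n₁) (n := Fin n₂))
        ((g : ↥(Isom QF)) : (Fin n₁ × Fin n₂ → F) ≃ₗ[F] (Fin n₁ × Fin n₂ → F)))
    (HP : ∀ (Q₂ : (Fin n₁ × Fin n₂ → F) → F), IsNondegenerateQuadraticForm Q₂ → ∀ c : F, c ≠ 0 →
      (∀ u w, Q₂ (TP.tmul u w) = 0) →
      (∀ u w u' w', QuadraticMap.polar Q₂ (TP.tmul u w) (TP.tmul u' w') = c * (f₁ u u' * f₂ w w')) →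
      ¬ omegaGL Q₂ ≤ kroneckerSubgroup n₁ n₂ F) :
    IsMaximalIn (omegaGL Q) (tensorProductSubgroup n₁ n₂ e P ⊓ omegaGL Q) := by
  classical
  have hcard : n = n₁ * n₂ := by
    have := Fintype.card_congr e
    simpa using this
  obtain ⟨hd1, hd2, hd3⟩ := dims hn hcard h12
    (Cfsg.Agent.Helper6.AschGen.even_of_isSymplecticForm hf₁)
    (Cfsg.Agent.Helper6.AschGen.even_of_isSymplecticForm hf₂)
  obtain ⟨c, hc0, hc⟩ := hT
  have hQ₂ := modelQ_nondeg e P Q hQ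
  have hpure₂ := modelQ_tmul e P Q hpure
  have hpol₂ : ∀ u w u' w', QuadraticMap.polar (modelQ e P Q) (TP.tmul u w) (TP.tmul u' w') =
      c * (f₁ u u' * f₂ w w') :=
    fun u w u' w' => polar_modelQ_tmul e P Q hf₁.bilinear hf₂.bilinear hc u u' w w'
  have hb₁ := hf₁.bilinear
  have hb₂ := hf₂.bilinear
  -- the hypotheses on the two bilinear forms
  have alt₁ : ∀ u, B₁ hb₁ c u u = 0 := fun u => by rw [B₁_apply, hf₁.alternating, mul_zero]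
  have alt₂ : ∀ w, toBF f₂ hb₂ w w = 0 := fun w => hf₂.alternating w
  have nd₁ : ∀ u, (∀ y, B₁ hb₁ c u y = 0) → u = 0 := by
    intro u hu
    by_contra hu0
    obtain ⟨-, x, hx⟩ := hf₁.nondegenerate u hu0
    have := hu x
    rw [B₁_apply] at this
    rcases mul_eq_zero.mp this with h | h
    · exact hc0 h
    · exact hx h
  have nd₂ : ∀ w, (∀ y, toBF f₂ hb₂ w y = 0) → w = 0 := by
    intro w hw
    by_contra hw0
    obtain ⟨-, x, hx⟩ := hf₂.nondegenerate w hw0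
    exact hx (hw x)
  have pure' : ∀ u w, toQF (modelQ e P Q) hQ₂ (TP.tmul u w) = 0 := hpure₂
  have pol' : ∀ u w u' w', QuadraticMap.polar (toQF (modelQ e P Q) hQ₂) (TP.tmul u w) (TP.tmul u' w') =
      B₁ hb₁ c u u' * toBF f₂ hb₂ w w' := by
    intro u w u' w'
    rw [B₁_apply]
    show QuadraticMap.polar (modelQ e P Q) (TP.tmul u w) (TP.tmul u' w') = c * f₁ u u' * f₂ w w'
    rw [hpol₂, mul_assoc]
  have hfr₁ : finrank F (Fin n₁ → F) = n₁ := Module.finrank_fin_fun F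
  have hfr₂ : finrank F (Fin n₂ → F) = n₂ := Module.finrank_fin_fun F
  apply maximal_of_model e P Q (HP _ hQ₂ c hc0 hpure₂ hpol₂)
  intro X hX1 hX2 hX3
  refine model_main (modelQ e P Q) hQ₂ hf₁ hf₂ hc0 hpure₂ hpol₂ hd3 (by omega)
    (HRA _ _ _ alt₁ alt₂ nd₂ pure' pol') (HRB _ _ _ alt₁ alt₂ nd₁ pure' pol')
    (fun M hM => HM _ _ _ M hM (by rw [hfr₁]; exact hd1) (by rw [hfr₁, hfr₂]; exact hd2) ?_)
    X hX1 hX2 hX3
  intro h2
  rw [hfr₁] at h2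
  exact exists_ne_zero_ne_one (fun hcF => hex ⟨hcF, h2⟩)

end Cfsg.Agent.Helper5.TensOmFin
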