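import Cfsg.Agent.Helper2.AschTrA
import Cfsg.Prelude.Def_ClassicalGeometry

/-!
# S5666 [FIN], part A (helper5): transport of a tensor-product subgroup to the model `Fin n₁ × Fin n₂ → F`
(general index type, general ambient subgroup `G`).

* `phiG e P = conj P ∘ glReindex e.symm`, `phiG_mulVec`;
* `maximal_of_model_gen`: maximality of `tensorProductSubgroup n₁ n₂ e P ⊓ G` in `G` from the model statement
  for `G.comap (phiG e P)`;
* `modelB e P f x y = f (P *ᵥ (x∘e)) (P *ᵥ (y∘e))`, `mem_comap_iff`: the pull-back of the group preserving `f`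
  is the group preserving `modelB e P f`.
-/

set_option autoImplicit false
set_option linter.unusedSectionVars false
set_option linter.unusedVariables false
set_option linter.style.haveILetI false

namespace Cfsg.Agent.Helper5.TensSpFin

open Matrix Cfsg Cfsg.Geo Cfsg.Agent.Helper2.AschTr

variable {F : Type*} [Field F] {ι : Type} [Fintype ι] [DecidableEq ι] {n₁ n₂ : ℕ}

/-- the transport map. -/
def phiG (e : ι ≃ Fin n₁ × Fin n₂) (P : GL ι F) : GL (Fin n₁ × Fin n₂) F ≃* GL ι F :=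
  (glReindex e.symm).trans (MulAut.conj P)

theorem phiG_apply (e : ι ≃ Fin n₁ × Fin n₂) (P : GL ι F) (g : GL (Fin n₁ × Fin n₂) F) :
    phiG e P g = P * glReindex e.symm g * P⁻¹ := rfl

theorem map_kronecker (e : ι ≃ Fin n₁ × Fin n₂) (P : GL ι F) :
    (kroneckerSubgroup n₁ n₂ F).map (phiG e P).toMonoidHom = tensorProductSubgroup n₁ n₂ e P := by
  unfold tensorProductSubgroup
  rw [Subgroup.map_map]
  rfl

theorem phiG_mem_tensor_iff (e : ι ≃ Fin n₁ × Fin n₂) (P : GL ι F) (g : GL (Fin n₁ × Fin n₂) F) :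
    phiG e P g ∈ tensorProductSubgroup n₁ n₂ e P ↔ g ∈ kroneckerSubgroup n₁ n₂ F := by
  rw [← map_kronecker e P]
  constructor
  · rintro ⟨k, hk, hkg⟩
    have : k = g := (phiG e P).injective hkg
    rwa [← this]
  · intro hg
    exact ⟨g, hg, rfl⟩

theorem reindex_mulVec (e : ι ≃ Fin n₁ × Fin n₂) (g : GL (Fin n₁ × Fin n₂) F)
    (x : Fin n₁ × Fin n₂ → F) :
    ((glReindex e.symm g : GL ι F) : Matrix ι ι F) *ᵥ (x ∘ e) =
      ((g : Matrix (Fin n₁ × Fin n₂) (Fin n₁ × Fin n₂) F) *ᵥ x) ∘ e := by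
  have h := th_mulVec e.symm g (x ∘ e)
  have h1 : th e.symm (x ∘ e) = x := by
    funext k
    simp [th_apply]
  rw [h1] at h
  funext i
  have h2 := congrFun h (e i)
  rw [th_apply, Equiv.symm_apply_apply] at h2
  exact h2

theorem phiG_mulVec (e : ι ≃ Fin n₁ × Fin n₂) (P : GL ι F) (g : GL (Fin n₁ × Fin n₂) F)
    (x : Fin n₁ × Fin n₂ → F) :
    ((phiG e P g : GL ι F) : Matrix ι ι F) *ᵥ ((P : Matrix ι ι F) *ᵥ (x ∘ e)) =
      (P : Matrix ι ι F) *ᵥ (((g : Matrix (Fin n₁ × Fin n₂) (Fin n₁ × Fin n₂) F) *ᵥ x) ∘ e) := by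
  rw [phiG_apply, Units.val_mul, Units.val_mul, Matrix.mulVec_mulVec, Matrix.mul_assoc, Matrix.mul_assoc,
    ← Units.val_mul, inv_mul_cancel, Units.val_one, Matrix.mul_one, ← Matrix.mulVec_mulVec, reindex_mulVec]

/-- every vector is `P *ᵥ (x ∘ e)`. -/
theorem exists_model_vec (e : ι ≃ Fin n₁ × Fin n₂) (P : GL ι F) (u : ι → F) :
    ∃ x : Fin n₁ × Fin n₂ → F, (P : Matrix ι ι F) *ᵥ (x ∘ e) = u := by
  refine ⟨(((P⁻¹ : GL ι F) : Matrix ι ι F) *ᵥ u) ∘ e.symm, ?_⟩
  have h1 : ((((P⁻¹ : GL ι F) : Matrix ι ι F) *ᵥ u) ∘ e.symm) ∘ e = ((P⁻¹ : GL ι F) : Matrix ι ι F) *ᵥ u := by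
    funext i
    simp
  rw [h1, Matrix.mulVec_mulVec, ← Units.val_mul, mul_inv_cancel, Units.val_one, Matrix.one_mulVec]

/-- **Reduction to the model** for an arbitrary ambient subgroup `G`. -/
theorem maximal_of_model_gen (e : ι ≃ Fin n₁ × Fin n₂) (P : GL ι F) (G : Subgroup (GL ι F))
    (hproper : ¬ G.comap (phiG e P).toMonoidHom ≤ kroneckerSubgroup n₁ n₂ F)
    (hmain : ∀ X : Subgroup (GL (Fin n₁ × Fin n₂) F),
      kroneckerSubgroup n₁ n₂ F ⊓ G.comap (phiG e P).toMonoidHom ≤ X →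
      X ≤ G.comap (phiG e P).toMonoidHom →
      ¬ X ≤ kroneckerSubgroup n₁ n₂ F → X = G.comap (phiG e P).toMonoidHom) :
    IsMaximalIn G (tensorProductSubgroup n₁ n₂ e P ⊓ G) := by
  refine ⟨?_, ?_⟩
  · refine lt_of_le_of_ne inf_le_right ?_
    intro heq
    apply hproper
    intro g hg
    have hg' : phiG e P g ∈ G := hg
    rw [← heq] at hg'
    exact (phiG_mem_tensor_iff e P g).mp hg'.1
  · intro M hHM hMK
    set X : Subgroup (GL (Fin n₁ × Fin n₂) F) := M.comap (phiG e P).toMonoidHom with hX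
    have hX1 : kroneckerSubgroup n₁ n₂ F ⊓ G.comap (phiG e P).toMonoidHom ≤ X := by
      rintro g ⟨hgK, hgS⟩
      rw [hX, Subgroup.mem_comap]
      apply hHM
      exact ⟨(phiG_mem_tensor_iff e P g).mpr hgK, hgS⟩
    have hX2 : X ≤ G.comap (phiG e P).toMonoidHom := by
      intro g hg
      rw [hX, Subgroup.mem_comap] at hg
      exact hMK hg
    by_cases hX3 : X ≤ kroneckerSubgroup n₁ n₂ F
    · left
      refine le_antisymm ?_ hHM
      intro y hy
      obtain ⟨g, rfl⟩ := (phiG e P).surjective y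
      exact ⟨(phiG_mem_tensor_iff e P g).mpr (hX3 hy), hMK hy⟩
    · right
      have hXeq := hmain X hX1 hX2 hX3
      refine le_antisymm hMK ?_
      intro y hy
      obtain ⟨g, rfl⟩ := (phiG e P).surjective y
      have hg : g ∈ X := by
        rw [hXeq]
        exact hy
      exact hg

/-- the form carried to the model. -/
def modelB (e : ι ≃ Fin n₁ × Fin n₂) (P : GL ι F) (f : (ι → F) → (ι → F) → F) :
    (Fin n₁ × Fin n₂ → F) → (Fin n₁ × Fin n₂ → F) → F :=
  fun x y => f ((P : Matrix ι ι F) *ᵥ (x ∘ e)) ((P : Matrix ι ι F) *ᵥ (y ∘ e))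

/-- `phiG e P g` preserves `f` iff `g` preserves the model form. -/
theorem phiG_preserves_iff (e : ι ≃ Fin n₁ × Fin n₂) (P : GL ι F) (f : (ι → F) → (ι → F) → F)
    (g : GL (Fin n₁ × Fin n₂) F) :
    (∀ u v : ι → F, f (((phiG e P g : GL ι F) : Matrix ι ι F) *ᵥ u)
        (((phiG e P g : GL ι F) : Matrix ι ι F) *ᵥ v) = f u v) ↔
      ∀ x y : Fin n₁ × Fin n₂ → F,
        modelB e P f ((g : Matrix (Fin n₁ × Fin n₂) (Fin n₁ × Fin n₂) F) *ᵥ x)
          ((g : Matrix (Fin n₁ × Fin n₂) (Fin n₁ × Fin n₂) F) *ᵥ y) = modelB e P f x y := by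
  constructor
  · intro h x y
    unfold modelB
    rw [← phiG_mulVec, ← phiG_mulVec, h]
  · intro h u v
    obtain ⟨x, rfl⟩ := exists_model_vec e P u
    obtain ⟨y, rfl⟩ := exists_model_vec e P v
    rw [phiG_mulVec, phiG_mulVec]
    exact h x y

/-- membership in the pulled-back symplectic group. -/
theorem mem_comap_spGL_iff {m : ℕ} (e : (Fin m ⊕ Fin m) ≃ Fin n₁ × Fin n₂) (P : GL (Fin m ⊕ Fin m) F)
    (g : GL (Fin n₁ × Fin n₂) F) :
    g ∈ (spGL m F).comap (phiG e P).toMonoidHom ↔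
      ∀ x y : Fin n₁ × Fin n₂ → F,
        modelB e P (sympForm m F) ((g : Matrix (Fin n₁ × Fin n₂) (Fin n₁ × Fin n₂) F) *ᵥ x)
          ((g : Matrix (Fin n₁ × Fin n₂) (Fin n₁ × Fin n₂) F) *ᵥ y) =
          modelB e P (sympForm m F) x y :=
  phiG_preserves_iff e P (sympForm m F) g

end Cfsg.Agent.Helper5.TensSpFin
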