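import Cfsg.Agent.Helper5.TensSpFinA
import Cfsg.Agent.Helper4.TPBase
import Cfsg.Agent.Helper7.TensNMA
import Cfsg.Agent.Helper7.TnSpB
import Cfsg.Agent.Helper8.TensG

/-!
# S5666 [FIN], part B (helper5): the model form

For a symplectic form `f` on `ι → F`, `modelB e P f` is a symplectic form on `Fin n₁ × Fin n₂ → F`; under a tensor
form structure its values on pure tensors are `c * (f₁ u u' * f₂ w w')`; a Kronecker product of an isometry of `f₁`
and an isometry of `f₂` preserves it.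
-/

set_option autoImplicit false
set_option linter.unusedSectionVars false
set_option linter.unusedVariables false
set_option linter.style.haveILetI false

namespace Cfsg.Agent.Helper5.TensSpFin

open Matrix Module Cfsg Cfsg.Geo Cfsg.Agent.Helper4 Cfsg.Agent.Helper7.TensNM Cfsg.Agent.Helper7.TnSp
  Cfsg.Agent.Helper8.Tens
open scoped Kronecker

variable {F : Type*} [Field F] {ι : Type} [Fintype ι] [DecidableEq ι] {n₁ n₂ : ℕ}

theorem comp_add (e : ι ≃ Fin n₁ × Fin n₂) (x y : Fin n₁ × Fin n₂ → F) :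
    (x + y) ∘ e = x ∘ e + y ∘ e := rfl

theorem comp_smul (e : ι ≃ Fin n₁ × Fin n₂) (c : F) (x : Fin n₁ × Fin n₂ → F) :
    (c • x) ∘ e = c • (x ∘ e) := rfl

theorem model_vec_ne_zero (e : ι ≃ Fin n₁ × Fin n₂) (P : GL ι F) {x : Fin n₁ × Fin n₂ → F}
    (hx : x ≠ 0) : (P : Matrix ι ι F) *ᵥ (x ∘ e) ≠ 0 := by
  intro h0
  apply hx
  have h1 := congrArg (fun z => ((P⁻¹ : GL ι F) : Matrix ι ι F) *ᵥ z) h0
  simp only [Matrix.mulVec_mulVec, Matrix.mulVec_zero] at h1
  rw [← Units.val_mul, inv_mul_cancel, Units.val_one, Matrix.one_mulVec] at h1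
  funext k
  have := congrFun h1 (e.symm k)
  simpa using this

/-- the model form of a symplectic form is symplectic. -/
theorem modelB_symplectic (e : ι ≃ Fin n₁ × Fin n₂) (P : GL ι F) {f : (ι → F) → (ι → F) → F}
    (hf : IsSymplecticForm f) : IsSymplecticForm (modelB e P f) := by
  have hb := hf.bilinear
  refine ⟨⟨fun x y v => ?_, fun c x v => ?_, fun v x y => ?_, fun c v x => ?_⟩, fun v w => ?_,
    fun v => ?_, fun v hv => ?_⟩
  · unfold modelB; rw [comp_add, Matrix.mulVec_add, hb.add_left]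
  · unfold modelB; rw [comp_smul, Matrix.mulVec_smul, hb.smul_left]
  · unfold modelB; rw [comp_add, Matrix.mulVec_add, hb.add_right]
  · unfold modelB; rw [comp_smul, Matrix.mulVec_smul, hb.smul_right]
  · exact hf.skew _ _
  · exact hf.alternating _
  · obtain ⟨⟨a, ha⟩, ⟨b, hb'⟩⟩ := hf.nondegenerate _ (model_vec_ne_zero e P hv)
    obtain ⟨x, rfl⟩ := exists_model_vec e P a
    obtain ⟨y, rfl⟩ := exists_model_vec e P b
    exact ⟨⟨x, ha⟩, ⟨y, hb'⟩⟩

theorem formOfGram_gram'' {κ : Type} [Fintype κ] [DecidableEq κ] (f : (κ → F) → (κ → F) → F)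
    (hf : IsBilinearForm f) (u v : κ → F) : formOfGram id (gramMatrix f) u v = f u v := by
  rw [formOfGram_id, ← eq_dot_gram f hf]

/-- the model form on pure tensors. -/
theorem modelB_tmul (e : ι ≃ Fin n₁ × Fin n₂) (P : GL ι F) (f : (ι → F) → (ι → F) → F)
    {f₁ : (Fin n₁ → F) → (Fin n₁ → F) → F} {f₂ : (Fin n₂ → F) → (Fin n₂ → F) → F}
    (h₁ : IsBilinearForm f₁) (h₂ : IsBilinearForm f₂) {c : F}
    (hc : ∀ x y : Fin n₁ × Fin n₂ → F,
      f ((P : Matrix ι ι F) *ᵥ (x ∘ e)) ((P : Matrix ι ι F) *ᵥ (y ∘ e)) =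
        c * formOfGram id (gramMatrix f₁ ⊗ₖ gramMatrix f₂) x y)
    (u : Fin n₁ → F) (w : Fin n₂ → F) (u' : Fin n₁ → F) (w' : Fin n₂ → F) :
    modelB e P f (TP.tmul u w) (TP.tmul u' w') = c * (f₁ u u' * f₂ w w') := by
  unfold modelB
  rw [hc]
  have h := formOfGram_pt (RingHom.id F) (gramMatrix f₁) (gramMatrix f₂) u u' w w'
  have h' : formOfGram id (gramMatrix f₁ ⊗ₖ gramMatrix f₂) (TP.tmul u w) (TP.tmul u' w') =
      formOfGram id (gramMatrix f₁) u u' * formOfGram id (gramMatrix f₂) w w' := h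
  rw [h', formOfGram_gram'' f₁ h₁, formOfGram_gram'' f₂ h₂]

/-- two bilinear forms agreeing on pure tensors are equal. -/
theorem bilin_ext_pure {U W V : Type*} [AddCommGroup U] [Module F U] [AddCommGroup W] [Module F W]
    [AddCommGroup V] [Module F V] {t : U →ₗ[F] W →ₗ[F] V} (ht : IsTensorProduct t)
    (B B' : LinearMap.BilinForm F V)
    (h : ∀ u w u' w', B (t u w) (t u' w') = B' (t u w) (t u' w')) : B = B' := by
  apply ext_pure ht
  intro u w
  apply ext_pure ht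
  intro u' w'
  exact h u w u' w'

/-- a Kronecker product of isometries of the factors preserves the model form. -/
theorem kr_preserves (e : ι ≃ Fin n₁ × Fin n₂) (P : GL ι F) {f : (ι → F) → (ι → F) → F}
    (hf : IsBilinearForm (modelB e P f))
    {f₁ : (Fin n₁ → F) → (Fin n₁ → F) → F} {f₂ : (Fin n₂ → F) → (Fin n₂ → F) → F} {c : F}
    (hpol : ∀ u w u' w', modelB e P f (TP.tmul u w) (TP.tmul u' w') = c * (f₁ u u' * f₂ w w'))
    (A : GL (Fin n₁) F) (B : GL (Fin n₂) F)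
    (hA : ∀ u u', f₁ ((A : Matrix _ _ F) *ᵥ u) ((A : Matrix _ _ F) *ᵥ u') = f₁ u u')
    (hB : ∀ w w', f₂ ((B : Matrix _ _ F) *ᵥ w) ((B : Matrix _ _ F) *ᵥ w') = f₂ w w')
    (x y : Fin n₁ × Fin n₂ → F) :
    modelB e P f (((TP.kr A B : GL (Fin n₁ × Fin n₂) F) : Matrix _ _ F) *ᵥ x)
      (((TP.kr A B : GL (Fin n₁ × Fin n₂) F) : Matrix _ _ F) *ᵥ y) = modelB e P f x y := by
  set BV : LinearMap.BilinForm F (Fin n₁ × Fin n₂ → F) := toBF (modelB e P f) hf with hBV
  set g : (Fin n₁ × Fin n₂ → F) →ₗ[F] (Fin n₁ × Fin n₂ → F) :=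
    ((TP.tt A B : (Fin n₁ × Fin n₂ → F) ≃ₗ[F] (Fin n₁ × Fin n₂ → F)) :
      (Fin n₁ × Fin n₂ → F) →ₗ[F] (Fin n₁ × Fin n₂ → F)) with hg
  have key : BV.compl₁₂ g g = BV := by
    apply bilin_ext_pure (isTP (F := F) (m := Fin n₁) (n := Fin n₂))
    intro u w u' w'
    rw [LinearMap.compl₁₂_apply]
    show modelB e P f (TP.tt A B (TP.tmul u w)) (TP.tt A B (TP.tmul u' w')) =
      modelB e P f (TP.tmul u w) (TP.tmul u' w')
    rw [TP.tt_tmul, TP.tt_tmul, hpol, hpol, hA, hB]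
  have := congrArg (fun b : LinearMap.BilinForm F (Fin n₁ × Fin n₂ → F) => b x y) key
  exact this

end Cfsg.Agent.Helper5.TensSpFin
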