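import Cfsg.Agent.Helper5.TensSpFinB
import Cfsg.Agent.Helper5.TensSX

/-!
# S5666 [FIN], part C (helper5): properness in the model

A symplectic transvection of the model form with a pure centre `u₀ ⊗ w₀` is not a Kronecker product.
-/

set_option autoImplicit false
set_option linter.unusedSectionVars false
set_option linter.unusedVariables false
set_option linter.style.haveILetI false

namespace Cfsg.Agent.Helper5.TensSpFin

open Matrix Module Cfsg Cfsg.Geo Cfsg.Agent.Helper4 Cfsg.Agent.Helper7.TnSp Cfsg.Agent.Helper8.Tens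
  Cfsg.Agent.Helper3.TensOm
open scoped Kronecker

variable {F : Type*} [Field F] {n₁ n₂ : ℕ}

theorem exists_single_ne_zero' {n : ℕ} (hn : 1 ≤ n) : ∃ w : Fin n → F, w ≠ 0 := by
  refine ⟨Pi.single (⟨0, hn⟩ : Fin n) (1 : F), fun h => ?_⟩
  have h1 := congrFun h ⟨0, hn⟩
  rw [Pi.single_eq_same, Pi.zero_apply] at h1
  exact one_ne_zero h1

/-- the functional `w ↦ f w y`. -/
noncomputable def lfun {n : ℕ} {f : (Fin n → F) → (Fin n → F) → F} (hf : IsBilinearForm f) (y : Fin n → F) :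
    Module.Dual F (Fin n → F) := (toBF f hf).flip y

theorem lfun_apply {n : ℕ} {f : (Fin n → F) → (Fin n → F) → F} (hf : IsBilinearForm f)
    (y w : Fin n → F) : lfun hf y w = f w y := rfl

/-- **properness**: some isometry of the model form is not a Kronecker product. -/
theorem exists_isometry_not_kronecker (h1 : 1 ≤ n₁) (h2 : 3 ≤ n₂)
    {B₂ : (Fin n₁ × Fin n₂ → F) → (Fin n₁ × Fin n₂ → F) → F} (hB₂ : IsSymplecticForm B₂)
    {f₁ : (Fin n₁ → F) → (Fin n₁ → F) → F} {f₂ : (Fin n₂ → F) → (Fin n₂ → F) → F}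
    (hf₁ : IsSymplecticForm f₁) (hf₂ : IsSymmetricForm f₂) {c : F} (hc : c ≠ 0)
    (hpol : ∀ u w u' w', B₂ (TP.tmul u w) (TP.tmul u' w') = c * (f₁ u u' * f₂ w w')) :
    ∃ g : GL (Fin n₁ × Fin n₂) F,
      (∀ x y, B₂ ((g : Matrix _ _ F) *ᵥ x) ((g : Matrix _ _ F) *ᵥ y) = B₂ x y) ∧
        g ∉ kroneckerSubgroup n₁ n₂ F := by
  classical
  have hb₁ := hf₁.bilinear
  have hb₂ := hf₂.bilinear
  have hbB := hB₂.bilinear
  have hnd₂ : ∀ x : Fin n₂ → F, (∀ y, toBF f₂ hb₂ x y = 0) → x = 0 := by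
    intro x hx
    by_contra hx0
    obtain ⟨-, z, hz⟩ := hf₂.nondegenerate x hx0
    exact hz (hx z)
  -- the vectors
  obtain ⟨u₀, hu₀⟩ := exists_single_ne_zero' (F := F) (n := n₁) h1
  obtain ⟨⟨u, hu⟩, -⟩ := hf₁.nondegenerate u₀ hu₀
  obtain ⟨w₀, hw₀⟩ := exists_single_ne_zero' (F := F) (n := n₂) (by omega)
  obtain ⟨w, hw, hwind⟩ : ∃ w : Fin n₂ → F, f₂ w w₀ ≠ 0 ∧ ∀ a : F, w ≠ a • w₀ := by
    obtain ⟨⟨w₁, hw₁⟩, -⟩ := hf₂.nondegenerate w₀ hw₀
    obtain ⟨v, hv1, hv2⟩ := Cfsg.Agent.Helper5.TensSX.x1 (toBF f₂ hb₂)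
      (by rw [Module.finrank_fin_fun]; exact h2) w₀
    by_cases hdep : ∀ a : F, w₁ ≠ a • w₀
    · exact ⟨w₁, hw₁, hdep⟩
    · push Not at hdep
      obtain ⟨a, ha⟩ := hdep
      refine ⟨w₁ + v, ?_, ?_⟩
      · have hv1' : f₂ v w₀ = 0 := by rw [hf₂.symm]; exact hv1
        rw [hb₂.add_left, hv1', add_zero]
        exact hw₁
      · intro b hb
        apply hv2 (b - a)
        rw [sub_smul, ← hb, ha]
        abel
  obtain ⟨y₁, hy₁0, hy₁⟩ := exists_perp_not_perp (toBF f₂ hb₂) hnd₂ hw₀ hwind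
  obtain ⟨-, y₂, hy₂⟩ := hf₂.nondegenerate w₀ hw₀
  -- the transvection
  set x₀ : Fin n₁ × Fin n₂ → F := TP.tmul u₀ w₀ with hx₀
  have hlin : ((toBF B₂ hbB).flip x₀) x₀ = 0 := hB₂.alternating x₀
  set T : (Fin n₁ × Fin n₂ → F) ≃ₗ[F] (Fin n₁ × Fin n₂ → F) := LinearEquiv.transvection hlin with hT
  have hTapp : ∀ x, T x = x + B₂ x x₀ • x₀ := by
    intro x
    rw [hT, LinearEquiv.transvection.apply]
    rfl
  set g : GL (Fin n₁ × Fin n₂) F := (TP.thetaG (F := F) (ι := Fin n₁ × Fin n₂)).symm T with hg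
  have hgx : ∀ x, (g : Matrix _ _ F) *ᵥ x = x + B₂ x x₀ • x₀ := by
    intro x
    rw [← TP.thetaG_apply, hg, MulEquiv.apply_symm_apply, hTapp]
  refine ⟨g, fun x y => ?_, ?_⟩
  · rw [hgx, hgx, hbB.add_left, hbB.add_right, hbB.add_right, hbB.smul_left, hbB.smul_left, hbB.smul_right,
      hbB.smul_right, hB₂.alternating x₀, hB₂.skew x₀ y]
    ring
  · rintro ⟨a, b, hab⟩
    have hz := hgx (TP.tmul u w)
    rw [hab, TP.kronecker_mulVec_tmul, hx₀, hpol] at hz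
    obtain ⟨A, hA⟩ : ∃ A : Fin n₁ → F, A = (a : Matrix (Fin n₁) (Fin n₁) F) *ᵥ u := ⟨_, rfl⟩
    obtain ⟨B, hB⟩ : ∃ B : Fin n₂ → F, B = (b : Matrix (Fin n₂) (Fin n₂) F) *ᵥ w := ⟨_, rfl⟩
    rw [← hA, ← hB] at hz
    obtain ⟨l, hl⟩ : ∃ l : F, l = c * (f₁ u u₀ * f₂ w w₀) := ⟨_, rfl⟩
    have hl0 : l ≠ 0 := by
      rw [hl]
      exact mul_ne_zero hc (mul_ne_zero hu hw)
    rw [← hl] at hz
    have hcon : ∀ β : Module.Dual F (Fin n₂ → F), β B • A = β w • u + l • (β w₀ • u₀) := by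
      intro β
      have h := congrArg (TP.con β) hz
      rw [map_add, map_smul, TP.con_tmul, TP.con_tmul, TP.con_tmul] at h
      exact h
    have e1 := hcon (lfun hb₂ y₁)
    have e2 := hcon (lfun hb₂ y₂)
    rw [lfun_apply, lfun_apply, lfun_apply] at e1 e2
    have hy₁0' : f₂ w₀ y₁ = 0 := hy₁0
    have hy₁' : f₂ w y₁ ≠ 0 := hy₁
    rw [hy₁0', zero_smul, smul_zero, add_zero] at e1
    have e3 : f₁ (f₂ B y₁ • A) (f₂ B y₂ • A) = 0 := by
      rw [hb₁.smul_left, hb₁.smul_right, hf₁.alternating, mul_zero, mul_zero]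
    rw [e1, e2, smul_smul, hb₁.smul_left, hb₁.add_right, hb₁.smul_right, hb₁.smul_right,
      hf₁.alternating] at e3
    have e5 : f₂ w y₁ * (l * f₂ w₀ y₂ * f₁ u u₀) = 0 := by linear_combination e3
    exact mul_ne_zero hy₁' (mul_ne_zero (mul_ne_zero hl0 hy₂) hu) e5

end Cfsg.Agent.Helper5.TensSpFin
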