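import Cfsg.Agent.Helper5.TensSpFinC
import Cfsg.Agent.Helper6.SpOA
import Cfsg.Agent.Helper7.SympGeneration
import Cfsg.Agent.S5645
import Cfsg.Agent.Helper8.SpEvenB

/-!
# S5666 [FIN], part D (helper5): from the abstract dichotomy to the model statement

* `spGL_le_of_transvections`: a subgroup of `GL` containing all symplectic transvections contains `spGL`;
* `kr_preserves_mu`: Kronecker products of similitudes with inverse multipliers preserve the model form;
* `model_main_sp`: the model statement from helper6's abstract dichotomy (`HM`) and helper1's `seed` (`HSEED`).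
-/

set_option autoImplicit false
set_option linter.unusedSectionVars false
set_option linter.unusedVariables false
set_option linter.style.haveILetI false

namespace Cfsg.Agent.Helper5.TensSpFin

open Matrix Module Cfsg Cfsg.Geo Cfsg.Agent.Helper4 Cfsg.Agent.Helper7.TnSp Cfsg.Agent.Helper8.Tens
  Cfsg.Agent.Helper6.SpO Cfsg.Agent.Helper7.Symp
open scoped Kronecker

variable {F : Type*} [Field F] {m n₁ n₂ : ℕ}

theorem matrix_eq_of_mulVec {ι : Type} [Fintype ι] [DecidableEq ι] {M₁ M₂ : Matrix ι ι F}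
    (h : ∀ x, M₁ *ᵥ x = M₂ *ᵥ x) : M₁ = M₂ := by
  apply Matrix.toLin'.injective
  apply LinearMap.ext
  intro x
  rw [Matrix.toLin'_apply, Matrix.toLin'_apply, h]

/-- a subgroup of `GL` containing all symplectic transvections contains `spGL`. -/
theorem spGL_le_of_transvections (M : Subgroup (GL (Fin m ⊕ Fin m) F))
    (h : ∀ (w : Fin m ⊕ Fin m → F) (c : F), ∃ g ∈ M, ∀ x,
      (g : Matrix (Fin m ⊕ Fin m) (Fin m ⊕ Fin m) F) *ᵥ x = x + (c * sympForm m F x w) • w) :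
    spGL m F ≤ M := by
  intro g hg
  obtain ⟨A, rfl⟩ := Cfsg.Agent.S5645.exists_toGL_eq hg
  have hA : A ∈ transvectionSubgroup m F := by
    rw [transvectionSubgroup_eq_top]; trivial
  have hle : transvectionSubgroup m F ≤ M.comap (Cfsg.Agent.S5645.toGL m F) := by
    unfold transvectionSubgroup
    rw [Subgroup.closure_le]
    rintro A' ⟨w, c, hA'⟩
    obtain ⟨g, hgM, hgx⟩ := h w c
    have : Cfsg.Agent.S5645.toGL m F A' = g := by
      apply Units.ext
      apply matrix_eq_of_mulVec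
      intro x
      rw [hgx]
      show (A' : Matrix (Fin m ⊕ Fin m) (Fin m ⊕ Fin m) F) *ᵥ x = _
      rw [hA', sympTransvection_mulVec]
    show Cfsg.Agent.S5645.toGL m F A' ∈ M
    rw [this]
    exact hgM
  exact hle hA

/-- a Kronecker product of similitudes with inverse multipliers preserves a form which is a product on pure
tensors. -/
theorem kr_preserves_mu {B₂ : (Fin n₁ × Fin n₂ → F) → (Fin n₁ × Fin n₂ → F) → F}
    (hb : IsBilinearForm B₂)
    {g₁ : (Fin n₁ → F) → (Fin n₁ → F) → F} {g₂ : (Fin n₂ → F) → (Fin n₂ → F) → F}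
    (hpol : ∀ u w u' w', B₂ (TP.tmul u w) (TP.tmul u' w') = g₁ u u' * g₂ w w')
    (A : GL (Fin n₁) F) (B : GL (Fin n₂) F) (μ : F)
    (hA : ∀ u u', g₁ ((A : Matrix _ _ F) *ᵥ u) ((A : Matrix _ _ F) *ᵥ u') = μ * g₁ u u')
    (hB : ∀ w w', μ * g₂ ((B : Matrix _ _ F) *ᵥ w) ((B : Matrix _ _ F) *ᵥ w') = g₂ w w')
    (x y : Fin n₁ × Fin n₂ → F) :
    B₂ (((TP.kr A B : GL (Fin n₁ × Fin n₂) F) : Matrix _ _ F) *ᵥ x)
      (((TP.kr A B : GL (Fin n₁ × Fin n₂) F) : Matrix _ _ F) *ᵥ y) = B₂ x y := by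
  set BV : LinearMap.BilinForm F (Fin n₁ × Fin n₂ → F) := toBF B₂ hb with hBV
  set g : (Fin n₁ × Fin n₂ → F) →ₗ[F] (Fin n₁ × Fin n₂ → F) :=
    ((TP.tt A B : (Fin n₁ × Fin n₂ → F) ≃ₗ[F] (Fin n₁ × Fin n₂ → F)) :
      (Fin n₁ × Fin n₂ → F) →ₗ[F] (Fin n₁ × Fin n₂ → F)) with hg
  have key : BV.compl₁₂ g g = BV := by
    apply bilin_ext_pure (isTP (F := F) (m := Fin n₁) (n := Fin n₂))
    intro u w u' w'
    rw [LinearMap.compl₁₂_apply]
    show B₂ (TP.tt A B (TP.tmul u w)) (TP.tt A B (TP.tmul u' w')) = B₂ (TP.tmul u w) (TP.tmul u' w')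
    rw [TP.tt_tmul, TP.tt_tmul, hpol, hpol, hA, ← hB w w']
    ring
  have := congrArg (fun b : LinearMap.BilinForm F (Fin n₁ × Fin n₂ → F) => b x y) key
  exact this

section main

variable (e : (Fin m ⊕ Fin m) ≃ Fin n₁ × Fin n₂) (P : GL (Fin m ⊕ Fin m) F)

/-- the model form as a Mathlib bilinear form. -/
noncomputable def BV : LinearMap.BilinForm F (Fin n₁ × Fin n₂ → F) :=
  toBF (modelB e P (sympForm m F))
    (modelB_symplectic e P (Cfsg.Agent.Helper8.SpEven.isSymplecticForm_sympForm m)).bilinear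

theorem BV_apply (x y : Fin n₁ × Fin n₂ → F) :
    BV e P x y = sympForm m F ((P : Matrix _ _ F) *ᵥ (x ∘ e)) ((P : Matrix _ _ F) *ᵥ (y ∘ e)) := rfl

theorem BV_alt (v : Fin n₁ × Fin n₂ → F) : BV e P v v = 0 :=
  (Cfsg.Agent.Helper8.SpEven.isSymplecticForm_sympForm m (F := F)).alternating _

/-- the scaled first form. -/
noncomputable def G₁ {f₁ : (Fin n₁ → F) → (Fin n₁ → F) → F} (h₁ : IsBilinearForm f₁) (c : F) :
    LinearMap.BilinForm F (Fin n₁ → F) := c • toBF f₁ h₁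

theorem G₁_apply {f₁ : (Fin n₁ → F) → (Fin n₁ → F) → F} (h₁ : IsBilinearForm f₁) (c : F)
    (u u' : Fin n₁ → F) : G₁ h₁ c u u' = c * f₁ u u' := rfl

/-- **the model statement for `Sp ⊗ O`.** -/
theorem model_main_sp {f₁ : (Fin n₁ → F) → (Fin n₁ → F) → F} {f₂ : (Fin n₂ → F) → (Fin n₂ → F) → F}
    (hf₁ : IsSymplecticForm f₁) (hf₂ : IsSymmetricForm f₂) {c : F} (hc0 : c ≠ 0)
    (hc : ∀ x y : Fin n₁ × Fin n₂ → F,
      sympForm m F ((P : Matrix _ _ F) *ᵥ (x ∘ e)) ((P : Matrix _ _ F) *ᵥ (y ∘ e)) =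
        c * formOfGram id (gramMatrix f₁ ⊗ₖ gramMatrix f₂) x y)
    (h2F : (2 : F) ≠ 0)
    (HM : ∀ X' : Subgroup ((Fin n₁ × Fin n₂ → F) ≃ₗ[F] (Fin n₁ × Fin n₂ → F)),
      Hyp (TP.tmul (F := F) (m := Fin n₁) (n := Fin n₂)) (BV e P) (G₁ hf₁.bilinear c)
        (toBF f₂ hf₂.bilinear) X' →
      HasPureTv (TP.tmul (F := F) (m := Fin n₁) (n := Fin n₂)) (BV e P) (BV_alt e P) X' ∨
        ∀ g ∈ X', IsTens (TP.tmul (F := F) (m := Fin n₁) (n := Fin n₂)) g)
    (HSEED : ∀ X' : Subgroup ((Fin n₁ × Fin n₂ → F) ≃ₗ[F] (Fin n₁ × Fin n₂ → F)),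
      Hyp (TP.tmul (F := F) (m := Fin n₁) (n := Fin n₂)) (BV e P) (G₁ hf₁.bilinear c)
        (toBF f₂ hf₂.bilinear) X' →
      HasPureTv (TP.tmul (F := F) (m := Fin n₁) (n := Fin n₂)) (BV e P) (BV_alt e P) X' →
      ∀ (v : Fin n₁ × Fin n₂ → F) (a : F), Tv (BV e P) (BV_alt e P) v a ∈ X')
    (X : Subgroup (GL (Fin n₁ × Fin n₂) F))
    (hX1 : kroneckerSubgroup n₁ n₂ F ⊓ (spGL m F).comap (phiG e P).toMonoidHom ≤ X)
    (hX2 : X ≤ (spGL m F).comap (phiG e P).toMonoidHom)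
    (hX3 : ¬ X ≤ kroneckerSubgroup n₁ n₂ F) : X = (spGL m F).comap (phiG e P).toMonoidHom := by
  classical
  have hsym := modelB_symplectic e P (Cfsg.Agent.Helper8.SpEven.isSymplecticForm_sympForm m (F := F))
  have hb₁ := hf₁.bilinear
  have hb₂ := hf₂.bilinear
  have hpol : ∀ u w u' w', modelB e P (sympForm m F) (TP.tmul u w) (TP.tmul u' w') =
      G₁ hb₁ c u u' * toBF f₂ hb₂ w w' := by
    intro u w u' w'
    rw [modelB_tmul e P (sympForm m F) hb₁ hb₂ hc, G₁_apply, toBF_apply, mul_assoc]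
  set X' : Subgroup ((Fin n₁ × Fin n₂ → F) ≃ₗ[F] (Fin n₁ × Fin n₂ → F)) :=
    X.map (TP.thetaG (F := F) (ι := Fin n₁ × Fin n₂)).toMonoidHom with hX'
  have hmemX' : ∀ x : GL (Fin n₁ × Fin n₂) F, TP.thetaG x ∈ X' ↔ x ∈ X := by
    intro x
    constructor
    · rintro ⟨y, hy, hyx⟩
      have : y = x := (TP.thetaG (F := F) (ι := Fin n₁ × Fin n₂)).injective hyx
      rwa [← this]
    · intro hx
      exact ⟨x, hx, rfl⟩
  have hHyp : Hyp (TP.tmul (F := F) (m := Fin n₁) (n := Fin n₂)) (BV e P) (G₁ hb₁ c)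
      (toBF f₂ hb₂) X' := by
    refine ⟨h2F, BV_alt e P, fun v hv => ?_, fun u => ?_, fun u hu => ?_, fun w w' => hf₂.symm w w',
      fun w hw => ?_, hpol, ?_, ?_⟩
    · by_contra hv0
      obtain ⟨-, x, hx⟩ := hsym.nondegenerate v hv0
      exact hx (hv x)
    · rw [G₁_apply, hf₁.alternating, mul_zero]
    · by_contra hu0
      obtain ⟨-, x, hx⟩ := hf₁.nondegenerate u hu0
      have := hu x
      rw [G₁_apply] at this
      rcases mul_eq_zero.mp this with h | h
      · exact hc0 h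
      · exact hx h
    · by_contra hw0
      obtain ⟨-, x, hx⟩ := hf₂.nondegenerate w hw0
      exact hx (hw x)
    · rintro g ⟨x, hx, rfl⟩ v v'
      exact (mem_comap_spGL_iff e P x).mp (hX2 hx) v v'
    · intro A Bw μ hA hB
      set A' : GL (Fin n₁) F := (TP.thetaG (F := F) (ι := Fin n₁)).symm A with hA'
      set B' : GL (Fin n₂) F := (TP.thetaG (F := F) (ι := Fin n₂)).symm Bw with hB'
      have eA : ∀ u, (A' : Matrix _ _ F) *ᵥ u = A u := by
        intro u
        rw [← TP.thetaG_apply, hA', MulEquiv.apply_symm_apply]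
      have eB : ∀ w, (B' : Matrix _ _ F) *ᵥ w = Bw w := by
        intro w
        rw [← TP.thetaG_apply, hB', MulEquiv.apply_symm_apply]
      refine ⟨TP.tt A' B', ?_, fun u w => ?_⟩
      · apply (hmemX' (TP.kr A' B')).mpr
        apply hX1
        refine ⟨⟨A', B', rfl⟩, (mem_comap_spGL_iff e P _).mpr ?_⟩
        intro x y
        refine kr_preserves_mu hsym.bilinear hpol A' B' μ (fun u u' => ?_) (fun w w' => ?_) x y
        · rw [eA, eA]; exact hA u u'
        · rw [eB, eB]; exact hB w w'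
      · rw [TP.tt_tmul, eA, eB]
  rcases HM X' hHyp with hTv | hT
  · have hall := HSEED X' hHyp hTv
    apply le_antisymm hX2
    intro g hg
    have hle := spGL_le_of_transvections (X.map (phiG e P).toMonoidHom) (by
      intro w a
      obtain ⟨x₀, rfl⟩ := exists_model_vec e P w
      have hτ := hall x₀ a
      set x : GL (Fin n₁ × Fin n₂) F :=
        (TP.thetaG (F := F) (ι := Fin n₁ × Fin n₂)).symm (Tv (BV e P) (BV_alt e P) x₀ a) with hx
      have hxX : x ∈ X := by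
        apply (hmemX' x).mp
        rw [hx, MulEquiv.apply_symm_apply]
        exact hτ
      refine ⟨phiG e P x, ⟨x, hxX, rfl⟩, fun u => ?_⟩
      obtain ⟨y, rfl⟩ := exists_model_vec e P u
      rw [phiG_mulVec]
      have hxy : (x : Matrix _ _ F) *ᵥ y = y + (a * BV e P y x₀) • x₀ := by
        rw [← TP.thetaG_apply, hx, MulEquiv.apply_symm_apply, Tv_apply]
      rw [hxy, comp_add, comp_smul, Matrix.mulVec_add, Matrix.mulVec_smul, BV_apply])
    obtain ⟨x, hx, hxg⟩ := hle hg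
    have : x = g := (phiG e P).injective hxg
    rwa [← this]
  · exfalso
    apply hX3
    intro x hx
    obtain ⟨A, B, hAB⟩ := isTens_iff_tt.mp (hT _ ((hmemX' x).mpr hx))
    have : x = TP.kr A B := (TP.thetaG (F := F) (ι := Fin n₁ × Fin n₂)).injective hAB
    rw [this]
    exact ⟨A, B, rfl⟩

end main

end Cfsg.Agent.Helper5.TensSpFin
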