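import Cfsg.Agent.Helper5.TensSpFinD
import Cfsg.Agent.Helper6.AschGenEven

/-!
# S5666 [FIN], part E (helper5): the assembly

`tensor_sp_maximal`: S5666 from (HM) helper6's abstract dichotomy `mainSO` and (HSEED) `seed`.
-/

set_option autoImplicit false
set_option linter.unusedSectionVars false
set_option linter.unusedVariables false
set_option linter.style.haveILetI false

namespace Cfsg.Agent.Helper5.TensSpFin

open Matrix Module Cfsg Cfsg.Geo Cfsg.Agent.Helper4 Cfsg.Agent.Helper7.TnSp Cfsg.Agent.Helper8.Tens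
  Cfsg.Agent.Helper6.SpO
open scoped Kronecker

variable {F : Type*} [Field F] [Fintype F]

theorem two_ne_zero_of_odd (hodd : Odd (Fintype.card F)) : (2 : F) ≠ 0 := by
  intro h2
  have hchar : ringChar F = 2 := by
    have hdvd : ringChar F ∣ 2 := by
      have := (ringChar.spec F 2).mp (by exact_mod_cast h2)
      exact this
    have hprime : (ringChar F).Prime := CharP.char_is_prime F (ringChar F)
    exact (Nat.prime_dvd_prime_iff_eq hprime Nat.prime_two).mp hdvd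
  have := FiniteField.even_card_iff_char_two.mp hchar
  obtain ⟨k, hk⟩ := hodd
  omega

theorem tensor_sp_maximal (m : ℕ) (hm : 7 ≤ m) (hodd : Odd (Fintype.card F)) (n₁ n₂ : ℕ)
    (hn₂ : 3 ≤ n₂) (hex : ¬ (Fintype.card F = 3 ∧ n₂ = 3))
    (e : (Fin m ⊕ Fin m) ≃ Fin n₁ × Fin n₂) (P : GL (Fin m ⊕ Fin m) F)
    (f₁ : (Fin n₁ → F) → (Fin n₁ → F) → F) (f₂ : (Fin n₂ → F) → (Fin n₂ → F) → F)
    (hf₁ : IsSymplecticForm f₁) (hf₂ : IsSymmetricForm f₂)
    (hT : IsTensorFormStructure id (sympForm m F) f₁ f₂ e P)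
    (HM : ∀ (B : LinearMap.BilinForm F (Fin n₁ × Fin n₂ → F)) (g₁ : LinearMap.BilinForm F (Fin n₁ → F))
      (g₂ : LinearMap.BilinForm F (Fin n₂ → F))
      (X' : Subgroup ((Fin n₁ × Fin n₂ → F) ≃ₗ[F] (Fin n₁ × Fin n₂ → F)))
      (h : Hyp (TP.tmul (F := F) (m := Fin n₁) (n := Fin n₂)) B g₁ g₂ X'),
      2 ≤ finrank F (Fin n₁ → F) → 3 ≤ finrank F (Fin n₂ → F) →
      14 ≤ finrank F (Fin n₁ → F) * finrank F (Fin n₂ → F) →
      ¬ (Nat.card F = 3 ∧ finrank F (Fin n₂ → F) = 3) →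
      HasPureTv (TP.tmul (F := F) (m := Fin n₁) (n := Fin n₂)) B h.altB X' ∨
        ∀ g ∈ X', IsTens (TP.tmul (F := F) (m := Fin n₁) (n := Fin n₂)) g)
    (HSEED : ∀ (B : LinearMap.BilinForm F (Fin n₁ × Fin n₂ → F))
      (g₁ : LinearMap.BilinForm F (Fin n₁ → F)) (g₂ : LinearMap.BilinForm F (Fin n₂ → F))
      (X' : Subgroup ((Fin n₁ × Fin n₂ → F) ≃ₗ[F] (Fin n₁ × Fin n₂ → F)))
      (h : Hyp (TP.tmul (F := F) (m := Fin n₁) (n := Fin n₂)) B g₁ g₂ X'),
      2 ≤ finrank F (Fin n₁ → F) → 3 ≤ finrank F (Fin n₂ → F) →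
      ¬ (Nat.card F = 3 ∧ finrank F (Fin n₂ → F) = 3) →
      HasPureTv (TP.tmul (F := F) (m := Fin n₁) (n := Fin n₂)) B h.altB X' →
      ∀ (v : Fin n₁ × Fin n₂ → F) (a : F), Tv B h.altB v a ∈ X') :
    IsMaximalIn (spGL m F) (tensorProductSubgroup n₁ n₂ e P ⊓ spGL m F) := by
  classical
  have hcard : m + m = n₁ * n₂ := by
    have := Fintype.card_congr e
    simpa using this
  have he₁ : Even n₁ := Cfsg.Agent.Helper6.AschGen.even_of_isSymplecticForm hf₁
  have hn₁ : 2 ≤ n₁ := by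
    obtain ⟨a, ha⟩ := he₁
    have h1 : 1 ≤ n₁ := by
      by_contra h
      have h0 : n₁ = 0 := by omega
      rw [h0, zero_mul] at hcard
      omega
    omega
  obtain ⟨c, hc0, hc⟩ := hT
  have h2F := two_ne_zero_of_odd hodd
  have hfr₁ : finrank F (Fin n₁ → F) = n₁ := Module.finrank_fin_fun F
  have hfr₂ : finrank F (Fin n₂ → F) = n₂ := Module.finrank_fin_fun F
  have hsym := modelB_symplectic e P (Cfsg.Agent.Helper8.SpEven.isSymplecticForm_sympForm m (F := F))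
  have hexF : ¬ (Nat.card F = 3 ∧ finrank F (Fin n₂ → F) = 3) := by
    rw [hfr₂, Nat.card_eq_fintype_card]
    exact hex
  apply maximal_of_model_gen e P (spGL m F)
  · -- properness
    intro hle
    obtain ⟨g, hg1, hg2⟩ := exists_isometry_not_kronecker (by omega) hn₂ hsym hf₁ hf₂ hc0
      (modelB_tmul e P (sympForm m F) hf₁.bilinear hf₂.bilinear hc)
    exact hg2 (hle ((mem_comap_spGL_iff e P g).mpr hg1))
  · intro X hX1 hX2 hX3
    exact model_main_sp e P hf₁ hf₂ hc0 hc h2F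
      (fun X' h => HM _ _ _ X' h (by rw [hfr₁]; exact hn₁) (by rw [hfr₂]; exact hn₂)
        (by rw [hfr₁, hfr₂, ← hcard]; omega) hexF)
      (fun X' h hTv => HSEED _ _ _ X' h (by rw [hfr₁]; exact hn₁) (by rw [hfr₂]; exact hn₂) hexF hTv)
      X hX1 hX2 hX3

end Cfsg.Agent.Helper5.TensSpFin
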