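import Cfsg.Agent.Helper5.TensSpFinE
import Cfsg.Agent.Helper9.SpOMain4b
import Cfsg.Agent.Helper4.TensA2D
import Cfsg.Agent.Helper1.TensSpSeedC

/-!
# S5666 [FIN], last step (helper5): `mainSO` (case split `dim U = 2` / `dim U ≥ 3`) and the
abstract inputs `HM`, `HSEED` of `tensor_sp_maximal` in the concrete model.
-/

set_option autoImplicit false
set_option linter.unusedSectionVars false
set_option linter.unusedVariables false

namespace Cfsg.Agent.Helper5.TensSpFin

open Module Cfsg.Agent.Helper7.ExtF Cfsg.Agent.Helper8.Tens Cfsg.Agent.Helper6.SpO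

section gen

variable {F : Type*} [Field F] {U W V : Type*} [AddCommGroup U] [Module F U]
  [AddCommGroup W] [Module F W] [AddCommGroup V] [Module F V]
  [FiniteDimensional F U] [FiniteDimensional F W] [FiniteDimensional F V]
  {t : U →ₗ[F] W →ₗ[F] V} {B : LinearMap.BilinForm F V} {f₁ : LinearMap.BilinForm F U}
  {f₂ : LinearMap.BilinForm F W} {X : Subgroup (V ≃ₗ[F] V)}

/-- the main dichotomy of the `Sp ⊗ O` argument: `dim U = 2` by helper4's direct route,
`dim U ≥ 3` by helper9's `mainSO_ge3`. -/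
theorem mainSO_h5 [Finite F] (ht : IsTensorProduct t) (h : Hyp t B f₁ f₂ X)
    (ha : 2 ≤ finrank F U) (hb : 3 ≤ finrank F W) (hn : 14 ≤ finrank F U * finrank F W)
    (hex : ¬ (Nat.card F = 3 ∧ finrank F W = 3)) :
    HasPureTv t B h.altB X ∨ ∀ g ∈ X, IsTens t g := by
  rcases (by omega : finrank F U = 2 ∨ 3 ≤ finrank F U) with h2 | h3
  · by_cases hall : ∀ g ∈ X, IsTens t g
    · exact Or.inr hall
    · push Not at hall
      obtain ⟨g₀, hg₀, hnt⟩ := hall
      refine Or.inl (Cfsg.Agent.Helper4.TensA2.hasPureTv_of_not_isTens ht h h2 ?_ hg₀ hnt)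
      rw [h2] at hn
      omega
  · exact mainSO_ge3 ht h h3 hb hn hex

end gen

end Cfsg.Agent.Helper5.TensSpFin
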