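import Mathlib
import Cfsg.Prelude
import Cfsg.Agent.Helper5.ThompsonRedSec
import Cfsg.Agent.Helper5.TransferFunctor
import Cfsg.Agent.Helper5.CharP

/-!
Helper lemmas (helper5): Thompson's normal `p`-complement criterion for an isomorphism-invariant
`p`-group functor, relative to the sections of a fixed finite group.
-/

set_option autoImplicit false

universe u

namespace Cfsg.Agent.H5TF

open Cfsg Cfsg.Agent.Helper1 Cfsg.Agent.Helper1.ThompsonRed Cfsg.Agent.Helper5.TF

open Classical in
/-- `W` cut down to finite `p`-groups: isomorphism-invariant on all groups. -/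
noncomputable def restrictFunctor (p : ℕ) (W : ∀ (Q : Type u) [Group Q], Subgroup Q)
    (hW : Cfsg.IsCharPFunctor.{u} p W) : CharFunctor.{u} where
  W R _ := if Finite R ∧ IsPGroup p R then W R else ⊥
  map_equiv := by
    intro R R' _ _ e
    by_cases h : Finite R ∧ IsPGroup p R
    · have h' : Finite R' ∧ IsPGroup p R' :=
        ⟨haveI := h.1; Finite.of_equiv R e.toEquiv, h.2.of_equiv e⟩
      rw [if_pos h, if_pos h']
      haveI := h.1
      exact hW.2 R R' h.2 e
    · have h' : ¬ (Finite R' ∧ IsPGroup p R') := fun h' =>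
        h ⟨haveI := h'.1; Finite.of_equiv R' e.symm.toEquiv, h'.2.of_equiv e.symm⟩
      rw [if_neg h, if_neg h', Subgroup.map_bot]

theorem restrictFunctor_of {p : ℕ} (W : ∀ (Q : Type u) [Group Q], Subgroup Q)
    (hW : Cfsg.IsCharPFunctor.{u} p W) {X : Type u} [Group X] (T : Subgroup X) [Finite T]
    (hT : IsPGroup p T) : (restrictFunctor p W hW).of T = Cfsg.inducedFunctor W T := by
  unfold CharFunctor.of Cfsg.inducedFunctor restrictFunctor
  simp only
  rw [if_pos ⟨inferInstance, hT⟩]

theorem restrictFunctor_ne_bot {p : ℕ} (W : ∀ (Q : Type u) [Group Q], Subgroup Q)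
    (hW : Cfsg.IsCharPFunctor.{u} p W) (R : Type u) [Group R] [Finite R] (hR : IsPGroup p R)
    (hnt : Nontrivial R) : (restrictFunctor p W hW).W R ≠ ⊥ := by
  unfold restrictFunctor
  simp only
  rw [if_pos ⟨inferInstance, hR⟩]
  exact hW.1 R hR hnt

theorem isSectionOf_self (G : Type u) [Group G] : IsSectionOf G G :=
  ⟨⊤, (Subgroup.topEquiv : ↥(⊤ : Subgroup G) ≃* G).toMonoidHom,
    (Subgroup.topEquiv : ↥(⊤ : Subgroup G) ≃* G).surjective⟩

theorem isSectionOf_subgroup {X G : Type u} [Group X] [Group G] (h : IsSectionOf X G)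
    (H : Subgroup X) : IsSectionOf ↥H G := by
  obtain ⟨K, f, hf⟩ := h
  refine ⟨(H.comap f).map K.subtype,
    (f.subgroupComap H).comp
      ((H.comap f).equivMapOfInjective K.subtype K.subtype_injective).symm.toMonoidHom, ?_⟩
  exact (f.subgroupComap_surjective_of_surjective H hf).comp (MulEquiv.surjective _)

theorem isSectionOf_quotient {X G : Type u} [Group X] [Group G] (h : IsSectionOf X G)
    (N : Subgroup X) [N.Normal] : IsSectionOf (X ⧸ N) G := by
  obtain ⟨K, f, hf⟩ := h
  exact ⟨K, (QuotientGroup.mk' N).comp f, (QuotientGroup.mk'_surjective N).comp hf⟩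

/-- The local hypothesis of the functor form of Thompson's criterion, for one group. -/
def LocHyp (p : ℕ) (W : ∀ (Q : Type u) [Group Q], Subgroup Q) (Y : Type u) [Group Y] : Prop :=
  Subgroup.centralizer ((Cfsg.pCore p Y : Subgroup Y) : Set Y) ≤ Cfsg.pCore p Y →
    Cfsg.HasNormalPComplement p (Y ⧸ Cfsg.pCore p Y) →
      ∀ T : Sylow p Y, IsCoatom (T : Subgroup Y) →
        (Cfsg.inducedFunctor (G := Y) W (T : Subgroup Y)).Normal

theorem LocHyp.of_equiv {p : ℕ} [Fact p.Prime] {W : ∀ (Q : Type u) [Group Q], Subgroup Q}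
    (hW : Cfsg.IsCharPFunctor.{u} p W) {Y X : Type u} [Group Y] [Group X] [Finite Y] [Finite X]
    (e : Y ≃* X) (h : LocHyp p W Y) : LocHyp p W X := by
  intro hc hnpc T hT
  have hcY : Subgroup.centralizer ((Cfsg.pCore p Y : Subgroup Y) : Set Y) ≤ Cfsg.pCore p Y :=
    Cfsg.Agent.Helper5.HasCharP.of_equiv e.symm hc
  have hnpcY : Cfsg.HasNormalPComplement p (Y ⧸ Cfsg.pCore p Y) := by
    have e' : (X ⧸ Cfsg.pCore p X) ≃* (Y ⧸ Cfsg.pCore p Y) :=
      QuotientGroup.congr (Cfsg.pCore p X) (Cfsg.pCore p Y) e.symm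
        (Cfsg.Agent.Helper5.map_pCore_equiv p e.symm)
    exact hasNormalPComplement_of_mulEquiv e' hnpc
  have hrange : (T : Subgroup X) ≤ e.toMonoidHom.range := by
    rw [MonoidHom.range_eq_top.mpr e.surjective]; exact le_top
  let T' : Sylow p Y := T.comapOfInjective e.toMonoidHom e.injective hrange
  have hT' : (T' : Subgroup Y) = (T : Subgroup X).comap e.toMonoidHom := rfl
  have hcoat : IsCoatom (T' : Subgroup Y) := by
    rw [hT']
    exact ((MulEquiv.comapSubgroup e).isCoatom_iff (T : Subgroup X)).mpr hT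
  have hn := h hcY hnpcY T' hcoat
  have hmap : ((T : Subgroup X).comap e.toMonoidHom).map e.toMonoidHom = T :=
    Subgroup.map_comap_eq_self_of_surjective e.surjective _
  have hF := inducedFunctor_map W hW e.toMonoidHom e.injective
    ((T : Subgroup X).comap e.toMonoidHom) (hT' ▸ T'.isPGroup')
  rw [hmap] at hF
  rw [hF]
  rw [hT'] at hn
  exact hn.map e.toMonoidHom e.surjective

theorem locHyp_of_hloc {G : Type u} [Group G] [Finite G] {p : ℕ} [Fact p.Prime]
    {W : ∀ (Q : Type u) [Group Q], Subgroup Q} (hW : Cfsg.IsCharPFunctor.{u} p W)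
    (hloc : ∀ (K R : Subgroup G) [hR : (R.subgroupOf K).Normal],
      LocHyp p W (↥K ⧸ R.subgroupOf K)) :
    ∀ (X : Type u) [Group X] [Finite X], IsSectionOf X G → LocHyp p W X := by
  intro X _ _ ⟨K, f, hf⟩
  set R : Subgroup G := f.ker.map K.subtype with hR
  have hRK : R.subgroupOf K = f.ker :=
    Subgroup.comap_map_eq_self_of_injective K.subtype_injective _
  haveI : (R.subgroupOf K).Normal := by rw [hRK]; infer_instance
  exact LocHyp.of_equiv hW ((QuotientGroup.quotientMulEquivOfEq hRK).trans
    (QuotientGroup.quotientKerEquivOfSurjective f hf)) (hloc K R)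


/-- Thompson's normal `p`-complement criterion in functor form, for the sections of `G`. -/
theorem thompson_functor {G : Type u} [Group G] [Finite G] {p : ℕ} [hp : Fact p.Prime]
    (W : ∀ (Q : Type u) [Group Q], Subgroup Q) (hW : Cfsg.IsCharPFunctor.{u} p W) (S : Sylow p G)
    (hN : Cfsg.HasNormalPComplement p ↥(Subgroup.normalizer
      ((Cfsg.inducedFunctor (G := G) W (S : Subgroup G) : Subgroup G) : Set G)))
    (hloc : ∀ (K R : Subgroup G) [hR : (R.subgroupOf K).Normal],
      LocHyp p W (↥K ⧸ R.subgroupOf K)) :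
    Cfsg.HasNormalPComplement p G := by
  have hL := locHyp_of_hloc hW hloc
  have hfinal : ∀ (X : Type u) [Group X] [Finite X] (P : Sylow p X), IsSectionOf X G →
      Hyp p (restrictFunctor p W hW) (restrictFunctor p W hW) X P → Struct p X P → False := by
    intro X _ _ P hC hyp hS
    have h1 : (restrictFunctor p W hW).of (P : Subgroup X) = Cfsg.inducedFunctor W P :=
      restrictFunctor_of W hW _ P.isPGroup'
    obtain ⟨K, hKn, hUK, hKK, hKrel, k, hKidx⟩ := hS.exK
    have hsurj := QuotientGroup.mk'_surjective (Cfsg.pCore p X)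
    have hnpc : Cfsg.HasNormalPComplement p (X ⧸ Cfsg.pCore p X) := by
      rw [hasNormalPComplement_iff_exists]
      refine ⟨K.map (QuotientGroup.mk' (Cfsg.pCore p X)), hKn.map _ hsurj, ?_, k, ?_⟩
      · have hcm : (K.map (QuotientGroup.mk' (Cfsg.pCore p X))).comap
            (QuotientGroup.mk' (Cfsg.pCore p X)) = K := by
          rw [Subgroup.comap_map_eq, QuotientGroup.ker_mk']
          exact sup_eq_left.mpr hUK
        have h2 := card_comap_mk' (Cfsg.pCore p X) (K.map (QuotientGroup.mk' (Cfsg.pCore p X)))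
        rw [hcm] at h2
        have h3 := relIndex_mul_card_of_le hUK
        have hpos : 0 < Nat.card (Cfsg.pCore p X) := Nat.card_pos
        have h4 : Nat.card ↥(K.map (QuotientGroup.mk' (Cfsg.pCore p X))) =
            (Cfsg.pCore p X).relIndex K := by
          rw [h2] at h3
          exact (Nat.eq_of_mul_eq_mul_right hpos h3).symm
        rw [h4]; exact hKrel
      · rw [Subgroup.index_map_eq K hsurj (by rw [QuotientGroup.ker_mk']; exact hUK), hKidx]
    have hPtop : (P : Subgroup X) ≠ ⊤ := by
      intro h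
      apply hS.not_nilp
      apply hasNormalPComplement_of_isPGroup
      have h2 := P.isPGroup'
      rw [h] at h2
      exact IsPGroup.of_equiv h2 Subgroup.topEquiv
    have hcoat : IsCoatom (P : Subgroup X) := ⟨hPtop, fun b hb => by
      rcases hS.maximal b hb.le with h | h
      · exact absurd h hb.ne'
      · exact h⟩
    have hn := hL X hC hS.cent_le hnpc P hcoat
    have htop : Subgroup.normalizer
        (((restrictFunctor p W hW).of (P : Subgroup X) : Subgroup X) : Set X) = ⊤ := by
      rw [h1]; exact Subgroup.normalizer_eq_top_iff.mpr hn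
    apply hS.not_nilp
    have h2 : Cfsg.HasNormalPComplement p ↥(⊤ : Subgroup X) := htop ▸ hyp.1
    exact hasNormalPComplement_of_mulEquiv Subgroup.topEquiv h2
  have h1 : (restrictFunctor p W hW).of (S : Subgroup G) = Cfsg.inducedFunctor W S :=
    restrictFunctor_of W hW _ S.isPGroup'
  refine Cfsg.Agent.H5TRS.reductionSec (F₁ := restrictFunctor p W hW) (F₂ := restrictFunctor p W hW)
    (fun X _ => IsSectionOf X G) (fun X _ H h => isSectionOf_subgroup h H)
    (fun X _ N _ h => isSectionOf_quotient h N)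
    (fun R _ _ => restrictFunctor_ne_bot W hW R) (fun R _ _ => restrictFunctor_ne_bot W hW R)
    hfinal G S (isSectionOf_self G) ⟨?_, ?_⟩
  · rw [h1]; exact hN
  · rw [h1]; exact hasNormalPComplement_of_le (Subgroup.centralizer_le_normalizer _) hN

end Cfsg.Agent.H5TF
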