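import Cfsg.Agent.Helper5.U33BTCTg0
import Cfsg.Agent.Helper5.U33BTCTg1
import Cfsg.Agent.Helper5.U33BTCTg2
import Cfsg.Agent.Helper5.U33BTCRk0
import Cfsg.Agent.Helper5.U33BTCRk1
import Cfsg.Agent.Helper5.U33BTCRk2
import Cfsg.Agent.Helper5.U33BTCEv0
import Cfsg.Agent.Helper5.U33BTCDatA
import Cfsg.Agent.Helper5.U33BTCDatB

/-! generated certificate data (D): U33BTC -/

set_option autoImplicit false
set_option Elab.async false

namespace Cfsg.Agent.Helper5.U33BTC
open Cfsg.Agent.Helper5.TC

def tgF (x v : ℕ) : ℕ := (Bool.rec (motive := fun _ => ℕ) (tg0F v) (Bool.rec (motive := fun _ => ℕ) (tg1F v) (tg2F v) (Nat.ble 2 x)) (Nat.ble 1 x))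
def rkF (x v : ℕ) : ℕ := (Bool.rec (motive := fun _ => ℕ) (rk0F v) (Bool.rec (motive := fun _ => ℕ) (rk1F v) (rk2F v) (Nat.ble 2 x)) (Nat.ble 1 x))
def evSel (c : ℕ) : ℕ := (evSel0 c)
def evF (v : ℕ) : ℕ := Nat.rec (motive := fun _ => ℕ) 0 (fun c _ => Nat.mod (Nat.shiftRight (evSel c) (Nat.mul 48 (Nat.mod v 341))) 281474976710656) (Nat.add (Nat.div v 341) 1)
def iota (x : ℕ) : ℕ := (bif Nat.beq x 1 then 2 else (bif Nat.beq x 2 then 1 else x))
def D : Dat where
  k := 3
  tgt := tgF
  par := parF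
  gen := genF
  ali := aliF
  wordP := fun wi => Nat.mod (Nat.shiftRight wtT (Nat.mul 1024 wi)) 179769313486231590772930519078902473361797697894230657273430081157732675805500963132708477322407536021120113879871393357658789768814416622492847430639474124377767893424865485276302219601246094119453082952085005768838150682342462881473913110540827237163350510684586298239947245938479716304835356329624224137216
  wordR := fun wi => Nat.mod (Nat.shiftRight wrT (Nat.mul 1024 wi)) 179769313486231590772930519078902473361797697894230657273430081157732675805500963132708477322407536021120113879871393357658789768814416622492847430639474124377767893424865485276302219601246094119453082952085005768838150682342462881473913110540827237163350510684586298239947245938479716304835356329624224137216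
  wlen := fun wi => Nat.mod (Nat.shiftRight wlT (Nat.mul 8 wi)) 256
  nrel := 7
  nw := 8
  fuel := 5

def E : Dat2 where
  D := D
  rank := rkF
  arank := arkF
  ev := evF
  M := 4118

def RS : ℕ := 0x3ffffffffffffffffffffffffffffffffffffffffffffffffffbfffffffff7ffffffffffffffffefffffffffffffffff7bff7dffffffffffeffffffbfffffbffbbeffff7fffffefffffffffffffffffffffffffffffffbfdffffffbffffffc2cccbf83f21742078cff8000ee283a04aff67020401d70e59f28cc5cff99158342a97dc307729a5d73de4e5f503945993b280c50367000fd8f3f04ad0439801fc24dc3a5b756b3c791329a36c73f7959f4878e2fc29e2ec2a0b14a142bc04f670a661f9a7e30a1affea0a5af4519814dc1a3d87ff45ed233be72c72c9ae5a601d22667f15d2c4444f818f7bc2973f3b467e87caf8f8006c73045a779e7442f859f162a1f3c3f8c7ce7f68d26e8774a9bb3a663c99ea6cb41c4efd97467fe3c82fe3bcffdfbac710fec571bf1ed5fbb7077ff7df9ce7c3bfef7bdff957ed0e77fd91fefde5ff73fff4bfeb6bfd789bd9ffff4fff47bf7f7ff7ddfef7e7c4ecbfd7fbff5c7f3bdfffd77fffc76fdbffe979fcfdaf8e1ff7fbfbe7f7fdffcc7ff79bffffb1ffff9dbbfff2fe9fffdffffefefffffdfbfe39effffff4dff7b5ff7f38fff7ffffffeffffe3fefffbfffecfbfffffff4fffffed7f1f3fff7ff7ffffeffbffccfffdfeffff7b7f7fefffff8fddfffcbffbfffbffff1dfeffffffffa7fffffb5ffbffcfffefff7fff8ffff7fff7ffff7fffbfffcfff7fffdffffbffffffffffffff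

end Cfsg.Agent.Helper5.U33BTC
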