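import Cfsg.Agent.Helper5.TC2A

/-! generated coset table (generator 0): U33TTC -/

set_option autoImplicit false
set_option Elab.async false

namespace Cfsg.Agent.Helper5.U33TTC
open Cfsg.Agent.Helper5.TC

def ct0_0 : ℕ := 0x1700001400001900001800001b00001000001200001a00000e00001500000d00001600000900001300001100000b00000c00000a00000f000004000003000002000005000008000007000006000000000001
def ctSel0 (c : ℕ) : ℕ := ct0_0
def ct0F (v : ℕ) : ℕ := Nat.rec (motive := fun _ => ℕ) 0 (fun c _ => Nat.mod (Nat.shiftRight (ctSel0 c) (Nat.mul 24 (Nat.mod v 682))) 16777216) (Nat.add (Nat.div v 682) 1)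

end Cfsg.Agent.Helper5.U33TTC
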