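import Cfsg.Agent.Helper5.TC2A

/-! generated certificate data (A): U33TTC -/

set_option autoImplicit false
set_option Elab.async false

namespace Cfsg.Agent.Helper5.U33TTC
open Cfsg.Agent.Helper5.TC

def par_0 : ℕ := 0x2f00002e00002d00002c00002b00002a00002a00002900002900002800002700002700002600002600002500002500002400002400002300002200002200002100001e00001e00001d00001d00001c00001b00001b00001a00001a00001900001900001800001600001600001500001500001400001300001300001200001200001100001100001000001000000f00000f00000e00000d00000c00000b00000a00000900000800000700000600000400000300000200000100000b00000a000009000008000007000006000000000004000003000002000001000000000000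
def parSel (c : ℕ) : ℕ := par_0
def parF (v : ℕ) : ℕ := Nat.rec (motive := fun _ => ℕ) 0 (fun c _ => Nat.mod (Nat.shiftRight (parSel c) (Nat.mul 24 (Nat.mod v 682))) 16777216) (Nat.add (Nat.div v 682) 1)
def gen_0 : ℕ := 0x20001000200020001000000020001000000020001000100000002000100020001000000010000000000020001000200000001000200000001000000020001000000020000000100000000000200010001000000010000000200010002000100000002000100020001000200000001000100000000000200020000000200000002000200000001000100010001000000020000
def genSel (c : ℕ) : ℕ := gen_0
def genF (v : ℕ) : ℕ := Nat.rec (motive := fun _ => ℕ) 0 (fun c _ => Nat.mod (Nat.shiftRight (genSel c) (Nat.mul 16 (Nat.mod v 1024))) 65536) (Nat.add (Nat.div v 1024) 1)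

end Cfsg.Agent.Helper5.U33TTC
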