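import Cfsg.Agent.Helper5.TC2A

/-! generated certificate data (events 0): U33TTC -/

set_option autoImplicit false
set_option Elab.async false

namespace Cfsg.Agent.Helper5.U33TTC
open Cfsg.Agent.Helper5.TC

def ev_0 : ℕ := 0x18080a000000f40806000001040003000001040003000001040806000001100802000000940806000000f00802000000bc080a0000004408020000006c080a0000003c080a00000040080a00000014541a00000090080a000000e40802000000dc0806000000ac08020000008808060000002008020000004c08060000008c0802000000e0080a00000068080a000000a4080a000000c0080a000000d0080a00000044080200000078080a000000740802000000b0201a000000740c0d00000078080a000000cc080a000000a40c1900000114000300000114080a000001240003000001240802000000104015000001200806000000a408060000010c08060000009c100d0000003c0c19000000a40415000000ac080600000118080200000054141900000030481900000128000300000128080a000000643819000000b4040d0000006408110000009c0419000000182415000000f80003000000f8080a00000098040d000000d80003000000d8080a0000004c081100000048040d0000007c00030000007c080a00000044040d0000005c00030000005c080a00000030040d000000001c2100000000141d000000000000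
def evSel0 (c : ℕ) : ℕ := ev_0

end Cfsg.Agent.Helper5.U33TTC
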