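import Cfsg.Agent.Helper5.TC2A

/-! generated certificate data (targets of generator 1): U33TTC -/

set_option autoImplicit false
set_option Elab.async false

namespace Cfsg.Agent.Helper5.U33TTC
open Cfsg.Agent.Helper5.TC

def tg1_0 : ℕ := 0x2500002e00002f00002c00002b00004000003d00002900002f00004000002700000000001600000000002500004000002400000000002e00000000001900000000001e00001000001d00000000003400001b00000000004800000000001900004500004200001600003f00003e00003b00003900001300003700001400000000000d00003300001000003000000f00002d00002a00000d00000200000b00002600000900002200002100001f00001c00001a00000200000100001700000a00001500000800000700001200001100000c000005000004000003000000000006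
def tgSel1 (c : ℕ) : ℕ := tg1_0
def tg1F (v : ℕ) : ℕ := Nat.rec (motive := fun _ => ℕ) 0 (fun c _ => Nat.mod (Nat.shiftRight (tgSel1 c) (Nat.mul 24 (Nat.mod v 682))) 16777216) (Nat.add (Nat.div v 682) 1)

end Cfsg.Agent.Helper5.U33TTC
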