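import Cfsg.Agent.Helper5.TC2A

/-! generated certificate data (targets of generator 2): U33TTC -/

set_option autoImplicit false
set_option Elab.async false

namespace Cfsg.Agent.Helper5.U33TTC
open Cfsg.Agent.Helper5.TC

def tg2_0 : ℕ := 0x2d00000200000000002a00000000000f00002900002a00004100002700002600004400000000002500000000002400000000002200000000000000003000001e00000000001e00001c00004800004900001a00004700004600001900004300002600004000001500003c00003a00000000001300001200000000001100003400003200001000002f00000f00002b00001100000c00002800000a00002100002300000700000600001d00001b00000c00001800000500001600000b00001400000900000800000000000400000300000200000e00000d000001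
def tgSel2 (c : ℕ) : ℕ := tg2_0
def tg2F (v : ℕ) : ℕ := Nat.rec (motive := fun _ => ℕ) 0 (fun c _ => Nat.mod (Nat.shiftRight (tgSel2 c) (Nat.mul 24 (Nat.mod v 682))) 16777216) (Nat.add (Nat.div v 682) 1)

end Cfsg.Agent.Helper5.U33TTC
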