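import Cfsg.Agent.Helper5.TC2A

/-! generated certificate data (targets of generator 0): U33TTC -/

set_option autoImplicit false
set_option Elab.async false

namespace Cfsg.Agent.Helper5.U33TTC
open Cfsg.Agent.Helper5.TC

def tg0_0 : ℕ := 0x2f00002300000000000300001600002800002a00000000000000002800004000000000000000002600002f00002800000000003700002300003900002200002100000000000000001100001d00000000004a00001b00000000001a00002200004400001800004100001600003d00001500001400003800003600003500001200000000001100003100000000002e00002c00000e00002900000000002700002500002400000800002000001e00000400000300001900000000000b00000c00000900000a00001300000600000700000000001000000f000001000002000005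
def tgSel0 (c : ℕ) : ℕ := tg0_0
def tg0F (v : ℕ) : ℕ := Nat.rec (motive := fun _ => ℕ) 0 (fun c _ => Nat.mod (Nat.shiftRight (tgSel0 c) (Nat.mul 24 (Nat.mod v 682))) 16777216) (Nat.add (Nat.div v 682) 1)

end Cfsg.Agent.Helper5.U33TTC
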