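import Cfsg.Agent.Helper5.TC2A

/-! generated certificate data (A): U42TTC -/

set_option autoImplicit false
set_option Elab.async false

namespace Cfsg.Agent.Helper5.U42TTC
open Cfsg.Agent.Helper5.TC

def par_0 : ℕ := 0x2800002500002500002000001f00001e00001e00001d00001d00001c00001a00001900001900001800001800001600001600001500001400001400001200001200001100001000000f00000f00000e00000d00000d00000c00000a000008000007000007000005000004000003000002000004000003000002000000000000000000
def parSel (c : ℕ) : ℕ := par_0
def parF (v : ℕ) : ℕ := Nat.rec (motive := fun _ => ℕ) 0 (fun c _ => Nat.mod (Nat.shiftRight (parSel c) (Nat.mul 24 (Nat.mod v 682))) 16777216) (Nat.add (Nat.div v 682) 1)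
def gen_0 : ℕ := 0x20002000100000002000100000002000100020001000200000001000000020001000000020001000100000002000000020001000000010000000200010000000100000001000200010002000000020000000200010000
def genSel (c : ℕ) : ℕ := gen_0
def genF (v : ℕ) : ℕ := Nat.rec (motive := fun _ => ℕ) 0 (fun c _ => Nat.mod (Nat.shiftRight (genSel c) (Nat.mul 16 (Nat.mod v 1024))) 65536) (Nat.add (Nat.div v 1024) 1)

end Cfsg.Agent.Helper5.U42TTC
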