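import Cfsg.Agent.Helper5.TC2A

/-! generated certificate data (events 0): U42TTC -/

set_option autoImplicit false
set_option Elab.async false

namespace Cfsg.Agent.Helper5.U42TTC
open Cfsg.Agent.Helper5.TC

def ev_0 : ℕ := 0xa40011000000780c15000000901819000000600c15000000600c190000008c00110000004c1c1900000098000300000098080a00000078040d0000007c0015000000341819000000500c15000000500c190000006804190000006c00030000006c08020000005804110000005c00030000005c080a00000048040d0000000c1819000000280c1500000034040d0000002c3c190000000410150000001c040d00000024000300000024080a00000014041900000014040d00000000102100000000041d000000000000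
def evSel0 (c : ℕ) : ℕ := ev_0

end Cfsg.Agent.Helper5.U42TTC
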