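import Cfsg.Agent.Helper5.TC2A

/-! generated certificate data (targets of generator 1): U42TTC -/

set_option autoImplicit false
set_option Elab.async false

namespace Cfsg.Agent.Helper5.U42TTC
open Cfsg.Agent.Helper5.TC

def tg1_0 : ℕ := 0x2800002500002b00002a00001f00001900002900001d00002700001c00002200001900002400002600002300001600000000002100001400001e00001100001b00001100001800000f00001700001300000e00001200000c00001000000a00000800000d00000200000400000b000002000009000003000007000000000005000001
def tgSel1 (c : ℕ) : ℕ := tg1_0
def tg1F (v : ℕ) : ℕ := Nat.rec (motive := fun _ => ℕ) 0 (fun c _ => Nat.mod (Nat.shiftRight (tgSel1 c) (Nat.mul 24 (Nat.mod v 682))) 16777216) (Nat.add (Nat.div v 682) 1)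

end Cfsg.Agent.Helper5.U42TTC
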