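import Cfsg.Agent.Helper5.TC2A

/-! generated certificate data (targets of generator 2): U42TTC -/

set_option autoImplicit false
set_option Elab.async false

namespace Cfsg.Agent.Helper5.U42TTC
open Cfsg.Agent.Helper5.TC

def tg2_0 : ℕ := 0x2900002800002500002b00002300001e00002a00001f00001d00002100001a00001e00002700001800002400002200001600001600002000001400001200001c00001200001900001100000f00001500000d00001300001000000a00000e00000700000c00000500000b000003000005000001000008000004000006000000000002
def tgSel2 (c : ℕ) : ℕ := tg2_0
def tg2F (v : ℕ) : ℕ := Nat.rec (motive := fun _ => ℕ) 0 (fun c _ => Nat.mod (Nat.shiftRight (tgSel2 c) (Nat.mul 24 (Nat.mod v 682))) 16777216) (Nat.add (Nat.div v 682) 1)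

end Cfsg.Agent.Helper5.U42TTC
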