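import Mathlib
import Cfsg.Prelude.Def_LocalStructure
import Cfsg.Agent.Helper5.CriticalPair2

/-!
Helper lemmas (helper5): the iterated closures `V_δ^{(n)}` on the coset graph; equivariance.
-/

set_option autoImplicit false

namespace Cfsg.Agent.Helper5

variable {X : Type*} [Group X] (M₁ M₂ : Subgroup X)

/-- the action of `g` as a graph homomorphism of the coset graph -/
def cosetGraphSmulHom (g : X) : (Cfsg.cosetGraph M₁ M₂) →g (Cfsg.cosetGraph M₁ M₂) where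
  toFun a := g • a
  map_rel' h := cosetGraph_adj_smul M₁ M₂ g h

theorem dist_smul_le (hgen : M₁ ⊔ M₂ = ⊤) (g : X) (a b : Cfsg.CosetVertex M₁ M₂) :
    (Cfsg.cosetGraph M₁ M₂).dist (g • a) (g • b) ≤ (Cfsg.cosetGraph M₁ M₂).dist a b := by
  have hconn : (Cfsg.cosetGraph M₁ M₂).Connected := Cfsg.Agent.S2740.result M₁ M₂ hgen
  obtain ⟨w, hw⟩ := hconn.exists_walk_length_eq_dist a b
  have h1 := SimpleGraph.dist_le (w.map (cosetGraphSmulHom M₁ M₂ g))
  rw [SimpleGraph.Walk.length_map, hw] at h1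
  exact h1

theorem dist_smul (hgen : M₁ ⊔ M₂ = ⊤) (g : X) (a b : Cfsg.CosetVertex M₁ M₂) :
    (Cfsg.cosetGraph M₁ M₂).dist (g • a) (g • b) = (Cfsg.cosetGraph M₁ M₂).dist a b := by
  refine le_antisymm (dist_smul_le M₁ M₂ hgen g a b) ?_
  have := dist_smul_le M₁ M₂ hgen g⁻¹ (g • a) (g • b)
  rwa [inv_smul_smul, inv_smul_smul] at this

/-- vertex stabilizers of a characteristic `p` amalgam pair are finite -/
theorem finite_stabilizer {p : ℕ} (h : Cfsg.IsCharPAmalgamPair p M₁ M₂) (δ : Cfsg.CosetVertex M₁ M₂) :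
    Finite ↥(MulAction.stabilizer X δ) := by
  have hf1 : Finite M₁ := h.2.1
  have hf2 : Finite M₂ := h.2.2.1
  rcases vertex_cases M₁ M₂ δ with ⟨x, rfl⟩ | ⟨x, rfl⟩
  · rw [stabilizer_inl]; exact finite_map_conj _ x
  · rw [stabilizer_inr]; exact finite_map_conj _ x

/-- `Z_H` is equivariant under conjugation (one inclusion) -/
theorem sylowCenterClosure_map_conj_le {p : ℕ} [Fact p.Prime] (H : Subgroup X) [Finite H] (g : X) :
    (Cfsg.sylowCenterClosure p H).map (MulAut.conj g).toMonoidHom ≤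
      Cfsg.sylowCenterClosure p (H.map (MulAut.conj g).toMonoidHom) := by
  haveI := finite_map_conj H g
  unfold Cfsg.sylowCenterClosure
  rw [Subgroup.map_iSup]
  refine iSup_le ?_
  intro S
  rw [omegaCenter_map_conj]
  have hle : ((S : Subgroup H).map H.subtype).map (MulAut.conj g).toMonoidHom ≤
      H.map (MulAut.conj g).toMonoidHom := Subgroup.map_mono (Subgroup.map_subtype_le _)
  have hc : Nat.card ↥(((S : Subgroup H).map H.subtype).map (MulAut.conj g).toMonoidHom) =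
      p ^ (Nat.card ↥(H.map (MulAut.conj g).toMonoidHom)).factorization p := by
    rw [card_map_conj₂, card_map_conj₂, ← S.card_eq_multiplicity]
    exact Nat.card_congr ((S : Subgroup H).equivMapOfInjective _
      (Subgroup.subtype_injective _)).toEquiv.symm
  obtain ⟨P, hP⟩ := exists_sylow_map_eq (H.map (MulAut.conj g).toMonoidHom) _ hle hc
  rw [← hP]
  exact le_iSup (fun S : Sylow p ↥(H.map (MulAut.conj g).toMonoidHom) =>
      Cfsg.omegaOne p (((S : Subgroup ↥(H.map (MulAut.conj g).toMonoidHom)).map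
        (H.map (MulAut.conj g).toMonoidHom).subtype) ⊓
      Subgroup.centralizer (((S : Subgroup ↥(H.map (MulAut.conj g).toMonoidHom)).map
        (H.map (MulAut.conj g).toMonoidHom).subtype : Subgroup X) : Set X))) P

theorem sylowCenterClosure_map_conj {p : ℕ} [Fact p.Prime] (H : Subgroup X) [Finite H] (g : X) :
    (Cfsg.sylowCenterClosure p H).map (MulAut.conj g).toMonoidHom =
      Cfsg.sylowCenterClosure p (H.map (MulAut.conj g).toMonoidHom) := by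
  refine le_antisymm (sylowCenterClosure_map_conj_le H g) ?_
  haveI := finite_map_conj H g
  have h1 := sylowCenterClosure_map_conj_le (p := p) (H.map (MulAut.conj g).toMonoidHom) g⁻¹
  have h0 : (H.map (MulAut.conj g).toMonoidHom).map (MulAut.conj g⁻¹).toMonoidHom = H := by
    rw [map_conj_map_conj, inv_mul_cancel, map_conj_one]
  have h2 := Subgroup.map_mono (f := (MulAut.conj g).toMonoidHom) h1
  rw [map_conj_map_conj, mul_inv_cancel, map_conj_one] at h2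
  refine h2.trans ?_
  apply Subgroup.map_mono
  rw [h0]

/-- `Z_{gδ} = g Z_δ g⁻¹` -/
theorem vertexZ_smul {p : ℕ} [Fact p.Prime] (h : Cfsg.IsCharPAmalgamPair p M₁ M₂) (g : X)
    (δ : Cfsg.CosetVertex M₁ M₂) :
    Cfsg.vertexZ p (g • δ) = (Cfsg.vertexZ p δ).map (MulAut.conj g).toMonoidHom := by
  haveI := finite_stabilizer M₁ M₂ h δ
  show Cfsg.sylowCenterClosure p (MulAction.stabilizer X (g • δ)) = _
  rw [MulAction.stabilizer_smul_eq_stabilizer_map_conj, ← sylowCenterClosure_map_conj]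

/-- `V_{gδ}^{(n)} = g V_δ^{(n)} g⁻¹` (one inclusion) -/
theorem vertexVIter_smul_le {p : ℕ} [Fact p.Prime] (h : Cfsg.IsCharPAmalgamPair p M₁ M₂) (g : X)
    (n : ℕ) (δ : Cfsg.CosetVertex M₁ M₂) :
    (Cfsg.vertexVIter p M₁ M₂ n δ).map (MulAut.conj g).toMonoidHom ≤
      Cfsg.vertexVIter p M₁ M₂ n (g • δ) := by
  unfold Cfsg.vertexVIter
  rw [Subgroup.map_iSup]
  refine iSup_le ?_
  intro ν
  rw [← vertexZ_smul M₁ M₂ h g ν.1]
  have hd : (Cfsg.cosetGraph M₁ M₂).dist (g • δ) (g • ν.1) ≤ n := by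
    rw [dist_smul M₁ M₂ h.1.1]; exact ν.2
  exact le_iSup (fun ν : {ν : Cfsg.CosetVertex M₁ M₂ // (Cfsg.cosetGraph M₁ M₂).dist (g • δ) ν ≤ n} =>
    Cfsg.vertexZ p (ν : Cfsg.CosetVertex M₁ M₂)) ⟨g • ν.1, hd⟩

theorem vertexVIter_smul {p : ℕ} [Fact p.Prime] (h : Cfsg.IsCharPAmalgamPair p M₁ M₂) (g : X)
    (n : ℕ) (δ : Cfsg.CosetVertex M₁ M₂) :
    Cfsg.vertexVIter p M₁ M₂ n (g • δ) =
      (Cfsg.vertexVIter p M₁ M₂ n δ).map (MulAut.conj g).toMonoidHom := by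
  refine le_antisymm ?_ (vertexVIter_smul_le M₁ M₂ h g n δ)
  have h1 := vertexVIter_smul_le M₁ M₂ h g⁻¹ n (g • δ)
  rw [inv_smul_smul] at h1
  have h2 := Subgroup.map_mono (f := (MulAut.conj g).toMonoidHom) h1
  rwa [map_conj_map_conj, mul_inv_cancel, map_conj_one] at h2

/-- `G_δ` normalizes `V_δ^{(n)}` -/
theorem stabilizer_le_normalizer_vertexVIter {p : ℕ} [Fact p.Prime]
    (h : Cfsg.IsCharPAmalgamPair p M₁ M₂) (n : ℕ) (δ : Cfsg.CosetVertex M₁ M₂) :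
    MulAction.stabilizer X δ ≤ Subgroup.normalizer (Cfsg.vertexVIter p M₁ M₂ n δ : Set X) := by
  intro g hg
  rw [mem_normalizer_iff_map_conj, ← vertexVIter_smul M₁ M₂ h g n δ,
    MulAction.mem_stabilizer_iff.mp hg]

theorem vertexZ_le_vertexVIter (p : ℕ) (n : ℕ) (δ ν : Cfsg.CosetVertex M₁ M₂)
    (hd : (Cfsg.cosetGraph M₁ M₂).dist δ ν ≤ n) :
    Cfsg.vertexZ p ν ≤ Cfsg.vertexVIter p M₁ M₂ n δ :=
  le_iSup (fun ν : {ν : Cfsg.CosetVertex M₁ M₂ // (Cfsg.cosetGraph M₁ M₂).dist δ ν ≤ n} =>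
    Cfsg.vertexZ p (ν : Cfsg.CosetVertex M₁ M₂)) ⟨ν, hd⟩

/-- monotonicity of `V^{(n)}` along an edge -/
theorem vertexVIter_le_of_adj (p : ℕ) (hgen : M₁ ⊔ M₂ = ⊤) (n : ℕ) (δ μ : Cfsg.CosetVertex M₁ M₂)
    (hadj : (Cfsg.cosetGraph M₁ M₂).Adj δ μ) :
    Cfsg.vertexVIter p M₁ M₂ n μ ≤ Cfsg.vertexVIter p M₁ M₂ (n + 1) δ := by
  have hconn : (Cfsg.cosetGraph M₁ M₂).Connected := Cfsg.Agent.S2740.result M₁ M₂ hgen
  unfold Cfsg.vertexVIter
  refine iSup_le ?_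
  intro ν
  have h1 : (Cfsg.cosetGraph M₁ M₂).dist δ ν.1 ≤
      (Cfsg.cosetGraph M₁ M₂).dist δ μ + (Cfsg.cosetGraph M₁ M₂).dist μ ν.1 := hconn.dist_triangle
  have h2 : (Cfsg.cosetGraph M₁ M₂).dist δ μ = 1 := SimpleGraph.dist_eq_one_iff_adj.mpr hadj
  have h3 := ν.2
  exact le_iSup (fun ν : {ν : Cfsg.CosetVertex M₁ M₂ // (Cfsg.cosetGraph M₁ M₂).dist δ ν ≤ n + 1} =>
    Cfsg.vertexZ p (ν : Cfsg.CosetVertex M₁ M₂)) ⟨ν.1, by omega⟩

theorem vertexVIter_mono (p : ℕ) {m n : ℕ} (hmn : m ≤ n) (δ : Cfsg.CosetVertex M₁ M₂) :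
    Cfsg.vertexVIter p M₁ M₂ m δ ≤ Cfsg.vertexVIter p M₁ M₂ n δ := by
  unfold Cfsg.vertexVIter
  refine iSup_le ?_
  intro ν
  exact le_iSup (fun ν : {ν : Cfsg.CosetVertex M₁ M₂ // (Cfsg.cosetGraph M₁ M₂).dist δ ν ≤ n} =>
    Cfsg.vertexZ p (ν : Cfsg.CosetVertex M₁ M₂)) ⟨ν.1, ν.2.trans hmn⟩

end Cfsg.Agent.Helper5
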