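import Mathlib
import Cfsg.Prelude.Def_LocalStructure
import Cfsg.Agent.Helper5.VIter
import Cfsg.Agent.Helper5.PResidual
import Cfsg.Agent.Helper1.Coprime

/-!
Helper lemmas (helper5): the factorization `G_λ = O^p(O^{p'}(G_λ)) N_{G_λ}(T)` and its consequences for
the subgroups `V_λ^{(n)}`.
-/

set_option autoImplicit false

namespace Cfsg.Agent.Helper5

variable {X : Type*} [Group X]

/-- `O^p(O^{p'}(A))`, as a subgroup of the ambient group -/
def pResPEl (p : ℕ) (A : Subgroup X) : Subgroup X :=
  (Cfsg.pResidual p ↥(Cfsg.pElementClosure p A)).map (Cfsg.pElementClosure p A).subtype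

theorem pResPEl_le (p : ℕ) (A : Subgroup X) : pResPEl p A ≤ Cfsg.pElementClosure p A :=
  Subgroup.map_subtype_le _

theorem le_normalizer_pResPEl (p : ℕ) (A : Subgroup X) :
    A ≤ Subgroup.normalizer (pResPEl p A : Set X) := by
  apply le_normalizer_of_map_conj_le
  intro a ha
  unfold pResPEl
  rw [map_subtype_pResidual, MonoidHom.map_closure, Subgroup.closure_le]
  rintro _ ⟨g, ⟨hgL, hg⟩, rfl⟩
  apply Subgroup.subset_closure
  refine ⟨?_, ?_⟩
  · have h1 := le_normalizer_pElementClosure p A ha
    exact (Subgroup.mem_normalizer_iff.mp h1 g).mp hgL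
  · have : orderOf ((MulAut.conj a).toMonoidHom g) = orderOf g :=
      orderOf_injective (MulAut.conj a).toMonoidHom (MulAut.conj a).injective g
    rw [this]; exact hg

/-- `O^{p'}(A) = O^p(O^{p'}(A)) T` for a Sylow `p`-subgroup `T` of `A` -/
theorem pElementClosure_le_pResPEl_sup {p : ℕ} [Fact p.Prime] (A T : Subgroup X) [Finite A]
    (hTA : T ≤ A) (hTc : Nat.card T = p ^ (Nat.card A).factorization p) :
    Cfsg.pElementClosure p A ≤ pResPEl p A ⊔ T := by
  classical
  have hpp : p.Prime := Fact.out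
  set L := Cfsg.pElementClosure p A with hL
  have hLA : L ≤ A := pElementClosure_le p A
  haveI : Finite L := Finite.of_injective (Subgroup.inclusion hLA) (Subgroup.inclusion_injective _)
  have hTp : IsPGroup p T := IsPGroup.of_card hTc
  have hTL : T ≤ L := le_pElementClosure_of_isPGroup A T hTA hTp
  have hfac : (Nat.card L).factorization p = (Nat.card A).factorization p := by
    apply le_antisymm
    · exact (Nat.factorization_le_iff_dvd Nat.card_pos.ne' Nat.card_pos.ne').mpr
        (Subgroup.card_dvd_of_le hLA) p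
    · have h1 : p ^ (Nat.card A).factorization p ∣ Nat.card L := by
        rw [← hTc]; exact Subgroup.card_dvd_of_le hTL
      exact (hpp.pow_dvd_iff_le_factorization Nat.card_pos.ne').mp h1
  obtain ⟨P, hP⟩ := exists_sylow_map_eq L T hTL (by rw [hTc, hfac])
  have h1 := pResidual_sup_sylow P
  have h2 : L = (⊤ : Subgroup L).map L.subtype := by
    rw [← MonoidHom.range_eq_map, Subgroup.range_subtype]
  rw [h2, ← h1, Subgroup.map_sup, hP]
  exact le_rfl

/-- every element of `A` is a product of an element of `O^p(O^{p'}(A))` and an element of `N_A(T)` -/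
theorem exists_mul_of_mem {p : ℕ} [Fact p.Prime] (A T : Subgroup X) [Finite A]
    (hTA : T ≤ A) (hTc : Nat.card T = p ^ (Nat.card A).factorization p) (g : X) (hg : g ∈ A) :
    ∃ r ∈ pResPEl p A, ∃ e ∈ A ⊓ Subgroup.normalizer (T : Set X), g = r * e := by
  have h1 := le_pElementClosure_sup_normalizer A T hTA hTc hg
  have hN : A ⊓ Subgroup.normalizer (T : Set X) ≤
      Subgroup.normalizer (Cfsg.pElementClosure p A : Set X) :=
    inf_le_left.trans (le_normalizer_pElementClosure p A)
  obtain ⟨l, hl, e₁, he₁, rfl⟩ := Cfsg.Agent.Helper1.mem_sup_of_le_normalizer hN h1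
  have h2 := pElementClosure_le_pResPEl_sup A T hTA hTc hl
  have hTN : T ≤ Subgroup.normalizer (pResPEl p A : Set X) := hTA.trans (le_normalizer_pResPEl p A)
  obtain ⟨r, hr, t, ht, rfl⟩ := Cfsg.Agent.Helper1.mem_sup_of_le_normalizer hTN h2
  refine ⟨r, hr, t * e₁, ?_, by group⟩
  refine Subgroup.mul_mem _ ?_ he₁
  exact Subgroup.mem_inf.mpr ⟨hTA ht, Subgroup.le_normalizer ht⟩

end Cfsg.Agent.Helper5
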