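import Mathlib
import Cfsg.Prelude.Def_LocalStructure
import Cfsg.Agent.Helper5.VIter2
import Cfsg.Agent.Helper5.PGroupCenter
import Cfsg.Agent.S2744
import Cfsg.Agent.S2746

/-!
Helper lemmas (helper5): the key step for the non-centrality statements on `V_λ^{(n)}`.
-/

set_option autoImplicit false

open scoped commutatorElement

namespace Cfsg.Agent.Helper5

variable {X : Type*} [Group X] (M₁ M₂ : Subgroup X)

/-- under the standing hypothesis, normalizers of a common Sylow subgroup agree at an edge -/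
theorem spe_normalizer_eq {p : ℕ} [Fact p.Prime] (h : Cfsg.IsSpeAmalgamPair p M₁ M₂) (x : X)
    (T : Subgroup X)
    (hT1 : T ≤ M₁.map (MulAut.conj x).toMonoidHom) (hT2 : T ≤ M₂.map (MulAut.conj x).toMonoidHom)
    (hTc : Nat.card T = p ^ (Nat.card ↥(M₁ ⊓ M₂)).factorization p) :
    M₁.map (MulAut.conj x).toMonoidHom ⊓ Subgroup.normalizer (T : Set X) =
      M₂.map (MulAut.conj x).toMonoidHom ⊓ Subgroup.normalizer (T : Set X) := by
  classical
  obtain ⟨⟨_, hf1, hf2, _⟩, hnorm, _, _⟩ := h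
  have := hf1
  have := hf2
  haveI : Finite ↥(M₁ ⊓ M₂) := Finite.of_injective (Subgroup.inclusion (inf_le_left : M₁ ⊓ M₂ ≤ M₁))
    (Subgroup.inclusion_injective _)
  have hAB : M₁.map (MulAut.conj x).toMonoidHom ⊓ M₂.map (MulAut.conj x).toMonoidHom =
      (M₁ ⊓ M₂).map (MulAut.conj x).toMonoidHom := (map_conj_inf' M₁ M₂ x).symm
  set T₀ := T.map (MulAut.conj x⁻¹).toMonoidHom with hT₀
  have hT₀le : T₀ ≤ M₁ ⊓ M₂ := by
    have h2 := Subgroup.map_mono (f := (MulAut.conj x⁻¹).toMonoidHom) (le_inf hT1 hT2)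
    rwa [hAB, map_conj_map_conj, inv_mul_cancel, map_conj_one] at h2
  have hT₀T : T₀.map (MulAut.conj x).toMonoidHom = T := by
    rw [hT₀, map_conj_map_conj, mul_inv_cancel, map_conj_one]
  have hc : Nat.card (T₀.subgroupOf (M₁ ⊓ M₂)) = p ^ (Nat.card ↥(M₁ ⊓ M₂)).factorization p := by
    rw [← hTc, ← card_map_conj₂ T x⁻¹]
    exact Nat.card_congr (Subgroup.subgroupOfEquivOfLe hT₀le).toEquiv
  have hS₀ := hnorm (Sylow.ofCard (T₀.subgroupOf (M₁ ⊓ M₂)) hc)
  rw [Sylow.coe_ofCard, Subgroup.subgroupOf_map_subtype, inf_of_le_left hT₀le] at hS₀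
  have h3 := congrArg (Subgroup.map (MulAut.conj x).toMonoidHom) hS₀.1
  rwa [map_conj_inf', map_conj_inf', map_conj_normalizer, hT₀T] at h3

/-- every vertex has a neighbour together with a common Sylow subgroup whose normalizer in the vertex
stabilizer fixes the neighbour -/
theorem exists_edge {p : ℕ} [Fact p.Prime] (h : Cfsg.IsSpeAmalgamPair p M₁ M₂)
    (lam : Cfsg.CosetVertex M₁ M₂) :
    ∃ (μ : Cfsg.CosetVertex M₁ M₂) (T : Subgroup X), (Cfsg.cosetGraph M₁ M₂).Adj lam μ ∧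
      T ≤ MulAction.stabilizer X lam ⊓ MulAction.stabilizer X μ ∧
      Nat.card T = p ^ (Nat.card ↥(MulAction.stabilizer X lam)).factorization p ∧
      Nat.card T = p ^ (Nat.card ↥(MulAction.stabilizer X μ)).factorization p ∧
      MulAction.stabilizer X lam ⊓ Subgroup.normalizer (T : Set X) ≤ MulAction.stabilizer X μ := by
  classical
  have hfac := charP_factorization_eq M₁ M₂ h.1
  have hf1 : Finite M₁ := h.1.2.1
  have hf2 : Finite M₂ := h.1.2.2.1
  haveI : Finite ↥(M₁ ⊓ M₂) := Finite.of_injective (Subgroup.inclusion (inf_le_left : M₁ ⊓ M₂ ≤ M₁))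
    (Subgroup.inclusion_injective _)
  let S₀ : Sylow p ↥(M₁ ⊓ M₂) := default
  set T₀ : Subgroup X := (S₀ : Subgroup ↥(M₁ ⊓ M₂)).map (M₁ ⊓ M₂).subtype with hT₀
  have hT₀le : T₀ ≤ M₁ ⊓ M₂ := Subgroup.map_subtype_le _
  have hcT₀ : Nat.card T₀ = p ^ (Nat.card ↥(M₁ ⊓ M₂)).factorization p := by
    rw [← S₀.card_eq_multiplicity]
    exact Nat.card_congr ((S₀ : Subgroup ↥(M₁ ⊓ M₂)).equivMapOfInjective _
      (Subgroup.subtype_injective _)).toEquiv.symm
  have key : ∀ x : X, ∃ T : Subgroup X,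
      T ≤ M₁.map (MulAut.conj x).toMonoidHom ⊓ M₂.map (MulAut.conj x).toMonoidHom ∧
      Nat.card T = p ^ (Nat.card ↥(M₁.map (MulAut.conj x).toMonoidHom)).factorization p ∧
      Nat.card T = p ^ (Nat.card ↥(M₂.map (MulAut.conj x).toMonoidHom)).factorization p ∧
      M₁.map (MulAut.conj x).toMonoidHom ⊓ Subgroup.normalizer (T : Set X) =
        M₂.map (MulAut.conj x).toMonoidHom ⊓ Subgroup.normalizer (T : Set X) := by
    intro x
    refine ⟨T₀.map (MulAut.conj x).toMonoidHom, ?_, ?_, ?_, ?_⟩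
    · rw [← map_conj_inf']; exact Subgroup.map_mono hT₀le
    · rw [card_map_conj₂, card_map_conj₂, hcT₀, hfac.1]
    · rw [card_map_conj₂, card_map_conj₂, hcT₀, hfac.2]
    · apply spe_normalizer_eq M₁ M₂ h x
      · exact Subgroup.map_mono (hT₀le.trans inf_le_left)
      · exact Subgroup.map_mono (hT₀le.trans inf_le_right)
      · rw [card_map_conj₂, hcT₀]
  rcases vertex_cases M₁ M₂ lam with ⟨x, rfl⟩ | ⟨x, rfl⟩
  · obtain ⟨T, hT, hc1, hc2, hN⟩ := key x
    refine ⟨Sum.inr (x : X ⧸ M₂), T, cosetGraph_adj_inl_inr M₁ M₂ x, ?_, ?_, ?_, ?_⟩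
    · rw [stabilizer_inl, stabilizer_inr]; exact hT
    · rw [stabilizer_inl]; exact hc1
    · rw [stabilizer_inr]; exact hc2
    · rw [stabilizer_inl, stabilizer_inr, hN]; exact inf_le_left
  · obtain ⟨T, hT, hc1, hc2, hN⟩ := key x
    refine ⟨Sum.inl (x : X ⧸ M₁), T, (cosetGraph_adj_inl_inr M₁ M₂ x).symm, ?_, ?_, ?_, ?_⟩
    · rw [stabilizer_inl, stabilizer_inr, inf_comm]; exact hT
    · rw [stabilizer_inr]; exact hc2
    · rw [stabilizer_inl]; exact hc1
    · rw [stabilizer_inl, stabilizer_inr, ← hN]; exact inf_le_left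

/-- `Z_δ ≠ 1` -/
theorem vertexZ_ne_bot {p : ℕ} [Fact p.Prime] (h : Cfsg.IsCharPAmalgamPair p M₁ M₂)
    (δ : Cfsg.CosetVertex M₁ M₂) : Cfsg.vertexZ p δ ≠ ⊥ := by
  classical
  haveI := finite_stabilizer M₁ M₂ h δ
  have hf1 : Finite M₁ := h.2.1
  have hf2 : Finite M₂ := h.2.2.1
  have hdvd : p ∣ Nat.card ↥(MulAction.stabilizer X δ) := by
    rcases vertex_cases M₁ M₂ δ with ⟨x, rfl⟩ | ⟨x, rfl⟩
    · rw [stabilizer_inl, card_map_conj₂]; exact h.2.2.2.1
    · rw [stabilizer_inr, card_map_conj₂]; exact h.2.2.2.2.1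
  set H := MulAction.stabilizer X δ with hH
  let S : Sylow p H := default
  set S' : Subgroup X := (S : Subgroup H).map H.subtype with hS'
  have hS'p : IsPGroup p S' := S.2.map _
  haveI : Finite S' := Finite.of_injective (Subgroup.inclusion (Subgroup.map_subtype_le _ : S' ≤ H))
    (Subgroup.inclusion_injective _)
  have hS'ne : S' ≠ ⊥ := by
    intro hb
    have h1 : Nat.card S' = 1 := by rw [hb]; exact Subgroup.card_bot
    have h2 : Nat.card S' = p ^ (Nat.card H).factorization p := by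
      rw [← S.card_eq_multiplicity]
      exact Nat.card_congr ((S : Subgroup H).equivMapOfInjective _
        (Subgroup.subtype_injective _)).toEquiv.symm
    rw [h1] at h2
    have h3 : (Nat.card H).factorization p = 0 := by
      by_contra hne
      have : 1 < p ^ (Nat.card H).factorization p :=
        Nat.one_lt_pow hne (Fact.out : p.Prime).one_lt
      omega
    have h4 : 1 ≤ (Nat.card H).factorization p :=
      ((Fact.out : p.Prime).pow_dvd_iff_le_factorization Nat.card_pos.ne').mp (by simpa using hdvd)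
    omega
  -- the centre of S' is nontrivial
  have hZne : S' ⊓ Subgroup.centralizer (S' : Set X) ≠ ⊥ := by
    haveI : Nontrivial S' := (Subgroup.nontrivial_iff_ne_bot S').mpr hS'ne
    obtain ⟨z, _, hz1, hzc⟩ := exists_ne_one_mem_center_of_normal hS'p (⊤ : Subgroup S')
      (by simp)
    intro hb
    have hmem : (z : X) ∈ S' ⊓ Subgroup.centralizer (S' : Set X) := by
      refine Subgroup.mem_inf.mpr ⟨z.2, ?_⟩
      rw [Subgroup.mem_centralizer_iff]
      intro y hy
      have := hzc ⟨y, hy⟩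
      have := congrArg Subtype.val this
      simpa using this
    rw [hb, Subgroup.mem_bot] at hmem
    exact hz1 (Subtype.ext hmem)
  haveI : Finite ↥(S' ⊓ Subgroup.centralizer (S' : Set X)) :=
    Finite.of_injective (Subgroup.inclusion (inf_le_left : S' ⊓ Subgroup.centralizer (S' : Set X) ≤ S'))
      (Subgroup.inclusion_injective _)
  have hΩ := omegaOne_ne_bot (p := p) (S' ⊓ Subgroup.centralizer (S' : Set X))
    (hS'p.to_le inf_le_left) hZne
  intro hbot
  apply hΩ
  rw [eq_bot_iff, ← hbot]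
  exact le_iSup (fun S : Sylow p H => Cfsg.omegaOne p (((S : Subgroup H).map H.subtype) ⊓
      Subgroup.centralizer (((S : Subgroup H).map H.subtype : Subgroup X) : Set X))) S

/-- a subgroup of `Q_λ` normalized by two adjacent vertex stabilizers is trivial -/
theorem eq_bot_of_le_vertexQ {p : ℕ} [Fact p.Prime] (h : Cfsg.IsCharPAmalgamPair p M₁ M₂)
    (lam μ : Cfsg.CosetVertex M₁ M₂) (hadj : (Cfsg.cosetGraph M₁ M₂).Adj lam μ) (V : Subgroup X)
    (hVQ : V ≤ Cfsg.vertexQ p lam)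
    (hA : MulAction.stabilizer X lam ≤ Subgroup.normalizer (V : Set X))
    (hB : MulAction.stabilizer X μ ≤ Subgroup.normalizer (V : Set X)) : V = ⊥ := by
  obtain ⟨hgen, hcore⟩ := edge_core_free M₁ M₂ h.1 lam μ hadj
  have hn : V.Normal := by
    rw [← Subgroup.normalizer_eq_top_iff, eq_top_iff, ← hgen]
    exact sup_le hA hB
  apply hcore V _ hn
  have h1 : V ≤ Cfsg.neighbourKernel lam := hVQ.trans (Cfsg.Agent.S2746.result M₁ M₂ h lam)
  refine le_inf ?_ (h1.trans (neighbourKernel_le_stabilizer M₁ M₂ lam μ hadj))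
  unfold Cfsg.neighbourKernel at h1
  exact h1.trans inf_le_left

end Cfsg.Agent.Helper5
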