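import Mathlib
import Cfsg.Prelude.Def_LocalStructure
import Cfsg.Agent.Helper5.VIter3

/-!
Helper lemmas (helper5): `V_λ^{(n)} ≤ W V_μ^{(n-1)}` when `[V_λ^{(n)}, O^p(L_λ)] ≤ W`; a nilpotent-action trick.
-/

set_option autoImplicit false

open scoped commutatorElement

namespace Cfsg.Agent.Helper5

variable {X : Type*} [Group X] (M₁ M₂ : Subgroup X)

/-- the key step -/
theorem viter_key {p : ℕ} [Fact p.Prime] (h : Cfsg.IsSpeAmalgamPair p M₁ M₂)
    (lam : Cfsg.CosetVertex M₁ M₂) (n : ℕ) (W : Subgroup X)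
    (hW : ⁅Cfsg.vertexVIter p M₁ M₂ (n + 1) lam, pResPEl p (MulAction.stabilizer X lam)⁆ ≤ W) :
    ∃ μ : Cfsg.CosetVertex M₁ M₂, (Cfsg.cosetGraph M₁ M₂).Adj lam μ ∧
      Cfsg.vertexVIter p M₁ M₂ (n + 1) lam ≤ W ⊔ Cfsg.vertexVIter p M₁ M₂ n μ := by
  classical
  have hgen : M₁ ⊔ M₂ = ⊤ := h.1.1.1
  have hconn : (Cfsg.cosetGraph M₁ M₂).Connected := Cfsg.Agent.S2740.result M₁ M₂ hgen
  obtain ⟨μ, T, hadj, hTE, hcA, hcB, hNB⟩ := exists_edge M₁ M₂ h lam
  refine ⟨μ, hadj, ?_⟩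
  set A := MulAction.stabilizer X lam with hA
  set B := MulAction.stabilizer X μ with hB
  haveI : Finite A := finite_stabilizer M₁ M₂ h.1 lam
  haveI : Finite B := finite_stabilizer M₁ M₂ h.1 μ
  set U := Cfsg.vertexVIter p M₁ M₂ n μ with hU
  set V := Cfsg.vertexVIter p M₁ M₂ (n + 1) lam with hV
  set R := pResPEl p A with hR
  have hUV : U ≤ V := vertexVIter_le_of_adj M₁ M₂ p hgen n lam μ hadj
  have hBU : B ≤ Subgroup.normalizer (U : Set X) :=
    stabilizer_le_normalizer_vertexVIter M₁ M₂ h.1 n μ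
  -- step 1
  have step1 : ∀ g ∈ A, U.map (MulAut.conj g).toMonoidHom ≤ W ⊔ U := by
    intro g hg
    obtain ⟨r, hr, e, he, rfl⟩ := exists_mul_of_mem A T (hTE.trans inf_le_left) hcA g hg
    have he' : e ∈ Subgroup.normalizer (U : Set X) := hBU (hNB he)
    rw [mem_normalizer_iff_map_conj] at he'
    rw [← map_conj_map_conj, he', map_conj_le_iff]
    intro u hu
    have h1 : r * u * r⁻¹ = ⁅r, u⁆ * u := by rw [commutatorElement_def]; group
    rw [h1]
    refine Subgroup.mul_mem _ (le_sup_left (a := W) (hW ?_)) (le_sup_right (a := W) hu)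
    rw [Subgroup.commutator_comm]
    exact Subgroup.commutator_mem_commutator hr (hUV hu)
  -- Ω₁Z(T) ≤ Z_μ ≤ U
  have hΩT : Cfsg.omegaOne p (T ⊓ Subgroup.centralizer (T : Set X)) ≤ U := by
    obtain ⟨PB, hPB⟩ := exists_sylow_map_eq B T (hTE.trans inf_le_right) hcB
    have h1 : Cfsg.omegaOne p (T ⊓ Subgroup.centralizer (T : Set X)) ≤ Cfsg.vertexZ p μ := by
      rw [← hPB]
      exact le_iSup (fun S : Sylow p B => Cfsg.omegaOne p (((S : Subgroup B).map B.subtype) ⊓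
        Subgroup.centralizer (((S : Subgroup B).map B.subtype : Subgroup X) : Set X))) PB
    refine h1.trans (vertexZ_le_vertexVIter M₁ M₂ p n μ μ ?_)
    rw [SimpleGraph.dist_self]; exact Nat.zero_le _
  -- step 2
  show V ≤ W ⊔ U
  rw [hV]
  unfold Cfsg.vertexVIter
  refine iSup_le ?_
  rintro ⟨ν, hν⟩
  show Cfsg.vertexZ p ν ≤ W ⊔ U
  by_cases hνl : ν = lam
  · subst hνl
    show Cfsg.sylowCenterClosure p A ≤ W ⊔ U
    unfold Cfsg.sylowCenterClosure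
    refine iSup_le ?_
    intro S
    obtain ⟨PA, hPA⟩ := exists_sylow_map_eq A T (hTE.trans inf_le_left) hcA
    obtain ⟨a, ha, haT⟩ := sylow_map_conj_eq A PA S
    rw [hPA] at haT
    rw [← haT, ← omegaCenter_map_conj]
    exact (Subgroup.map_mono hΩT).trans (step1 a ha)
  · have hpos : 0 < (Cfsg.cosetGraph M₁ M₂).dist lam ν := hconn.pos_dist_of_ne (Ne.symm hνl)
    obtain ⟨k, hk⟩ := Nat.exists_eq_succ_of_ne_zero hpos.ne'
    obtain ⟨μ', hadj', hμ'⟩ := exists_adj_dist_eq _ hconn lam ν k hk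
    obtain ⟨g, hg, hgμ⟩ := Cfsg.Agent.S2744.result M₁ M₂ lam μ μ' hadj hadj'
    have h1 : Cfsg.vertexZ p ν ≤ Cfsg.vertexVIter p M₁ M₂ n μ' :=
      vertexZ_le_vertexVIter M₁ M₂ p n μ' ν (by omega)
    rw [← hgμ, vertexVIter_smul M₁ M₂ h.1 g n μ] at h1
    exact h1.trans (step1 g hg)

/-- a nilpotent-action trick: if `V ≤ U [V, Q]` with `V ≤ Q` a finite `p`-group normalizing `U`,
then `V ≤ U` -/
theorem le_of_le_sup_commutator {p : ℕ} [Fact p.Prime] (U V Q : Subgroup X) [Finite Q]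
    (hQp : IsPGroup p Q) (hVQ : V ≤ Q) (hQU : Q ≤ Subgroup.normalizer (U : Set X))
    (hV : V ≤ U ⊔ ⁅V, Q⁆) : V ≤ U := by
  classical
  -- the chain c k = [V, Q; k]
  let c : ℕ → Subgroup X := fun k => Nat.rec (motive := fun _ => Subgroup X) V (fun _ r => ⁅r, Q⁆) k
  have hc0 : c 0 = V := rfl
  have hcs : ∀ k, c (k + 1) = ⁅c k, Q⁆ := fun k => rfl
  have hcQ : ∀ k, c k ≤ Q := by
    intro k
    induction k with
    | zero => exact hVQ
    | succ k ih =>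
      rw [hcs]
      exact (Subgroup.commutator_mono ih le_rfl).trans (Subgroup.commutator_le_self Q)
  have hclcs : ∀ k, c k ≤ Q.lowerCentralSeries k := by
    intro k
    induction k with
    | zero => exact hVQ
    | succ k ih =>
      rw [hcs, Subgroup.lowerCentralSeries_succ]
      exact Subgroup.commutator_mono ih le_rfl
  haveI : Group.IsNilpotent Q := hQp.isNilpotent
  obtain ⟨m, hm⟩ := (Subgroup.isNilpotent_iff_lowerCentralSeries Q).mp inferInstance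
  have hcm : c m = ⊥ := by rw [eq_bot_iff, ← hm]; exact hclcs m
  -- the sub-lemma
  have hsub : ∀ C : Subgroup X, C ≤ Q → ⁅U ⊔ C, Q⁆ ≤ U ⊔ ⁅C, Q⁆ := by
    intro C hCQ
    rw [Subgroup.commutator_le]
    intro x hx q hq
    obtain ⟨u, hu, c', hc', rfl⟩ := Cfsg.Agent.Helper1.mem_sup_of_le_normalizer (hCQ.trans hQU) hx
    rw [commutatorElement_mul_left_eq_conj_mul]
    have h1 : ⁅u, q⁆ ∈ U := by
      have h2 : q * u⁻¹ * q⁻¹ ∈ U :=
        (Subgroup.mem_normalizer_iff.mp (hQU hq) u⁻¹).mp (U.inv_mem hu)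
      have h3 : ⁅u, q⁆ = u * (q * u⁻¹ * q⁻¹) := by rw [commutatorElement_def]; group
      rw [h3]; exact U.mul_mem hu h2
    have h4 : ⁅c', q⁆ ∈ ⁅C, Q⁆ := Subgroup.commutator_mem_commutator hc' hq
    have h5 : ⁅c', q⁆ ∈ Q := (Subgroup.commutator_mono hCQ le_rfl).trans (Subgroup.commutator_le_self Q) h4
    have h6 : ⁅c', q⁆⁻¹ * u * ⁅c', q⁆ ∈ U := by
      have := (Subgroup.mem_normalizer_iff.mp (hQU (Q.inv_mem h5)) u).mp hu
      simpa using this
    have h7 : u * ⁅c', q⁆ * u⁻¹ * ⁅u, q⁆ =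
        ⁅c', q⁆ * ((⁅c', q⁆⁻¹ * u * ⁅c', q⁆) * u⁻¹ * ⁅u, q⁆) := by group
    rw [h7]
    refine Subgroup.mul_mem _ (le_sup_right (a := U) h4) (le_sup_left (a := U) ?_)
    exact U.mul_mem (U.mul_mem h6 (U.inv_mem hu)) h1
  have hall : ∀ k, V ≤ U ⊔ c (k + 1) := by
    intro k
    induction k with
    | zero => rw [hcs, hc0]; exact hV
    | succ k ih =>
      have h1 : ⁅V, Q⁆ ≤ U ⊔ c (k + 1 + 1) := by
        rw [hcs (k + 1)]
        exact (Subgroup.commutator_mono ih le_rfl).trans (hsub (c (k + 1)) (hcQ (k + 1)))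
      exact hV.trans (sup_le le_sup_left h1)
  rcases Nat.eq_zero_or_pos m with h0 | hpos
  · rw [h0, hc0] at hcm
    rw [hcm]; exact bot_le
  · obtain ⟨m', rfl⟩ := Nat.exists_eq_succ_of_ne_zero hpos.ne'
    have := hall m'
    rw [Nat.succ_eq_add_one] at hcm
    rwa [hcm, sup_bot_eq] at this

end Cfsg.Agent.Helper5

namespace Cfsg.Agent.Helper5

variable {X : Type*} [Group X] (M₁ M₂ : Subgroup X)

/-- the common conclusion: `V_λ^{(n+1)} ≤ Q_λ` cannot lie inside `V_μ^{(n)}` for a neighbour `μ` -/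
theorem viter_not_le {p : ℕ} [Fact p.Prime] (h : Cfsg.IsCharPAmalgamPair p M₁ M₂)
    (lam μ : Cfsg.CosetVertex M₁ M₂) (hadj : (Cfsg.cosetGraph M₁ M₂).Adj lam μ) (n : ℕ)
    (hVQ : Cfsg.vertexVIter p M₁ M₂ (n + 1) lam ≤ Cfsg.vertexQ p lam) :
    ¬ Cfsg.vertexVIter p M₁ M₂ (n + 1) lam ≤ Cfsg.vertexVIter p M₁ M₂ n μ := by
  intro hle
  have hgen : M₁ ⊔ M₂ = ⊤ := h.1.1
  have hUV := vertexVIter_le_of_adj M₁ M₂ p hgen n lam μ hadj
  have heq : Cfsg.vertexVIter p M₁ M₂ (n + 1) lam = Cfsg.vertexVIter p M₁ M₂ n μ :=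
    le_antisymm hle hUV
  have hA := stabilizer_le_normalizer_vertexVIter M₁ M₂ h (n + 1) lam
  have hB := stabilizer_le_normalizer_vertexVIter M₁ M₂ h n μ
  rw [← heq] at hB
  have hbot := eq_bot_of_le_vertexQ M₁ M₂ h lam μ hadj _ hVQ hA hB
  apply vertexZ_ne_bot M₁ M₂ h lam
  rw [eq_bot_iff, ← hbot]
  apply vertexZ_le_vertexVIter
  rw [SimpleGraph.dist_self]; exact Nat.zero_le _

end Cfsg.Agent.Helper5
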