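import Mathlib
import Cfsg.Prelude

/-!
Helper lemmas (helper5): a `p`-group with an elementary abelian normal subgroup of index `p` and an element
of nontrivial "norm" maps onto a Sylow `p`-subgroup of the symmetric group of degree `p ^ 2`.
-/

set_option autoImplicit false

namespace Cfsg.Agent.Helper5.WI

open Cfsg

section shift

variable {p : ℕ} [hp : Fact p.Prime]

/-- Shift of a coefficient vector. -/
def shiftBy (k : ZMod p) (c : ZMod p → ZMod p) : ZMod p → ZMod p := fun i => c (i - k)

theorem shiftBy_zero (c : ZMod p → ZMod p) : shiftBy 0 c = c := by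
  funext i; simp [shiftBy]

theorem shiftBy_add (a b : ZMod p) (c : ZMod p → ZMod p) :
    shiftBy (a + b) c = shiftBy a (shiftBy b c) := by
  funext i; simp only [shiftBy]; congr 1; ring

theorem shiftBy_mem (R : AddSubgroup (ZMod p → ZMod p)) (hR : ∀ c ∈ R, shiftBy 1 c ∈ R)
    (k : ZMod p) : ∀ c ∈ R, shiftBy k c ∈ R := by
  have h : ∀ n : ℕ, ∀ c ∈ R, shiftBy (n : ZMod p) c ∈ R := by
    intro n
    induction n with
    | zero => intro c hc; rw [Nat.cast_zero, shiftBy_zero]; exact hc
    | succ n ih =>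
      intro c hc
      rw [Nat.cast_succ, add_comm, shiftBy_add]
      exact hR _ (ih c hc)
  intro c hc
  have := h k.val c hc
  rwa [ZMod.natCast_zmod_val] at this

/-- The shift action on a shift-invariant subgroup of coefficient vectors. -/
@[reducible] def shiftAction (R : AddSubgroup (ZMod p → ZMod p)) (hR : ∀ c ∈ R, shiftBy 1 c ∈ R) :
    MulAction (Multiplicative (ZMod p)) ↥R where
  smul g c := ⟨shiftBy (Multiplicative.toAdd g) c.1, shiftBy_mem R hR _ c.1 c.2⟩
  one_smul c := by
    apply Subtype.ext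
    show shiftBy (Multiplicative.toAdd (1 : Multiplicative (ZMod p))) c.1 = c.1
    rw [toAdd_one, shiftBy_zero]
  mul_smul a b c := by
    apply Subtype.ext
    show shiftBy (Multiplicative.toAdd (a * b)) c.1 =
      shiftBy (Multiplicative.toAdd a) (shiftBy (Multiplicative.toAdd b) c.1)
    rw [toAdd_mul, shiftBy_add]

/-- A nonzero shift-invariant subgroup of `𝔽_p ^ p` contains a nonzero constant vector. -/
theorem exists_const_mem (R : AddSubgroup (ZMod p → ZMod p)) (hR : ∀ c ∈ R, shiftBy 1 c ∈ R)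
    (hne : R ≠ ⊥) : ∃ a : ZMod p, a ≠ 0 ∧ (fun _ => a) ∈ R := by
  have hpP : p.Prime := hp.out
  letI := shiftAction R hR
  have hsmul : ∀ (g : Multiplicative (ZMod p)) (c : ↥R),
      ((g • c : ↥R) : ZMod p → ZMod p) = shiftBy (Multiplicative.toAdd g) c.1 := fun _ _ => rfl
  have hG : IsPGroup p (Multiplicative (ZMod p)) := by
    apply IsPGroup.of_card (n := 1)
    rw [pow_one, Nat.card_eq_fintype_card, Fintype.card_multiplicative, ZMod.card]
  have hcardW : Nat.card (ZMod p → ZMod p) = p ^ p := by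
    rw [Nat.card_eq_fintype_card, Fintype.card_fun, ZMod.card]
  have hdvd : p ∣ Nat.card ↥R := by
    have h1 : Nat.card ↥R ∣ p ^ p := by
      rw [← hcardW]; exact AddSubgroup.card_addSubgroup_dvd_card R
    obtain ⟨k, -, hk⟩ := (Nat.dvd_prime_pow hpP).mp h1
    rcases Nat.eq_zero_or_pos k with hk0 | hk0
    · exfalso
      apply hne
      rw [hk0, pow_zero] at hk
      exact AddSubgroup.card_eq_one.mp hk
    · rw [hk]; exact dvd_pow_self p hk0.ne'
  have h0 : (0 : ↥R) ∈ MulAction.fixedPoints (Multiplicative (ZMod p)) ↥R := by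
    intro g
    apply Subtype.ext
    rw [hsmul]
    funext i
    simp [shiftBy]
  obtain ⟨b, hb, hb0⟩ := hG.exists_fixed_point_of_prime_dvd_card_of_fixed_point ↥R hdvd h0
  have hstep : ∀ i : ZMod p, b.1 (i - 1) = b.1 i := by
    intro i
    have := hb (Multiplicative.ofAdd (1 : ZMod p))
    have h2 := congrArg Subtype.val this
    rw [hsmul] at h2
    exact congrFun h2 i
  have hconst : ∀ n : ℕ, b.1 (n : ZMod p) = b.1 0 := by
    intro n
    induction n with
    | zero => simp
    | succ n ih =>
      have := hstep ((n : ZMod p) + 1)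
      rw [add_sub_cancel_right] at this
      rw [Nat.cast_succ, ← this, ih]
  have hconst' : b.1 = fun _ => b.1 0 := by
    funext i
    have := hconst i.val
    rwa [ZMod.natCast_zmod_val] at this
  refine ⟨b.1 0, ?_, ?_⟩
  · intro h
    apply hb0
    apply Subtype.ext
    rw [hconst', h]
    rfl
  · rw [← hconst']; exact b.2

end shift


section norm

variable {p : ℕ} [hp : Fact p.Prime] {Q : Type*} [Group Q]

/-- Independence of the conjugates: if the norm of `x` is nontrivial then `A` has order at least `p ^ p`. -/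
theorem card_ge_of_norm_ne_one (A : Subgroup Q) [Finite A] (hA : Cfsg.IsElementaryAbelian p A)
    (x y : Q) (hx : x ∈ A) (hy : y ∈ Subgroup.normalizer (A : Set Q)) (hyp : y ^ p * x = x * y ^ p)
    (hN : ((List.range p).map (fun i => (y ^ i)⁻¹ * x * y ^ i)).prod ≠ 1) : p ^ p ≤ Nat.card A := by
  have hpP : p.Prime := hp.out
  obtain ⟨hAc, hAp⟩ := hA
  letI inst : CommGroup ↥A :=
    { (inferInstance : Group ↥A) with mul_comm := fun a b => mul_comm' a b }
  have hApow : ∀ a : ↥A, a ^ p = 1 := fun a => Subtype.ext (by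
    rw [Subgroup.coe_pow, Subgroup.coe_one]; exact hAp _ a.2)
  have hyinv : y⁻¹ ∈ Subgroup.normalizer (A : Set Q) := Subgroup.inv_mem _ hy
  have hconj : ∀ a : ↥A, y⁻¹ * (a : Q) * y ∈ A := fun a => by
    have := (Subgroup.mem_normalizer_iff.1 hyinv a).1 a.2
    rwa [inv_inv] at this
  let cj : ↥A →* ↥A :=
    { toFun := fun a => ⟨y⁻¹ * a * y, hconj a⟩
      map_one' := by apply Subtype.ext; simp
      map_mul' := by intro a b; apply Subtype.ext; simp [mul_assoc] }
  have hcj : ∀ a : ↥A, ((cj a : ↥A) : Q) = y⁻¹ * a * y := fun _ => rfl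
  have hxs_mem : ∀ n : ℕ, (y ^ n)⁻¹ * x * y ^ n ∈ A := by
    intro n
    induction n with
    | zero => simpa using hx
    | succ n ih =>
      have := hconj ⟨_, ih⟩
      have h2 : y⁻¹ * ((y ^ n)⁻¹ * x * y ^ n) * y = (y ^ (n + 1))⁻¹ * x * y ^ (n + 1) := by
        rw [pow_succ]; group
      rw [← h2]; exact this
  let xs : ℕ → ↥A := fun n => ⟨(y ^ n)⁻¹ * x * y ^ n, hxs_mem n⟩
  have hxs : ∀ n, ((xs n : ↥A) : Q) = (y ^ n)⁻¹ * x * y ^ n := fun _ => rfl
  have hxs_succ : ∀ n, xs (n + 1) = cj (xs n) := by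
    intro n
    apply Subtype.ext
    rw [hcj, hxs, hxs, pow_succ]; group
  have hxs_add : ∀ n, xs (n + p) = xs n := by
    intro n
    apply Subtype.ext
    rw [hxs, hxs, pow_add]
    have h1 : (y ^ p)⁻¹ * x * y ^ p = x := by
      rw [mul_assoc, ← hyp, inv_mul_cancel_left]
    calc (y ^ n * y ^ p)⁻¹ * x * (y ^ n * y ^ p)
        = (y ^ n)⁻¹ * ((y ^ p)⁻¹ * x * y ^ p) * y ^ n := by
          have hc : y ^ n * y ^ p = y ^ p * y ^ n := by rw [← pow_add, ← pow_add, add_comm]
          rw [hc]; group
      _ = (y ^ n)⁻¹ * x * y ^ n := by rw [h1]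
  have hxs_mod : ∀ n, xs (n % p) = xs n := by
    intro n
    have h : ∀ k m : ℕ, xs (m + p * k) = xs m := by
      intro k
      induction k with
      | zero => intro m; simp
      | succ k ih =>
        intro m
        rw [Nat.mul_succ, ← add_assoc, hxs_add, ih]
    have := h (n / p) (n % p)
    rw [Nat.mod_add_div] at this
    exact this.symm
  let xz : ZMod p → ↥A := fun i => xs i.val
  have hxz_succ : ∀ j : ZMod p, xz (j + 1) = cj (xz j) := by
    intro j
    show xs (j + 1).val = cj (xs j.val)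
    haveI : Fact (1 < p) := ⟨hpP.one_lt⟩
    rw [ZMod.val_add, ZMod.val_one, hxs_mod, hxs_succ]
  -- the coefficient homomorphism
  let Ψ : (ZMod p → ZMod p) →+ Additive ↥A :=
    { toFun := fun c => Additive.ofMul (∏ i, xz i ^ (c i).val)
      map_zero' := by
        show Additive.ofMul (∏ i, xz i ^ ((0 : ZMod p → ZMod p) i).val) = 0
        simp
      map_add' := by
        intro c d
        show Additive.ofMul (∏ i, xz i ^ ((c + d) i).val) =
          Additive.ofMul (∏ i, xz i ^ (c i).val) + Additive.ofMul (∏ i, xz i ^ (d i).val)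
        rw [← ofMul_mul, ← Finset.prod_mul_distrib]
        congr 1
        apply Finset.prod_congr rfl
        intro i _
        rw [Pi.add_apply, ZMod.val_add, ← pow_add]
        have hm := Nat.mod_add_div ((c i).val + (d i).val) p
        conv_rhs => rw [← hm, pow_add, pow_mul, hApow, one_pow, mul_one] }
  have hΨ : ∀ c, Ψ c = Additive.ofMul (∏ i, xz i ^ (c i).val) := fun _ => rfl
  have hshift : ∀ c ∈ Ψ.ker, shiftBy 1 c ∈ Ψ.ker := by
    intro c hc
    rw [AddMonoidHom.mem_ker, hΨ] at hc ⊢
    have hc' : (∏ i, xz i ^ (c i).val) = 1 := hc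
    show Additive.ofMul (∏ i, xz i ^ (shiftBy 1 c i).val) = 0
    have h1 : (∏ i, xz i ^ (shiftBy 1 c i).val) = ∏ j, xz (j + 1) ^ (c j).val := by
      rw [← Equiv.prod_comp (Equiv.addRight (1 : ZMod p))]
      apply Finset.prod_congr rfl
      intro j _
      simp [shiftBy]
    rw [h1]
    have h2 : (∏ j, xz (j + 1) ^ (c j).val) = cj (∏ j, xz j ^ (c j).val) := by
      rw [map_prod]
      apply Finset.prod_congr rfl
      intro j _
      rw [hxz_succ, map_pow]
    rw [h2, hc', map_one]
    rfl
  -- the product of all conjugates is the norm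
  have hnorm : ((∏ i, xz i : ↥A) : Q) = ((List.range p).map (fun i => (y ^ i)⁻¹ * x * y ^ i)).prod := by
    have hlist : ∀ n : ℕ, ((List.range n).map (fun i => ((xs i : ↥A) : Q))).prod =
        ((∏ i ∈ Finset.range n, xs i : ↥A) : Q) := by
      intro n
      induction n with
      | zero => rfl
      | succ n ih =>
        rw [List.range_succ, List.map_append, List.prod_append, ih, Finset.prod_range_succ]
        show _ = ((∏ x ∈ Finset.range n, xs x : ↥A) : Q) * ((xs n : ↥A) : Q)
        simp
    have h1 := hlist p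
    have h2 : (∏ i, xz i) = ∏ n ∈ Finset.range p, xs n := by
      apply Finset.prod_nbij' (fun i : ZMod p => i.val) (fun n : ℕ => (n : ZMod p))
      · intro i _; exact Finset.mem_range.mpr (ZMod.val_lt i)
      · intro n _; exact Finset.mem_univ _
      · intro i _; exact ZMod.natCast_zmod_val i
      · intro n hn; exact ZMod.val_natCast_of_lt (Finset.mem_range.mp hn)
      · intro i _; rfl
    rw [h2, ← h1]
  have hker : Ψ.ker = ⊥ := by
    by_contra hne
    obtain ⟨a, ha0, haR⟩ := exists_const_mem Ψ.ker hshift hne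
    rw [AddMonoidHom.mem_ker, hΨ] at haR
    have h1 : (∏ i, xz i ^ a.val) = 1 := haR
    rw [Finset.prod_pow] at h1
    have h2 : (∏ i, xz i) ^ p = 1 := hApow _
    have hcop : Nat.Coprime a.val p := by
      apply Nat.Coprime.symm
      rw [hpP.coprime_iff_not_dvd]
      intro hd
      have := Nat.le_of_dvd (Nat.pos_of_ne_zero (fun h0 => ha0 ((ZMod.val_eq_zero a).mp h0))) hd
      exact absurd (ZMod.val_lt a) (not_lt.mpr this)
    have h3 : (∏ i, xz i) = 1 := by
      have hd1 := orderOf_dvd_of_pow_eq_one h1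
      have hd2 := orderOf_dvd_of_pow_eq_one h2
      have hd3 := Nat.dvd_gcd hd1 hd2
      rw [hcop.gcd_eq_one, Nat.dvd_one] at hd3
      exact orderOf_eq_one_iff.mp hd3
    apply hN
    rw [← hnorm, h3]
    rfl
  have hinj : Function.Injective Ψ := (AddMonoidHom.ker_eq_bot_iff Ψ).mp hker
  have hcardW : Nat.card (ZMod p → ZMod p) = p ^ p := by
    rw [Nat.card_eq_fintype_card, Fintype.card_fun, ZMod.card]
  rw [← hcardW]
  exact Nat.card_le_card_of_injective Ψ hinj

end norm


section main

variable {p : ℕ} [hp : Fact p.Prime]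

theorem padicValNat_factorial_sq : padicValNat p (p ^ 2).factorial = p + 1 := by
  have h1 : padicValNat p p.factorial = 1 := by
    have := padicValNat_factorial_mul (p := p) 1
    rw [mul_one] at this
    rw [this]; simp
  rw [pow_two, padicValNat_factorial_mul, h1, add_comm]

/-- If all conjugates of `x` under powers of `y` equal `x`, the norm is `x ^ p`. -/
theorem norm_eq_pow_of_commute {Q : Type*} [Group Q] (x y : Q) (h : y * x = x * y) (n : ℕ) :
    ((List.range n).map (fun i => (y ^ i)⁻¹ * x * y ^ i)).prod = x ^ n := by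
  have h1 : ∀ i : ℕ, (y ^ i)⁻¹ * x * y ^ i = x := by
    intro i
    have hc : Commute (y ^ i) x := (show Commute y x from h).pow_left i
    rw [mul_assoc, ← hc.eq, inv_mul_cancel_left]
  simp only [h1]
  rw [List.map_const', List.prod_replicate, List.length_range]

theorem exists_surjective_sylow {P : Type*} [Group P] [Finite P] (hP : IsPGroup p P)
    (A : Subgroup P) [hAn : A.Normal] (hA : Cfsg.IsElementaryAbelian p A) (hidx : A.index = p)
    (x y : P) (hx : x ∈ A) (hy : y ∉ A)
    (hprod : ((List.range p).map (fun i => (y ^ i)⁻¹ * x * y ^ i)).prod ≠ 1) :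
    ∃ (Q : Sylow p (Equiv.Perm (Fin (p ^ 2))))
      (f : P →* ↥(Q : Subgroup (Equiv.Perm (Fin (p ^ 2))))), Function.Surjective f := by
  have hpP : p.Prime := hp.out
  have hA' := hA
  obtain ⟨hAc, hAp⟩ := hA
  set nx : P := ((List.range p).map (fun i => (y ^ i)⁻¹ * x * y ^ i)).prod with hnx
  have hnxA : nx ∈ A := by
    apply Subgroup.list_prod_mem
    intro z hz
    rw [List.mem_map] at hz
    obtain ⟨i, -, rfl⟩ := hz
    have := hAn.conj_mem x hx (y ^ i)⁻¹
    simpa using this
  -- a functional not vanishing on the norm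
  let inst : CommGroup ↥A :=
    { (inferInstance : Group ↥A) with mul_comm := fun a b => mul_comm' a b }
  have hV : ∀ v : Additive ↥A, p • v = 0 := by
    intro v
    have : (Additive.toMul v) ^ p = 1 := Subtype.ext (by
      rw [Subgroup.coe_pow, Subgroup.coe_one]; exact hAp _ (Additive.toMul v).2)
    exact congrArg Additive.ofMul this
  have _i : Module (ZMod p) (Additive ↥A) := AddCommGroup.zmodModule hV
  have hne : (Additive.ofMul (⟨nx, hnxA⟩ : ↥A)) ≠ 0 := by
    intro h
    apply hprod
    have : (⟨nx, hnxA⟩ : ↥A) = 1 := h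
    exact congrArg Subtype.val this
  obtain ⟨φ, hφ⟩ : ∃ φ : Additive ↥A →ₗ[ZMod p] ZMod p,
      φ (Additive.ofMul (⟨nx, hnxA⟩ : ↥A)) ≠ 0 := by
    by_contra hcon
    push Not at hcon
    exact hne ((Module.forall_dual_apply_eq_zero_iff (ZMod p) _).mp hcon)
  let φ' : ↥A →* Multiplicative (ZMod p) :=
    { toFun := fun a => Multiplicative.ofAdd (φ (Additive.ofMul a))
      map_one' := by
        show Multiplicative.ofAdd (φ 0) = 1
        rw [map_zero]; rfl
      map_mul' := by
        intro a b
        show Multiplicative.ofAdd (φ (Additive.ofMul a + Additive.ofMul b)) = _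
        rw [map_add]; rfl }
  have hφ' : ∀ a : ↥A, φ' a = Multiplicative.ofAdd (φ (Additive.ofMul a)) := fun _ => rfl
  set H : Subgroup P := φ'.ker.map A.subtype with hH
  have hnH : nx ∉ H := by
    rintro ⟨h, hh, hhx⟩
    have h1 : h = ⟨nx, hnxA⟩ := Subtype.ext hhx
    rw [h1] at hh
    have h2 : φ' ⟨nx, hnxA⟩ = 1 := hh
    rw [hφ'] at h2
    exact hφ (Multiplicative.ofAdd.injective h2)
  have hHidx : H.index = p ^ 2 := by
    rw [hH, Subgroup.index_map_subtype, hidx, Subgroup.index_ker]
    have hcardM : Nat.card (Multiplicative (ZMod p)) = p := by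
      rw [Nat.card_eq_fintype_card, Fintype.card_multiplicative, ZMod.card]
    haveI : Fact (Nat.card (Multiplicative (ZMod p))).Prime := ⟨by rw [hcardM]; exact hpP⟩
    rcases Subgroup.eq_bot_or_eq_top_of_prime_card φ'.range with hb | ht
    · exfalso
      have : φ' ⟨nx, hnxA⟩ ∈ φ'.range := ⟨_, rfl⟩
      rw [hb, Subgroup.mem_bot, hφ'] at this
      exact hφ (Multiplicative.ofAdd.injective this)
    · rw [ht, Subgroup.card_top, hcardM, pow_two]
  -- the permutation representation on the cosets of `H`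
  let e : P ⧸ H ≃ Fin (p ^ 2) :=
    Finite.equivFinOfCardEq (by rw [← Subgroup.index_eq_card]; exact hHidx)
  let f : P →* Equiv.Perm (Fin (p ^ 2)) :=
    (Equiv.permCongrHom e).toMonoidHom.comp (MulAction.toPermHom P (P ⧸ H))
  have hker : ∀ g : P, f g = 1 → g ∈ H := by
    intro g hg
    have h1 : (Equiv.permCongrHom e) (MulAction.toPermHom P (P ⧸ H) g) = 1 := hg
    have h2 : MulAction.toPermHom P (P ⧸ H) g = 1 := by
      apply (Equiv.permCongrHom e).injective
      rw [h1, map_one]
    have h3 : g ∈ H.normalCore := by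
      rw [Subgroup.normalCore_eq_ker]; exact h2
    exact Subgroup.normalCore_le H h3
  have hfnx : f nx ≠ 1 := fun h => hnH (hker nx h)
  have hfnx' : f nx = ((List.range p).map (fun i => (f y ^ i)⁻¹ * f x * f y ^ i)).prod := by
    rw [hnx, map_list_prod, List.map_map]
    congr 1
    apply List.map_congr_left
    intro i _
    simp
  -- the image of `A`
  have hBea : Cfsg.IsElementaryAbelian p (A.map f) := by
    refine ⟨⟨⟨?_⟩⟩, ?_⟩
    · rintro ⟨_, a, ha, rfl⟩ ⟨_, b, hb, rfl⟩
      apply Subtype.ext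
      show f a * f b = f b * f a
      have := mul_comm' (⟨a, ha⟩ : ↥A) ⟨b, hb⟩
      have h2 : a * b = b * a := congrArg Subtype.val this
      rw [← map_mul, ← map_mul, h2]
    · rintro _ ⟨a, ha, rfl⟩
      rw [← map_pow, hAp a ha, map_one]
  have hypA : y ^ p ∈ A := by
    have hcardq : Nat.card (P ⧸ A) = p := by rw [← Subgroup.index_eq_card]; exact hidx
    have h1 : ((y : P) : P ⧸ A) ^ p = 1 := by
      rw [← hcardq]; exact pow_card_eq_one'
    rw [← QuotientGroup.mk_pow, QuotientGroup.eq_one_iff] at h1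
    exact h1
  have hcomm : y ^ p * x = x * y ^ p := by
    have := mul_comm' (⟨y ^ p, hypA⟩ : ↥A) ⟨x, hx⟩
    exact congrArg Subtype.val this
  have hcardB : p ^ p ≤ Nat.card ↥(A.map f) := by
    apply card_ge_of_norm_ne_one (A.map f) hBea (f x) (f y) ⟨x, hx, rfl⟩
    · apply Subgroup.le_normalizer_map f
      refine ⟨y, ?_, rfl⟩
      rw [Subgroup.normalizer_eq_top_iff.mpr hAn]; trivial
    · rw [← map_pow, ← map_mul, ← map_mul, hcomm]
    · rw [← hfnx']; exact hfnx
  -- the image of `P`
  have hBR : A.map f ≤ f.range := Subgroup.map_le_range f A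
  have hyB : f y ∉ A.map f := by
    rintro ⟨a, ha, hay⟩
    apply hfnx
    have hc : f y * f x = f x * f y := by
      rw [← hay, ← map_mul, ← map_mul]
      have := mul_comm' (⟨a, ha⟩ : ↥A) ⟨x, hx⟩
      have h2 : a * x = x * a := congrArg Subtype.val this
      rw [h2]
    rw [hfnx', norm_eq_pow_of_commute _ _ hc, ← map_pow, hAp x hx, map_one]
  have hRp : IsPGroup p ↥f.range := by
    rw [MonoidHom.range_eq_map]
    exact (IsPGroup.of_equiv hP Subgroup.topEquiv.symm).map f
  obtain ⟨a, ha⟩ := IsPGroup.iff_card.mp hRp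
  obtain ⟨b, hb⟩ := IsPGroup.iff_card.mp (hRp.to_le hBR)
  have hpb : p ≤ b := by
    rw [hb] at hcardB
    exact (Nat.pow_le_pow_iff_right hpP.one_lt).mp hcardB
  have hba : b < a := by
    by_contra hcon
    push Not at hcon
    have hle : Nat.card ↥f.range ≤ Nat.card ↥(A.map f) := by
      rw [ha, hb]; exact Nat.pow_le_pow_right hpP.pos hcon
    have heq := Subgroup.eq_of_le_of_card_ge hBR hle
    apply hyB
    rw [heq]
    exact ⟨y, rfl⟩
  have hcardS : Nat.card (Equiv.Perm (Fin (p ^ 2))) = (p ^ 2).factorial := by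
    rw [Nat.card_perm, Nat.card_fin]
  have hap : a ≤ p + 1 := by
    have hdvd : p ^ a ∣ (p ^ 2).factorial := by
      rw [← ha, ← hcardS]; exact Subgroup.card_subgroup_dvd_card _
    rw [padicValNat_dvd_iff_le (Nat.factorial_ne_zero _), padicValNat_factorial_sq] at hdvd
    exact hdvd
  have hcard : Nat.card ↥f.range = p ^ (Nat.card (Equiv.Perm (Fin (p ^ 2)))).factorization p := by
    rw [ha, hcardS, Nat.factorization_def _ hpP, padicValNat_factorial_sq]
    congr 1
    omega
  exact ⟨Sylow.ofCard f.range hcard, f.rangeRestrict, f.rangeRestrict_surjective⟩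

end main

end Cfsg.Agent.Helper5.WI
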