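import Mathlib
import Cfsg.Prelude.Def_GeometricClasses
import Cfsg.Prelude.Def_ClassicalGeometry

set_option autoImplicit false
open scoped MatrixGroups Matrix

/-!
S6002 (`PSp_4(p)` and the normalizer of an extraspecial group `2^{1+4}_-`): the matrix-level description of the
extraspecial group used by all the pieces.
-/

namespace Cfsg.Agent.Helper5.XS

/-- Matrix-level description of an extraspecial group `2^{1+4}_-` inside `Sp_4(F)`: `R` lies in `Sp_4(F)`, has order 32,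
contains `-1`, any two elements commute or anticommute, squares are `±1`, the centre is `{±1}`, the commutant of `R` in
the matrix algebra consists of the scalars, there is no elementary abelian subgroup of order 8 (elementwise form), and
`R` contains a dihedral pair `a, b` (anticommuting involutions) and a quaternion pair `c, d` (anticommuting, squares `-1`)
commuting with each other. -/
structure XSData {F : Type*} [Field F] (R : Subgroup (GL (Fin 2 ⊕ Fin 2) F)) : Prop where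
  le_sp : R ≤ Cfsg.spGL 2 F
  card : Nat.card R = 32
  neg_one_mem : (-1 : GL (Fin 2 ⊕ Fin 2) F) ∈ R
  comm_or : ∀ g ∈ R, ∀ h ∈ R, g * h = h * g ∨ g * h = -(h * g)
  sq : ∀ g ∈ R, g * g = 1 ∨ g * g = -1
  center : ∀ g ∈ R, (∀ h ∈ R, g * h = h * g) → g = 1 ∨ g = -1
  scalar_of_comm : ∀ M : Matrix (Fin 2 ⊕ Fin 2) (Fin 2 ⊕ Fin 2) F,
    (∀ g ∈ R, M * (g : Matrix (Fin 2 ⊕ Fin 2) (Fin 2 ⊕ Fin 2) F) = (g : Matrix (Fin 2 ⊕ Fin 2) (Fin 2 ⊕ Fin 2) F) * M) →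
    ∃ c : F, M = c • (1 : Matrix (Fin 2 ⊕ Fin 2) (Fin 2 ⊕ Fin 2) F)
  no_eight : ∀ e₁ ∈ R, ∀ e₂ ∈ R, e₁ * e₁ = 1 → e₂ * e₂ = 1 → e₁ * e₂ = e₂ * e₁ →
    e₁ = 1 ∨ e₁ = -1 ∨ e₂ = 1 ∨ e₂ = -1 ∨ e₁ = e₂ ∨ e₁ = -e₂
  gens : ∃ a ∈ R, ∃ b ∈ R, ∃ c ∈ R, ∃ d ∈ R, a * a = 1 ∧ b * b = 1 ∧ a * b = -(b * a) ∧
    c * c = -1 ∧ d * d = -1 ∧ c * d = -(d * c) ∧ a * c = c * a ∧ a * d = d * a ∧ b * c = c * b ∧ b * d = d * b

end Cfsg.Agent.Helper5.XS
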