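import Mathlib
import Cfsg.Agent.Helper5.XSDef

set_option autoImplicit false
set_option linter.unusedSectionVars false
set_option linter.unusedSimpArgs false
set_option linter.unusedVariables false
open scoped MatrixGroups Matrix

/-!
S6002: basic consequences of `XSData`, Schur averaging and the trace formula.
-/

namespace Cfsg.Agent.Helper5.XS

variable {F : Type*} [Field F]

local notation "II" => (Fin 2 ⊕ Fin 2)
local notation "MM" => Matrix (Fin 2 ⊕ Fin 2) (Fin 2 ⊕ Fin 2) F
local notation "GG" => GL (Fin 2 ⊕ Fin 2) F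

theorem neg_eq_neg_one_mul (g : GG) : -g = (-1 : GG) * g := by simp

theorem neg_ne_self (h2 : (2 : F) ≠ 0) (g : GG) : -g ≠ g := by
  intro h
  have h1 : (g : MM) + (g : MM) = 0 := by
    have := congrArg (fun u : GG => (u : MM)) h
    simp only [Units.val_neg] at this
    nth_rewrite 1 [← this]
    simp
  have h3 : (2 : F) • (g : MM) = 0 := by rw [two_smul]; exact h1
  rcases smul_eq_zero.mp h3 with h' | h'
  · exact h2 h'
  · exact g.isUnit.ne_zero h'

theorem one_ne_neg_one (h2 : (2 : F) ≠ 0) : (1 : GG) ≠ -1 := fun h => neg_ne_self h2 1 h.symm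

namespace XSData

theorem neg_mem {R : Subgroup GG} (hR : XSData R) {g : GG} (hg : g ∈ R) : -g ∈ R := by
  rw [neg_eq_neg_one_mul]; exact R.mul_mem hR.neg_one_mem hg

theorem neg_mem_iff {R : Subgroup GG} (hR : XSData R) {g : GG} : -g ∈ R ↔ g ∈ R :=
  ⟨fun h => by simpa using hR.neg_mem h, hR.neg_mem⟩

/-- a non-central element anticommutes with something. -/
theorem exists_anticomm {R : Subgroup GG} (hR : XSData R) {a : GG} (ha : a ∈ R) (h1 : a ≠ 1) (h1' : a ≠ -1) :
    ∃ b ∈ R, a * b = -(b * a) := by
  by_contra hcon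
  push Not at hcon
  have : ∀ h ∈ R, a * h = h * a := by
    intro h hh
    rcases hR.comm_or a ha h hh with e | e
    · exact e
    · exact absurd e (hcon h hh)
  rcases hR.center a ha this with e | e
  · exact h1 e
  · exact h1' e

/-- non-central elements have trace zero. -/
theorem trace_eq_zero (h2 : (2 : F) ≠ 0) {R : Subgroup GG} (hR : XSData R) {a : GG} (ha : a ∈ R) (h1 : a ≠ 1) (h1' : a ≠ -1) :
    Matrix.trace (a : MM) = 0 := by
  obtain ⟨b, hb, hab⟩ := hR.exists_anticomm ha h1 h1'
  have e : (a : MM) = -((b : MM) * (a : MM) * ((b⁻¹ : GG) : MM)) := by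
    have h := congrArg (fun u : GG => (u : MM)) hab
    simp only [Units.val_mul, Units.val_neg] at h
    calc (a : MM) = (a : MM) * (b : MM) * ((b⁻¹ : GG) : MM) := by
          rw [Matrix.mul_assoc, ← Units.val_mul, mul_inv_cancel, Units.val_one, Matrix.mul_one]
      _ = -((b : MM) * (a : MM) * ((b⁻¹ : GG) : MM)) := by rw [h, Matrix.neg_mul]
  have ht : Matrix.trace (a : MM) = -Matrix.trace (a : MM) := by
    nth_rewrite 1 [e]
    rw [Matrix.trace_neg, Matrix.trace_mul_comm, ← Matrix.mul_assoc, ← Units.val_mul, inv_mul_cancel,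
      Units.val_one, Matrix.one_mul]
  have : (2 : F) * Matrix.trace (a : MM) = 0 := by linear_combination ht
  rcases mul_eq_zero.mp this with h | h
  · exact absurd h h2
  · exact h

end XSData

end Cfsg.Agent.Helper5.XS
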