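import Mathlib
import Cfsg.Agent.Helper5.XSBasic

set_option autoImplicit false
set_option linter.unusedSectionVars false
set_option linter.unusedSimpArgs false
set_option linter.unusedVariables false
open scoped MatrixGroups Matrix

/-!
S6002: Schur averaging over `R` and the trace formula `|C_R(n)| = 2 tr(n) tr(n⁻¹)` for `n` normalizing `R` and not
inverting any element.
-/

namespace Cfsg.Agent.Helper5.XS

variable {F : Type*} [Field F]

local notation "II" => (Fin 2 ⊕ Fin 2)
local notation "MM" => Matrix (Fin 2 ⊕ Fin 2) (Fin 2 ⊕ Fin 2) F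
local notation "GG" => GL (Fin 2 ⊕ Fin 2) F

theorem four_ne_zero' (h2 : (2 : F) ≠ 0) : (4 : F) ≠ 0 := by
  have : (4 : F) = 2 * 2 := by norm_num
  rw [this]; exact mul_ne_zero h2 h2

/-- a finset enumerating `R`. -/
theorem exists_finset {R : Subgroup GG} (hR : XSData R) :
    ∃ T : Finset GG, (∀ g, g ∈ T ↔ g ∈ R) ∧ T.card = 32 := by
  have hfin : Finite ↥R := Nat.finite_of_card_ne_zero (by rw [hR.card]; norm_num)
  have hfin' : (R : Set GG).Finite := Set.toFinite _
  refine ⟨hfin'.toFinset, fun g => by simp, ?_⟩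
  rw [← hR.card, ← Set.ncard_eq_toFinset_card _ hfin']
  exact (Nat.card_coe_set_eq _).symm

/-- Schur averaging. -/
theorem schur_avg (h2 : (2 : F) ≠ 0) {R : Subgroup GG} (hR : XSData R) (T : Finset GG)
    (hT : ∀ g, g ∈ T ↔ g ∈ R) (hcard : T.card = 32) (X : MM) :
    ∑ g ∈ T, (g : MM) * X * ((g⁻¹ : GG) : MM) = (8 * Matrix.trace X) • (1 : MM) := by
  set Y : MM := ∑ g ∈ T, (g : MM) * X * ((g⁻¹ : GG) : MM) with hY
  have hconj : ∀ h ∈ R, (h : MM) * Y * ((h⁻¹ : GG) : MM) = Y := by
    intro h hh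
    rw [hY, Finset.mul_sum, Finset.sum_mul]
    refine Finset.sum_equiv (Equiv.mulLeft h) ?_ ?_
    · intro g
      rw [hT, hT, Equiv.coe_mulLeft]
      exact ⟨fun hg => R.mul_mem hh hg, fun hg => by simpa using R.mul_mem (R.inv_mem hh) hg⟩
    · intro g _
      rw [Equiv.coe_mulLeft, mul_inv_rev, Units.val_mul, Units.val_mul]
      simp only [Matrix.mul_assoc]
  have hcomm : ∀ h ∈ R, Y * (h : MM) = (h : MM) * Y := by
    intro h hh
    have := hconj h hh
    calc Y * (h : MM) = (h : MM) * Y * ((h⁻¹ : GG) : MM) * (h : MM) := by rw [this]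
      _ = (h : MM) * Y := by
        rw [Matrix.mul_assoc, ← Units.val_mul, inv_mul_cancel, Units.val_one, Matrix.mul_one]
  obtain ⟨c, hc⟩ := hR.scalar_of_comm Y hcomm
  have htr : Matrix.trace Y = 32 * Matrix.trace X := by
    rw [hY, Matrix.trace_sum]
    have : ∀ g ∈ T, Matrix.trace ((g : MM) * X * ((g⁻¹ : GG) : MM)) = Matrix.trace X := by
      intro g _
      rw [Matrix.trace_mul_comm, ← Matrix.mul_assoc, ← Units.val_mul, inv_mul_cancel, Units.val_one,
        Matrix.one_mul]
    rw [Finset.sum_congr rfl this, Finset.sum_const, hcard]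
    simp
  have htr2 : Matrix.trace Y = c * 4 := by
    rw [hc, Matrix.trace_smul, Matrix.trace_one]
    simp
  have hc8 : c = 8 * Matrix.trace X := by
    have h4 := four_ne_zero' h2
    have : (4 : F) * c = 4 * (8 * Matrix.trace X) := by linear_combination htr - htr2
    exact mul_left_cancel₀ h4 this
  rw [hc, hc8]


theorem mem_cent_iff {R : Subgroup GG} {n g : GG} :
    g ∈ R ⊓ Subgroup.centralizer {n} ↔ g ∈ R ∧ n * g = g * n := by
  rw [Subgroup.mem_inf, Subgroup.mem_centralizer_iff]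
  simp

theorem conj_mem_of_mem_normalizer {R : Subgroup GG} {n : GG} (hn : n ∈ Cfsg.Geo.subgroupNormalizer R)
    {a : GG} (ha : a ∈ R) : n * a * n⁻¹ ∈ R :=
  (Subgroup.mem_normalizer_iff.mp hn a).mp ha

/-- the trace formula. -/
theorem card_centralizer_eq (h2 : (2 : F) ≠ 0) {R : Subgroup GG} (hR : XSData R) {n : GG}
    (hn : n ∈ Cfsg.Geo.subgroupNormalizer R) (hodd : ∀ a ∈ R, n * a * n⁻¹ ≠ -a) :
    ((Nat.card ↥(R ⊓ Subgroup.centralizer {n}) : ℕ) : F) =
      2 * Matrix.trace (n : MM) * Matrix.trace ((n⁻¹ : GG) : MM) := by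
  classical
  obtain ⟨T, hT, hcard⟩ := exists_finset hR
  have hS := schur_avg h2 hR T hT hcard (n : MM)
  have h1 : ∑ g ∈ T, Matrix.trace (((g * (n * g⁻¹ * n⁻¹) : GG)) : MM) =
      8 * Matrix.trace (n : MM) * Matrix.trace ((n⁻¹ : GG) : MM) := by
    have := congrArg (fun Y : MM => Matrix.trace (Y * ((n⁻¹ : GG) : MM))) hS
    simp only [Finset.sum_mul, Matrix.trace_sum, Matrix.smul_mul, Matrix.one_mul, Matrix.trace_smul,
      smul_eq_mul] at this
    rw [← this]
    refine Finset.sum_congr rfl fun g _ => ?_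
    simp only [Units.val_mul, Matrix.mul_assoc]
  have h2' : ∀ g ∈ T, Matrix.trace (((g * (n * g⁻¹ * n⁻¹) : GG)) : MM) =
      if n * g = g * n then (4 : F) else 0 := by
    intro g hg
    have hgR : g ∈ R := (hT g).mp hg
    have hmem : g * (n * g⁻¹ * n⁻¹) ∈ R :=
      R.mul_mem hgR (conj_mem_of_mem_normalizer hn (R.inv_mem hgR))
    split_ifs with hc
    · have : g * (n * g⁻¹ * n⁻¹) = 1 := by
        have : n * g⁻¹ = g⁻¹ * n := by
          calc n * g⁻¹ = g⁻¹ * (g * n) * g⁻¹ := by group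
            _ = g⁻¹ * (n * g) * g⁻¹ := by rw [hc]
            _ = g⁻¹ * n := by group
        rw [this]; group
      rw [this, Units.val_one, Matrix.trace_one]
      simp
    · refine hR.trace_eq_zero h2 hmem ?_ ?_
      · intro h
        apply hc
        have : n * g⁻¹ * n⁻¹ = g⁻¹ := by
          calc n * g⁻¹ * n⁻¹ = g⁻¹ * (g * (n * g⁻¹ * n⁻¹)) := by group
            _ = g⁻¹ := by rw [h, mul_one]
        calc n * g = (n * g⁻¹ * n⁻¹)⁻¹ * n := by group
          _ = g * n := by rw [this, inv_inv]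
      · intro h
        apply hodd g⁻¹ (R.inv_mem hgR)
        calc n * g⁻¹ * n⁻¹ = g⁻¹ * (g * (n * g⁻¹ * n⁻¹)) := by group
          _ = -g⁻¹ := by rw [h]; simp
  rw [Finset.sum_congr rfl h2', Finset.sum_ite, Finset.sum_const_zero, add_zero, Finset.sum_const,
    nsmul_eq_mul] at h1
  have hcardC : Nat.card ↥(R ⊓ Subgroup.centralizer {n}) = (T.filter fun g => n * g = g * n).card := by
    have e : ((R ⊓ Subgroup.centralizer {n} : Subgroup GG) : Set GG) =
        ((T.filter fun g => n * g = g * n : Finset GG) : Set GG) := by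
      ext g
      simp only [SetLike.mem_coe, mem_cent_iff, Finset.coe_filter, Set.mem_ofPred_eq, hT]
    calc Nat.card ↥(R ⊓ Subgroup.centralizer {n})
        = Set.ncard ((R ⊓ Subgroup.centralizer {n} : Subgroup GG) : Set GG) := (Nat.card_coe_set_eq _)
      _ = (T.filter fun g => n * g = g * n).card := by rw [e, Set.ncard_coe_finset]
  rw [hcardC]
  have h4 := four_ne_zero' h2
  have : (4 : F) * ((T.filter fun g => n * g = g * n).card : F) =
      4 * (2 * Matrix.trace (n : MM) * Matrix.trace ((n⁻¹ : GG) : MM)) := by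
    linear_combination h1
  exact mul_left_cancel₀ h4 this

end Cfsg.Agent.Helper5.XS
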