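import Mathlib
import Cfsg.Agent.Helper5.XSTrace

set_option autoImplicit false
set_option linter.unusedSectionVars false
set_option linter.unusedSimpArgs false
set_option linter.unusedVariables false
open scoped MatrixGroups Matrix

/-!
S6002: orbit counting for the conjugation action of an element of the normalizer on `R`.
-/

namespace Cfsg.Agent.Helper5.XS

variable {F : Type*} [Field F]

local notation "II" => (Fin 2 ⊕ Fin 2)
local notation "MM" => Matrix (Fin 2 ⊕ Fin 2) (Fin 2 ⊕ Fin 2) F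
local notation "GG" => GL (Fin 2 ⊕ Fin 2) F

theorem card_cent_dvd {R : Subgroup GG} (hR : XSData R) (n : GG) :
    Nat.card ↥(R ⊓ Subgroup.centralizer {n}) ∣ 32 := by
  rw [← hR.card]
  exact Subgroup.card_dvd_of_le inf_le_left

theorem neg_one_mem_cent {R : Subgroup GG} (hR : XSData R) (n : GG) :
    (-1 : GG) ∈ R ⊓ Subgroup.centralizer {n} := by
  rw [mem_cent_iff]
  exact ⟨hR.neg_one_mem, by simp⟩

theorem two_dvd_card_cent (h2 : (2 : F) ≠ 0) {R : Subgroup GG} (hR : XSData R) (n : GG) :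
    2 ∣ Nat.card ↥(R ⊓ Subgroup.centralizer {n}) := by
  have hfin : Finite ↥R := Nat.finite_of_card_ne_zero (by rw [hR.card]; norm_num)
  have hfin' : Finite ↥(R ⊓ Subgroup.centralizer {n}) :=
    Finite.of_injective (fun x : ↥(R ⊓ Subgroup.centralizer {n}) => (⟨x.1, x.2.1⟩ : ↥R))
      (fun x y h => Subtype.ext (by simpa using congrArg Subtype.val h))
  have ho : orderOf (⟨-1, neg_one_mem_cent hR n⟩ : ↥(R ⊓ Subgroup.centralizer {n})) = 2 := by
    apply orderOf_eq_prime
    · apply Subtype.ext; simp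
    · intro h
      have := congrArg Subtype.val h
      exact one_ne_neg_one h2 (by simpa using this.symm)
  have := orderOf_dvd_natCard (⟨-1, neg_one_mem_cent hR n⟩ : ↥(R ⊓ Subgroup.centralizer {n}))
  rwa [ho] at this

theorem conj_pow_eq (n a : GG) (k : ℕ) : n ^ k * a * (n ^ k)⁻¹ = (fun x => n * x * n⁻¹)^[k] a := by
  induction k with
  | zero => simp
  | succ k ih =>
    rw [Function.iterate_succ_apply', ← ih, pow_succ']
    group

/-- orbit counting on a finite subgroup `D` normalized by `n`. -/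
theorem card_cent_modEq' (D : Subgroup GG) (hfin : Finite ↥D) {n : GG}
    (hn : ∀ a ∈ D, n * a * n⁻¹ ∈ D) {r : ℕ} [Fact r.Prime]
    (hnr : ∀ a ∈ D, n ^ r * a = a * n ^ r) :
    Nat.card ↥(D ⊓ Subgroup.centralizer {n}) ≡ Nat.card ↥D [MOD r] := by
  classical
  have : Fintype ↥D := Fintype.ofFinite _
  let f : Function.End ↥D := fun a => ⟨n * a.1 * n⁻¹, hn a.1 a.2⟩
  have hfk : ∀ (k : ℕ) (a : ↥D), ((f ^ k) a : GG) = n ^ k * a.1 * (n ^ k)⁻¹ := by
    intro k
    induction k with
    | zero =>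
      intro a
      rw [pow_zero, pow_zero]
      show (a : GG) = 1 * a.1 * 1⁻¹
      group
    | succ k ih =>
      intro a
      rw [pow_succ', Function.End.mul_def]
      show n * ((f ^ k) a : GG) * n⁻¹ = _
      rw [ih, pow_succ']
      group
  have hf : f ^ r ^ 1 = 1 := by
    funext a
    apply Subtype.ext
    rw [pow_one, hfk]
    show n ^ r * a.1 * (n ^ r)⁻¹ = a.1
    rw [hnr a.1 a.2]
    group
  have h := Equiv.Perm.card_fixedPoints_modEq (p := r) (n := 1) hf
  have hfix : Fintype.card (Function.fixedPoints f) = Nat.card ↥(D ⊓ Subgroup.centralizer {n}) := by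
    rw [← Nat.card_eq_fintype_card]
    refine Nat.card_congr
      { toFun := fun a => ⟨a.1.1, mem_cent_iff.mpr ⟨a.1.2, ?_⟩⟩
        invFun := fun b => ⟨⟨b.1, (mem_cent_iff.mp b.2).1⟩, ?_⟩
        left_inv := fun a => rfl
        right_inv := fun b => rfl }
    · have := a.2
      have h1 : n * a.1.1 * n⁻¹ = a.1.1 := congrArg Subtype.val this
      calc n * a.1.1 = n * a.1.1 * n⁻¹ * n := by group
        _ = a.1.1 * n := by rw [h1]
    · show f ⟨b.1, _⟩ = ⟨b.1, _⟩
      apply Subtype.ext
      show n * b.1 * n⁻¹ = b.1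
      rw [(mem_cent_iff.mp b.2).2]
      group
  rw [← hfix, Nat.card_eq_fintype_card]
  exact h.symm

/-- orbit counting on `R`. -/
theorem card_cent_modEq {R : Subgroup GG} (hR : XSData R) {n : GG}
    (hn : n ∈ Cfsg.Geo.subgroupNormalizer R) {r : ℕ} [Fact r.Prime]
    (hnr : ∀ a ∈ R, n ^ r * a = a * n ^ r) :
    Nat.card ↥(R ⊓ Subgroup.centralizer {n}) ≡ 32 [MOD r] := by
  have hfin : Finite ↥R := Nat.finite_of_card_ne_zero (by rw [hR.card]; norm_num)
  have := card_cent_modEq' R hfin (fun a ha => conj_mem_of_mem_normalizer hn ha) hnr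
  rwa [hR.card] at this

end Cfsg.Agent.Helper5.XS
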