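import Mathlib
import Cfsg.Agent.Helper5.XSOrbit

set_option autoImplicit false
set_option linter.unusedSectionVars false
set_option linter.unusedSimpArgs false
set_option linter.unusedVariables false
open scoped MatrixGroups Matrix

/-!
S6002: the centralizer in `R` of an element `n` of the normalizer with `n ^ r` central, `r` an odd prime.
-/

namespace Cfsg.Agent.Helper5.XS

variable {F : Type*} [Field F]

local notation "II" => (Fin 2 ⊕ Fin 2)
local notation "MM" => Matrix (Fin 2 ⊕ Fin 2) (Fin 2 ⊕ Fin 2) F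
local notation "GG" => GL (Fin 2 ⊕ Fin 2) F

/-- an element of odd order modulo the centralizer of `R` inverts no element of `R`. -/
theorem not_inverts (h2 : (2 : F) ≠ 0) {R : Subgroup GG} {n : GG} {r : ℕ} (hr : Odd r)
    (hnr : ∀ a ∈ R, n ^ r * a = a * n ^ r) : ∀ a ∈ R, n * a * n⁻¹ ≠ -a := by
  intro a ha h
  have key : ∀ k : ℕ, (fun x => n * x * n⁻¹)^[k] a = if Even k then a else -a := by
    intro k
    induction k with
    | zero => simp
    | succ k ih =>
      rw [Function.iterate_succ_apply', ih]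
      by_cases hk : Even k
      · have : ¬ Even (k + 1) := by rw [Nat.even_add_one]; exact not_not.mpr hk
        rw [if_pos hk, if_neg this, h]
      · have : Even (k + 1) := by rw [Nat.even_add_one]; exact hk
        rw [if_neg hk, if_pos this, mul_neg, neg_mul, h, neg_neg]
  have h1 := key r
  rw [← conj_pow_eq, if_neg (Nat.not_even_iff_odd.mpr hr), hnr a ha] at h1
  have : a * n ^ r * (n ^ r)⁻¹ = a := by group
  rw [this] at h1
  exact neg_ne_self h2 a h1.symm

/-- if `n` centralizes `R` it is a scalar. -/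
theorem scalar_of_card_cent {R : Subgroup GG} (hR : XSData R) {n : GG}
    (hc : Nat.card ↥(R ⊓ Subgroup.centralizer {n}) = 32) : ∃ c : F, (n : MM) = c • (1 : MM) := by
  have hfin : Finite ↥R := Nat.finite_of_card_ne_zero (by rw [hR.card]; norm_num)
  have hle : R ⊓ Subgroup.centralizer {n} ≤ R := inf_le_left
  have heq : R ⊓ Subgroup.centralizer {n} = R := by
    apply Subgroup.eq_of_le_of_card_ge hle
    rw [hc, hR.card]
  apply hR.scalar_of_comm
  intro g hg
  have : g ∈ R ⊓ Subgroup.centralizer {n} := by rw [heq]; exact hg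
  have h1 := (mem_cent_iff.mp this).2
  have := congrArg (fun u : GG => (u : MM)) h1
  simpa using this

/-- the possible orders of the centralizer. -/
theorem card_cent_cases (h2 : (2 : F) ≠ 0) {R : Subgroup GG} (hR : XSData R) (n : GG) :
    Nat.card ↥(R ⊓ Subgroup.centralizer {n}) = 2 ∨ Nat.card ↥(R ⊓ Subgroup.centralizer {n}) = 4 ∨
    Nat.card ↥(R ⊓ Subgroup.centralizer {n}) = 8 ∨ Nat.card ↥(R ⊓ Subgroup.centralizer {n}) = 16 ∨
    Nat.card ↥(R ⊓ Subgroup.centralizer {n}) = 32 := by
  have h1 := card_cent_dvd hR n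
  have h3 := two_dvd_card_cent h2 hR n
  have hmem : Nat.card ↥(R ⊓ Subgroup.centralizer {n}) ∈ Nat.divisors 32 := by
    rw [Nat.mem_divisors]; exact ⟨h1, by norm_num⟩
  have hd : Nat.divisors 32 = {1, 2, 4, 8, 16, 32} := by decide
  rw [hd] at hmem
  simp only [Finset.mem_insert, Finset.mem_singleton] at hmem
  rcases hmem with h | h | h | h | h | h
  · rw [h] at h3; omega
  · exact Or.inl h
  · exact Or.inr (Or.inl h)
  · exact Or.inr (Or.inr (Or.inl h))
  · exact Or.inr (Or.inr (Or.inr (Or.inl h)))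
  · exact Or.inr (Or.inr (Or.inr (Or.inr h)))

/-- if the centralizer has order 2 it is `{±1}`. -/
theorem eq_of_card_cent_two (h2 : (2 : F) ≠ 0) {R : Subgroup GG} (hR : XSData R) {n : GG}
    (hc : Nat.card ↥(R ⊓ Subgroup.centralizer {n}) = 2) {e : GG} (he : e ∈ R) (hen : n * e = e * n) :
    e = 1 ∨ e = -1 := by
  classical
  have hfin : Finite ↥R := Nat.finite_of_card_ne_zero (by rw [hR.card]; norm_num)
  have hfin' : Finite ↥(R ⊓ Subgroup.centralizer {n}) :=
    Finite.of_injective (fun x : ↥(R ⊓ Subgroup.centralizer {n}) => (⟨x.1, x.2.1⟩ : ↥R))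
      (fun x y h => Subtype.ext (by simpa using congrArg Subtype.val h))
  have : Fintype ↥(R ⊓ Subgroup.centralizer {n}) := Fintype.ofFinite _
  by_contra hcon
  push Not at hcon
  have hmem : e ∈ R ⊓ Subgroup.centralizer {n} := mem_cent_iff.mpr ⟨he, hen⟩
  let x1 : ↥(R ⊓ Subgroup.centralizer {n}) := 1
  let x2 : ↥(R ⊓ Subgroup.centralizer {n}) := ⟨-1, neg_one_mem_cent hR n⟩
  let x3 : ↥(R ⊓ Subgroup.centralizer {n}) := ⟨e, hmem⟩
  have h12 : x1 ≠ x2 := fun h => one_ne_neg_one h2 (congrArg Subtype.val h)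
  have h13 : x1 ≠ x3 := fun h => hcon.1 (congrArg Subtype.val h).symm
  have h23 : x2 ≠ x3 := fun h => hcon.2 (congrArg Subtype.val h).symm
  have hcard : 3 ≤ Fintype.card ↥(R ⊓ Subgroup.centralizer {n}) := by
    have : ({x1, x2, x3} : Finset ↥(R ⊓ Subgroup.centralizer {n})).card = 3 := by
      rw [Finset.card_insert_of_notMem, Finset.card_insert_of_notMem, Finset.card_singleton]
      · simpa using h23
      · simp only [Finset.mem_insert, Finset.mem_singleton]; tauto
    rw [← this]
    exact Finset.card_le_univ _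
  rw [← Nat.card_eq_fintype_card, hc] at hcard
  omega

end Cfsg.Agent.Helper5.XS
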