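import Mathlib
import Cfsg.Agent.Helper5.XSCent

set_option autoImplicit false
set_option linter.unusedSectionVars false
set_option linter.unusedSimpArgs false
set_option linter.unusedVariables false
open scoped MatrixGroups Matrix

/-!
S6002: which elements of order 3, 5, ≥ 7 (modulo scalars) can normalize `R`.
-/

namespace Cfsg.Agent.Helper5.XS

variable {F : Type*} [Field F]

local notation "II" => (Fin 2 ⊕ Fin 2)
local notation "MM" => Matrix (Fin 2 ⊕ Fin 2) (Fin 2 ⊕ Fin 2) F
local notation "GG" => GL (Fin 2 ⊕ Fin 2) F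

theorem ne_of_anti (h2 : (2 : F) ≠ 0) {a b : GG} (hab : a * b = -(b * a)) : a ≠ 1 ∧ a ≠ -1 := by
  constructor
  · rintro rfl
    rw [one_mul, mul_one] at hab
    exact neg_ne_self h2 b hab.symm
  · rintro rfl
    rw [neg_mul, one_mul, mul_neg, mul_one, neg_neg] at hab
    exact neg_ne_self h2 b hab

/-- `r ≥ 7`: nothing but scalars. -/
theorem bad_large (h2 : (2 : F) ≠ 0) {R : Subgroup GG} (hR : XSData R) {n : GG}
    (hn : n ∈ Cfsg.Geo.subgroupNormalizer R) {r : ℕ} [hr : Fact r.Prime] (hr7 : 7 ≤ r)
    (hnr : ∀ a ∈ R, n ^ r * a = a * n ^ r) : ∃ c : F, (n : MM) = c • (1 : MM) := by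
  classical
  have hmod := card_cent_modEq hR hn hnr
  have hrp : r.Prime := hr.out
  have k30 : ¬ r ∣ 30 := by
    intro h
    have hle : r ≤ 30 := Nat.le_of_dvd (by norm_num) h
    interval_cases r <;> revert h hrp <;> decide
  have k24 : ¬ r ∣ 24 := by
    intro h
    have hle : r ≤ 24 := Nat.le_of_dvd (by norm_num) h
    interval_cases r <;> revert h hrp <;> decide
  have k16 : ¬ r ∣ 16 := by
    intro h
    have hle : r ≤ 16 := Nat.le_of_dvd (by norm_num) h
    interval_cases r <;> revert h hrp <;> decide
  have k28 : r ∣ 28 → r = 7 := by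
    intro h
    have hle : r ≤ 28 := Nat.le_of_dvd (by norm_num) h
    interval_cases r <;> first | rfl | (exfalso; revert h hrp; decide)
  have hsub : ∀ c : ℕ, c ≡ 32 [MOD r] → c ≤ 32 → r ∣ 32 - c := by
    intro c hc hle
    exact (Nat.modEq_iff_dvd' hle).mp hc
  rcases card_cent_cases h2 hR n with hc | hc | hc | hc | hc
  · exfalso
    have := hsub _ hmod (by rw [hc]; norm_num)
    rw [hc] at this
    exact k30 this
  · -- the case |C| = 4, r = 7
    exfalso
    have h28 := hsub _ hmod (by rw [hc]; norm_num)
    rw [hc] at h28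
    have hr7' : r = 7 := k28 h28
    subst hr7'
    -- an element a₀ of C different from ±1
    have hfinR : Finite ↥R := Nat.finite_of_card_ne_zero (by rw [hR.card]; norm_num)
    have hfinC : Finite ↥(R ⊓ Subgroup.centralizer {n}) :=
      Finite.of_injective (fun x : ↥(R ⊓ Subgroup.centralizer {n}) => (⟨x.1, x.2.1⟩ : ↥R))
        (fun x y h => Subtype.ext (by simpa using congrArg Subtype.val h))
    obtain ⟨a₀, ha₀C, ha₀1, ha₀2⟩ : ∃ a₀ ∈ R ⊓ Subgroup.centralizer {n}, a₀ ≠ 1 ∧ a₀ ≠ -1 := by
      by_contra hcon
      push Not at hcon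
      have : Fintype ↥(R ⊓ Subgroup.centralizer {n}) := Fintype.ofFinite _
      have hle : Fintype.card ↥(R ⊓ Subgroup.centralizer {n}) ≤ 2 := by
        let x1 : ↥(R ⊓ Subgroup.centralizer {n}) := 1
        let x2 : ↥(R ⊓ Subgroup.centralizer {n}) := ⟨-1, neg_one_mem_cent hR n⟩
        have : (Finset.univ : Finset ↥(R ⊓ Subgroup.centralizer {n})) ⊆ {x1, x2} := by
          intro x _
          simp only [Finset.mem_insert, Finset.mem_singleton]
          by_cases h1 : (x : GG) = 1
          · left; exact Subtype.ext h1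
          · right; exact Subtype.ext (hcon x.1 x.2 h1)
        calc Fintype.card _ = (Finset.univ : Finset ↥(R ⊓ Subgroup.centralizer {n})).card := rfl
          _ ≤ ({x1, x2} : Finset _).card := Finset.card_le_card this
          _ ≤ 2 := Finset.card_le_two
      rw [← Nat.card_eq_fintype_card, hc] at hle
      omega
    obtain ⟨ha₀R, ha₀n⟩ := mem_cent_iff.mp ha₀C
    -- D = C_R(a₀) has order 16
    obtain ⟨b₀, hb₀R, hab₀⟩ := hR.exists_anticomm ha₀R ha₀1 ha₀2
    set D : Subgroup GG := R ⊓ Subgroup.centralizer {a₀} with hD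
    have hDle : D ≤ R := inf_le_left
    have hfinD : Finite ↥D :=
      Finite.of_injective (fun x : ↥D => (⟨x.1, x.2.1⟩ : ↥R))
        (fun x y h => Subtype.ext (by simpa using congrArg Subtype.val h))
    have hD16 : Nat.card ↥D = 16 := by
      obtain ⟨T, hT, hTc⟩ := exists_finset hR
      have hsplit : (T.filter fun g => a₀ * g = g * a₀).card + (T.filter fun g => ¬ a₀ * g = g * a₀).card = 32 := by
        rw [Finset.card_filter_add_card_filter_not, hTc]
      have hbij : (T.filter fun g => a₀ * g = g * a₀).card = (T.filter fun g => ¬ a₀ * g = g * a₀).card := by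
        refine Finset.card_bij' (fun g _ => b₀ * g) (fun g _ => b₀⁻¹ * g) ?_ ?_ ?_ ?_
        · intro g hg
          rw [Finset.mem_filter] at hg ⊢
          refine ⟨(hT _).mpr (R.mul_mem hb₀R ((hT _).mp hg.1)), ?_⟩
          intro h
          have h1 : a₀ * (b₀ * g) = -(b₀ * g * a₀) := by
            calc a₀ * (b₀ * g) = (a₀ * b₀) * g := by group
              _ = -(b₀ * (a₀ * g)) := by rw [hab₀, neg_mul]; congr 1; group
              _ = -(b₀ * g * a₀) := by rw [hg.2]; congr 1; group
          rw [h1] at h
          exact neg_ne_self h2 _ h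
        · intro g hg
          rw [Finset.mem_filter] at hg ⊢
          have hgR : g ∈ R := (hT _).mp hg.1
          refine ⟨(hT _).mpr (R.mul_mem (R.inv_mem hb₀R) hgR), ?_⟩
          have hanti : a₀ * g = -(g * a₀) := by
            rcases hR.comm_or a₀ ha₀R g hgR with h | h
            · exact absurd h hg.2
            · exact h
          have hb' : a₀ * b₀⁻¹ = -(b₀⁻¹ * a₀) := by
            calc a₀ * b₀⁻¹ = b₀⁻¹ * (b₀ * a₀) * b₀⁻¹ := by group
              _ = b₀⁻¹ * (-(a₀ * b₀)) * b₀⁻¹ := by rw [hab₀, neg_neg]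
              _ = -(b₀⁻¹ * a₀) := by rw [mul_neg, neg_mul]; congr 1; group
          calc a₀ * (b₀⁻¹ * g) = (a₀ * b₀⁻¹) * g := by group
            _ = -(b₀⁻¹ * (a₀ * g)) := by rw [hb', neg_mul]; congr 1; group
            _ = b₀⁻¹ * g * a₀ := by rw [hanti, mul_neg, neg_neg]; group
        · intro g _; group
        · intro g _; group
      have hcardD : Nat.card ↥D = (T.filter fun g => a₀ * g = g * a₀).card := by
        have e : ((D : Subgroup GG) : Set GG) = ((T.filter fun g => a₀ * g = g * a₀ : Finset GG) : Set GG) := by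
          ext g
          simp only [hD, SetLike.mem_coe, mem_cent_iff, Finset.coe_filter, Set.mem_ofPred_eq, hT]
        calc Nat.card ↥D = Set.ncard ((D : Subgroup GG) : Set GG) := (Nat.card_coe_set_eq _)
          _ = _ := by rw [e, Set.ncard_coe_finset]
      omega
    -- n normalizes D and n^7 centralizes it
    have hnD : ∀ x ∈ D, n * x * n⁻¹ ∈ D := by
      intro x hx
      obtain ⟨hxR, hxa⟩ := mem_cent_iff.mp hx
      refine mem_cent_iff.mpr ⟨conj_mem_of_mem_normalizer hn hxR, ?_⟩
      have hna : n⁻¹ * a₀ = a₀ * n⁻¹ := by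
        calc n⁻¹ * a₀ = n⁻¹ * (a₀ * n) * n⁻¹ := by group
          _ = n⁻¹ * (n * a₀) * n⁻¹ := by rw [ha₀n]
          _ = a₀ * n⁻¹ := by group
      calc a₀ * (n * x * n⁻¹) = (a₀ * n) * x * n⁻¹ := by group
        _ = n * (a₀ * x) * n⁻¹ := by rw [← ha₀n]; group
        _ = n * x * (a₀ * n⁻¹) := by rw [hxa]; group
        _ = n * x * n⁻¹ * a₀ := by rw [← hna]; group
    have hmodD := card_cent_modEq' D hfinD hnD (fun x hx => hnr x (hDle hx))
    rw [hD16] at hmodD
    -- D ∩ C(n) = C
    have hCD : D ⊓ Subgroup.centralizer {n} = R ⊓ Subgroup.centralizer {n} := by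
      apply le_antisymm
      · exact inf_le_inf_right _ hDle
      · intro x hx
        refine Subgroup.mem_inf.mpr ⟨?_, (Subgroup.mem_inf.mp hx).2⟩
        obtain ⟨hxR, hxn⟩ := mem_cent_iff.mp hx
        refine mem_cent_iff.mpr ⟨hxR, ?_⟩
        -- x ∈ C, C has order 4 and contains ±1, ±a₀: x is one of them
        by_contra hne
        have hanti : a₀ * x = -(x * a₀) := by
          rcases hR.comm_or a₀ ha₀R x hxR with h | h
          · exact absurd h hne
          · exact h
        -- then 1, -1, a₀, -a₀, x are five distinct elements of C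
        have : Fintype ↥(R ⊓ Subgroup.centralizer {n}) := Fintype.ofFinite _
        have hmemneg : ∀ y ∈ R ⊓ Subgroup.centralizer {n}, -y ∈ R ⊓ Subgroup.centralizer {n} := by
          intro y hy
          obtain ⟨hyR, hyn⟩ := mem_cent_iff.mp hy
          exact mem_cent_iff.mpr ⟨hR.neg_mem hyR, by rw [mul_neg, neg_mul, hyn]⟩
        let y1 : ↥(R ⊓ Subgroup.centralizer {n}) := 1
        let y2 : ↥(R ⊓ Subgroup.centralizer {n}) := ⟨-1, neg_one_mem_cent hR n⟩
        let y3 : ↥(R ⊓ Subgroup.centralizer {n}) := ⟨a₀, ha₀C⟩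
        let y4 : ↥(R ⊓ Subgroup.centralizer {n}) := ⟨-a₀, hmemneg _ ha₀C⟩
        let y5 : ↥(R ⊓ Subgroup.centralizer {n}) := ⟨x, hx⟩
        have hx1 : x ≠ 1 := by rintro rfl; exact hne (by simp)
        have hx2 : x ≠ -1 := by rintro rfl; exact hne (by simp)
        have hx3 : x ≠ a₀ := by rintro rfl; exact hne rfl
        have hx4 : x ≠ -a₀ := by rintro rfl; exact hne (by simp)
        have hcard5 : 5 ≤ Fintype.card ↥(R ⊓ Subgroup.centralizer {n}) := by
          have hc5 : ({y1, y2, y3, y4, y5} : Finset ↥(R ⊓ Subgroup.centralizer {n})).card = 5 := by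
            have e12 : y1 ≠ y2 := fun h => one_ne_neg_one h2 (congrArg Subtype.val h)
            have e13 : y1 ≠ y3 := fun h => ha₀1 (congrArg Subtype.val h).symm
            have e14 : y1 ≠ y4 := fun h => ha₀2 (by
              have := congrArg Subtype.val h
              have h' : (1 : GG) = -a₀ := this
              rw [h', neg_neg])
            have e15 : y1 ≠ y5 := fun h => hx1 (congrArg Subtype.val h).symm
            have e23 : y2 ≠ y3 := fun h => ha₀2 (congrArg Subtype.val h).symm
            have e24 : y2 ≠ y4 := fun h => ha₀1 (by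
              have := congrArg Subtype.val h
              have h' : (-1 : GG) = -a₀ := this
              exact (neg_injective h').symm)
            have e25 : y2 ≠ y5 := fun h => hx2 (congrArg Subtype.val h).symm
            have e34 : y3 ≠ y4 := fun h => neg_ne_self h2 a₀ (congrArg Subtype.val h).symm
            have e35 : y3 ≠ y5 := fun h => hx3 (congrArg Subtype.val h).symm
            have e45 : y4 ≠ y5 := fun h => hx4 (congrArg Subtype.val h).symm
            rw [Finset.card_insert_of_notMem, Finset.card_insert_of_notMem, Finset.card_insert_of_notMem,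
              Finset.card_insert_of_notMem, Finset.card_singleton]
            · simpa using e45
            · simp only [Finset.mem_insert, Finset.mem_singleton]; tauto
            · simp only [Finset.mem_insert, Finset.mem_singleton]; tauto
            · simp only [Finset.mem_insert, Finset.mem_singleton]; tauto
          rw [← hc5]
          exact Finset.card_le_univ _
        rw [← Nat.card_eq_fintype_card, hc] at hcard5
        omega
    rw [hCD, hc] at hmodD
    revert hmodD
    decide
  · exfalso
    have := hsub _ hmod (by rw [hc]; norm_num)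
    rw [hc] at this
    exact k24 this
  · exfalso
    have := hsub _ hmod (by rw [hc]; norm_num)
    rw [hc] at this
    exact k16 this
  · exact scalar_of_card_cent hR hc

end Cfsg.Agent.Helper5.XS
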