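import Mathlib
import Cfsg.Agent.Helper5.XSBadA

set_option autoImplicit false
set_option linter.unusedSectionVars false
set_option linter.unusedSimpArgs false
set_option linter.unusedVariables false
open scoped MatrixGroups Matrix

/-!
S6002: elements of order 3 and 5 of the normalizer of `R`: their traces.
-/

namespace Cfsg.Agent.Helper5.XS

variable {F : Type*} [Field F]

local notation "II" => (Fin 2 ⊕ Fin 2)
local notation "MM" => Matrix (Fin 2 ⊕ Fin 2) (Fin 2 ⊕ Fin 2) F
local notation "GG" => GL (Fin 2 ⊕ Fin 2) F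

/-- `r = 5`: a non-scalar `n` with `n ^ 5` central has `tr n · tr n⁻¹ = 1`. -/
theorem trace_of_five (h2 : (2 : F) ≠ 0) {R : Subgroup GG} (hR : XSData R) {n : GG}
    (hn : n ∈ Cfsg.Geo.subgroupNormalizer R) (hnr : ∀ a ∈ R, n ^ 5 * a = a * n ^ 5)
    (hns : ∀ c : F, (n : MM) ≠ c • (1 : MM)) :
    Matrix.trace (n : MM) * Matrix.trace ((n⁻¹ : GG) : MM) = 1 := by
  have : Fact (Nat.Prime 5) := ⟨Nat.prime_five⟩
  have hmod := card_cent_modEq hR hn hnr
  have hodd := not_inverts h2 (r := 5) (by decide) hnr
  have htr := card_centralizer_eq h2 hR hn hodd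
  rcases card_cent_cases h2 hR n with hc | hc | hc | hc | hc
  · rw [hc] at htr
    have : (2 : F) * (Matrix.trace (n : MM) * Matrix.trace ((n⁻¹ : GG) : MM)) = 2 * 1 := by
      rw [mul_one]
      have : ((2 : ℕ) : F) = 2 := by norm_num
      rw [this] at htr
      linear_combination -htr
    exact mul_left_cancel₀ h2 this
  · rw [hc] at hmod; exact absurd hmod (by decide)
  · rw [hc] at hmod; exact absurd hmod (by decide)
  · rw [hc] at hmod; exact absurd hmod (by decide)
  · obtain ⟨c, hc'⟩ := scalar_of_card_cent hR hc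
    exact absurd hc' (hns c)

/-- `r = 3`: a non-scalar `n` with `n ^ 3` central has `tr n · tr n⁻¹ = 4`. -/
theorem trace_of_three (h2 : (2 : F) ≠ 0) {R : Subgroup GG} (hR : XSData R) {n : GG}
    (hn : n ∈ Cfsg.Geo.subgroupNormalizer R) (hn3 : n ^ 3 = 1)
    (hns : ∀ c : F, (n : MM) ≠ c • (1 : MM)) :
    Matrix.trace (n : MM) * Matrix.trace ((n⁻¹ : GG) : MM) = 4 := by
  have : Fact (Nat.Prime 3) := ⟨Nat.prime_three⟩
  have hnr : ∀ a ∈ R, n ^ 3 * a = a * n ^ 3 := by
    intro a _; rw [hn3, one_mul, mul_one]
  have hmod := card_cent_modEq hR hn hnr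
  have hodd := not_inverts h2 (r := 3) (by decide) hnr
  have htr := card_centralizer_eq h2 hR hn hodd
  rcases card_cent_cases h2 hR n with hc | hc | hc | hc | hc
  · -- fixed point free: impossible
    exfalso
    obtain ⟨a, ha, b, hb, c, hcR, d, hd, haa, hbb, hab, -⟩ := hR.gens
    obtain ⟨ha1, ha2⟩ := ne_of_anti h2 hab
    set a1 := n * a * n⁻¹ with ha1d
    set a2 := n * a1 * n⁻¹ with ha2d
    have hR1 : a1 ∈ R := conj_mem_of_mem_normalizer hn ha
    have hR2 : a2 ∈ R := conj_mem_of_mem_normalizer hn hR1
    have h11 : a1 * a1 = 1 := by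
      calc a1 * a1 = n * (a * a) * n⁻¹ := by rw [ha1d]; group
        _ = 1 := by rw [haa]; group
    have h22 : a2 * a2 = 1 := by
      calc a2 * a2 = n * (a1 * a1) * n⁻¹ := by rw [ha2d]; group
        _ = 1 := by rw [h11]; group
    have h3a : n * a2 * n⁻¹ = a := by
      calc n * a2 * n⁻¹ = n * (n * (n * a * n⁻¹) * n⁻¹) * n⁻¹ := by rw [ha2d, ha1d]
        _ = (n * n * n) * a * (n * n * n)⁻¹ := by group
        _ = a := by
          have hn3' : n * n * n = 1 := by rw [← hn3]; simp [pow_succ]
          rw [hn3']; group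
    set e := a * a1 * a2 with hed
    have heR : e ∈ R := R.mul_mem (R.mul_mem ha hR1) hR2
    have hne : n * e * n⁻¹ = a1 * a2 * a := by
      calc n * e * n⁻¹ = (n * a * n⁻¹) * (n * a1 * n⁻¹) * (n * a2 * n⁻¹) := by rw [hed]; group
        _ = a1 * a2 * a := by rw [h3a]
    -- a1 * a2 * a = ± e
    have hsign : a1 * a2 * a = e ∨ a1 * a2 * a = -e := by
      rcases hR.comm_or a2 hR2 a ha with h1 | h1 <;> rcases hR.comm_or a1 hR1 a ha with h3 | h3
      · left
        calc a1 * a2 * a = a1 * (a2 * a) := by group
          _ = (a1 * a) * a2 := by rw [h1]; group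
          _ = e := by rw [h3]
      · right
        calc a1 * a2 * a = a1 * (a2 * a) := by group
          _ = (a1 * a) * a2 := by rw [h1]; group
          _ = -e := by rw [h3, neg_mul]
      · right
        calc a1 * a2 * a = a1 * (a2 * a) := by group
          _ = -((a1 * a) * a2) := by rw [h1, mul_neg]; congr 1; group
          _ = -e := by rw [h3]
      · left
        calc a1 * a2 * a = a1 * (a2 * a) := by group
          _ = -((a1 * a) * a2) := by rw [h1, mul_neg]; congr 1; group
          _ = e := by rw [h3, neg_mul, neg_neg]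
    have hfix : n * e = e * n := by
      rcases hsign with h | h
      · calc n * e = (n * e * n⁻¹) * n := by group
          _ = e * n := by rw [hne, h]
      · exact absurd (hne.trans h) (hodd e heR)
    have he1 := eq_of_card_cent_two h2 hR hc heR hfix
    -- a1 * a2 = ± a, so a1 and a2 commute
    have h12 : a1 * a2 = a ∨ a1 * a2 = -a := by
      have : a1 * a2 = a * e := by
        calc a1 * a2 = (a * a) * (a1 * a2) := by rw [haa, one_mul]
          _ = a * e := by rw [hed]; group
      rcases he1 with h | h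
      · left; rw [this, h, mul_one]
      · right; rw [this, h, mul_neg, mul_one]
    have hcomm : a1 * a2 = a2 * a1 := by
      have hsq : (a1 * a2) * (a1 * a2) = 1 := by
        rcases h12 with h | h
        · rw [h, haa]
        · rw [h, neg_mul_neg, haa]
      calc a1 * a2 = a2 * a2 * (a1 * a2) * (a1 * a1) := by rw [h22, h11]; group
        _ = a2 * (a2 * a1 * (a2 * a1)) * a1 := by group
        _ = a2 * a1 := by
          have : a2 * a1 * (a2 * a1) = 1 := by
            calc a2 * a1 * (a2 * a1) = a2 * ((a1 * a2) * (a1 * a2)) * a2⁻¹ := by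
                  group
              _ = 1 := by rw [hsq]; group
          rw [this]; group
    have hconj1 : ∀ s : GG, a1 = s → a = n⁻¹ * s * n := by
      intro s hs
      rw [← hs, ha1d]; group
    rcases hR.no_eight a1 hR1 a2 hR2 h11 h22 hcomm with h | h | h | h | h | h
    · apply ha1
      rw [hconj1 _ h]; group
    · apply ha2
      rw [hconj1 _ h]
      simp
    · apply ha1
      have : a1 = 1 := by
        rw [ha2d] at h
        calc a1 = n⁻¹ * (n * a1 * n⁻¹) * n := by group
          _ = 1 := by rw [h]; group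
      rw [hconj1 _ this]; group
    · apply ha2
      have : a1 = -1 := by
        rw [ha2d] at h
        calc a1 = n⁻¹ * (n * a1 * n⁻¹) * n := by group
          _ = -1 := by rw [h]; simp
      rw [hconj1 _ this]; simp
    · -- a1 = a2 : then a = a1, a centralized by n
      have haa1 : a = a1 := by
        rw [ha2d] at h
        calc a = n⁻¹ * a1 * n := hconj1 _ rfl
          _ = n⁻¹ * (n * a1 * n⁻¹) * n := by rw [← h]
          _ = a1 := by group
      have hfixa : n * a = a * n := by
        calc n * a = (n * a * n⁻¹) * n := by group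
          _ = a * n := by rw [← ha1d, ← haa1]
      rcases eq_of_card_cent_two h2 hR hc ha hfixa with h' | h'
      · exact ha1 h'
      · exact ha2 h'
    · -- a1 = -a2 : then n a n⁻¹ = -a
      have haa1 : a = -a1 := by
        rw [ha2d] at h
        calc a = n⁻¹ * a1 * n := hconj1 _ rfl
          _ = n⁻¹ * (-(n * a1 * n⁻¹)) * n := by rw [← h]
          _ = -a1 := by rw [mul_neg, neg_mul]; congr 1; group
      apply hodd a ha
      rw [← ha1d, haa1, neg_neg]
  · rw [hc] at hmod; exact absurd hmod (by decide)
  · rw [hc] at htr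
    have h8 : ((8 : ℕ) : F) = 8 := by norm_num
    rw [h8] at htr
    have : (2 : F) * (Matrix.trace (n : MM) * Matrix.trace ((n⁻¹ : GG) : MM)) = 2 * 4 := by
      linear_combination -htr
    exact mul_left_cancel₀ h2 this
  · rw [hc] at hmod; exact absurd hmod (by decide)
  · obtain ⟨c, hc'⟩ := scalar_of_card_cent hR hc
    exact absurd hc' (hns c)

end Cfsg.Agent.Helper5.XS
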