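import Mathlib
import Cfsg.Agent.S0270
import Cfsg.Agent.Helper5.XSDef

set_option autoImplicit false
set_option linter.unusedSectionVars false
set_option linter.unusedSimpArgs false
set_option linter.unusedVariables false
open scoped MatrixGroups Matrix

/-!
S6002: explicit elements of `Sp_4(F)`: the block embedding of `SL_2(F)`.
-/

namespace Cfsg.Agent.Helper5.XS

variable {F : Type*} [Field F]

local notation "II" => (Fin 2 ⊕ Fin 2)
local notation "MM" => Matrix (Fin 2 ⊕ Fin 2) (Fin 2 ⊕ Fin 2) F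
local notation "GG" => GL (Fin 2 ⊕ Fin 2) F
local notation "M2" => Matrix (Fin 2) (Fin 2) F

/-- The block embedding `m ↦ m ⊕ 1` of `2 × 2` matrices. -/
def emb (m : M2) : MM :=
  Matrix.fromBlocks (Matrix.diagonal ![m 0 0, 1]) (Matrix.diagonal ![m 0 1, 0])
    (Matrix.diagonal ![m 1 0, 0]) (Matrix.diagonal ![m 1 1, 1])

theorem diag_one : (Matrix.diagonal ![(1 : F), 1] : M2) = 1 := by
  ext i j; fin_cases i <;> fin_cases j <;> simp

theorem diag_zero : (Matrix.diagonal ![(0 : F), 0] : M2) = 0 := by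
  ext i j; fin_cases i <;> fin_cases j <;> simp

theorem emb_one : emb (1 : M2) = (1 : MM) := by
  unfold emb
  simp only [Matrix.one_apply_eq, ne_eq, zero_ne_one, one_ne_zero, not_false_eq_true, Matrix.one_apply_ne,
    diag_one, diag_zero, Matrix.fromBlocks_one]

theorem diag_mul_add (a b c d : F) :
    (Matrix.diagonal ![a, 1] : M2) * Matrix.diagonal ![b, 1] + Matrix.diagonal ![c, 0] * Matrix.diagonal ![d, 0] =
      Matrix.diagonal ![a * b + c * d, 1] := by
  ext i j; fin_cases i <;> fin_cases j <;> simp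

theorem diag_mul_add' (a b c d : F) :
    (Matrix.diagonal ![a, 1] : M2) * Matrix.diagonal ![b, 0] + Matrix.diagonal ![c, 0] * Matrix.diagonal ![d, 1] =
      Matrix.diagonal ![a * b + c * d, 0] := by
  ext i j; fin_cases i <;> fin_cases j <;> simp

theorem diag_mul_add'' (a b c d : F) :
    (Matrix.diagonal ![a, 0] : M2) * Matrix.diagonal ![b, 1] + Matrix.diagonal ![c, 1] * Matrix.diagonal ![d, 0] =
      Matrix.diagonal ![a * b + c * d, 0] := by
  ext i j; fin_cases i <;> fin_cases j <;> simp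

theorem diag_mul_add''' (a b c d : F) :
    (Matrix.diagonal ![a, 0] : M2) * Matrix.diagonal ![b, 0] + Matrix.diagonal ![c, 1] * Matrix.diagonal ![d, 1] =
      Matrix.diagonal ![a * b + c * d, 1] := by
  ext i j; fin_cases i <;> fin_cases j <;> simp

theorem emb_mul (m m' : M2) : emb (m * m') = emb m * emb m' := by
  unfold emb
  rw [Matrix.fromBlocks_multiply, diag_mul_add, diag_mul_add', diag_mul_add'', diag_mul_add''']
  simp only [Matrix.mul_apply, Fin.sum_univ_two]

theorem emb_pow (m : M2) (n : ℕ) : emb (m ^ n) = emb m ^ n := by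
  induction n with
  | zero => rw [pow_zero, pow_zero, emb_one]
  | succ n ih => rw [pow_succ, pow_succ, emb_mul, ih]

theorem emb_trace (m : M2) : Matrix.trace (emb m) = Matrix.trace m + 2 := by
  unfold emb
  simp only [Matrix.trace, Matrix.diag_apply, Fintype.sum_sum_type, Fin.sum_univ_two,
    Matrix.fromBlocks_apply₁₁, Matrix.fromBlocks_apply₂₂, Matrix.diagonal_apply_eq]
  simp
  ring

theorem emb_not_scalar (m : M2) (h : m 0 1 ≠ 0) (c : F) : emb m ≠ c • (1 : MM) := by
  intro h'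
  have := congrFun (congrFun h' (Sum.inl 0)) (Sum.inr 0)
  simp [emb] at this
  exact h this

theorem emb_mem_symplectic (m : M2) (hdet : m 0 0 * m 1 1 - m 0 1 * m 1 0 = 1) :
    emb m ∈ Matrix.symplecticGroup (Fin 2) F := by
  unfold emb
  rw [SymplecticGroup.fromBlocks_mem_iff]
  simp only [Matrix.diagonal_transpose]
  refine ⟨?_, ?_, ?_⟩
  · ext i j; fin_cases i <;> fin_cases j <;> simp [mul_comm]
  · ext i j; fin_cases i <;> fin_cases j <;> simp [mul_comm]
  · ext i j; fin_cases i <;> fin_cases j <;> simp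
    linear_combination hdet

/-- The companion matrix of `X² - τ X + 1`. -/
def YY (τ : F) : M2 := !![0, -1; 1, τ]

/-- Its inverse. -/
def YI (τ : F) : M2 := !![τ, 1; -1, 0]

theorem YY_mul_YI (τ : F) : YY τ * YI τ = 1 := by
  unfold YY YI
  rw [Matrix.mul_fin_two, Matrix.one_fin_two]
  congr 1 <;> simp

theorem YY_cube : YY (-1 : F) ^ 3 = 1 := by
  unfold YY
  rw [pow_succ, pow_two, Matrix.mul_fin_two, Matrix.mul_fin_two, Matrix.one_fin_two]
  simp

theorem YY_five {τ : F} (hτ : τ * τ + τ - 1 = 0) : YY τ ^ 5 = 1 := by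
  have h2 : YY τ ^ 2 = !![-1, -τ; τ, τ * τ - 1] := by
    unfold YY
    rw [pow_two, Matrix.mul_fin_two]
    simp
    ring_nf
  have h4 : YY τ ^ 4 = !![τ, 1; -1, 0] := by
    have : YY τ ^ 4 = YY τ ^ 2 * YY τ ^ 2 := by rw [← pow_add]
    rw [this, h2, Matrix.mul_fin_two]
    congr 1
    ext i j; fin_cases i <;> fin_cases j <;> simp
    · linear_combination (-1 : F) * hτ
    · linear_combination (1 - τ) * hτ
    · linear_combination (τ - 1) * hτ
    · linear_combination (τ * τ - τ - 1) * hτ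
  have : YY τ ^ 5 = YY τ ^ 4 * YY τ := by rw [← pow_succ]
  rw [this, h4]
  unfold YY
  rw [Matrix.mul_fin_two, Matrix.one_fin_two]
  congr 1
  ext i j; fin_cases i <;> fin_cases j <;> simp

/-- The element `YY τ ⊕ 1` of the symplectic group. -/
noncomputable def XX (τ : F) : GG :=
  ((Cfsg.Agent.S0270.toSpGLHom 2 F ⟨emb (YY τ), emb_mem_symplectic _ (by simp [YY])⟩ :
    ↥(Cfsg.spGL 2 F)) : GG)

theorem XX_mem (τ : F) : XX τ ∈ Cfsg.spGL 2 F := SetLike.coe_mem _

theorem XX_val (τ : F) : ((XX τ : GG) : MM) = emb (YY τ) := rfl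

theorem XX_pow (τ : F) (n : ℕ) (h : YY τ ^ n = 1) : XX τ ^ n = 1 := by
  apply Units.ext
  rw [Units.val_pow_eq_pow_val, XX_val, ← emb_pow, h, emb_one]
  rfl

theorem XX_inv_val (τ : F) : (((XX τ)⁻¹ : GG) : MM) = emb (YI τ) := by
  rw [Matrix.coe_units_inv, XX_val]
  apply Matrix.inv_eq_right_inv
  rw [← emb_mul, YY_mul_YI, emb_one]

theorem XX_trace (τ : F) : Matrix.trace ((XX τ : GG) : MM) = τ + 2 := by
  rw [XX_val, emb_trace, Matrix.trace_fin_two]
  simp [YY]

theorem XX_inv_trace (τ : F) : Matrix.trace (((XX τ)⁻¹ : GG) : MM) = τ + 2 := by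
  rw [XX_inv_val, emb_trace, Matrix.trace_fin_two]
  simp [YI]

theorem XX_not_scalar (τ c : F) : ((XX τ : GG) : MM) ≠ c • (1 : MM) := by
  rw [XX_val]
  apply emb_not_scalar
  simp [YY]

end Cfsg.Agent.Helper5.XS
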