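import Mathlib
import Cfsg.Agent.Helper5.XSDef

set_option autoImplicit false
set_option linter.unusedSectionVars false
set_option linter.unusedSimpArgs false
set_option linter.unusedVariables false
open scoped MatrixGroups Matrix

/-!
S6002: small general facts on `Sp_4(F)` and scalars.
-/

namespace Cfsg.Agent.Helper5.XS

variable {F : Type*} [Field F]

local notation "II" => (Fin 2 ⊕ Fin 2)
local notation "MM" => Matrix (Fin 2 ⊕ Fin 2) (Fin 2 ⊕ Fin 2) F
local notation "GG" => GL (Fin 2 ⊕ Fin 2) F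

theorem neg_one_mem_spGL : (-1 : GG) ∈ Cfsg.spGL 2 F := by
  intro u v
  show Cfsg.sympForm 2 F (((-1 : GG) : MM) *ᵥ u) (((-1 : GG) : MM) *ᵥ v) = Cfsg.sympForm 2 F u v
  simp [Cfsg.sympForm, Matrix.neg_mulVec, Matrix.mulVec_neg]

theorem exists_sympForm_ne_zero : ∃ u v : II → F, Cfsg.sympForm 2 F u v ≠ 0 := by
  refine ⟨Pi.single (Sum.inr 0) 1, Pi.single (Sum.inl 0) 1, ?_⟩
  simp [Cfsg.sympForm, Matrix.J, Matrix.mulVec, dotProduct, Matrix.fromBlocks]

/-- a scalar in `Sp` is `±1`. -/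
theorem scalar_sq_of_mem {x : GG} (hx : x ∈ Cfsg.spGL 2 F) {z : F} (hz : (x : MM) = z • (1 : MM)) :
    z = 1 ∨ z = -1 := by
  obtain ⟨u, v, huv⟩ := exists_sympForm_ne_zero (F := F)
  have h := hx u v
  change Cfsg.sympForm 2 F ((x : MM) *ᵥ u) ((x : MM) *ᵥ v) = Cfsg.sympForm 2 F u v at h
  rw [hz] at h
  simp only [Matrix.smul_mulVec, Matrix.one_mulVec] at h
  have h' : z * z * Cfsg.sympForm 2 F u v = Cfsg.sympForm 2 F u v := by
    have e : Cfsg.sympForm 2 F (z • u) (z • v) = z * z * Cfsg.sympForm 2 F u v := by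
      unfold Cfsg.sympForm
      rw [Matrix.mulVec_smul, smul_dotProduct, dotProduct_smul, smul_eq_mul, smul_eq_mul, mul_assoc]
    rw [← e]
    exact h
  have hzz : z * z = 1 := by
    have : (z * z - 1) * Cfsg.sympForm 2 F u v = 0 := by linear_combination h'
    rcases mul_eq_zero.mp this with h1 | h1
    · linear_combination h1
    · exact absurd h1 huv
  have : (z - 1) * (z + 1) = 0 := by linear_combination hzz
  rcases mul_eq_zero.mp this with h1 | h1
  · exact Or.inl (sub_eq_zero.mp h1)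
  · exact Or.inr (eq_neg_of_add_eq_zero_left h1)

/-- conjugates of scalars are scalars. -/
theorem scalar_of_conj_scalar {x g : GG} {c : F} (h : ((g⁻¹ * x * g : GG) : MM) = c • (1 : MM)) :
    (x : MM) = c • (1 : MM) := by
  have hx : x = g * (g⁻¹ * x * g) * g⁻¹ := by group
  have : (x : MM) = (g : MM) * ((g⁻¹ * x * g : GG) : MM) * ((g⁻¹ : GG) : MM) := by
    conv_lhs => rw [hx]
    simp only [Units.val_mul]
  rw [this, h, Matrix.mul_smul, Matrix.mul_one, Matrix.smul_mul, ← Units.val_mul, mul_inv_cancel]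
  rfl

theorem conj_pow' (x g : GG) (k : ℕ) : (g⁻¹ * x * g) ^ k = g⁻¹ * x ^ k * g := by
  induction k with
  | zero => simp
  | succ k ih => rw [pow_succ, ih, pow_succ]; group

theorem conj_inv' (x g : GG) : (g⁻¹ * x * g)⁻¹ = g⁻¹ * x⁻¹ * g := by group

theorem trace_conj (x g : GG) : Matrix.trace ((g⁻¹ * x * g : GG) : MM) = Matrix.trace (x : MM) := by
  simp only [Units.val_mul]
  exact Matrix.trace_units_conj' g (x : MM)

end Cfsg.Agent.Helper5.XS
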