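import Mathlib

set_option autoImplicit false
set_option linter.unusedSectionVars false
set_option linter.unusedSimpArgs false
set_option linter.unusedVariables false

/-!
S6002: a root of `X² + X - 1` in `F_p` when `p ≡ ±1 (mod 5)`.
-/

namespace Cfsg.Agent.Helper5.XS

theorem orderOf_two_zmod5 : orderOf (2 : ZMod 5) = 4 := by
  rw [orderOf_eq_iff (by norm_num)]
  refine ⟨by decide, ?_⟩
  intro m hm hm0
  interval_cases m <;> decide

theorem orderOf_three_zmod5 : orderOf (3 : ZMod 5) = 4 := by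
  rw [orderOf_eq_iff (by norm_num)]
  refine ⟨by decide, ?_⟩
  intro m hm hm0
  interval_cases m <;> decide

theorem mod_five_of_order {p : ℕ} (hp : p.Prime) (hp5 : p ≠ 5) (h : orderOf (p : ZMod 5) ≠ 4) :
    p % 5 = 1 ∨ p % 5 = 4 := by
  have hc : (p : ZMod 5) = ((p % 5 : ℕ) : ZMod 5) := by
    rw [ZMod.natCast_mod]
  have hlt : p % 5 < 5 := Nat.mod_lt _ (by norm_num)
  rw [hc] at h
  interval_cases hm : p % 5
  · exfalso
    have : 5 ∣ p := Nat.dvd_of_mod_eq_zero hm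
    exact hp5 ((Nat.prime_dvd_prime_iff_eq Nat.prime_five hp).mp this).symm
  · left; rfl
  · exfalso; apply h; exact_mod_cast orderOf_two_zmod5
  · exfalso; apply h; exact_mod_cast orderOf_three_zmod5
  · right; rfl

theorem four_eq_zmod5 : ((4 : ℕ) : ZMod 5) = 2 * 2 := by decide

theorem isSquare_five {p : ℕ} [hp : Fact p.Prime] (hp2 : p ≠ 2) (hp5 : p ≠ 5)
    (h : orderOf (p : ZMod 5) ≠ 4) : IsSquare ((5 : ℕ) : ZMod p) := by
  have : Fact (Nat.Prime 5) := ⟨Nat.prime_five⟩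
  rw [← ZMod.exists_sq_eq_prime_iff_of_mod_four_eq_one (p := 5) (q := p) (by norm_num) hp2]
  have hc : (p : ZMod 5) = ((p % 5 : ℕ) : ZMod 5) := by
    rw [ZMod.natCast_mod]
  rw [hc]
  rcases mod_five_of_order hp.out hp5 h with h1 | h1
  · rw [h1]; exact ⟨1, by simp⟩
  · rw [h1]; refine ⟨2, ?_⟩
    exact four_eq_zmod5

theorem exists_tau {F : Type*} [Field F] {p : ℕ} [hp : Fact p.Prime] [CharP F p] (h2 : (2 : F) ≠ 0)
    (hp5 : p ≠ 5) (h : orderOf (p : ZMod 5) ≠ 4) : ∃ τ : F, τ * τ + τ - 1 = 0 := by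
  have hp2 : p ≠ 2 := by
    rintro rfl
    apply h2
    have := CharP.cast_eq_zero F 2
    exact_mod_cast this
  obtain ⟨s, hs⟩ := isSquare_five hp2 hp5 h
  let φ := ZMod.castHom (dvd_refl p) F
  have hs' : (5 : F) = φ s * φ s := by
    rw [← map_mul, ← hs]
    simp only [Nat.cast_ofNat, map_ofNat]
  refine ⟨(φ s - 1) / 2, ?_⟩
  field_simp
  linear_combination -hs'

end Cfsg.Agent.Helper5.XS
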