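import Mathlib
import Cfsg.Agent.Helper5.XSCent

set_option autoImplicit false
set_option linter.unusedSectionVars false
set_option linter.unusedSimpArgs false
set_option linter.unusedVariables false
open scoped MatrixGroups Matrix

/-!
S6002: no transvection normalizes the extraspecial group `R`.
-/

namespace Cfsg.Agent.Helper5.XS

variable {F : Type*} [Field F]

local notation "II" => (Fin 2 ⊕ Fin 2)
local notation "MM" => Matrix (Fin 2 ⊕ Fin 2) (Fin 2 ⊕ Fin 2) F
local notation "GG" => GL (Fin 2 ⊕ Fin 2) F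

/-- three linear conditions on a 4-space have a common nonzero solution. -/
theorem exists_common_zero (r₁ r₂ r₃ : II → F) :
    ∃ v : II → F, v ≠ 0 ∧ r₁ ⬝ᵥ v = 0 ∧ r₂ ⬝ᵥ v = 0 ∧ r₃ ⬝ᵥ v = 0 := by
  classical
  let M : MM := Matrix.of fun i j =>
    if i = Sum.inl 0 then r₁ j else if i = Sum.inl 1 then r₂ j else if i = Sum.inr 0 then r₃ j else 0
  have hdet : M.det = 0 := Matrix.det_eq_zero_of_row_eq_zero (Sum.inr 1) (fun j => by simp [M])
  obtain ⟨v, hv, hMv⟩ := Matrix.exists_mulVec_eq_zero_iff.mpr hdet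
  refine ⟨v, hv, ?_, ?_, ?_⟩
  · have := congrFun hMv (Sum.inl 0)
    simpa [Matrix.mulVec, M, dotProduct] using this
  · have := congrFun hMv (Sum.inl 1)
    simpa [Matrix.mulVec, M, dotProduct] using this
  · have := congrFun hMv (Sum.inr 0)
    simpa [Matrix.mulVec, M, dotProduct] using this

theorem inv_mulVec_mulVec (g : GG) (v : II → F) : ((g⁻¹ : GG) : MM) *ᵥ ((g : MM) *ᵥ v) = v := by
  rw [Matrix.mulVec_mulVec, ← Units.val_mul, inv_mul_cancel, Units.val_one, Matrix.one_mulVec]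

theorem mulVec_inv_mulVec (g : GG) (v : II → F) : (g : MM) *ᵥ (((g⁻¹ : GG) : MM) *ᵥ v) = v := by
  rw [Matrix.mulVec_mulVec, ← Units.val_mul, mul_inv_cancel, Units.val_one, Matrix.one_mulVec]

theorem fix_inv {g : GG} {v : II → F} (h : (g : MM) *ᵥ v = v) : ((g⁻¹ : GG) : MM) *ᵥ v = v := by
  conv_lhs => rw [← h]
  exact inv_mulVec_mulVec g v

theorem eq_zero_of_eq_neg (h2 : (2 : F) ≠ 0) {v : II → F} (h : v = -v) : v = 0 := by
  have h' : (2 : F) • v = 0 := by
    rw [two_smul]
    nth_rewrite 2 [h]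
    exact add_neg_cancel v
  rcases smul_eq_zero.mp h' with h'' | h''
  · exact absurd h'' h2
  · exact h''

/-- the commutator `t a t⁻¹ a⁻¹`. -/
def cm (t a : GG) : GG := t * a * t⁻¹ * a⁻¹

theorem cm_fix {t a : GG} {v : II → F} (h1 : (t : MM) *ᵥ v = v)
    (h2 : (t : MM) *ᵥ (((a⁻¹ : GG) : MM) *ᵥ v) = ((a⁻¹ : GG) : MM) *ᵥ v) :
    ((cm t a : GG) : MM) *ᵥ v = v := by
  unfold cm
  simp only [Units.val_mul, ← Matrix.mulVec_mulVec]
  rw [fix_inv h2, mulVec_inv_mulVec, h1]

/-- a transvection-like element: the fixed spaces of `t`, `a t a⁻¹`, `a' t a'⁻¹` meet. -/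
theorem exists_common_fixed {t : GG} (w : II → F)
    (hw : ∀ v : II → F, ∃ s : F, (t : MM) *ᵥ v - v = s • w) (a a' : GG) :
    ∃ v : II → F, v ≠ 0 ∧ (t : MM) *ᵥ v = v ∧
      (t : MM) *ᵥ (((a⁻¹ : GG) : MM) *ᵥ v) = ((a⁻¹ : GG) : MM) *ᵥ v ∧
      (t : MM) *ᵥ (((a'⁻¹ : GG) : MM) *ᵥ v) = ((a'⁻¹ : GG) : MM) *ᵥ v := by
  classical
  by_cases hw0 : w = 0
  · have hall : ∀ v : II → F, (t : MM) *ᵥ v = v := by
      intro v
      obtain ⟨s, hs⟩ := hw v
      rw [hw0, smul_zero] at hs
      exact sub_eq_zero.mp hs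
    refine ⟨Pi.single (Sum.inl 0) 1, ?_, hall _, hall _, hall _⟩
    intro h
    have := congrFun h (Sum.inl 0)
    simp at this
  · obtain ⟨i₀, hi₀⟩ := Function.ne_iff.mp hw0
    set N : MM := (t : MM) - 1 with hN
    have key : ∀ u : II → F, (N *ᵥ u) i₀ = 0 → (t : MM) *ᵥ u = u := by
      intro u hu
      obtain ⟨s, hs⟩ := hw u
      have hNu : N *ᵥ u = s • w := by rw [hN, Matrix.sub_mulVec, Matrix.one_mulVec, hs]
      rw [hNu] at hu
      have hs0 : s = 0 := by
        have hu' : s = 0 ∨ w i₀ = 0 := by simpa using hu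
        rcases hu' with h | h
        · exact h
        · exact absurd h hi₀
      rw [hs0, zero_smul] at hs
      exact sub_eq_zero.mp hs
    obtain ⟨v, hv, h1, h2, h3⟩ := exists_common_zero (N i₀) ((N * ((a⁻¹ : GG) : MM)) i₀)
      ((N * ((a'⁻¹ : GG) : MM)) i₀)
    refine ⟨v, hv, key v h1, key _ ?_, key _ ?_⟩
    · rw [Matrix.mulVec_mulVec]; exact h2
    · rw [Matrix.mulVec_mulVec]; exact h3

theorem cm_mul_self (t e : GG) : cm t e * e = t * e * t⁻¹ := by unfold cm; group

theorem neg_mulVec' (g : GG) (v : II → F) : ((-g : GG) : MM) *ᵥ v = -((g : MM) *ᵥ v) := by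
  rw [Units.val_neg, Matrix.neg_mulVec]

/-- Piece C1: no transvection normalizes `R`. -/
theorem no_transvection {p : ℕ} [Fact p.Prime] [CharP F p] (hp2 : p ≠ 2) {R : Subgroup GG}
    (hR : XSData R) {t : GG} (ht : t ∈ Cfsg.Geo.subgroupNormalizer R) (w : II → F)
    (hw : ∀ v : II → F, ∃ s : F, (t : MM) *ᵥ v - v = s • w) (htp : t ^ p = 1) (ht1 : t ≠ 1) : False := by
  have hpp : p.Prime := Fact.out
  have hodd : Odd p := hpp.odd_of_ne_two hp2
  have h2 : (2 : F) ≠ 0 := by
    intro h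
    have h' : ((2 : ℕ) : F) = 0 := by exact_mod_cast h
    rw [CharP.cast_eq_zero_iff F p] at h'
    exact hp2 ((Nat.prime_dvd_prime_iff_eq hpp Nat.prime_two).mp h')
  have hnr : ∀ a ∈ R, t ^ p * a = a * t ^ p := by
    intro a _; rw [htp, one_mul, mul_one]
  have hinv := not_inverts h2 hodd hnr
  have hcR : ∀ a ∈ R, cm t a ∈ R := fun a ha =>
    R.mul_mem (conj_mem_of_mem_normalizer ht ha) (R.inv_mem ha)
  have hfix : ∀ a a' : GG, ∃ v : II → F, v ≠ 0 ∧ ((cm t a : GG) : MM) *ᵥ v = v ∧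
      ((cm t a' : GG) : MM) *ᵥ v = v := by
    intro a a'
    obtain ⟨v, hv, h1, h2', h3⟩ := exists_common_fixed w hw a a'
    exact ⟨v, hv, cm_fix h1 h2', cm_fix h1 h3⟩
  have hne : ∀ a : GG, cm t a ≠ -1 := by
    intro a h
    obtain ⟨v, hv, h1, -⟩ := hfix a a
    rw [h, neg_mulVec', Units.val_one, Matrix.one_mulVec] at h1
    exact hv (eq_zero_of_eq_neg h2 h1.symm)
  have hsq : ∀ a ∈ R, cm t a * cm t a = 1 := by
    intro a ha
    obtain ⟨v, hv, h1, -⟩ := hfix a a
    rcases hR.sq _ (hcR a ha) with h | h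
    · exact h
    · exfalso
      have e : ((cm t a * cm t a : GG) : MM) *ᵥ v = v := by
        rw [Units.val_mul, ← Matrix.mulVec_mulVec, h1, h1]
      rw [h, neg_mulVec', Units.val_one, Matrix.one_mulVec] at e
      exact hv (eq_zero_of_eq_neg h2 e.symm)
  have hcomm : ∀ a ∈ R, ∀ a' ∈ R, cm t a * cm t a' = cm t a' * cm t a := by
    intro a ha a' ha'
    obtain ⟨v, hv, h1, h1'⟩ := hfix a a'
    rcases hR.comm_or _ (hcR a ha) _ (hcR a' ha') with h | h
    · exact h
    · exfalso
      have e : ((cm t a * cm t a' : GG) : MM) *ᵥ v = v := by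
        rw [Units.val_mul, ← Matrix.mulVec_mulVec, h1', h1]
      rw [h, neg_mulVec', Units.val_mul, ← Matrix.mulVec_mulVec, h1, h1'] at e
      exact hv (eq_zero_of_eq_neg h2 e.symm)
  have hall : ∀ a ∈ R, cm t a = 1 := by
    intro a ha
    by_contra hne1
    have heR := hcR a ha
    have hee := hsq a ha
    have hta : t * a * t⁻¹ = cm t a * a := by unfold cm; group
    have hconj_one : ∀ x : GG, t * x * t⁻¹ = 1 → x = 1 := by
      intro x hx
      calc x = t⁻¹ * (t * x * t⁻¹) * t := by group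
        _ = 1 := by rw [hx]; group
    rcases hR.no_eight (cm t a) heR (cm t (cm t a)) (hcR _ heR) hee (hsq _ heR)
      (hcomm a ha _ heR) with h | h | h | h | h | h
    · exact hne1 h
    · exact hne a h
    · -- `t` commutes with `e`
      have hte : t * cm t a * t⁻¹ = cm t a := by
        calc t * cm t a * t⁻¹ = cm t (cm t a) * cm t a := (cm_mul_self t (cm t a)).symm
          _ = cm t a := by rw [h, one_mul]
      have ht2 : t * (t * a * t⁻¹) * t⁻¹ = a := by
        rw [hta]
        calc t * (cm t a * a) * t⁻¹ = (t * cm t a * t⁻¹) * (t * a * t⁻¹) := by group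
          _ = cm t a * (cm t a * a) := by rw [hte, hta]
          _ = a := by rw [← mul_assoc, hee, one_mul]
      have hc2 : (t * t) * a = a * (t * t) := by
        calc (t * t) * a = (t * (t * a * t⁻¹) * t⁻¹) * (t * t) := by group
          _ = a * (t * t) := by rw [ht2]
      obtain ⟨k, hk⟩ := hodd
      have htk : t = (t * t) ^ (k + 1) := by
        rw [← pow_two, ← pow_mul]
        have : 2 * (k + 1) = p + 1 := by omega
        rw [this, pow_succ, htp, one_mul]
      have hcomm_a : t * a = a * t := by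
        rw [htk]
        exact (Commute.pow_left (show Commute (t * t) a from hc2) (k + 1)).eq
      apply hne1
      unfold cm
      rw [hcomm_a]; group
    · exact hne _ h
    · -- `e = c(e)`
      apply hne1
      apply hconj_one
      calc t * cm t a * t⁻¹ = cm t (cm t a) * cm t a := (cm_mul_self t (cm t a)).symm
        _ = cm t a * cm t a := by rw [← h]
        _ = 1 := hee
    · -- `e = -c(e)`
      apply hne a
      have h' : cm t (cm t a) = -cm t a := neg_eq_iff_eq_neg.mp h.symm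
      have hx : t * cm t a * t⁻¹ = -1 := by
        calc t * cm t a * t⁻¹ = cm t (cm t a) * cm t a := (cm_mul_self t (cm t a)).symm
          _ = -(cm t a * cm t a) := by rw [h', neg_mul]
          _ = -1 := by rw [hee]
      calc cm t a = t⁻¹ * (t * cm t a * t⁻¹) * t := by group
        _ = -1 := by rw [hx]; simp
  -- `t` is scalar
  obtain ⟨z, hz⟩ := hR.scalar_of_comm (t : MM) (by
    intro g hg
    have h := hall g hg
    have h' : t * g = g * t := by
      calc t * g = (cm t g) * g * t := by unfold cm; group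
        _ = g * t := by rw [h, one_mul]
    have := congrArg (fun u : GG => (u : MM)) h'
    simpa only [Units.val_mul] using this)
  have hz1 : z = 1 := by
    by_contra hz1
    have hz1' : z - 1 ≠ 0 := sub_ne_zero.mpr hz1
    obtain ⟨s1, hs1⟩ := hw (Pi.single (Sum.inl 0) 1)
    obtain ⟨s2, hs2⟩ := hw (Pi.single (Sum.inl 1) 1)
    rw [hz, Matrix.smul_mulVec, Matrix.one_mulVec] at hs1 hs2
    have e1 := congrFun hs1 (Sum.inl 0)
    have e2 := congrFun hs1 (Sum.inl 1)
    have e3 := congrFun hs2 (Sum.inl 1)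
    have e4 := congrFun hs2 (Sum.inl 0)
    simp at e1 e2 e3 e4
    have hs1' : s1 ≠ 0 := by
      rintro rfl
      rw [zero_mul] at e1
      exact hz1' e1
    have hw1 : w (Sum.inl 1) ≠ 0 := by
      intro h0
      rw [h0, mul_zero] at e3
      exact hz1' e3
    rcases e2 with h | h
    · exact hs1' h
    · exact hw1 h
  apply ht1
  apply Units.ext
  rw [hz, hz1, one_smul]
  rfl

end Cfsg.Agent.Helper5.XS
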