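import Mathlib
import Cfsg.Agent.Helper5.XSBadB
import Cfsg.Agent.Helper5.XSElts
import Cfsg.Agent.Helper5.XSTau
import Cfsg.Agent.Helper5.XSTransv
import Cfsg.Agent.Helper5.XSGlue

set_option autoImplicit false
set_option linter.unusedSectionVars false
set_option linter.unusedSimpArgs false
set_option linter.unusedVariables false
open scoped MatrixGroups Matrix

/-!
S6002: piece C, the elements that are not conjugate into the normalizer of `R`.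
-/

namespace Cfsg.Agent.Helper5.XS

variable {F : Type*} [Field F]

local notation "II" => (Fin 2 ⊕ Fin 2)
local notation "MM" => Matrix (Fin 2 ⊕ Fin 2) (Fin 2 ⊕ Fin 2) F
local notation "GG" => GL (Fin 2 ⊕ Fin 2) F

theorem not_scalar_conj {x g : GG} (h : ∀ z : F, (x : MM) ≠ z • (1 : MM)) (c : F) :
    ((g⁻¹ * x * g : GG) : MM) ≠ c • (1 : MM) :=
  fun hc => h c (scalar_of_conj_scalar hc)

/-- `r = 3 ≠ p`. -/
theorem bad_three (h2 : (2 : F) ≠ 0) (h3 : (3 : F) ≠ 0) {R : Subgroup GG} (hR : XSData R) :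
    ∃ x ∈ Cfsg.spGL 2 F, x ^ 3 = 1 ∧ (∀ z : F, (x : MM) ≠ z • (1 : MM)) ∧
      ∀ g ∈ Cfsg.spGL 2 F, g⁻¹ * x * g ∉ Cfsg.Geo.subgroupNormalizer R := by
  refine ⟨XX (-1), XX_mem _, XX_pow _ 3 YY_cube, XX_not_scalar _, ?_⟩
  intro g hg hn
  have hn3 : (g⁻¹ * XX (-1 : F) * g) ^ 3 = 1 := by
    rw [conj_pow', XX_pow _ 3 YY_cube]; group
  have h := trace_of_three h2 hR hn hn3 (not_scalar_conj (XX_not_scalar _))
  rw [conj_inv', trace_conj, trace_conj, XX_trace, XX_inv_trace] at h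
  apply h3
  linear_combination -h

/-- `r = 5 ≠ p`, with a root of `X² + X - 1`. -/
theorem bad_five (h2 : (2 : F) ≠ 0) (h5 : (5 : F) ≠ 0) {τ : F} (hτ : τ * τ + τ - 1 = 0)
    {R : Subgroup GG} (hR : XSData R) :
    ∃ x ∈ Cfsg.spGL 2 F, x ^ 5 = 1 ∧ (∀ z : F, (x : MM) ≠ z • (1 : MM)) ∧
      ∀ g ∈ Cfsg.spGL 2 F, g⁻¹ * x * g ∉ Cfsg.Geo.subgroupNormalizer R := by
  refine ⟨XX τ, XX_mem _, XX_pow _ 5 (YY_five hτ), XX_not_scalar _, ?_⟩
  intro g hg hn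
  have hn5 : (g⁻¹ * XX τ * g) ^ 5 = 1 := by
    rw [conj_pow', XX_pow _ 5 (YY_five hτ)]; group
  have hnr : ∀ a ∈ R, (g⁻¹ * XX τ * g) ^ 5 * a = a * (g⁻¹ * XX τ * g) ^ 5 := by
    intro a _; rw [hn5, one_mul, mul_one]
  have h := trace_of_five h2 hR hn hnr (not_scalar_conj (XX_not_scalar _))
  rw [conj_inv', trace_conj, trace_conj, XX_trace, XX_inv_trace] at h
  apply h5
  linear_combination (3 * τ - 1) * h - (3 * τ + 8) * hτ

open Cfsg.Agent.Helper7.Symp in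
theorem T_pow_eq' (w : II → F) (c : F) (n : ℕ) : (T w c) ^ n = T w (n • c) := by
  induction n with
  | zero => rw [pow_zero, zero_smul, T_zero_right]
  | succ n ih => rw [pow_succ, ih, T_mul, succ_nsmul]

/-- the transvection used for `r = p`. -/
noncomputable def tv (F : Type*) [Field F] : GL (Fin 2 ⊕ Fin 2) F :=
  ((Cfsg.Agent.S0270.toSpGLHom 2 F (Cfsg.Agent.Helper7.Symp.T (Pi.single (Sum.inl 0) 1) 1) :
    ↥(Cfsg.spGL 2 F)) : GL (Fin 2 ⊕ Fin 2) F)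

theorem tv_mem : tv F ∈ Cfsg.spGL 2 F := SetLike.coe_mem _

theorem tv_mulVec (v : II → F) :
    ((tv F : GG) : MM) *ᵥ v = v + (1 * Cfsg.sympForm 2 F v (Pi.single (Sum.inl 0) 1)) •
      (Pi.single (Sum.inl 0) 1 : II → F) :=
  Cfsg.Agent.Helper7.Symp.T_mulVec _ _ _

theorem tv_pow {p : ℕ} [CharP F p] : tv F ^ p = 1 := by
  unfold tv
  rw [← SubgroupClass.coe_pow, ← map_pow, T_pow_eq', nsmul_eq_mul, CharP.cast_eq_zero, zero_mul,
    Cfsg.Agent.Helper7.Symp.T_zero_right, map_one]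
  rfl

theorem single_ne_zero' : (Pi.single (Sum.inl 0) 1 : II → F) ≠ 0 := by
  intro h
  have := congrFun h (Sum.inl 0)
  simp at this

theorem tv_not_scalar (c : F) : ((tv F : GG) : MM) ≠ c • (1 : MM) := by
  intro h
  have h1 : ∀ v : II → F, v + (1 * Cfsg.sympForm 2 F v (Pi.single (Sum.inl 0) 1)) •
      (Pi.single (Sum.inl 0) 1 : II → F) = c • v := by
    intro v
    rw [← tv_mulVec, h, Matrix.smul_mulVec, Matrix.one_mulVec]
  have e1 := congrFun (h1 (Pi.single (Sum.inl 1) 1)) (Sum.inl 1)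
  have e2 := congrFun (h1 (Pi.single (Sum.inr 0) 1)) (Sum.inl 0)
  have e3 := congrFun (h1 (Pi.single (Sum.inr 0) 1)) (Sum.inr 0)
  simp [Cfsg.sympForm, Matrix.J, Matrix.mulVec, dotProduct, Matrix.fromBlocks] at e1 e2 e3

/-- `r = p`. -/
theorem bad_char {p : ℕ} [Fact p.Prime] [CharP F p] (hp2 : p ≠ 2) {R : Subgroup GG} (hR : XSData R) :
    ∃ x ∈ Cfsg.spGL 2 F, x ^ p = 1 ∧ (∀ z : F, (x : MM) ≠ z • (1 : MM)) ∧
      ∀ g ∈ Cfsg.spGL 2 F, g⁻¹ * x * g ∉ Cfsg.Geo.subgroupNormalizer R := by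
  refine ⟨tv F, tv_mem, tv_pow, tv_not_scalar, ?_⟩
  intro g hg hn
  refine no_transvection hp2 hR hn (((g⁻¹ : GG) : MM) *ᵥ (Pi.single (Sum.inl 0) 1)) ?_ ?_ ?_
  · intro v
    refine ⟨1 * Cfsg.sympForm 2 F ((g : MM) *ᵥ v) (Pi.single (Sum.inl 0) 1), ?_⟩
    simp only [Units.val_mul, ← Matrix.mulVec_mulVec]
    rw [tv_mulVec, Matrix.mulVec_add, inv_mulVec_mulVec, Matrix.mulVec_smul, add_sub_cancel_left]
  · rw [conj_pow', tv_pow]; group
  · intro h1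
    apply tv_not_scalar (F := F) 1
    apply scalar_of_conj_scalar (g := g)
    rw [h1, one_smul]; rfl

/-- `r ≥ 7`. -/
theorem bad_big [Fintype F] (h2 : (2 : F) ≠ 0) {R : Subgroup GG} (hR : XSData R) (r : ℕ) [Fact r.Prime]
    (hΩ : r ∣ (Cfsg.Geo.subgroupNormalizer R).relIndex (Cfsg.spGL 2 F)) (h7 : 7 ≤ r) :
    ∃ x ∈ Cfsg.spGL 2 F, x ^ r = 1 ∧ (∀ z : F, (x : MM) ≠ z • (1 : MM)) ∧
      ∀ g ∈ Cfsg.spGL 2 F, g⁻¹ * x * g ∉ Cfsg.Geo.subgroupNormalizer R := by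
  have hcard : r ∣ Nat.card ↥(Cfsg.spGL 2 F) := dvd_trans hΩ (Subgroup.relIndex_dvd_card _ _)
  obtain ⟨x₀, hx₀⟩ := exists_prime_orderOf_dvd_card' r hcard
  have hxr : (x₀ : GG) ^ r = 1 := by
    rw [← SubgroupClass.coe_pow, ← hx₀, pow_orderOf_eq_one]; rfl
  have hns : ∀ z : F, ((x₀ : GG) : MM) ≠ z • (1 : MM) := by
    intro z hz
    have hzz : z * z = 1 := by
      rcases scalar_sq_of_mem x₀.2 hz with h | h <;> rw [h] <;> ring
    have hsq : x₀ ^ 2 = 1 := by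
      apply Subtype.ext
      apply Units.ext
      rw [SubgroupClass.coe_pow, Units.val_pow_eq_pow_val, hz, pow_two, Matrix.smul_mul, Matrix.mul_smul,
        Matrix.mul_one, smul_smul, hzz, one_smul]
      rfl
    have : r ∣ 2 := hx₀ ▸ orderOf_dvd_of_pow_eq_one hsq
    have := Nat.le_of_dvd (by norm_num) this
    omega
  refine ⟨x₀, x₀.2, hxr, hns, ?_⟩
  intro g hg hn
  have hnr : ∀ a ∈ R, (g⁻¹ * (x₀ : GG) * g) ^ r * a = a * (g⁻¹ * (x₀ : GG) * g) ^ r := by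
    intro a _
    rw [conj_pow', hxr]; group
  obtain ⟨c, hc⟩ := bad_large h2 hR hn h7 hnr
  exact hns c (scalar_of_conj_scalar hc)

/-- Piece C: the bad elements. -/
theorem exists_bad [Fintype F] {p : ℕ} [Fact p.Prime] [CharP F p] (hF : Fintype.card F = p) (hodd : Odd p)
    {R : Subgroup GG} (hR : XSData R) (r : ℕ) [Fact r.Prime]
    (hΩ : r ∣ (Cfsg.Geo.subgroupNormalizer R).relIndex (Cfsg.spGL 2 F))
    (hr2 : r ≠ 2) (hr5 : ¬ (r = 5 ∧ orderOf (p : ZMod 5) = 4)) :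
    ∃ x ∈ Cfsg.spGL 2 F, (∃ z : F, ((x ^ r : GG) : MM) = z • (1 : MM)) ∧
      (∀ z : F, (x : MM) ≠ z • (1 : MM)) ∧
      ∀ g ∈ Cfsg.spGL 2 F, g⁻¹ * x * g ∉ Cfsg.Geo.subgroupNormalizer R := by
  have hpp : p.Prime := Fact.out
  have hrp : r.Prime := Fact.out
  have hp2 : p ≠ 2 := by
    rintro rfl
    exact absurd hodd (by decide)
  have hne : ∀ q : ℕ, q.Prime → p ≠ q → ((q : ℕ) : F) ≠ 0 := by
    intro q hq hpq h
    rw [CharP.cast_eq_zero_iff F p] at h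
    exact hpq ((Nat.prime_dvd_prime_iff_eq hpp hq).mp h)
  have h2 : (2 : F) ≠ 0 := by
    have := hne 2 Nat.prime_two hp2
    exact_mod_cast this
  have key : ∀ x ∈ Cfsg.spGL 2 F, x ^ r = 1 → (∀ z : F, (x : MM) ≠ z • (1 : MM)) →
      (∀ g ∈ Cfsg.spGL 2 F, g⁻¹ * x * g ∉ Cfsg.Geo.subgroupNormalizer R) →
      ∃ x ∈ Cfsg.spGL 2 F, (∃ z : F, ((x ^ r : GG) : MM) = z • (1 : MM)) ∧
      (∀ z : F, (x : MM) ≠ z • (1 : MM)) ∧
      ∀ g ∈ Cfsg.spGL 2 F, g⁻¹ * x * g ∉ Cfsg.Geo.subgroupNormalizer R := by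
    intro x hx hxr hns hg
    exact ⟨x, hx, ⟨1, by rw [hxr, one_smul]; rfl⟩, hns, hg⟩
  by_cases h7 : 7 ≤ r
  · obtain ⟨x, hx, hxr, hns, hg⟩ := bad_big h2 hR r hΩ h7
    exact key x hx hxr hns hg
  by_cases hrp' : r = p
  · subst hrp'
    obtain ⟨x, hx, hxr, hns, hg⟩ := bad_char (F := F) hp2 hR
    exact key x hx hxr hns hg
  have hr35 : r = 3 ∨ r = 5 := by
    have hlt : r < 7 := by omega
    have h2le := hrp.two_le
    interval_cases r
    · exact absurd rfl hr2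
    · left; rfl
    · exact absurd hrp (by decide)
    · right; rfl
    · exact absurd hrp (by decide)
  rcases hr35 with rfl | rfl
  · have h3 : (3 : F) ≠ 0 := by
      have := hne 3 Nat.prime_three (Ne.symm hrp')
      exact_mod_cast this
    obtain ⟨x, hx, hxr, hns, hg⟩ := bad_three h2 h3 hR
    exact key x hx hxr hns hg
  · have h5 : (5 : F) ≠ 0 := by
      have := hne 5 Nat.prime_five (Ne.symm hrp')
      exact_mod_cast this
    have hord : orderOf (p : ZMod 5) ≠ 4 := fun h => hr5 ⟨rfl, h⟩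
    obtain ⟨τ, hτ⟩ := exists_tau (F := F) h2 (Ne.symm hrp') hord
    obtain ⟨x, hx, hxr, hns, hg⟩ := bad_five h2 h5 hτ hR
    exact key x hx hxr hns hg

end Cfsg.Agent.Helper5.XS
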