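import Mathlib
import Cfsg.Agent.Helper5.XSBasic
import Cfsg.Agent.Helper7.SympTransitive

set_option autoImplicit false
set_option linter.unusedSectionVars false
set_option linter.unusedSimpArgs false
set_option linter.unusedVariables false
open scoped MatrixGroups Matrix

/-!
S6002: for `u ∈ R` with `u² = -1` the matrix `1 + u` normalizes `R` and multiplies the symplectic form by `2`.
-/

namespace Cfsg.Agent.Helper5.XS

open Cfsg.Agent.Helper7.Symp

variable {F : Type*} [Field F]

local notation "II" => (Fin 2 ⊕ Fin 2)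
local notation "MM" => Matrix (Fin 2 ⊕ Fin 2) (Fin 2 ⊕ Fin 2) F
local notation "GG" => GL (Fin 2 ⊕ Fin 2) F

theorem val_sq_neg_one {u : GG} (hu : u * u = -1) : (u : MM) * (u : MM) = -1 := by
  have := congrArg (fun g : GG => (g : MM)) hu
  simpa using this

/-- the "reflection" `1 + u`. -/
noncomputable def refl (h2 : (2 : F) ≠ 0) (u : GG) (hu : u * u = -1) : GG :=
  ⟨1 + (u : MM), (2 : F)⁻¹ • (1 - (u : MM)), by
    have hu' := val_sq_neg_one hu
    have e : (1 + (u : MM)) * (1 - (u : MM)) = 1 - (u : MM) * (u : MM) := by noncomm_ring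
    rw [Matrix.mul_smul, e, hu', sub_neg_eq_add, ← two_smul F (1 : MM), smul_smul, inv_mul_cancel₀ h2, one_smul], by
    have hu' := val_sq_neg_one hu
    have e : (1 - (u : MM)) * (1 + (u : MM)) = 1 - (u : MM) * (u : MM) := by noncomm_ring
    rw [Matrix.smul_mul, e, hu', sub_neg_eq_add, ← two_smul F (1 : MM), smul_smul, inv_mul_cancel₀ h2, one_smul]⟩

@[simp] theorem refl_val (h2 : (2 : F) ≠ 0) (u : GG) (hu : u * u = -1) :
    ((refl h2 u hu : GG) : MM) = 1 + (u : MM) := rfl

theorem refl_mul_comm (h2 : (2 : F) ≠ 0) {u : GG} (hu : u * u = -1) {x : GG} (hx : x * u = u * x) :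
    refl h2 u hu * x = x * refl h2 u hu := by
  apply Units.ext
  have hx' : (x : MM) * (u : MM) = (u : MM) * (x : MM) := by
    have := congrArg (fun g : GG => (g : MM)) hx
    simpa using this
  rw [Units.val_mul, Units.val_mul, refl_val, Matrix.add_mul, Matrix.mul_add, Matrix.one_mul, Matrix.mul_one, hx']

theorem refl_mul_anti (h2 : (2 : F) ≠ 0) {u : GG} (hu : u * u = -1) {x : GG} (hx : x * u = -(u * x)) :
    refl h2 u hu * x = (u * x) * refl h2 u hu := by
  apply Units.ext
  have hx' : (x : MM) * (u : MM) = -((u : MM) * (x : MM)) := by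
    have := congrArg (fun g : GG => (g : MM)) hx
    simpa using this
  have hu' := val_sq_neg_one hu
  rw [Units.val_mul, Units.val_mul, Units.val_mul, refl_val, Matrix.add_mul, Matrix.mul_add, Matrix.one_mul,
    Matrix.mul_one, Matrix.mul_assoc (u : MM) (x : MM) (u : MM), hx', Matrix.mul_neg, ← Matrix.mul_assoc, hu']
  simp [add_comm]

theorem mem_normalizer_of_forall {R : Subgroup GG} {g : GG} (h1 : ∀ a ∈ R, g * a * g⁻¹ ∈ R)
    (h2 : ∀ a ∈ R, g⁻¹ * a * g ∈ R) : g ∈ Cfsg.Geo.subgroupNormalizer R := by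
  refine Subgroup.mem_normalizer_iff.mpr fun h => ⟨h1 h, fun hh => ?_⟩
  have := h2 _ hh
  have e : g⁻¹ * (g * h * g⁻¹) * g = h := by group
  rwa [e] at this

theorem refl_mem_normalizer (h2 : (2 : F) ≠ 0) {R : Subgroup GG} (hR : XSData R) {u : GG} (huR : u ∈ R)
    (hu : u * u = -1) : refl h2 u hu ∈ Cfsg.Geo.subgroupNormalizer R := by
  apply mem_normalizer_of_forall
  · intro a ha
    rcases hR.comm_or a ha u huR with h | h
    · rw [refl_mul_comm h2 hu h]
      have : a * refl h2 u hu * (refl h2 u hu)⁻¹ = a := by group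
      rwa [this]
    · rw [refl_mul_anti h2 hu h]
      have : u * a * refl h2 u hu * (refl h2 u hu)⁻¹ = u * a := by group
      rw [this]
      exact R.mul_mem huR ha
  · intro a ha
    rcases hR.comm_or a ha u huR with h | h
    · have : (refl h2 u hu)⁻¹ * a * refl h2 u hu = a := by
        rw [mul_assoc, ← refl_mul_comm h2 hu h]; group
      rwa [this]
    · have hk : (u⁻¹ * a) * u = -(u * (u⁻¹ * a)) := by
        calc (u⁻¹ * a) * u = u⁻¹ * (a * u) := by group
          _ = u⁻¹ * (-(u * a)) := by rw [h]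
          _ = -(u * (u⁻¹ * a)) := by rw [mul_neg]; congr 1; group
      have h3 := refl_mul_anti h2 hu hk
      have e : u * (u⁻¹ * a) = a := by group
      rw [e] at h3
      have : (refl h2 u hu)⁻¹ * a * refl h2 u hu = u⁻¹ * a := by
        rw [mul_assoc, ← h3]; group
      rw [this]
      exact R.mul_mem (R.inv_mem huR) ha

theorem mem_spGL_iff {x : GG} : x ∈ Cfsg.spGL 2 F ↔
    ∀ v w : II → F, Cfsg.sympForm 2 F ((x : MM) *ᵥ v) ((x : MM) *ᵥ w) = Cfsg.sympForm 2 F v w := Iff.rfl

theorem refl_form (h2 : (2 : F) ≠ 0) {u : GG} (hu : u * u = -1) (huS : u ∈ Cfsg.spGL 2 F) (v w : II → F) :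
    Cfsg.sympForm 2 F (((refl h2 u hu : GG) : MM) *ᵥ v) (((refl h2 u hu : GG) : MM) *ᵥ w) =
      2 * Cfsg.sympForm 2 F v w := by
  have hu' := val_sq_neg_one hu
  have hS := mem_spGL_iff.mp huS
  rw [refl_val, Matrix.add_mulVec, Matrix.add_mulVec, Matrix.one_mulVec, Matrix.one_mulVec,
    sympForm_add_left, sympForm_add_right, sympForm_add_right, hS v w]
  have h1 : Cfsg.sympForm 2 F ((u : MM) *ᵥ v) w = -Cfsg.sympForm 2 F v ((u : MM) *ᵥ w) := by
    rw [← hS ((u : MM) *ᵥ v) w, Matrix.mulVec_mulVec, hu', Matrix.neg_mulVec, Matrix.one_mulVec,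
      sympForm_swap, sympForm_neg_right, neg_neg, sympForm_swap]
  rw [h1]
  ring

end Cfsg.Agent.Helper5.XS
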