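import Mathlib
import Cfsg.Agent.Helper5.XSRefl
import Cfsg.Agent.Helper5.XSOrbit

set_option autoImplicit false
set_option linter.unusedSectionVars false
set_option linter.unusedSimpArgs false
set_option linter.unusedVariables false
open scoped MatrixGroups Matrix

/-!
S6002: an element of order 5 in the normalizer of `R` in `Sp_4(F)`.
-/

namespace Cfsg.Agent.Helper5.XS

open Cfsg.Agent.Helper7.Symp

variable {F : Type*} [Field F]

local notation "II" => (Fin 2 ⊕ Fin 2)
local notation "MM" => Matrix (Fin 2 ⊕ Fin 2) (Fin 2 ⊕ Fin 2) F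
local notation "GG" => GL (Fin 2 ⊕ Fin 2) F

section pair

theorem pair_sq {x y : GG} (hx : x * x = 1) (hy : y * y = 1) (hxy : x * y = -(y * x)) : (x * y) * (x * y) = -1 := by
  calc (x * y) * (x * y) = x * (y * x) * y := by group
    _ = x * (-(x * y)) * y := by rw [hxy, neg_neg]
    _ = -((x * x) * (y * y)) := by rw [mul_neg, neg_mul]; congr 1; group
    _ = -1 := by rw [hx, hy, one_mul]

theorem pair_left {x y : GG} (hx : x * x = 1) (hy : y * y = 1) (hxy : x * y = -(y * x)) :
    x * (x * y) = -((x * y) * x) := by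
  calc x * (x * y) = (x * x) * y := by group
    _ = y := by rw [hx, one_mul]
    _ = -(-(x * x * y)) := by rw [hx, one_mul, neg_neg]
    _ = -((x * y) * x) := by
        congr 1
        calc -(x * x * y) = x * (-(x * y)) := by rw [mul_neg]; congr 1; group
          _ = x * (y * x) := by rw [hxy, neg_neg]
          _ = (x * y) * x := by group

theorem pair_right {x y : GG} (hx : x * x = 1) (hy : y * y = 1) (hxy : x * y = -(y * x)) :
    y * (x * y) = -((x * y) * y) := by
  calc y * (x * y) = (y * x) * y := by group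
    _ = (-(x * y)) * y := by rw [hxy, neg_neg]
    _ = -((x * y) * y) := by rw [neg_mul]

theorem pair_third {x y z : GG} (hzx : z * x = -(x * z)) (hzy : z * y = -(y * z)) : z * (x * y) = (x * y) * z := by
  calc z * (x * y) = (z * x) * y := by group
    _ = -(x * (z * y)) := by rw [hzx, neg_mul]; congr 1; group
    _ = -(x * (-(y * z))) := by rw [hzy]
    _ = (x * y) * z := by rw [mul_neg, neg_neg]; group

/-- the action of the reflection in `x y` on `x`, `y` and a third anticommuting element. -/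
theorem refl_pair_left (h2 : (2 : F) ≠ 0) {x y : GG} (hx : x * x = 1) (hy : y * y = 1) (hxy : x * y = -(y * x)) :
    refl h2 (x * y) (pair_sq hx hy hxy) * x = (-y) * refl h2 (x * y) (pair_sq hx hy hxy) := by
  rw [refl_mul_anti h2 (pair_sq hx hy hxy) (pair_left hx hy hxy)]
  congr 1
  calc (x * y) * x = x * (y * x) := by group
    _ = x * (-(x * y)) := by rw [hxy, neg_neg]
    _ = -((x * x) * y) := by rw [mul_neg]; congr 1; group
    _ = -y := by rw [hx, one_mul]

theorem refl_pair_right (h2 : (2 : F) ≠ 0) {x y : GG} (hx : x * x = 1) (hy : y * y = 1) (hxy : x * y = -(y * x)) :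
    refl h2 (x * y) (pair_sq hx hy hxy) * y = x * refl h2 (x * y) (pair_sq hx hy hxy) := by
  rw [refl_mul_anti h2 (pair_sq hx hy hxy) (pair_right hx hy hxy)]
  congr 1
  calc (x * y) * y = x * (y * y) := by group
    _ = x := by rw [hy, mul_one]

theorem refl_pair_third (h2 : (2 : F) ≠ 0) {x y z : GG} (hx : x * x = 1) (hy : y * y = 1) (hxy : x * y = -(y * x))
    (hzx : z * x = -(x * z)) (hzy : z * y = -(y * z)) :
    refl h2 (x * y) (pair_sq hx hy hxy) * z = z * refl h2 (x * y) (pair_sq hx hy hxy) :=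
  refl_mul_comm h2 (pair_sq hx hy hxy) (pair_third hzx hzy)

end pair


/-- scalar matrices as elements of `GL`. -/
noncomputable def scal (c : F) (hc : c ≠ 0) : GG :=
  ⟨c • (1 : MM), c⁻¹ • (1 : MM), by
    rw [Matrix.smul_mul, Matrix.mul_smul, Matrix.one_mul, smul_smul, mul_inv_cancel₀ hc, one_smul], by
    rw [Matrix.smul_mul, Matrix.mul_smul, Matrix.one_mul, smul_smul, inv_mul_cancel₀ hc, one_smul]⟩

@[simp] theorem scal_val (c : F) (hc : c ≠ 0) : ((scal c hc : GG) : MM) = c • (1 : MM) := rfl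

theorem scal_comm (c : F) (hc : c ≠ 0) (x : GG) : scal c hc * x = x * scal c hc := by
  apply Units.ext
  simp

theorem scal_mem_normalizer (c : F) (hc : c ≠ 0) (R : Subgroup GG) :
    scal c hc ∈ Cfsg.Geo.subgroupNormalizer R := by
  apply mem_normalizer_of_forall
  · intro a ha
    rw [scal_comm]
    have : a * scal c hc * (scal c hc)⁻¹ = a := by group
    rwa [this]
  · intro a ha
    rw [mul_assoc, ← scal_comm]
    have : (scal c hc)⁻¹ * (scal c hc * a) = a := by group
    rwa [this]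

/-- five pairwise anticommuting involutions. -/
structure Five (b1 b2 b3 b4 b5 : GG) : Prop where
  s1 : b1 * b1 = 1
  s2 : b2 * b2 = 1
  s3 : b3 * b3 = 1
  s4 : b4 * b4 = 1
  s5 : b5 * b5 = 1
  a12 : b1 * b2 = -(b2 * b1)
  a13 : b1 * b3 = -(b3 * b1)
  a14 : b1 * b4 = -(b4 * b1)
  a15 : b1 * b5 = -(b5 * b1)
  a23 : b2 * b3 = -(b3 * b2)
  a24 : b2 * b4 = -(b4 * b2)
  a25 : b2 * b5 = -(b5 * b2)
  a34 : b3 * b4 = -(b4 * b3)
  a35 : b3 * b5 = -(b5 * b3)
  a45 : b4 * b5 = -(b5 * b4)

theorem anti_symm {x y : GG} (h : x * y = -(y * x)) : y * x = -(x * y) := by rw [h, neg_neg]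

/-- the relations between the product of four reflections and the five involutions. -/
theorem five_relations (h2 : (2 : F) ≠ 0) {b1 b2 b3 b4 b5 : GG} (hb : Five b1 b2 b3 b4 b5) :
    ∃ g : GG, g = refl h2 (b1 * b2) (pair_sq hb.s1 hb.s2 hb.a12) * refl h2 (b2 * b3) (pair_sq hb.s2 hb.s3 hb.a23) *
        refl h2 (b3 * b4) (pair_sq hb.s3 hb.s4 hb.a34) * refl h2 (b4 * b5) (pair_sq hb.s4 hb.s5 hb.a45) ∧
      g * b1 = (-b2) * g ∧ g * b2 = (-b3) * g ∧ g * b3 = (-b4) * g ∧ g * b4 = (-b5) * g ∧ g * b5 = b1 * g := by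
  set r12 := refl h2 (b1 * b2) (pair_sq hb.s1 hb.s2 hb.a12) with h12
  set r23 := refl h2 (b2 * b3) (pair_sq hb.s2 hb.s3 hb.a23) with h23
  set r34 := refl h2 (b3 * b4) (pair_sq hb.s3 hb.s4 hb.a34) with h34
  set r45 := refl h2 (b4 * b5) (pair_sq hb.s4 hb.s5 hb.a45) with h45
  -- action of each reflection
  have e12_1 : r12 * b1 = (-b2) * r12 := refl_pair_left h2 hb.s1 hb.s2 hb.a12
  have e12_2 : r12 * b2 = b1 * r12 := refl_pair_right h2 hb.s1 hb.s2 hb.a12
  have e12_3 : r12 * b3 = b3 * r12 := refl_pair_third h2 hb.s1 hb.s2 hb.a12 (anti_symm hb.a13) (anti_symm hb.a23)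
  have e12_4 : r12 * b4 = b4 * r12 := refl_pair_third h2 hb.s1 hb.s2 hb.a12 (anti_symm hb.a14) (anti_symm hb.a24)
  have e12_5 : r12 * b5 = b5 * r12 := refl_pair_third h2 hb.s1 hb.s2 hb.a12 (anti_symm hb.a15) (anti_symm hb.a25)
  have e23_1 : r23 * b1 = b1 * r23 := refl_pair_third h2 hb.s2 hb.s3 hb.a23 hb.a12 hb.a13
  have e23_2 : r23 * b2 = (-b3) * r23 := refl_pair_left h2 hb.s2 hb.s3 hb.a23
  have e23_3 : r23 * b3 = b2 * r23 := refl_pair_right h2 hb.s2 hb.s3 hb.a23
  have e23_4 : r23 * b4 = b4 * r23 := refl_pair_third h2 hb.s2 hb.s3 hb.a23 (anti_symm hb.a24) (anti_symm hb.a34)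
  have e23_5 : r23 * b5 = b5 * r23 := refl_pair_third h2 hb.s2 hb.s3 hb.a23 (anti_symm hb.a25) (anti_symm hb.a35)
  have e34_1 : r34 * b1 = b1 * r34 := refl_pair_third h2 hb.s3 hb.s4 hb.a34 hb.a13 hb.a14
  have e34_2 : r34 * b2 = b2 * r34 := refl_pair_third h2 hb.s3 hb.s4 hb.a34 hb.a23 hb.a24
  have e34_3 : r34 * b3 = (-b4) * r34 := refl_pair_left h2 hb.s3 hb.s4 hb.a34
  have e34_4 : r34 * b4 = b3 * r34 := refl_pair_right h2 hb.s3 hb.s4 hb.a34
  have e34_5 : r34 * b5 = b5 * r34 := refl_pair_third h2 hb.s3 hb.s4 hb.a34 (anti_symm hb.a35) (anti_symm hb.a45)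
  have e45_1 : r45 * b1 = b1 * r45 := refl_pair_third h2 hb.s4 hb.s5 hb.a45 hb.a14 hb.a15
  have e45_2 : r45 * b2 = b2 * r45 := refl_pair_third h2 hb.s4 hb.s5 hb.a45 hb.a24 hb.a25
  have e45_3 : r45 * b3 = b3 * r45 := refl_pair_third h2 hb.s4 hb.s5 hb.a45 hb.a34 hb.a35
  have e45_4 : r45 * b4 = (-b5) * r45 := refl_pair_left h2 hb.s4 hb.s5 hb.a45
  have e45_5 : r45 * b5 = b4 * r45 := refl_pair_right h2 hb.s4 hb.s5 hb.a45
  -- passing a negated element through
  have neg_pass : ∀ (r x y : GG), r * x = y * r → r * (-x) = (-y) * r := by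
    intro r x y h
    rw [mul_neg, h, neg_mul]
  refine ⟨r12 * r23 * r34 * r45, rfl, ?_, ?_, ?_, ?_, ?_⟩
  · calc r12 * r23 * r34 * r45 * b1 = r12 * r23 * r34 * (r45 * b1) := by group
      _ = r12 * r23 * (r34 * b1) * r45 := by rw [e45_1]; group
      _ = r12 * (r23 * b1) * r34 * r45 := by rw [e34_1]; group
      _ = (r12 * b1) * r23 * r34 * r45 := by rw [e23_1]; group
      _ = (-b2) * (r12 * r23 * r34 * r45) := by rw [e12_1]; group
  · calc r12 * r23 * r34 * r45 * b2 = r12 * r23 * r34 * (r45 * b2) := by group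
      _ = r12 * r23 * (r34 * b2) * r45 := by rw [e45_2]; group
      _ = r12 * (r23 * b2) * r34 * r45 := by rw [e34_2]; group
      _ = (r12 * (-b3)) * r23 * r34 * r45 := by rw [e23_2]; group
      _ = (-b3) * (r12 * r23 * r34 * r45) := by rw [neg_pass _ _ _ e12_3]; group
  · calc r12 * r23 * r34 * r45 * b3 = r12 * r23 * r34 * (r45 * b3) := by group
      _ = r12 * r23 * (r34 * b3) * r45 := by rw [e45_3]; group
      _ = r12 * (r23 * (-b4)) * r34 * r45 := by rw [e34_3]; group
      _ = (r12 * (-b4)) * r23 * r34 * r45 := by rw [neg_pass _ _ _ e23_4]; group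
      _ = (-b4) * (r12 * r23 * r34 * r45) := by rw [neg_pass _ _ _ e12_4]; group
  · calc r12 * r23 * r34 * r45 * b4 = r12 * r23 * r34 * (r45 * b4) := by group
      _ = r12 * r23 * (r34 * (-b5)) * r45 := by rw [e45_4]; group
      _ = r12 * (r23 * (-b5)) * r34 * r45 := by rw [neg_pass _ _ _ e34_5]; group
      _ = (r12 * (-b5)) * r23 * r34 * r45 := by rw [neg_pass _ _ _ e23_5]; group
      _ = (-b5) * (r12 * r23 * r34 * r45) := by rw [neg_pass _ _ _ e12_5]; group
  · calc r12 * r23 * r34 * r45 * b5 = r12 * r23 * r34 * (r45 * b5) := by group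
      _ = r12 * r23 * (r34 * b4) * r45 := by rw [e45_5]; group
      _ = r12 * (r23 * b3) * r34 * r45 := by rw [e34_4]; group
      _ = (r12 * b2) * r23 * r34 * r45 := by rw [e23_3]; group
      _ = b1 * (r12 * r23 * r34 * r45) := by rw [e12_2]; group


theorem five_of_gens {a b c d : GG} (haa : a * a = 1) (hbb : b * b = 1) (hab : a * b = -(b * a))
    (hcc : c * c = -1) (hdd : d * d = -1) (hcd : c * d = -(d * c)) (hac : a * c = c * a) (had : a * d = d * a)
    (hbc : b * c = c * b) (hbd : b * d = d * b) :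
    Five a b (a * b * c) (a * b * d) (a * b * (c * d)) := by
  have ba : b * a = -(a * b) := anti_symm hab
  have ba' : ∀ x, b * (a * x) = -(a * (b * x)) := fun x => by rw [← mul_assoc, ba, neg_mul, mul_assoc]
  have dc : d * c = -(c * d) := anti_symm hcd
  have dc' : ∀ x, d * (c * x) = -(c * (d * x)) := fun x => by rw [← mul_assoc, dc, neg_mul, mul_assoc]
  have ca : c * a = a * c := hac.symm
  have ca' : ∀ x, c * (a * x) = a * (c * x) := fun x => by rw [← mul_assoc, ca, mul_assoc]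
  have da : d * a = a * d := had.symm
  have da' : ∀ x, d * (a * x) = a * (d * x) := fun x => by rw [← mul_assoc, da, mul_assoc]
  have cb : c * b = b * c := hbc.symm
  have cb' : ∀ x, c * (b * x) = b * (c * x) := fun x => by rw [← mul_assoc, cb, mul_assoc]
  have db : d * b = b * d := hbd.symm
  have db' : ∀ x, d * (b * x) = b * (d * x) := fun x => by rw [← mul_assoc, db, mul_assoc]
  have aa' : ∀ x, a * (a * x) = x := fun x => by rw [← mul_assoc, haa, one_mul]
  have bb' : ∀ x, b * (b * x) = x := fun x => by rw [← mul_assoc, hbb, one_mul]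
  have cc' : ∀ x, c * (c * x) = -x := fun x => by rw [← mul_assoc, hcc, neg_mul, one_mul]
  have dd' : ∀ x, d * (d * x) = -x := fun x => by rw [← mul_assoc, hdd, neg_mul, one_mul]
  constructor <;>
    simp only [mul_assoc, neg_mul, mul_neg, neg_neg, ba, ba', dc, dc', ca, ca', da, da', cb, cb', db, db',
      haa, aa', hbb, bb', hcc, cc', hdd, dd', mul_one, one_mul]


/-- `x` multiplies the symplectic form by `c`. -/
def Sim (x : GG) (c : F) : Prop :=
  ∀ v w : II → F, Cfsg.sympForm 2 F ((x : MM) *ᵥ v) ((x : MM) *ᵥ w) = c * Cfsg.sympForm 2 F v w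

theorem Sim.mul {x y : GG} {c e : F} (hx : Sim x c) (hy : Sim y e) : Sim (x * y) (c * e) := by
  intro v w
  rw [Units.val_mul, ← Matrix.mulVec_mulVec, ← Matrix.mulVec_mulVec, hx, hy, mul_assoc]

theorem sim_scal (c : F) (hc : c ≠ 0) : Sim (scal c hc) (c * c) := by
  intro v w
  rw [scal_val, Matrix.smul_mulVec, Matrix.smul_mulVec, Matrix.one_mulVec, Matrix.one_mulVec,
    sympForm_smul_left, sympForm_smul_right, mul_assoc]

theorem sim_refl (h2 : (2 : F) ≠ 0) {u : GG} (hu : u * u = -1) (huS : u ∈ Cfsg.spGL 2 F) :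
    Sim (refl h2 u hu) 2 := refl_form h2 hu huS

theorem mem_spGL_of_sim_one {x : GG} (hx : Sim x 1) : x ∈ Cfsg.spGL 2 F := by
  intro v w
  have := hx v w
  rw [one_mul] at this
  exact this

/-- Piece N5: the normalizer of `R` in `Sp_4(F)` has an element of order 5. -/
theorem exists_order_five [Fintype F] (h2 : (2 : F) ≠ 0) {R : Subgroup GG} (hR : XSData R) :
    ∃ y ∈ Cfsg.spGL 2 F, y ∈ Cfsg.Geo.subgroupNormalizer R ∧ orderOf y = 5 := by
  classical
  obtain ⟨a, ha, b, hb, c, hc, d, hd, haa, hbb, hab, hcc, hdd, hcd, hac, had, hbc, hbd⟩ := hR.gens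
  have hF := five_of_gens haa hbb hab hcc hdd hcd hac had hbc hbd
  set b3 := a * b * c with hb3
  set b4 := a * b * d with hb4
  set b5 := a * b * (c * d) with hb5
  have m3 : b3 ∈ R := R.mul_mem (R.mul_mem ha hb) hc
  have m4 : b4 ∈ R := R.mul_mem (R.mul_mem ha hb) hd
  have m5 : b5 ∈ R := R.mul_mem (R.mul_mem ha hb) (R.mul_mem hc hd)
  obtain ⟨g, hg, e1, e2, e3, e4, e5⟩ := five_relations h2 hF
  have h4 : (4 : F)⁻¹ ≠ 0 := inv_ne_zero (four_ne_zero' h2)
  set G : GG := scal (4 : F)⁻¹ h4 * g with hG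
  -- membership in the normalizer
  have hgN : g ∈ Cfsg.Geo.subgroupNormalizer R := by
    rw [hg]
    refine Subgroup.mul_mem _ (Subgroup.mul_mem _ (Subgroup.mul_mem _ ?_ ?_) ?_) ?_
    · exact refl_mem_normalizer h2 hR (R.mul_mem ha hb) _
    · exact refl_mem_normalizer h2 hR (R.mul_mem hb m3) _
    · exact refl_mem_normalizer h2 hR (R.mul_mem m3 m4) _
    · exact refl_mem_normalizer h2 hR (R.mul_mem m4 m5) _
  have hGN : G ∈ Cfsg.Geo.subgroupNormalizer R :=
    Subgroup.mul_mem _ (scal_mem_normalizer _ h4 R) hgN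
  -- membership in Sp
  have hgS : Sim g (2 * 2 * 2 * 2) := by
    rw [hg]
    refine Sim.mul (Sim.mul (Sim.mul ?_ ?_) ?_) ?_
    · exact sim_refl h2 _ (hR.le_sp (R.mul_mem ha hb))
    · exact sim_refl h2 _ (hR.le_sp (R.mul_mem hb m3))
    · exact sim_refl h2 _ (hR.le_sp (R.mul_mem m3 m4))
    · exact sim_refl h2 _ (hR.le_sp (R.mul_mem m4 m5))
  have hGS : G ∈ Cfsg.spGL 2 F := by
    apply mem_spGL_of_sim_one
    have := Sim.mul (sim_scal (4 : F)⁻¹ h4) hgS
    have e : (4 : F)⁻¹ * (4 : F)⁻¹ * (2 * 2 * 2 * 2) = 1 := by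
      have h4' := four_ne_zero' h2
      field_simp
      norm_num
    rwa [e] at this
  -- the conjugation action
  have pass : ∀ x y : GG, g * x = y * g → G * x * G⁻¹ = y := by
    intro x y h
    rw [hG, mul_assoc (scal _ h4), h, ← mul_assoc, scal_comm, mul_assoc y]
    group
  have passn : ∀ x y : GG, g * x = y * g → G * (-x) * G⁻¹ = -y := by
    intro x y h
    rw [mul_neg, neg_mul, pass x y h]
  let cj : GG → GG := fun x => G * x * G⁻¹
  have c1 : cj a = -b := pass _ _ e1
  have c2 : cj (-b) = b3 := by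
    have := passn _ _ e2
    rwa [neg_neg] at this
  have c3 : cj b3 = -b4 := pass _ _ e3
  have c4 : cj (-b4) = b5 := by
    have := passn _ _ e4
    rwa [neg_neg] at this
  have c5 : cj b5 = a := pass _ _ e5
  have hper : Function.IsPeriodicPt cj 5 a := by
    show cj^[5] a = a
    simp only [Function.iterate_succ, Function.iterate_zero, Function.comp_apply, id_eq]
    rw [c1, c2, c3, c4, c5]
  have hnfix : ¬ Function.IsFixedPt cj a := by
    intro h
    have h' : -b = a := by rw [← c1]; exact h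
    have : a * b = b * a := by rw [← h']; simp
    rw [hab] at this
    exact neg_ne_self h2 _ this
  have hmin : Function.minimalPeriod cj a = 5 := by
    have : Fact (Nat.Prime 5) := ⟨Nat.prime_five⟩
    exact Function.minimalPeriod_eq_prime hper hnfix
  have hm : Function.IsPeriodicPt cj (orderOf G) a := by
    show cj^[orderOf G] a = a
    rw [← conj_pow_eq G a (orderOf G), pow_orderOf_eq_one]
    group
  have h5 : 5 ∣ orderOf G := by
    rw [← hmin]
    exact hm.minimalPeriod_dvd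
  have hpos : 0 < orderOf G := orderOf_pos G
  obtain ⟨k, hk⟩ := h5
  have hk0 : k ≠ 0 := by
    rintro rfl
    rw [mul_zero] at hk
    omega
  refine ⟨G ^ k, Subgroup.pow_mem _ hGS k, Subgroup.pow_mem _ hGN k, ?_⟩
  rw [orderOf_pow_of_dvd hk0 ⟨5, by rw [hk, mul_comm]⟩, hk]
  exact Nat.mul_div_cancel 5 (Nat.pos_of_ne_zero hk0)

end Cfsg.Agent.Helper5.XS
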