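import Mathlib
import Cfsg.Agent.Helper5.XSGlue

set_option autoImplicit false
set_option linter.unusedSectionVars false
set_option linter.unusedSimpArgs false
set_option linter.unusedVariables false
open scoped MatrixGroups Matrix

/-!
S6002: piece D, from the hypotheses on `R` to the matrix-level description `XSData R`.
-/

namespace Cfsg.Agent.Helper5.XS

/-- minus type: two commuting involutions generate, with the centre, a group of order at most 4. -/
theorem no_eight_abstract {G : Type*} [Group G] [Finite G] (h32 : Nat.card G = 32)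
    (hminus : ∀ A : Subgroup G, IsMulCommutative A → (∀ x ∈ A, x * x = 1) → Nat.card A < 2 ^ (2 + 1))
    {z : G} (hz1 : z ≠ 1) (hzz : z * z = 1) (hzc : ∀ g, g * z = z * g) {e₁ e₂ : G}
    (h1 : e₁ * e₁ = 1) (h2 : e₂ * e₂ = 1) (hc : e₁ * e₂ = e₂ * e₁) :
    e₁ = 1 ∨ e₁ = z ∨ e₂ = 1 ∨ e₂ = z ∨ e₁ = e₂ ∨ e₁ = z * e₂ := by
  classical
  by_contra hcon
  push Not at hcon
  obtain ⟨n1, n2, n3, n4, n5, n6⟩ := hcon
  have hcommS : ∀ x ∈ ({z, e₁, e₂} : Set G), ∀ y ∈ ({z, e₁, e₂} : Set G), x * y = y * x := by
    intro x hx y hy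
    simp only [Set.mem_insert_iff, Set.mem_singleton_iff] at hx hy
    rcases hx with rfl | rfl | rfl <;> rcases hy with rfl | rfl | rfl <;>
      first | rfl | exact hc | exact hc.symm | exact hzc _ | exact (hzc _).symm
  have hAc : IsMulCommutative (Subgroup.closure ({z, e₁, e₂} : Set G)) :=
    Subgroup.isMulCommutative_closure hcommS
  have hA2 : ∀ x ∈ Subgroup.closure ({z, e₁, e₂} : Set G), x * x = 1 := by
    intro x hx
    induction hx using Subgroup.closure_induction with
    | mem x hx =>
      simp only [Set.mem_insert_iff, Set.mem_singleton_iff] at hx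
      rcases hx with rfl | rfl | rfl
      exacts [hzz, h1, h2]
    | one => simp
    | mul x y hx hy ihx ihy =>
      have hxy : x * y = y * x := by
        have := hAc.is_comm.comm ⟨x, hx⟩ ⟨y, hy⟩
        exact congrArg Subtype.val this
      calc x * y * (x * y) = x * (y * x) * y := by group
        _ = x * (x * y) * y := by rw [hxy]
        _ = (x * x) * (y * y) := by group
        _ = 1 := by rw [ihx, ihy, one_mul]
    | inv x hx ih =>
      calc x⁻¹ * x⁻¹ = (x * x)⁻¹ := by group
        _ = 1 := by rw [ih, inv_one]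
  have hlt := hminus _ hAc hA2
  have hdvd : Nat.card (Subgroup.closure ({z, e₁, e₂} : Set G)) ∣ 2 ^ 5 := by
    have := Subgroup.card_subgroup_dvd_card (Subgroup.closure ({z, e₁, e₂} : Set G))
    rw [h32] at this
    exact this
  have hle : Nat.card (Subgroup.closure ({z, e₁, e₂} : Set G)) ≤ 4 := by
    obtain ⟨k, hk, hk'⟩ := (Nat.dvd_prime_pow Nat.prime_two).mp hdvd
    rw [hk'] at hlt ⊢
    have : k < 3 := (Nat.pow_lt_pow_iff_right (by norm_num)).mp hlt
    interval_cases k <;> norm_num
  -- five elements
  have hT : ({1, z, e₁, z * e₁, e₂} : Finset G).card = 5 := by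
    rw [Finset.card_insert_of_notMem, Finset.card_insert_of_notMem, Finset.card_insert_of_notMem,
      Finset.card_insert_of_notMem, Finset.card_singleton]
    · simp only [Finset.mem_singleton]
      intro h
      apply n6
      rw [← h, ← mul_assoc, hzz, one_mul]
    · simp only [Finset.mem_insert, Finset.mem_singleton, not_or]
      refine ⟨?_, n5⟩
      intro h
      apply hz1
      calc z = (z * e₁) * e₁ := by rw [mul_assoc, h1, mul_one]
        _ = 1 := by rw [← h, h1]
    · simp only [Finset.mem_insert, Finset.mem_singleton, not_or]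
      refine ⟨fun h => n2 h.symm, ?_, fun h => n4 h.symm⟩
      intro h
      apply n1
      calc e₁ = z * (z * e₁) := by rw [← mul_assoc, hzz, one_mul]
        _ = 1 := by rw [← h, hzz]
    · simp only [Finset.mem_insert, Finset.mem_singleton, not_or]
      refine ⟨fun h => hz1 h.symm, fun h => n1 h.symm, ?_, fun h => n3 h.symm⟩
      intro h
      apply n2
      calc e₁ = z * (z * e₁) := by rw [← mul_assoc, hzz, one_mul]
        _ = z := by rw [← h, mul_one]
  have hsub : (({1, z, e₁, z * e₁, e₂} : Finset G) : Set G) ⊆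
      ((Subgroup.closure ({z, e₁, e₂} : Set G) : Subgroup G) : Set G) := by
    intro x hx
    simp only [Finset.coe_insert, Finset.coe_singleton, Set.mem_insert_iff, Set.mem_singleton_iff] at hx
    have hz : z ∈ Subgroup.closure ({z, e₁, e₂} : Set G) := Subgroup.subset_closure (by simp)
    have he1 : e₁ ∈ Subgroup.closure ({z, e₁, e₂} : Set G) := Subgroup.subset_closure (by simp)
    have he2 : e₂ ∈ Subgroup.closure ({z, e₁, e₂} : Set G) := Subgroup.subset_closure (by simp)
    rcases hx with rfl | rfl | rfl | rfl | rfl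
    · exact Subgroup.one_mem _
    · exact hz
    · exact he1
    · exact Subgroup.mul_mem _ hz he1
    · exact he2
  have hcard : 5 ≤ Nat.card (Subgroup.closure ({z, e₁, e₂} : Set G)) := by
    rw [← hT, ← Set.ncard_coe_finset]
    have e : Nat.card (Subgroup.closure ({z, e₁, e₂} : Set G)) =
        ((Subgroup.closure ({z, e₁, e₂} : Set G) : Subgroup G) : Set G).ncard :=
      Nat.card_coe_set_eq _
    rw [e]
    exact Set.ncard_le_ncard hsub (Set.toFinite _)
  omega

variable {F : Type*} [Field F]

local notation "II" => (Fin 2 ⊕ Fin 2)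
local notation "MM" => Matrix (Fin 2 ⊕ Fin 2) (Fin 2 ⊕ Fin 2) F
local notation "GG" => GL (Fin 2 ⊕ Fin 2) F

/-- from the abstract structure of `R` to `XSData R`. -/
theorem xsdata_of_struct (h2 : (2 : F) ≠ 0) (R : Subgroup GG)
    (hRi : Cfsg.Geo.ActsAbsolutelyIrreducibly (Cfsg.Geo.matrixSet R))
    (hRf : R ≤ Cfsg.spGL 2 F) (hR5 : Nat.card R = 2 ^ 5)
    (hRm : Cfsg.Geo.IsOfMinusType 2 R)
    (hG : ∃ z a b c d : ↥R, z ≠ 1 ∧ z * z = 1 ∧ (∀ g, g * z = z * g) ∧
      (∀ g, (∀ h, g * h = h * g) → g = 1 ∨ g = z) ∧
      (∀ g h, g * h = h * g ∨ g * h = z * (h * g)) ∧ (∀ g, g * g = 1 ∨ g * g = z) ∧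
      a * a = 1 ∧ b * b = 1 ∧ a * b = z * (b * a) ∧ c * c = z ∧ d * d = z ∧ c * d = z * (d * c) ∧
      a * c = c * a ∧ a * d = d * a ∧ b * c = c * b ∧ b * d = d * b) : XSData R := by
  obtain ⟨z, a, b, c, d, hz1, hzz, hzc, hcen, hcomm, hsq, haa, hbb, hab, hcc, hdd, hcd, hac, had, hbc,
    hbd⟩ := hG
  have h32 : Nat.card R = 32 := by rw [hR5]; norm_num
  haveI : Finite ↥R := Nat.finite_of_card_ne_zero (by rw [h32]; norm_num)
  -- `z = -1`
  obtain ⟨c0, hc0⟩ : ∃ c0 : F, ((z : GG) : MM) = c0 • (1 : MM) := hRi.2 _ (by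
    rintro s ⟨g, hg, rfl⟩
    have h := congrArg (fun u : ↥R => ((u : GG) : MM)) (hzc ⟨g, hg⟩)
    simp only [Subgroup.coe_mul, Units.val_mul] at h
    exact h.symm)
  have hzz' : ((z : GG) : MM) * ((z : GG) : MM) = 1 := by
    have h := congrArg (fun u : ↥R => ((u : GG) : MM)) hzz
    simpa only [Subgroup.coe_mul, Units.val_mul, Subgroup.coe_one, Units.val_one] using h
  have hcc0 : c0 * c0 = 1 := by
    rw [hc0, Matrix.smul_mul, Matrix.mul_smul, Matrix.mul_one, smul_smul] at hzz'
    have := congrFun (congrFun hzz' (Sum.inl 0)) (Sum.inl 0)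
    simpa using this
  have hc0' : c0 = -1 := by
    have : (c0 - 1) * (c0 + 1) = 0 := by linear_combination hcc0
    rcases mul_eq_zero.mp this with h | h
    · exfalso
      apply hz1
      apply Subtype.ext
      apply Units.ext
      rw [hc0, sub_eq_zero.mp h, one_smul]
      rfl
    · exact eq_neg_of_add_eq_zero_left h
  have hzneg : (z : GG) = -1 := by
    apply Units.ext
    rw [hc0, hc0', neg_one_smul]
    rfl
  have coe_z_mul : ∀ u : ↥R, ((z * u : ↥R) : GG) = -(u : GG) := by
    intro u
    rw [Subgroup.coe_mul, hzneg, neg_one_mul]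
  have hzmem : (-1 : GG) ∈ R := hzneg ▸ z.2
  refine ⟨hRf, h32, hzmem, ?_, ?_, ?_, ?_, ?_, ?_⟩
  · intro g hg h hh
    rcases hcomm ⟨g, hg⟩ ⟨h, hh⟩ with e | e
    · left
      exact congrArg Subtype.val e
    · right
      have := congrArg Subtype.val e
      rw [coe_z_mul] at this
      exact this
  · intro g hg
    rcases hsq ⟨g, hg⟩ with e | e
    · left; exact congrArg Subtype.val e
    · right
      have := congrArg Subtype.val e
      rw [hzneg] at this
      exact this
  · intro g hg hgc
    rcases hcen ⟨g, hg⟩ (fun h => Subtype.ext (hgc h h.2)) with e | e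
    · left; exact congrArg Subtype.val e
    · right
      have := congrArg Subtype.val e
      rw [hzneg] at this
      exact this
  · intro M hM
    apply hRi.2
    rintro s ⟨g, hg, rfl⟩
    exact hM g hg
  · intro e₁ he₁ e₂ he₂ h11 h22 h12
    have := no_eight_abstract (G := ↥R) h32 hRm hz1 hzz hzc (e₁ := ⟨e₁, he₁⟩) (e₂ := ⟨e₂, he₂⟩)
      (Subtype.ext h11) (Subtype.ext h22) (Subtype.ext h12)
    rcases this with e | e | e | e | e | e
    · left; exact congrArg Subtype.val e
    · right; left
      have := congrArg Subtype.val e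
      rw [hzneg] at this
      exact this
    · right; right; left; exact congrArg Subtype.val e
    · right; right; right; left
      have := congrArg Subtype.val e
      rw [hzneg] at this
      exact this
    · right; right; right; right; left; exact congrArg Subtype.val e
    · right; right; right; right; right
      have := congrArg Subtype.val e
      rw [coe_z_mul] at this
      exact this
  · refine ⟨a, a.2, b, b.2, c, c.2, d, d.2, ?_, ?_, ?_, ?_, ?_, ?_, ?_, ?_, ?_, ?_⟩
    · exact congrArg Subtype.val haa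
    · exact congrArg Subtype.val hbb
    · have := congrArg Subtype.val hab
      rw [coe_z_mul] at this
      exact this
    · have := congrArg Subtype.val hcc
      rw [hzneg] at this
      exact this
    · have := congrArg Subtype.val hdd
      rw [hzneg] at this
      exact this
    · have := congrArg Subtype.val hcd
      rw [coe_z_mul] at this
      exact this
    · exact congrArg Subtype.val hac
    · exact congrArg Subtype.val had
    · exact congrArg Subtype.val hbc
    · exact congrArg Subtype.val hbd

end Cfsg.Agent.Helper5.XS
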