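import Mathlib
import Cfsg.Agent.Helper5.XSBad
import Cfsg.Agent.Helper5.XSFiveElt
import Cfsg.Agent.Helper5.XSHyps
import Cfsg.Agent.Helper9.XSFive

set_option autoImplicit false
set_option linter.unusedSectionVars false
set_option linter.unusedSimpArgs false
set_option linter.unusedVariables false
open scoped MatrixGroups Matrix

/-!
S6002: the assembly. `main_of` takes the matrix-level description of `R` and the two conjugacy statements
(pieces A1, A2) as hypotheses.
-/

namespace Cfsg.Agent.Helper5.XS

variable {F : Type*} [Field F] [Fintype F]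

local notation "II" => (Fin 2 ⊕ Fin 2)
local notation "MM" => Matrix (Fin 2 ⊕ Fin 2) (Fin 2 ⊕ Fin 2) F
local notation "GG" => GL (Fin 2 ⊕ Fin 2) F

theorem main_of {p : ℕ} [Fact p.Prime] [CharP F p] (hF : Fintype.card F = p) (hodd : Odd p)
    (R : Subgroup GG) (hR : XSData R)
    (hA1 : ∀ x y : GG, x ∈ Cfsg.spGL 2 F → y ∈ Cfsg.spGL 2 F → x * x = 1 → y * y = 1 → x ≠ 1 → x ≠ -1 →
      y ≠ 1 → y ≠ -1 → ∃ g ∈ Cfsg.spGL 2 F, g⁻¹ * x * g = y)
    (hA2 : ∀ x y : GG, x ∈ Cfsg.spGL 2 F → y ∈ Cfsg.spGL 2 F → x * x = -1 → y * y = -1 →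
      ∃ g ∈ Cfsg.spGL 2 F, g⁻¹ * x * g = y)
    (r : ℕ) [Fact r.Prime]
    (hΩ : r ∣ (Cfsg.Geo.subgroupNormalizer R).relIndex (Cfsg.spGL 2 F)) :
    (∀ x ∈ Cfsg.spGL 2 F, (∃ z : F, ((x ^ r : GG) : MM) = z • (1 : MM)) →
      (∀ z : F, (x : MM) ≠ z • (1 : MM)) →
      ∃ g ∈ Cfsg.spGL 2 F, g⁻¹ * x * g ∈ Cfsg.Geo.subgroupNormalizer R) ↔
    (r = 2 ∨ (r = 5 ∧ orderOf (p : ZMod 5) = 4)) := by
  have hoddF : Odd (Fintype.card F) := hF ▸ hodd
  have h2 : (2 : F) ≠ 0 := by
    intro h
    have h2p : ((2 : ℕ) : F) = 0 := by exact_mod_cast h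
    rw [CharP.cast_eq_zero_iff F p] at h2p
    have hp : p.Prime := Fact.out
    have : p = 2 := (Nat.prime_dvd_prime_iff_eq hp Nat.prime_two).mp h2p
    subst this
    exact absurd hodd (by decide)
  have hRN : R ≤ Cfsg.Geo.subgroupNormalizer R := Subgroup.le_normalizer
  have hnegN : ∀ n : GG, n ∈ Cfsg.Geo.subgroupNormalizer R → -n ∈ Cfsg.Geo.subgroupNormalizer R := by
    intro n hn
    have : -n = (-1 : GG) * n := by simp
    rw [this]
    exact Subgroup.mul_mem _ (hRN hR.neg_one_mem) hn
  constructor
  · intro hall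
    by_contra hne
    push Not at hne
    obtain ⟨x, hx, hxr, hxs, hbad⟩ := exists_bad hF hodd hR r hΩ hne.1 (fun h => hne.2 h.1 h.2)
    obtain ⟨g, hg, hgx⟩ := hall x hx hxr hxs
    exact hbad g hg hgx
  · rintro (rfl | ⟨rfl, h5⟩)
    · intro x hx ⟨z, hz⟩ hxs
      have hx2 : x ^ 2 ∈ Cfsg.spGL 2 F := Subgroup.pow_mem _ hx 2
      obtain ⟨a, ha, b, hb, c, hc, d, hd, haa, hbb, hab, hcc, hdd, hcd, -⟩ := hR.gens
      rcases scalar_sq_of_mem hx2 hz with rfl | rfl
      · have hxx : x * x = 1 := by
          apply Units.ext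
          rw [← pow_two, hz, one_smul, Units.val_one]
        have hx1 : x ≠ 1 := by
          rintro rfl
          exact hxs 1 (by simp)
        have hx1' : x ≠ -1 := by
          rintro rfl
          exact hxs (-1) (by simp)
        have ha1 : a ≠ 1 := by
          rintro rfl
          rw [one_mul, mul_one] at hab
          have : (b : MM) = -(b : MM) := by
            have := congrArg (fun g : GG => (g : MM)) hab
            simpa using this
          have hb0 : (2 : F) • (b : MM) = 0 := by
            rw [two_smul]; nth_rewrite 1 [this]; simp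
          have : (b : MM) = 0 := by
            rcases smul_eq_zero.mp hb0 with h | h
            · exact absurd h h2
            · exact h
          have hdet := b.isUnit.ne_zero
          exact hdet this
        have ha1' : a ≠ -1 := by
          rintro rfl
          have hab' : (-1 : GG) * b = -(b * -1) := hab
          have : (b : MM) = -(b : MM) := by
            have := congrArg (fun g : GG => (g : MM)) hab'
            simp only [Units.val_mul, Units.val_neg, Units.val_one, neg_mul, one_mul, mul_neg, mul_one,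
              neg_neg] at this
            have h3 : (b : MM) = -(b : MM) := by
              have := congrArg (fun M : MM => -M) this
              simpa using this
            exact h3
          have hb0 : (2 : F) • (b : MM) = 0 := by
            rw [two_smul]; nth_rewrite 1 [this]; simp
          have : (b : MM) = 0 := by
            rcases smul_eq_zero.mp hb0 with h | h
            · exact absurd h h2
            · exact h
          exact b.isUnit.ne_zero this
        obtain ⟨g, hg, hgx⟩ := hA1 x a hx (hR.le_sp ha) hxx haa hx1 hx1' ha1 ha1'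
        exact ⟨g, hg, hgx ▸ hRN ha⟩
      · have hxx : x * x = -1 := by
          apply Units.ext
          rw [← pow_two, hz]
          simp
        obtain ⟨g, hg, hgx⟩ := hA2 x c hx (hR.le_sp hc) hxx hcc
        exact ⟨g, hg, hgx ▸ hRN hc⟩
    · intro x hx ⟨z, hz⟩ hxs
      have hx5 : x ^ 5 ∈ Cfsg.spGL 2 F := Subgroup.pow_mem _ hx 5
      obtain ⟨y, hyS, hyN, hy5⟩ := exists_order_five h2 hR
      have key : ∀ x' : GG, x' ∈ Cfsg.spGL 2 F → x' ^ 5 = 1 → x' ≠ 1 →
          ∃ g ∈ Cfsg.spGL 2 F, g⁻¹ * x' * g ∈ Cfsg.Geo.subgroupNormalizer R := by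
        intro x' hx' hx'5 hx'1
        obtain ⟨g, hg, k, hk⟩ := Cfsg.Agent.Helper9.XS.conj_pow_of_order_five hF h5 (Cfsg.spGL 2 F) hx' hyS hy5 hx'5 hx'1
        exact ⟨g, hg, hk ▸ Subgroup.pow_mem _ hyN k⟩
      rcases scalar_sq_of_mem hx5 hz with rfl | rfl
      · have h1 : x ^ 5 = 1 := by
          apply Units.ext
          rw [hz, one_smul, Units.val_one]
        have hx1 : x ≠ 1 := by
          rintro rfl
          exact hxs 1 (by simp)
        exact key x hx h1 hx1
      · have h1 : (-x) ^ 5 = 1 := by
          apply Units.ext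
          have : ((-x) ^ 5 : GG) = -(x ^ 5) := by
            rw [Odd.neg_pow (by decide)]
          rw [this, Units.val_neg, hz]
          simp
        have hx1 : -x ≠ 1 := by
          intro h
          have : x = -1 := by rw [← h]; simp
          subst this
          exact hxs (-1) (by simp)
        have hnx : -x ∈ Cfsg.spGL 2 F := by
          have : -x = (-1 : GG) * x := by simp
          rw [this]
          exact Subgroup.mul_mem _ neg_one_mem_spGL hx
        obtain ⟨g, hg, hgN⟩ := key (-x) hnx h1 hx1
        refine ⟨g, hg, ?_⟩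
        have := hnegN _ hgN
        have e : -(g⁻¹ * -x * g) = g⁻¹ * x * g := by simp
        rwa [e] at this

end Cfsg.Agent.Helper5.XS
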