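import Mathlib

/-!
Helper lemmas (helper5): the group `Z₂ × D₈` and the combinatorial core of the proof that a group with such
a Sylow 2-subgroup has a subgroup of index two.
-/

set_option autoImplicit false

namespace Cfsg.Agent.Helper5.Z2D8

abbrev S0 := Multiplicative (ZMod 2) × DihedralGroup 4

def z0 : S0 := (Multiplicative.ofAdd 1, 1)
def c0 : S0 := (1, DihedralGroup.r 2)
def a0 : S0 := (1, DihedralGroup.r 1)
def A (j : ZMod 4) : S0 := (1, DihedralGroup.sr j)
def B (j : ZMod 4) : S0 := (Multiplicative.ofAdd 1, DihedralGroup.sr j)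
def ev (j : ZMod 4) : Prop := j = 0 ∨ j = 2

instance : DecidablePred ev := fun j => by unfold ev; infer_instance

def cen (x : S0) : Prop := ∀ y : S0, x * y = y * x
instance : DecidablePred cen := fun x => by unfold cen; infer_instance

def inv0 (x : S0) : Prop := x ≠ 1 ∧ x * x = 1
instance : DecidablePred inv0 := fun x => by unfold inv0; infer_instance

def chiD : DihedralGroup 4 →* ℤˣ :=
  MonoidHom.mk' (fun d => match d with
    | DihedralGroup.r _ => 1
    | DihedralGroup.sr _ => -1) (by decide)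

def chiZ : Multiplicative (ZMod 2) →* ℤˣ :=
  MonoidHom.mk' (fun i => if i = 1 then 1 else -1) (by decide)

def chi1 : S0 →* ℤˣ := chiD.comp (MonoidHom.snd _ _)
def chi4 : S0 →* ℤˣ := chiZ.comp (MonoidHom.fst _ _)
def chi5 : S0 →* ℤˣ := chi1 * chi4

set_option maxRecDepth 100000 in
theorem sq_eq : ∀ x : S0, x * x = 1 ∨ x * x = c0 := by decide

theorem a0_sq : a0 * a0 = c0 := by decide

theorem c0_ne_one : c0 ≠ 1 := by decide

set_option maxRecDepth 100000 in
theorem cen_iff : ∀ x : S0, cen x ↔ (x = 1 ∨ x = z0 ∨ x = c0 ∨ x = z0 * c0) := by decide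

theorem z0_ne_c0 : z0 ≠ c0 := by decide
theorem z0_ne_one : z0 ≠ 1 := by decide
theorem z0_ne_z0c0 : z0 ≠ z0 * c0 := by decide
theorem z0c0_ne_c0 : z0 * c0 ≠ c0 := by decide
theorem cen_z0 : cen z0 := by decide
theorem cen_c0 : cen c0 := by decide
theorem cen_z0c0 : cen (z0 * c0) := by decide
theorem z0_sq : z0 * z0 = 1 := by decide
theorem c0_sq : c0 * c0 = 1 := by decide
theorem not_comm : a0 * A 0 ≠ A 0 * a0 := by decide

set_option maxRecDepth 100000 in
theorem cen_of_inv_chi1 : ∀ x : S0, inv0 x → chi1 x = 1 → cen x := by decide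

set_option maxRecDepth 100000 in
theorem card_E0 : ∀ u : S0, inv0 u → ¬ cen u →
    (Finset.univ.filter (fun x : S0 => x * u = u * x)).card = 8 := by decide

set_option maxRecDepth 100000 in
theorem card_E1 : ∀ v : S0, inv0 v → ¬ cen v →
    (Finset.univ.filter (fun y : S0 => y * v = v * y ∧ y * y = 1)).card = 8 := by decide

set_option maxRecDepth 100000 in
theorem sq_of_comm : ∀ u : S0, inv0 u → ¬ cen u → ∀ x : S0, x * u = u * x → x * x = 1 := by decide

set_option maxRecDepth 100000 in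
theorem cen_sq : ∀ w : S0, cen w → w * w = 1 := by decide

set_option maxRecDepth 100000 in
theorem exists_conj_mul_c0 : ∀ p : S0, inv0 p → ¬ cen p → ∃ s : S0, s * p * s⁻¹ = p * c0 := by decide

set_option maxRecDepth 100000 in
theorem inv_chi4 : ∀ y : S0, inv0 y → chi4 y = 1 → y = c0 ∨ ∃ j : ZMod 4, y = A j := by decide

set_option maxRecDepth 100000 in
theorem inv_chi5 : ∀ y : S0, inv0 y → chi5 y = 1 → y = c0 ∨ ∃ j : ZMod 4, y = B j := by decide

set_option maxRecDepth 100000 in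
theorem conj_A : ∀ j j' : ZMod 4, (ev j ↔ ev j') → ∃ s : S0, s * A j * s⁻¹ = A j' := by decide

set_option maxRecDepth 100000 in
theorem conj_B : ∀ j j' : ZMod 4, (ev j ↔ ev j') → ∃ s : S0, s * B j * s⁻¹ = B j' := by decide

set_option maxRecDepth 100000 in
theorem comm_A : ∀ (j : ZMod 4) (x : S0), x * A j = A j * x → ¬ cen x →
    ∃ j' : ZMod 4, (ev j ↔ ev j') ∧ (x = A j' ∨ x = B j') := by decide

theorem inv0_A : ∀ j : ZMod 4, inv0 (A j) ∧ ¬ cen (A j) := by decide

/-- The extremal-conjugation hypothesis for the character `χ`. -/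
def Ext (R : S0 → S0 → Prop) (χ : S0 →* ℤˣ) : Prop :=
  ∀ y : S0, inv0 y → ∃ f : S0 → S0,
    (∀ x1 x2 : S0, x1 * y = y * x1 → x2 * y = y * x2 → f (x1 * x2) = f x1 * f x2) ∧
    (∀ x1 x2 : S0, x1 * y = y * x1 → x2 * y = y * x2 → f x1 = f x2 → x1 = x2) ∧
    (∀ x : S0, x * y = y * x → R x (f x)) ∧ χ (f y) = 1

section core

variable (R : S0 → S0 → Prop) (hrefl : ∀ x, R x x) (hsymm : ∀ x y, R x y → R y x)
  (htrans : ∀ x y z, R x y → R y z → R x z)
  (h1 : ∀ s x : S0, R x (s * x * s⁻¹))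
  (h2 : ∀ x y : S0, cen x → cen y → R x y → x = y)

include hrefl hsymm htrans h1 h2

/-- From the extremal property for `χ₁`: every noncentral involution `u` centralizes a noncentral element
fused to `c0`. -/
theorem exists_fused_c0 (hE1 : Ext R chi1) (u : S0) (hu : inv0 u) (hun : ¬ cen u) :
    ∃ x : S0, x * u = u * x ∧ ¬ cen x ∧ R x c0 := by
  classical
  obtain ⟨f, hmul, hinj, hR, hchi⟩ := hE1 u hu
  have hc1 : ∀ w : S0, cen w → w * u = u * w := fun w hw => hw u
  have h1u : (1 : S0) * u = u * 1 := by simp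
  have huu : u * u = u * u := rfl
  have hf1 : f 1 = 1 := by
    have := hmul 1 1 h1u h1u
    rw [mul_one] at this
    exact (mul_eq_left).mp this.symm
  -- t = f u is central
  have ht2 : f u * f u = 1 := by rw [← hmul u u huu huu, hu.2, hf1]
  have htne : f u ≠ 1 := by
    intro h
    have := hinj u 1 huu h1u (h.trans hf1.symm)
    exact hu.1 this
  have htcen : cen (f u) := cen_of_inv_chi1 (f u) ⟨htne, ht2⟩ hchi
  -- f does not fix the centre pointwise
  have hnotall : ¬ (f z0 = z0 ∧ f c0 = c0 ∧ f (z0 * c0) = z0 * c0) := by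
    rintro ⟨hz, hc, hzc⟩
    rcases (cen_iff (f u)).mp htcen with h | h | h | h
    · exact htne h
    · have := hinj u z0 huu (hc1 z0 cen_z0) (h.trans hz.symm)
      exact hun (this ▸ cen_z0)
    · have := hinj u c0 huu (hc1 c0 cen_c0) (h.trans hc.symm)
      exact hun (this ▸ cen_c0)
    · have := hinj u (z0 * c0) huu (hc1 _ cen_z0c0) (h.trans hzc.symm)
      exact hun (this ▸ cen_z0c0)
  -- some central x0 with f x0 noncentral
  obtain ⟨x0, hx0c, hx0ne, hvn⟩ : ∃ x0 : S0, cen x0 ∧ x0 ≠ 1 ∧ ¬ cen (f x0) := by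
    by_contra hno
    push Not at hno
    apply hnotall
    refine ⟨?_, ?_, ?_⟩
    · exact (h2 z0 (f z0) cen_z0 (hno z0 cen_z0 (by decide)) (hR z0 (hc1 z0 cen_z0))).symm
    · exact (h2 c0 (f c0) cen_c0 (hno c0 cen_c0 (by decide)) (hR c0 (hc1 c0 cen_c0))).symm
    · exact (h2 _ (f (z0 * c0)) cen_z0c0 (hno _ cen_z0c0 (by decide))
        (hR _ (hc1 _ cen_z0c0))).symm
  set v := f x0 with hv
  have hx0u : x0 * u = u * x0 := hc1 x0 hx0c
  have hvinv : inv0 v := by
    refine ⟨?_, ?_⟩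
    · intro h
      exact hx0ne (hinj x0 1 hx0u h1u (h.trans hf1.symm))
    · rw [hv, ← hmul x0 x0 hx0u hx0u, cen_sq x0 hx0c, hf1]
  -- image of the centralizer of u
  set E0 := Finset.univ.filter (fun x : S0 => x * u = u * x) with hE0
  set E1 := Finset.univ.filter (fun y : S0 => y * v = v * y ∧ y * y = 1) with hE1'
  have hsub : E0.image f ⊆ E1 := by
    intro y hy
    rw [Finset.mem_image] at hy
    obtain ⟨x, hx, rfl⟩ := hy
    rw [hE0, Finset.mem_filter] at hx
    rw [hE1', Finset.mem_filter]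
    refine ⟨Finset.mem_univ _, ?_, ?_⟩
    · rw [hv, ← hmul x x0 hx.2 hx0u, ← hmul x0 x hx0u hx.2, hx0c x]
    · rw [← hmul x x hx.2 hx.2, sq_of_comm u hu hun x hx.2, hf1]
  have hcardimg : (E0.image f).card = 8 := by
    rw [Finset.card_image_of_injOn, card_E0 u hu hun]
    intro x1 hx1 x2 hx2 h
    rw [hE0, Finset.coe_filter, Set.mem_setOf_eq] at hx1 hx2
    exact hinj x1 x2 hx1.2 hx2.2 h
  have heq : E0.image f = E1 := by
    apply Finset.eq_of_subset_of_card_le hsub
    rw [hcardimg, card_E1 v hvinv hvn]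
  have hc0E1 : c0 ∈ E1 := by
    rw [hE1', Finset.mem_filter]
    exact ⟨Finset.mem_univ _, cen_c0 v, c0_sq⟩
  rw [← heq, Finset.mem_image] at hc0E1
  obtain ⟨x, hx, hfx⟩ := hc0E1
  rw [hE0, Finset.mem_filter] at hx
  have hRx : R x c0 := by rw [← hfx]; exact hR x hx.2
  by_cases hxc : cen x
  · exfalso
    have hxc0 : x = c0 := h2 x c0 hxc cen_c0 hRx
    rw [hxc0] at hfx
    set pp := f z0 with hpp
    have hz0u : z0 * u = u * z0 := hc1 z0 cen_z0
    have hc0u : c0 * u = u * c0 := hc1 c0 cen_c0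
    have hfzc : f (z0 * c0) = pp * c0 := by rw [hmul z0 c0 hz0u hc0u, hfx]
    by_cases hpc : cen pp
    · have hpz : pp = z0 := (h2 z0 pp cen_z0 hpc (hR z0 hz0u)).symm
      apply hnotall
      exact ⟨hpz, hfx, by rw [hfzc, hpz]⟩
    · have hpinv : inv0 pp := by
        refine ⟨?_, ?_⟩
        · intro h
          exact (by decide : z0 ≠ 1) (hinj z0 1 hz0u h1u (h.trans hf1.symm))
        · rw [hpp, ← hmul z0 z0 hz0u hz0u, z0_sq, hf1]
      obtain ⟨s, hs⟩ := exists_conj_mul_c0 pp hpinv hpc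
      have hr1 : R pp (pp * c0) := by rw [← hs]; exact h1 s pp
      have hr2 : R z0 pp := hR z0 hz0u
      have hr3 : R (z0 * c0) (pp * c0) := by rw [← hfzc]; exact hR _ (hc1 _ cen_z0c0)
      have hr4 : R z0 (z0 * c0) := htrans _ _ _ (htrans _ _ _ hr2 hr1) (hsymm _ _ hr3)
      exact z0_ne_z0c0 (h2 _ _ cen_z0 cen_z0c0 hr4)
  · exact ⟨x, hx.2, hxc, hRx⟩

theorem core (hE1 : Ext R chi1) (hE4 : Ext R chi4) (hE5 : Ext R chi5) : False := by
  have hA : ∀ j j' : ZMod 4, (ev j ↔ ev j') → R (A j) (A j') := by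
    intro j j' h
    obtain ⟨s, hs⟩ := conj_A j j' h
    rw [← hs]; exact h1 s (A j)
  have hB : ∀ j j' : ZMod 4, (ev j ↔ ev j') → R (B j) (B j') := by
    intro j j' h
    obtain ⟨s, hs⟩ := conj_B j j' h
    rw [← hs]; exact h1 s (B j)
  have hz0inv : inv0 z0 := by decide
  have hzcinv : inv0 (z0 * c0) := by decide
  -- images under the χ₄-extremal maps
  have key4 : ∀ w : S0, inv0 w → cen w → w ≠ c0 → ∃ j : ZMod 4, R w (A j) := by
    intro w hw hwc hwne
    obtain ⟨f, hmul, hinj, hR, hchi⟩ := hE4 w hw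
    have hww : w * w = w * w := rfl
    have h1w : (1 : S0) * w = w * 1 := by simp
    have hf1 : f 1 = 1 := by
      have := hmul 1 1 h1w h1w
      rw [mul_one] at this
      exact (mul_eq_left).mp this.symm
    have hinv : inv0 (f w) := by
      refine ⟨?_, ?_⟩
      · intro h
        exact hw.1 (hinj w 1 hww h1w (h.trans hf1.symm))
      · rw [← hmul w w hww hww, hw.2, hf1]
    rcases inv_chi4 (f w) hinv hchi with h | ⟨j, hj⟩
    · exfalso
      have := hR w hww
      rw [h] at this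
      exact hwne (h2 w c0 hwc cen_c0 this)
    · exact ⟨j, by rw [← hj]; exact hR w hww⟩
  obtain ⟨j1, hj1⟩ := key4 z0 hz0inv cen_z0 z0_ne_c0
  obtain ⟨j2, hj2⟩ := key4 (z0 * c0) hzcinv cen_z0c0 z0c0_ne_c0
  have hpar : ¬ (ev j1 ↔ ev j2) := by
    intro h
    have := htrans _ _ _ (htrans _ _ _ hj1 (hA j1 j2 h)) (hsymm _ _ hj2)
    exact z0_ne_z0c0 (h2 _ _ cen_z0 cen_z0c0 this)
  -- no `A j` is fused to `c0`
  have hAc : ∀ j : ZMod 4, ¬ R (A j) c0 := by
    intro j hj
    by_cases h : (ev j1 ↔ ev j)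
    · have := htrans _ _ _ (htrans _ _ _ hj1 (hA j1 j h)) hj
      exact z0_ne_c0 (h2 _ _ cen_z0 cen_c0 this)
    · have h' : (ev j2 ↔ ev j) := by
        by_cases e1 : ev j1 <;> by_cases e2 : ev j2 <;> by_cases e : ev j <;> simp_all
      have := htrans _ _ _ (htrans _ _ _ hj2 (hA j2 j h')) hj
      exact z0c0_ne_c0 (h2 _ _ cen_z0c0 cen_c0 this)
  -- all `B j` are fused to `c0`
  have hBc : ∀ j : ZMod 4, R (B j) c0 := by
    intro j
    obtain ⟨x, hxu, hxc, hxR⟩ := exists_fused_c0 R hrefl hsymm htrans h1 h2 hE1 (A j) (inv0_A j).1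
      (inv0_A j).2
    obtain ⟨j', hjj', hx | hx⟩ := comm_A j x hxu hxc
    · exfalso
      rw [hx] at hxR
      exact hAc j' hxR
    · rw [hx] at hxR
      exact htrans _ _ _ (hB j j' hjj') hxR
  -- χ₅
  obtain ⟨f, hmul, hinj, hR, hchi⟩ := hE5 z0 hz0inv
  have hww : z0 * z0 = z0 * z0 := rfl
  have h1w : (1 : S0) * z0 = z0 * 1 := by simp
  have hf1 : f 1 = 1 := by
    have := hmul 1 1 h1w h1w
    rw [mul_one] at this
    exact (mul_eq_left).mp this.symm
  have hinv : inv0 (f z0) := by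
    refine ⟨?_, ?_⟩
    · intro h
      exact hz0inv.1 (hinj z0 1 hww h1w (h.trans hf1.symm))
    · rw [← hmul z0 z0 hww hww, z0_sq, hf1]
  have hRz : R z0 c0 := by
    rcases inv_chi5 (f z0) hinv hchi with h | ⟨j, hj⟩
    · rw [← h]; exact hR z0 hww
    · have := hR z0 hww
      rw [hj] at this
      exact htrans _ _ _ this (hBc j)
  exact z0_ne_c0 (h2 _ _ cen_z0 cen_c0 hRz)

end core

end Cfsg.Agent.Helper5.Z2D8
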