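import Mathlib
import Cfsg.Agent.Helper2.CyclicSylow2

set_option autoImplicit false
set_option linter.style.haveILetI false

/-!
Helper5: S3361, general lemmas on subgroups of index 2.
-/

namespace Cfsg.Agent.Helper5.Z61

variable {G : Type*} [Group G]

/-- pull back a subgroup of index 2 along a surjective homomorphism -/
theorem exists_normal_index_two_of_surjective {Q : Type*} [Group Q] (f : G →* Q)
    (hf : Function.Surjective f) (h : ∃ M : Subgroup Q, M.index = 2) :
    ∃ M : Subgroup G, M.Normal ∧ M.index = 2 := by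
  obtain ⟨M, hM⟩ := h
  have h2 : (M.comap f).index = 2 := by rw [Subgroup.index_comap_of_surjective M hf, hM]
  exact ⟨M.comap f, Subgroup.normal_of_index_eq_two h2, h2⟩

/-- a non-trivial finite 2-group has a subgroup of index 2 -/
theorem exists_index_two_of_two_group {Q : Type*} [Group Q] [Finite Q] (k : ℕ)
    (hQ : Nat.card Q = 2 ^ (k + 1)) : ∃ M : Subgroup Q, M.index = 2 := by
  haveI : Fact (Nat.Prime 2) := ⟨Nat.prime_two⟩
  obtain ⟨K, hK⟩ := Sylow.exists_subgroup_card_pow_prime (G := Q) 2 (n := k)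
    (by rw [hQ]; exact pow_dvd_pow 2 (Nat.le_succ k))
  refine ⟨K, ?_⟩
  have h1 := K.card_mul_index
  rw [hK, hQ, pow_succ] at h1
  exact Nat.eq_of_mul_eq_mul_left (by positivity) h1

/-- a finite group of order `2 * odd` has a subgroup of index 2 -/
theorem exists_index_two_of_card_two_mul_odd {Q : Type*} [Group Q] [Finite Q] (m : ℕ)
    (hm : ¬ 2 ∣ m) (hQ : Nat.card Q = 2 * m) : ∃ M : Subgroup Q, M.index = 2 := by
  haveI : Fact (Nat.Prime 2) := ⟨Nat.prime_two⟩
  obtain ⟨T⟩ : Nonempty (Sylow 2 Q) := inferInstance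
  have hT : Nat.card (T : Subgroup Q) = 2 := by
    rw [Sylow.card_eq_multiplicity, hQ]
    have hm0 : m ≠ 0 := by rintro rfl; exact hm (dvd_zero 2)
    rw [Nat.factorization_mul (by norm_num) hm0]
    simp only [Finsupp.coe_add, Pi.add_apply]
    rw [Nat.factorization_eq_zero_of_not_dvd hm, Nat.Prime.factorization_self Nat.prime_two]
    norm_num
  have hcyc : IsCyclic (T : Subgroup Q) := isCyclic_of_prime_card hT
  exact Cfsg.Agent.Helper2.exists_index_two_of_cyclic_sylow_two (by rw [hQ]; exact even_two_mul m)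
    T hcyc

/-- a finite commutative group of even order has a subgroup of index 2 -/
theorem exists_index_two_of_comm_even {B : Type*} [Group B] [Finite B]
    (hc : ∀ x y : B, x * y = y * x) (h2 : 2 ∣ Nat.card B) : ∃ M : Subgroup B, M.index = 2 := by
  haveI : Fact (Nat.Prime 2) := ⟨Nat.prime_two⟩
  letI : CommGroup B := { (inferInstance : Group B) with mul_comm := hc }
  set sq : B →* B := powMonoidHom 2 with hsq
  set Q := B ⧸ sq.range with hQ
  -- `Q` is a non-trivial 2-group
  have hQ2 : IsPGroup 2 Q := by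
    intro x
    refine ⟨1, ?_⟩
    obtain ⟨b, rfl⟩ := QuotientGroup.mk_surjective x
    rw [pow_one, ← QuotientGroup.mk_pow, QuotientGroup.eq_one_iff]
    exact ⟨b, rfl⟩
  obtain ⟨n, hn⟩ := hQ2.exists_card_eq
  have hn0 : n ≠ 0 := by
    rintro rfl
    rw [pow_zero] at hn
    -- `sq` is surjective, hence injective, but has a non-trivial kernel
    have htop : sq.range = ⊤ := by
      have : sq.range.index = 1 := hn
      exact Subgroup.index_eq_one.1 this
    have hsurj : Function.Surjective sq := MonoidHom.range_eq_top.1 htop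
    have hinj : Function.Injective sq := Finite.injective_iff_surjective.2 hsurj
    obtain ⟨t, ht⟩ := exists_prime_orderOf_dvd_card' (G := B) 2 h2
    have h1 : sq t = sq 1 := by
      rw [map_one]
      show t ^ 2 = 1
      rw [← ht, pow_orderOf_eq_one]
    have := hinj h1
    rw [this, orderOf_one] at ht
    omega
  obtain ⟨k, rfl⟩ := Nat.exists_eq_succ_of_ne_zero hn0
  obtain ⟨M, -, hM⟩ := exists_normal_index_two_of_surjective (QuotientGroup.mk' sq.range)
    (QuotientGroup.mk'_surjective _) (exists_index_two_of_two_group k hn)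
  exact ⟨M, hM⟩

/-- the intersection of a `Q₈` with its centralizer has order 2 -/
theorem card_inf_centralizer_q8 (N : Subgroup G) (e : N ≃* QuaternionGroup 2) :
    Nat.card (N ⊓ Subgroup.centralizer (N : Set G) : Subgroup G) = 2 := by
  classical
  have hc : Fintype.card (Subgroup.center (QuaternionGroup 2)) = 2 := by decide
  rw [← hc, ← Nat.card_eq_fintype_card]
  let φ : (N ⊓ Subgroup.centralizer (N : Set G) : Subgroup G) → Subgroup.center (QuaternionGroup 2) :=
    fun x => ⟨e ⟨x.1, (Subgroup.mem_inf.1 x.2).1⟩, by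
      rw [Subgroup.mem_center_iff]
      intro y
      obtain ⟨n, rfl⟩ := e.surjective y
      rw [← map_mul, ← map_mul]
      congr 1
      apply Subtype.ext
      exact Subgroup.mem_centralizer_iff.1 (Subgroup.mem_inf.1 x.2).2 n n.2⟩
  apply Nat.card_congr
  refine Equiv.ofBijective φ ⟨?_, ?_⟩
  · intro x y hxy
    have h1 : e ⟨x.1, (Subgroup.mem_inf.1 x.2).1⟩ = e ⟨y.1, (Subgroup.mem_inf.1 y.2).1⟩ :=
      congrArg Subtype.val hxy
    have h2 := e.injective h1
    have h3 : (x : G) = (y : G) := congrArg (fun t : N => (t : G)) h2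
    exact Subtype.ext h3
  · intro y
    refine ⟨⟨(e.symm y.1 : N), Subgroup.mem_inf.2 ⟨(e.symm y.1).2, ?_⟩⟩, ?_⟩
    · rw [Subgroup.mem_centralizer_iff]
      intro n hn
      have h1 : y.1 * e ⟨n, hn⟩ = e ⟨n, hn⟩ * y.1 := (Subgroup.mem_center_iff.1 y.2 _).symm
      have h2 : e.symm (y.1 * e ⟨n, hn⟩) = e.symm (e ⟨n, hn⟩ * y.1) := by rw [h1]
      rw [map_mul, map_mul, e.symm_apply_apply] at h2
      exact (congrArg Subtype.val h2).symm
    · apply Subtype.ext
      show e ⟨(e.symm y.1 : N), _⟩ = y.1
      simp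

end Cfsg.Agent.Helper5.Z61
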