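import Mathlib
import Cfsg.Agent.Helper1.ZNFe
import Cfsg.Agent.Helper2.NearFieldA
import Cfsg.Agent.Helper5.Z89C
import Cfsg.Agent.Helper5.Z61A

set_option autoImplicit false
set_option linter.style.haveILetI false

/-!
Helper5: S3361, a regular linear group of even order with an irreducible cyclic normal subgroup
has a normal subgroup of index 2.
-/

namespace Cfsg.Agent.Helper5.Z61

open Cfsg.Agent.Helper1.ZNF Cfsg.Agent.Helper5.Z89

variable {p : ℕ} [hp : Fact p.Prime] {V : Type*} [AddCommGroup V] [Module (ZMod p) V] [Finite V]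

/-- the centralizer of an irreducible subgroup is commutative -/
theorem centralizer_comm_of_irreducible (H : Subgroup (V ≃ₗ[ZMod p] V)) (A : Subgroup H)
    (hirr : ∀ W : Submodule (ZMod p) V,
      (∀ a ∈ A, ∀ v ∈ W, ((a : H) : V ≃ₗ[ZMod p] V) v ∈ W) → W = ⊥ ∨ W = ⊤) :
    ∀ x y : Subgroup.centralizer (A : Set H), x * y = y * x := by
  classical
  set S : Set (Module.End (ZMod p) V) :=
    {f | ∃ a ∈ A, f = (((a : H) : V ≃ₗ[ZMod p] V) : V →ₗ[ZMod p] V)} with hS
  have hirr' : ∀ W : Submodule (ZMod p) V, (∀ s ∈ S, ∀ w ∈ W, s w ∈ W) → W = ⊥ ∨ W = ⊤ := by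
    intro W hW
    apply hirr W
    intro a ha v hv
    exact hW _ ⟨a, ha, rfl⟩ v hv
  set C := Subgroup.centralizer (A : Set H) with hC
  have hcoe : ∀ x ∈ C, ∀ s ∈ S,
      s * (((x : H) : V ≃ₗ[ZMod p] V) : V →ₗ[ZMod p] V) =
        (((x : H) : V ≃ₗ[ZMod p] V) : V →ₗ[ZMod p] V) * s := by
    rintro x hx s ⟨a, ha, rfl⟩
    have h1 : a * x = x * a := Subgroup.mem_centralizer_iff.1 hx a ha
    have h2 := congrArg (fun t : H => ((t : V ≃ₗ[ZMod p] V) : V →ₗ[ZMod p] V)) h1
    exact h2
  intro x y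
  have key := comm_centralizer_of_irreducible S hirr'
    (((x : H) : V ≃ₗ[ZMod p] V) : V →ₗ[ZMod p] V) (((y : H) : V ≃ₗ[ZMod p] V) : V →ₗ[ZMod p] V)
    (hcoe x x.2) (hcoe y y.2)
  apply Subtype.ext
  apply Subtype.ext
  apply LinearEquiv.toLinearMap_injective
  exact key

/-- PIECE IDX -/
theorem index_two_of_irreducible_cyclic [Nontrivial V] (H : Subgroup (V ≃ₗ[ZMod p] V))
    (hfree : ∀ (h : H) (v : V), v ≠ 0 → (h : V ≃ₗ[ZMod p] V) v = v → h = 1)
    (heven : Even (Nat.card H)) (A : Subgroup H) (hAn : A.Normal) (hAc : IsCyclic A)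
    (hirr : ∀ W : Submodule (ZMod p) V,
      (∀ a ∈ A, ∀ v ∈ W, ((a : H) : V ≃ₗ[ZMod p] V) v ∈ W) → W = ⊥ ∨ W = ⊤) :
    ∃ M : Subgroup H, M.Normal ∧ M.index = 2 := by
  classical
  haveI : Finite (V ≃ₗ[ZMod p] V) := DFunLike.finite _
  haveI : Finite H := inferInstance
  haveI : Fact (Nat.Prime 2) := ⟨Nat.prime_two⟩
  have hCcomm := centralizer_comm_of_irreducible H A hirr
  set f : H →* MulAut A := MulAut.conjNormal with hf
  have hker : f.ker = Subgroup.centralizer (A : Set H) := ker_conjNormal A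
  by_cases hpar : 2 ∣ Nat.card f.range
  · obtain ⟨M, hM⟩ := exists_index_two_of_comm_even (B := f.range)
      (fun x y => Subtype.ext (mulAut_comm_of_isCyclic A x y)) hpar
    exact exists_normal_index_two_of_surjective f.rangeRestrict f.rangeRestrict_surjective ⟨M, hM⟩
  · obtain ⟨T⟩ : Nonempty (Sylow 2 H) := inferInstance
    have hTC : (T : Subgroup H) ≤ Subgroup.centralizer (A : Set H) := by
      intro t ht
      rw [← hker, MonoidHom.mem_ker]
      obtain ⟨k, hk⟩ := (IsPGroup.iff_orderOf.1 T.isPGroup') ⟨t, ht⟩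
      rw [Subgroup.orderOf_mk] at hk
      have h1 : orderOf (f t) ∣ 2 ^ k := by rw [← hk]; exact orderOf_map_dvd f t
      have h2 : orderOf (f t) ∣ Nat.card f.range := by
        have := orderOf_dvd_natCard (⟨f t, ⟨t, rfl⟩⟩ : f.range)
        rw [← Subgroup.orderOf_coe] at this
        exact this
      obtain ⟨j, -, hj⟩ := (Nat.dvd_prime_pow Nat.prime_two).1 h1
      rcases Nat.eq_zero_or_pos j with h0 | h0
      · rw [h0, pow_zero] at hj
        exact orderOf_eq_one_iff.1 hj
      · exfalso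
        apply hpar
        have : 2 ∣ orderOf (f t) := by rw [hj]; exact dvd_pow_self 2 (by omega)
        exact this.trans h2
    have hTcyc : IsCyclic (T : Subgroup H) := by
      apply Cfsg.Agent.Helper2.NearField.isCyclic_of_free (H.subtype.comp (T : Subgroup H).subtype)
      · intro x y
        have := hCcomm ⟨x, hTC x.2⟩ ⟨y, hTC y.2⟩
        apply Subtype.ext
        exact congrArg (fun t : Subgroup.centralizer (A : Set H) => (t : H)) this
      · intro x v hv hfix
        apply Subtype.ext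
        exact hfree (x : H) v hv hfix
    obtain ⟨M, hM⟩ := Cfsg.Agent.Helper2.exists_index_two_of_cyclic_sylow_two heven T hTcyc
    exact ⟨M, Subgroup.normal_of_index_eq_two hM, hM⟩

end Cfsg.Agent.Helper5.Z61
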