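import Mathlib
import Cfsg.Agent.Helper1.ZNFd

set_option autoImplicit false
set_option linter.style.haveILetI false

/-!
Helper5: S3361, the data of the `hI` case (a copy of the first part of the proof of
`Cfsg.Agent.Helper1.ZNF.card_of_solvable_regular`, with the structural data exposed).
-/

namespace Cfsg.Agent.Helper5.Z61

open QuaternionGroup Cfsg.Agent.Helper1.ZNF

variable {p : ℕ} [hp : Fact p.Prime] {V : Type*} [AddCommGroup V] [Module (ZMod p) V] [Finite V]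

theorem hI_data (H : Subgroup (V ≃ₗ[ZMod p] V))
    (hreg : ∀ v w : V, v ≠ 0 → w ≠ 0 → ∃! h : H, (h : V ≃ₗ[ZMod p] V) v = w)
    (hI : ∀ A : Subgroup H, A.Normal → IsCyclic A → ∃ W : Submodule (ZMod p) V, W ≠ ⊥ ∧ W ≠ ⊤ ∧
      ∀ a ∈ A, ∀ v ∈ W, ((a : H) : V ≃ₗ[ZMod p] V) v ∈ W)
    (hsolv : Group.IsSolvable H) :
    ∃ (N : Subgroup H) (r : ℕ), N.Normal ∧ Nonempty (N ≃* QuaternionGroup 2) ∧
      Nat.card V = r ^ 2 ∧ Nat.card (Subgroup.centralizer (N : Set H)) ∣ r - 1 ∧ p ≠ 2 := by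
  classical
  -- `V` is nontrivial
  haveI hVnt : Nontrivial V := by
    obtain ⟨W, hW1, hW2, -⟩ := hI ⊥ inferInstance inferInstance
    by_contra hcon
    rw [not_nontrivial_iff_subsingleton] at hcon
    apply hW1
    rw [eq_bot_iff]
    intro w _
    rw [Submodule.mem_bot]
    exact Subsingleton.elim _ _
  obtain ⟨v₀, hv₀⟩ := exists_ne (0 : V)
  haveI : Finite (V ≃ₗ[ZMod p] V) := DFunLike.finite _
  haveI : Finite H := inferInstance
  have hfree : ∀ (h : H) (v : V), v ≠ 0 → (H.subtype h) v = v → h = 1 := fun h v hv hfix =>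
    Cfsg.Agent.Helper2.NearField.free_of_reg H hreg h v hv hfix
  have hcardH : Nat.card H + 1 = Nat.card V :=
    Cfsg.Agent.Helper2.NearField.card_of_reg H hreg v₀ hv₀
  -- abelian subgroups are cyclic
  have hab : ∀ B : Subgroup H, IsMulCommutative B → IsCyclic B := by
    intro B hB
    apply Cfsg.Agent.Helper2.NearField.isCyclic_of_free (H.subtype.comp B.subtype)
    · intro x y; exact hB.is_comm.comm x y
    · intro x v hv hfix
      apply Subtype.ext
      exact hfree (x : H) v hv hfix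
  -- a maximal normal abelian subgroup
  let 𝒜 : Set (Subgroup H) := {B | B.Normal ∧ IsMulCommutative B}
  have h𝒜ne : 𝒜.Nonempty := ⟨⊥, inferInstance, ⟨⟨fun x y => Subsingleton.elim _ _⟩⟩⟩
  obtain ⟨A, ⟨hAn, hAc⟩, hAmax'⟩ :=
    Set.exists_max_image 𝒜 (fun B => Nat.card B) (Set.toFinite _) h𝒜ne
  have hAmax : ∀ B : Subgroup H, B.Normal → IsMulCommutative B → A ≤ B → B = A := by
    intro B hBn hBc hAB
    exact (Subgroup.eq_of_le_of_card_ge hAB (hAmax' B ⟨hBn, hBc⟩)).symm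
  obtain ⟨-, hCna⟩ := Cfsg.Agent.S0685.result H hreg hI A hAn hAc hAmax
  obtain ⟨N, hNn, hNC, ⟨e⟩⟩ := exists_normal_q8 hsolv hab A hAn hAc hAmax hCna
  haveI := hNn
  -- generators
  set x : H := ((e.symm (a 1) : N) : H) with hx
  set y : H := ((e.symm (xa 0) : N) : H) with hy
  set z : H := ((e.symm (a 2) : N) : H) with hz
  have hxN : x ∈ N := (e.symm (a 1)).2
  have hyN : y ∈ N := (e.symm (xa 0)).2
  have hxx : x * x = z := by
    rw [hx, hz, ← Subgroup.coe_mul, ← map_mul, q8_rel1]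
  have hyy : y * y = z := by
    rw [hy, hz, ← Subgroup.coe_mul, ← map_mul, q8_rel2]
  have hzz : z * z = 1 := by
    rw [hz, ← Subgroup.coe_mul, ← map_mul, q8_rel3, map_one, Subgroup.coe_one]
  have hz1 : z ≠ 1 := by
    intro h
    have h1 : e.symm (a 2) = 1 := Subtype.ext (by rw [← hz, h]; rfl)
    exact q8_rel4 ((MulEquiv.map_eq_one_iff e.symm).1 h1)
  have hxy : x * y = z * (y * x) := by
    rw [hx, hy, hz, ← Subgroup.coe_mul, ← Subgroup.coe_mul, ← Subgroup.coe_mul, ← map_mul,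
      ← map_mul, ← map_mul, q8_rel5]
  -- as linear maps
  have hzneg : ∀ v : V, (z : V ≃ₗ[ZMod p] V) v = -v :=
    fun v => invol_eq_neg H.subtype hfree z hz1 hzz v
  have hII : ∀ v : V, (x : V ≃ₗ[ZMod p] V) ((x : V ≃ₗ[ZMod p] V) v) = -v := by
    intro v
    rw [← hzneg v, ← hxx]; rfl
  have hJJ : ∀ v : V, (y : V ≃ₗ[ZMod p] V) ((y : V ≃ₗ[ZMod p] V) v) = -v := by
    intro v
    rw [← hzneg v, ← hyy]; rfl
  have hIJ : ∀ v : V, (x : V ≃ₗ[ZMod p] V) ((y : V ≃ₗ[ZMod p] V) v) =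
      -((y : V ≃ₗ[ZMod p] V) ((x : V ≃ₗ[ZMod p] V) v)) := by
    intro v
    have h1 : ((x * y : H) : V ≃ₗ[ZMod p] V) v = ((z * (y * x) : H) : V ≃ₗ[ZMod p] V) v := by
      rw [hxy]
    have h2 : ((z * (y * x) : H) : V ≃ₗ[ZMod p] V) v =
        (z : V ≃ₗ[ZMod p] V) ((y : V ≃ₗ[ZMod p] V) ((x : V ≃ₗ[ZMod p] V) v)) := rfl
    rw [h2, hzneg] at h1
    exact h1
  -- odd characteristic
  have hp2 : p ≠ 2 := by
    intro h2
    apply hz1
    apply hfree z v₀ hv₀
    show (z : V ≃ₗ[ZMod p] V) v₀ = v₀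
    rw [hzneg]
    have h3 : (2 : ZMod p) = 0 := by
      have h5 : ((2 : ℕ) : ZMod p) = 0 := by
        rw [ZMod.natCast_eq_zero_iff]
        exact ⟨1, by omega⟩
      exact_mod_cast h5
    have h4 : v₀ + v₀ = 0 := by
      rw [← two_smul (ZMod p) v₀, h3, zero_smul]
    exact (eq_neg_of_add_eq_zero_left h4).symm
  -- the involution `E`
  obtain ⟨α, β, hαβ⟩ := ZMod.sq_add_sq p (-1)
  set I : V →ₗ[ZMod p] V := ((x : V ≃ₗ[ZMod p] V) : V →ₗ[ZMod p] V) with hIdef
  set J : V →ₗ[ZMod p] V := ((y : V ≃ₗ[ZMod p] V) : V →ₗ[ZMod p] V) with hJdef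
  set E : V →ₗ[ZMod p] V := α • I + β • J with hEdef
  have hIv : ∀ v, I v = (x : V ≃ₗ[ZMod p] V) v := fun v => rfl
  have hJv : ∀ v, J v = (y : V ≃ₗ[ZMod p] V) v := fun v => rfl
  have hEv : ∀ v, E v = α • I v + β • J v := fun v => rfl
  have hII' : ∀ v, I (I v) = -v := hII
  have hJJ' : ∀ v, J (J v) = -v := hJJ
  have hIJ' : ∀ v, I (J v) = -(J (I v)) := hIJ
  have hEE : ∀ v, E (E v) = v := by
    intro v
    rw [hEv (E v), hEv v]
    simp only [map_add, map_smul, hII', hJJ', hIJ']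
    have h1 : α • (α • -v + β • -J (I v)) + β • (α • J (I v) + β • -v) =
        (-(α ^ 2 + β ^ 2)) • v := by module
    rw [h1, hαβ, neg_neg, one_smul]
  set K : V ≃ₗ[ZMod p] V := ((x * y : H) : V ≃ₗ[ZMod p] V) with hKdef
  have hKv : ∀ v, K v = I (J v) := fun v => rfl
  have hKE : ∀ v, K (E v) = -E (K v) := by
    intro v
    rw [hKv, hKv, hEv v, hEv (I (J v))]
    simp only [map_add, map_smul]
    have e1 : I (J (I v)) = J v := by
      rw [hIJ', hII', map_neg, neg_neg]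
    have e2 : I (J (J v)) = -I v := by
      rw [hJJ', map_neg]
    have e3 : I (I (J v)) = -J v := hII' _
    have e4 : J (I (J v)) = I v := by
      rw [hIJ', map_neg, hJJ', neg_neg]
    rw [e1, e2, e3, e4]
    module
  have hsq := card_eq_sq_of_anticommute hp2 E K hEE hKE
  set Wp := LinearMap.ker (E - LinearMap.id) with hWp
  have memp : ∀ v : V, v ∈ Wp ↔ E v = v := by
    intro v
    rw [hWp, LinearMap.mem_ker, LinearMap.sub_apply, LinearMap.id_apply, sub_eq_zero]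
  -- the centralizer of `N`
  set C := Subgroup.centralizer (N : Set H) with hCdef
  have hCx : ∀ c ∈ C, ∀ v : V, (c : V ≃ₗ[ZMod p] V) (I v) = I ((c : V ≃ₗ[ZMod p] V) v) := by
    intro c hc v
    have h1 : x * c = c * x := Subgroup.mem_centralizer_iff.1 hc x hxN
    have h2 : ((c * x : H) : V ≃ₗ[ZMod p] V) v = ((x * c : H) : V ≃ₗ[ZMod p] V) v := by rw [h1]
    exact h2
  have hCy : ∀ c ∈ C, ∀ v : V, (c : V ≃ₗ[ZMod p] V) (J v) = J ((c : V ≃ₗ[ZMod p] V) v) := by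
    intro c hc v
    have h1 : y * c = c * y := Subgroup.mem_centralizer_iff.1 hc y hyN
    have h2 : ((c * y : H) : V ≃ₗ[ZMod p] V) v = ((y * c : H) : V ≃ₗ[ZMod p] V) v := by rw [h1]
    exact h2
  have hCdvd : Nat.card C ∣ Nat.card Wp - 1 := by
    apply card_dvd_card_sub_one (H.subtype.comp C.subtype)
    · intro c v hv hfix
      apply Subtype.ext
      exact hfree (c : H) v hv hfix
    · intro c w hw
      rw [memp] at hw ⊢
      have hcE : ∀ v : V, E (((c : H) : V ≃ₗ[ZMod p] V) v) = ((c : H) : V ≃ₗ[ZMod p] V) (E v) := by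
        intro v
        rw [hEv (((c : H) : V ≃ₗ[ZMod p] V) v), hEv v, map_add, map_smul, map_smul,
          hCx (c : H) c.2, hCy (c : H) c.2]
      show E (((c : H) : V ≃ₗ[ZMod p] V) w) = ((c : H) : V ≃ₗ[ZMod p] V) w
      rw [hcE, hw]
  exact ⟨N, Nat.card Wp, hNn, ⟨e⟩, hsq, hCdvd, hp2⟩

end Cfsg.Agent.Helper5.Z61
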