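import Mathlib
import Cfsg.Agent.Helper1.ZNFa
import Cfsg.Agent.Helper1.ZNFb
import Cfsg.Agent.Helper1.Card
import Cfsg.Agent.Helper5.Z89D
import Cfsg.Agent.Helper5.Z61A

set_option autoImplicit false
set_option linter.style.haveILetI false

/-!
Helper5: S3361, the structure in the `hI` case (abstract group theory).
-/

namespace Cfsg.Agent.Helper5.Z61

open Cfsg.Agent.Helper1.ZNF Cfsg.Agent.Helper5.Z89

abbrev SL23 := Matrix.SpecialLinearGroup (Fin 2) (ZMod 3)

universe u

/-- the arithmetic of the case `|H : N C| = 3` -/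
theorem arith_j3 {r c : ℕ} (hc0 : 0 < c) (h : 12 * c + 1 = r ^ 2) (hc : c ∣ r - 1) (h2 : 2 ∣ c) :
    (r = 5 ∧ c = 2) ∨ (r = 11 ∧ c = 10) := by
  have hr2 : 2 ≤ r := by
    by_contra hlt
    have : r ≤ 1 := by omega
    have : r ^ 2 ≤ 1 := by nlinarith
    omega
  obtain ⟨k, hk⟩ := hc
  have h6 : (r - 1) * (r + 1) + 1 = r ^ 2 := by
    obtain ⟨q, rfl⟩ : ∃ q, r = q + 1 := ⟨r - 1, by omega⟩
    simp only [Nat.add_sub_cancel]; ring
  have h3 : k * (r + 1) = 12 := by
    have : c * (k * (r + 1)) = c * 12 := by
      rw [← mul_assoc, ← hk]; omega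
    exact Nat.eq_of_mul_eq_mul_left hc0 this
  have hk0 : 0 < k := by
    rcases Nat.eq_zero_or_pos k with h0 | h0
    · rw [h0, zero_mul] at h3; omega
    · exact h0
  have hr11 : r ≤ 11 := by
    have : r + 1 ≤ k * (r + 1) := Nat.le_mul_of_pos_left _ hk0
    omega
  obtain ⟨b, rfl⟩ := h2
  interval_cases r <;> omega

variable {G : Type u} [Group G] [Finite G]

theorem hI_structure
    (hR23 : ∀ (K : Type u) [Group K] [Finite K], Nat.card K = 24 → ∀ (N : Subgroup K) [N.Normal],
      (N ≃* QuaternionGroup 2) → Subgroup.centralizer (N : Set K) ≤ N → Nonempty (K ≃* SL23))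
    (hinv : ∀ s t : G, orderOf s = 2 → orderOf t = 2 → s = t)
    (hab : ∀ B : Subgroup G, IsMulCommutative B → IsCyclic B)
    (N : Subgroup G) [hNn : N.Normal] (e : N ≃* QuaternionGroup 2) (r : ℕ)
    (hcard : Nat.card G + 1 = r ^ 2) (hC : Nat.card (Subgroup.centralizer (N : Set G)) ∣ r - 1) :
    (∃ M : Subgroup G, M.Normal ∧ M.index = 2) ∨ (r = 5 ∧ Nonempty (G ≃* SL23)) ∨
      (r = 11 ∧ Nonempty (G ≃* SL23 × Multiplicative (ZMod 5))) := by
  classical
  haveI : Fact (Nat.Prime 2) := ⟨Nat.prime_two⟩
  set C := Subgroup.centralizer (N : Set G) with hCdef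
  have hN8 : Nat.card N = 8 := by rw [Nat.card_congr e.toEquiv]; exact card_quaternion_two
  have hinf2 : Nat.card (N ⊓ C : Subgroup G) = 2 := card_inf_centralizer_q8 N e
  have hidx24 : C.index ∣ 24 := index_centralizer_dvd N e
  have hmul1 : Nat.card (N ⊔ C : Subgroup G) * Nat.card (N ⊓ C : Subgroup G) =
      Nat.card N * Nat.card C :=
    Cfsg.Agent.Helper1.card_sup_mul_card_inf (by rw [Subgroup.normalizer_eq_top]; exact le_top)
  rw [hinf2, hN8] at hmul1
  have hNC : Nat.card (N ⊔ C : Subgroup G) = 4 * Nat.card C := by omega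
  have hmul2 := Subgroup.card_mul_index (N ⊔ C)
  have hmul3 := C.index_mul_card
  have hC0 : 0 < Nat.card C := Nat.card_pos
  set j := (N ⊔ C).index with hj
  have hCidx : C.index = 4 * j := by
    have : C.index * Nat.card C = (4 * j) * Nat.card C := by
      rw [hmul3, ← hmul2, hNC]; ring
    exact Nat.eq_of_mul_eq_mul_right hC0 this
  have hj6 : j ∣ 6 := by
    rw [hCidx] at hidx24
    have : 4 * j ∣ 4 * 6 := hidx24
    exact Nat.dvd_of_mul_dvd_mul_left (by norm_num) this
  have hj6' : j ≤ 6 := Nat.le_of_dvd (by norm_num) hj6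
  have hj0 : j ≠ 0 := Subgroup.index_ne_zero_of_finite
  -- the involution
  obtain ⟨z, hz⟩ := exists_prime_orderOf_dvd_card' (G := ↥N) 2 (by rw [hN8]; norm_num)
  have hzG : orderOf (z : G) = 2 := by rw [Subgroup.orderOf_coe]; exact hz
  have hzcent : ∀ g : G, g * (z : G) = (z : G) * g := central_of_invol_unique hinv (z : G) hzG
  have hzC : (z : G) ∈ C := by
    rw [hCdef, Subgroup.mem_centralizer_iff]
    intro n _
    exact hzcent n
  have h2C : 2 ∣ Nat.card C := by
    have h1 : orderOf (⟨(z : G), hzC⟩ : C) = 2 := by rw [Subgroup.orderOf_mk]; exact hzG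
    rw [← h1]
    exact orderOf_dvd_natCard _
  -- elements of order dividing 2 lie in `N`
  have hsqN : ∀ x : G, x ^ 2 = 1 → x ∈ N := by
    intro x hx
    by_cases hx1 : x = 1
    · rw [hx1]; exact N.one_mem
    · have : orderOf x = 2 := orderOf_eq_prime hx hx1
      rw [hinv x (z : G) this hzG]
      exact z.2
  have hjcases : j = 1 ∨ j = 2 ∨ j = 3 ∨ j = 6 := by
    have hmem := (Nat.mem_divisors (m := 6)).2 ⟨hj6, by norm_num⟩
    have hd : Nat.divisors 6 = {1, 2, 3, 6} := by decide
    rw [hd] at hmem
    simpa using hmem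
  rcases hjcases with h1 | h2 | h3 | h6
  · -- `j = 1`
    left
    have hq : Nat.card (G ⧸ C) = 2 ^ (1 + 1) := by
      have : Nat.card (G ⧸ C) = C.index := rfl
      rw [this, hCidx, h1]
      norm_num
    exact exists_normal_index_two_of_surjective (QuotientGroup.mk' C)
      (QuotientGroup.mk'_surjective _) (exists_index_two_of_two_group 1 hq)
  · left
    have hq : Nat.card (G ⧸ (N ⊔ C)) = 2 * 1 := by
      have : Nat.card (G ⧸ (N ⊔ C)) = (N ⊔ C).index := rfl
      rw [this, ← hj, h2]
    exact exists_normal_index_two_of_surjective (QuotientGroup.mk' (N ⊔ C))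
      (QuotientGroup.mk'_surjective _) (exists_index_two_of_card_two_mul_odd 1 (by norm_num) hq)
  · -- `j = 3`
    right
    have hG12 : Nat.card G = 12 * Nat.card C := by rw [← hmul2, hNC, h3]; ring
    rcases arith_j3 hC0 (by rw [← hG12]; exact hcard) hC h2C with ⟨hr, hc⟩ | ⟨hr, hc⟩
    · left
      refine ⟨hr, ?_⟩
      rw [hc] at hG12
      apply hR23 G hG12 N e
      intro x hx
      apply hsqN
      have h1 : orderOf (⟨x, hx⟩ : C) ∣ 2 := by rw [← hc]; exact orderOf_dvd_natCard _
      rw [Subgroup.orderOf_mk] at h1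
      exact orderOf_dvd_iff_pow_eq_one.1 h1
    · right
      refine ⟨hr, ?_⟩
      rw [hc] at hG12
      haveI : Fact (Nat.Prime 5) := ⟨by norm_num⟩
      haveI : Fact (Nat.Prime 3) := ⟨Nat.prime_three⟩
      obtain ⟨c, hc5⟩ := exists_prime_orderOf_dvd_card' (G := ↥C) 5 (by rw [hc]; norm_num)
      have hcG : orderOf (c : G) = 5 := by rw [Subgroup.orderOf_coe]; exact hc5
      -- `C` is commutative
      set B : Subgroup G := Subgroup.zpowers (c : G) ⊔ Subgroup.zpowers (z : G) with hB
      have hBC : B ≤ C := by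
        rw [hB]
        apply sup_le
        · rw [Subgroup.zpowers_le]; exact c.2
        · rw [Subgroup.zpowers_le]; exact hzC
      have hBcomm : IsMulCommutative B := by
        rw [hB]
        apply isMulCommutative_sup
        · exact ⟨⟨fun a b => IsCyclic.commGroup.mul_comm a b⟩⟩
        · exact ⟨⟨fun a b => IsCyclic.commGroup.mul_comm a b⟩⟩
        · rw [Subgroup.zpowers_le, Subgroup.mem_centralizer_iff]
          intro g _
          exact hzcent g
      have hB10 : 10 ∣ Nat.card B := by
        have h5 : 5 ∣ Nat.card B := by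
          have : Nat.card (Subgroup.zpowers (c : G)) ∣ Nat.card B :=
            Subgroup.card_dvd_of_le le_sup_left
          rwa [Nat.card_zpowers, hcG] at this
        have h2' : 2 ∣ Nat.card B := by
          have : Nat.card (Subgroup.zpowers (z : G)) ∣ Nat.card B :=
            Subgroup.card_dvd_of_le le_sup_right
          rwa [Nat.card_zpowers, hzG] at this
        exact Nat.Coprime.mul_dvd_of_dvd_of_dvd (by norm_num) h2' h5
      have hBeq : B = C := by
        apply Subgroup.eq_of_le_of_card_ge hBC
        rw [hc]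
        exact Nat.le_of_dvd Nat.card_pos hB10
      have hCcomm : IsMulCommutative C := by rw [← hBeq]; exact hBcomm
      haveI hCcyc : IsCyclic C := hab C hCcomm
      -- `C` is central
      set f : G →* MulAut C := MulAut.conjNormal with hf
      have hker : f.ker = Subgroup.centralizer (C : Set G) := ker_conjNormal C
      have hNCker : N ⊔ C ≤ f.ker := by
        rw [hker]
        apply sup_le
        · intro n hn
          rw [Subgroup.mem_centralizer_iff]
          intro x hx
          exact (Subgroup.mem_centralizer_iff.1 hx n hn).symm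
        · intro y hy
          rw [Subgroup.mem_centralizer_iff]
          intro x hx
          exact congrArg Subtype.val (hCcomm.is_comm.comm ⟨x, hx⟩ ⟨y, hy⟩)
      have hd3 : f.ker.index ∣ 3 := by
        rw [← h3, hj]; exact Subgroup.index_dvd_of_le hNCker
      have hd4 : f.ker.index ∣ 4 := by
        rw [Subgroup.index_ker]
        have h1 : Nat.card f.range ∣ Nat.card (MulAut C) := Subgroup.card_subgroup_dvd_card _
        have h2 : Nat.card (MulAut C) = 4 := by
          rw [IsCyclic.card_mulAut, hc]; decide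
        rwa [h2] at h1
      have hker1 : f.ker.index = 1 := by
        have : f.ker.index ∣ Nat.gcd 3 4 := Nat.dvd_gcd hd3 hd4
        simpa using this
      have hkertop : f.ker = ⊤ := Subgroup.index_eq_one.1 hker1
      have hCcentral : ∀ x ∈ C, ∀ g : G, g * x = x * g := by
        intro x hx g
        have hg : g ∈ Subgroup.centralizer (C : Set G) := by rw [← hker, hkertop]; trivial
        exact (Subgroup.mem_centralizer_iff.1 hg x hx).symm
      -- the factors
      set M : Subgroup G := Subgroup.zpowers (c : G) with hM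
      have hMcard : Nat.card M = 5 := by rw [hM, Nat.card_zpowers, hcG]
      have hMC : M ≤ C := by rw [hM, Subgroup.zpowers_le]; exact c.2
      obtain ⟨g, hg3⟩ := exists_prime_orderOf_dvd_card' (G := G) 3 (by rw [hG12]; norm_num)
      set P : Subgroup G := Subgroup.zpowers g with hP
      have hPcard : Nat.card P = 3 := by rw [hP, Nat.card_zpowers, hg3]
      set K : Subgroup G := N ⊔ P with hK
      have hNP : N ⊓ P = ⊥ := by
        have h1 : Nat.card (N ⊓ P : Subgroup G) ∣ 8 := by
          rw [← hN8]; exact Subgroup.card_dvd_of_le inf_le_left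
        have h2 : Nat.card (N ⊓ P : Subgroup G) ∣ 3 := by
          rw [← hPcard]; exact Subgroup.card_dvd_of_le inf_le_right
        have h3 : Nat.card (N ⊓ P : Subgroup G) ∣ Nat.gcd 8 3 := Nat.dvd_gcd h1 h2
        have h4 : Nat.gcd 8 3 = 1 := by decide
        rw [h4, Nat.dvd_one] at h3
        exact Subgroup.card_eq_one.1 h3
      have hK24 : Nat.card K = 24 := by
        have h1 : Nat.card (N ⊔ P : Subgroup G) * Nat.card (N ⊓ P : Subgroup G) =
            Nat.card N * Nat.card P :=
          Cfsg.Agent.Helper1.card_sup_mul_card_inf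
            (by rw [Subgroup.normalizer_eq_top]; exact le_top)
        rw [hNP, Subgroup.card_bot, hN8, hPcard] at h1
        rw [hK]; omega
      have hKM : K ⊓ M = ⊥ := by
        have h1 : Nat.card (K ⊓ M : Subgroup G) ∣ 24 := by
          rw [← hK24]; exact Subgroup.card_dvd_of_le inf_le_left
        have h2 : Nat.card (K ⊓ M : Subgroup G) ∣ 5 := by
          rw [← hMcard]; exact Subgroup.card_dvd_of_le inf_le_right
        have h3 : Nat.card (K ⊓ M : Subgroup G) ∣ Nat.gcd 24 5 := Nat.dvd_gcd h1 h2
        have h4 : Nat.gcd 24 5 = 1 := by decide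
        rw [h4, Nat.dvd_one] at h3
        exact Subgroup.card_eq_one.1 h3
      have hcomm : ∀ k ∈ K, ∀ m ∈ M, k * m = m * k := fun k _ m hm => hCcentral m (hMC hm) k
      obtain ⟨φ⟩ := prod_equiv_of_commute K M hcomm hKM (by rw [hK24, hMcard, hG12])
      -- `K ≃ SL(2,3)`
      have hNK : N ≤ K := le_sup_left
      haveI : (N.subgroupOf K).Normal := inferInstance
      have hcentK : Subgroup.centralizer ((N.subgroupOf K : Subgroup K) : Set K) ≤ N.subgroupOf K := by
        intro x hx
        rw [Subgroup.mem_subgroupOf]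
        apply hsqN
        have hxC : (x : G) ∈ C := by
          rw [hCdef, Subgroup.mem_centralizer_iff]
          intro n hn
          have h1 := Subgroup.mem_centralizer_iff.1 hx ⟨n, hNK hn⟩
            (by rw [SetLike.mem_coe, Subgroup.mem_subgroupOf]; exact hn)
          exact congrArg Subtype.val h1
        have h1 : orderOf (x : G) ∣ 10 := by
          have := orderOf_dvd_natCard (⟨(x : G), hxC⟩ : C)
          rwa [Subgroup.orderOf_mk, hc] at this
        have h2 : orderOf (x : G) ∣ 24 := by
          have := orderOf_dvd_natCard x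
          rwa [← Subgroup.orderOf_coe, hK24] at this
        have h3 : orderOf (x : G) ∣ Nat.gcd 10 24 := Nat.dvd_gcd h1 h2
        have h4 : Nat.gcd 10 24 = 2 := by decide
        rw [h4] at h3
        exact orderOf_dvd_iff_pow_eq_one.1 h3
      obtain ⟨ψ⟩ := hR23 K hK24 (N.subgroupOf K)
        ((Subgroup.subgroupOfEquivOfLe hNK).trans e) hcentK
      have hcardZ : Nat.card (Multiplicative (ZMod 5)) = 5 := by
        rw [Nat.card_congr Multiplicative.toAdd, Nat.card_zmod]
      have χ : M ≃* Multiplicative (ZMod 5) := mulEquivOfPrimeCardEq hMcard hcardZ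
      exact ⟨φ.trans (MulEquiv.prodCongr ψ χ)⟩
  · left
    have hq : Nat.card (G ⧸ (N ⊔ C)) = 2 * 3 := by
      have : Nat.card (G ⧸ (N ⊔ C)) = (N ⊔ C).index := rfl
      rw [this, ← hj, h6]
    exact exists_normal_index_two_of_surjective (QuotientGroup.mk' (N ⊔ C))
      (QuotientGroup.mk'_surjective _) (exists_index_two_of_card_two_mul_odd 3 (by norm_num) hq)

end Cfsg.Agent.Helper5.Z61
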