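import Mathlib
import Cfsg.Agent.S0688
import Cfsg.Agent.Helper2.NearFieldB
import Cfsg.Agent.Helper5.Z61B
import Cfsg.Agent.Helper5.Z61C
import Cfsg.Agent.Helper5.Z61D

set_option autoImplicit false
set_option linter.style.haveILetI false

/-!
Helper5: S3361, the assembly (pieces SL and R23 as hypotheses).
-/

namespace Cfsg.Agent.Helper5.Z61

open Cfsg.Agent.Helper1.ZNF Cfsg.Agent.Helper5.Z89

universe u

theorem main_of_pieces (q : ℕ) [hq : Fact q.Prime] {V : Type u} [AddCommGroup V] [Module (ZMod q) V]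
    [Finite V] [Nontrivial V] {G : Type*} [Group G] [Finite G] (hsol : Group.IsSolvable G)
    (ρ : G →* (V ≃ₗ[ZMod q] V)) (hρ : Function.Injective ρ)
    (htrans : ∀ v w : V, v ≠ 0 → w ≠ 0 → ∃ g : G, ρ g v = w)
    (hreg : ∀ v : V, v ≠ 0 → ∀ g : G, ρ g v = v → g = 1)
    (hSL : ∀ A : Subgroup ρ.range, A.Normal → IsMulCommutative A →
      (∀ W : Submodule (ZMod q) V,
        (∀ a ∈ A, ∀ v ∈ W, ((a : ρ.range) : V ≃ₗ[ZMod q] V) v ∈ W) → W = ⊥ ∨ W = ⊤) →
      ∃ (F : Type) (_ : Field F) (_ : Fintype F) (e : V ≃+ F),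
        ∀ h : ρ.range, ∃ (a : F) (σ : F ≃+* F), ∀ v : V,
          e ((h : V ≃ₗ[ZMod q] V) v) = a * σ (e v))
    (hR23 : ∀ (K : Type u) [Group K] [Finite K], Nat.card K = 24 → ∀ (N : Subgroup K) [N.Normal],
      (N ≃* QuaternionGroup 2) → Subgroup.centralizer (N : Set K) ≤ N → Nonempty (K ≃* SL23)) :
    ((∃ (F : Type) (_ : Field F) (_ : Fintype F) (e : V ≃+ F),
        ∀ g : G, ∃ (a : F) (σ : F ≃+* F), ∀ v : V, e (ρ g v) = a * σ (e v)) ∨
      Nat.card V ∈ ({25, 49, 121, 529} : Set ℕ)) ∧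
    (q ≠ 2 → (∃ N : Subgroup G, N.Normal ∧ N.index = 2) ∨
      (Nat.card V = 25 ∧ Nonempty (G ≃* SL23)) ∨
      (Nat.card V = 121 ∧ Nonempty (G ≃* SL23 × Multiplicative (ZMod 5)))) := by
  classical
  set H : Subgroup (V ≃ₗ[ZMod q] V) := ρ.range with hH
  have e₀ : G ≃* H := MonoidHom.ofInjective hρ
  have he₀ : ∀ g : G, ((MonoidHom.ofInjective hρ g : H) : V ≃ₗ[ZMod q] V) = ρ g := fun g => rfl
  haveI : Finite (V ≃ₗ[ZMod q] V) := DFunLike.finite _
  haveI : Finite H := inferInstance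
  have hfree : ∀ (h : H) (v : V), v ≠ 0 → (h : V ≃ₗ[ZMod q] V) v = v → h = 1 := by
    rintro ⟨_, g, rfl⟩ v hv hfix
    have := hreg v hv g hfix
    apply Subtype.ext
    show ρ g = 1
    rw [this, map_one]
  have hregH : ∀ v w : V, v ≠ 0 → w ≠ 0 → ∃! h : H, (h : V ≃ₗ[ZMod q] V) v = w := by
    intro v w hv hw
    obtain ⟨g, hg⟩ := htrans v w hv hw
    refine ⟨⟨ρ g, g, rfl⟩, hg, ?_⟩
    intro h' hh'
    have h1 : ((h'⁻¹ * ⟨ρ g, g, rfl⟩ : H) : V ≃ₗ[ZMod q] V) v = v := by
      show (h'⁻¹ : H).1 ((ρ g) v) = v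
      rw [hg, ← hh']
      show ((h'⁻¹ * h' : H) : V ≃ₗ[ZMod q] V) v = v
      rw [inv_mul_cancel]; rfl
    have h2 := hfree _ v hv h1
    exact (inv_mul_eq_one.1 h2)
  have hsolH : Group.IsSolvable H :=
    Group.isSolvable_of_isSolvable_injective (f := e₀.symm.toMonoidHom) e₀.symm.injective
  obtain ⟨v₀, hv₀⟩ := exists_ne (0 : V)
  have hcardH : Nat.card H + 1 = Nat.card V :=
    Cfsg.Agent.Helper2.NearField.card_of_reg H hregH v₀ hv₀
  have hab : ∀ B : Subgroup H, IsMulCommutative B → IsCyclic B := by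
    intro B hB
    apply Cfsg.Agent.Helper2.NearField.isCyclic_of_free (H.subtype.comp B.subtype)
    · intro x y; exact hB.is_comm.comm x y
    · intro x v hv hfix
      apply Subtype.ext
      exact hfree (x : H) v hv hfix
  -- transport of subgroups of index 2
  have htransport : (∃ M : Subgroup H, M.Normal ∧ M.index = 2) →
      ∃ N : Subgroup G, N.Normal ∧ N.index = 2 := by
    rintro ⟨M, hMn, hM⟩
    refine ⟨M.comap e₀.toMonoidHom, hMn.comap _, ?_⟩
    rw [Subgroup.index_comap_of_surjective M e₀.surjective, hM]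
  by_cases hI : ∀ A : Subgroup H, A.Normal → IsCyclic A → ∃ W : Submodule (ZMod q) V,
      W ≠ ⊥ ∧ W ≠ ⊤ ∧ ∀ a ∈ A, ∀ v ∈ W, ((a : H) : V ≃ₗ[ZMod q] V) v ∈ W
  · constructor
    · right
      have h := Cfsg.Agent.S0688.result H hregH hI hsolH
      simp only [Set.mem_insert_iff, Set.mem_singleton_iff]
      exact h
    · intro _
      obtain ⟨N, r, hNn, ⟨e⟩, hsq, hCdvd, -⟩ := hI_data H hregH hI hsolH
      have hinv : ∀ s t : H, orderOf s = 2 → orderOf t = 2 → s = t := invol_unique H hfree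
      haveI := hNn
      rcases hI_structure hR23 hinv hab N e r (by rw [hcardH, hsq]) hCdvd with h | ⟨hr, ⟨φ⟩⟩ |
        ⟨hr, ⟨φ⟩⟩
      · left; exact htransport h
      · right; left
        exact ⟨by rw [hsq, hr]; norm_num, ⟨e₀.trans φ⟩⟩
      · right; right
        exact ⟨by rw [hsq, hr]; norm_num, ⟨e₀.trans φ⟩⟩
  · push Not at hI
    obtain ⟨A, hAn, hAc, hA⟩ := hI
    have hirr : ∀ W : Submodule (ZMod q) V,
        (∀ a ∈ A, ∀ v ∈ W, ((a : H) : V ≃ₗ[ZMod q] V) v ∈ W) → W = ⊥ ∨ W = ⊤ := by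
      intro W hW
      by_contra hne
      push Not at hne
      obtain ⟨a, ha, v, hv, hnot⟩ := hA W hne.1 hne.2
      exact hnot (hW a ha v hv)
    constructor
    · left
      have hAcomm : IsMulCommutative A := ⟨⟨fun a b => IsCyclic.commGroup.mul_comm a b⟩⟩
      obtain ⟨F, iF, iFt, e, he⟩ := hSL A hAn hAcomm hirr
      refine ⟨F, iF, iFt, e, ?_⟩
      intro g
      exact he ⟨ρ g, g, rfl⟩
    · intro hq2
      left
      apply htransport
      have heven : Even (Nat.card H) := by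
        haveI : Fintype V := Fintype.ofFinite V
        have h1 : Fintype.card V = Fintype.card (ZMod q) ^ Module.finrank (ZMod q) V :=
          Module.card_eq_pow_finrank
        rw [ZMod.card] at h1
        have hodd : Odd q := hq.out.odd_of_ne_two hq2
        have h2 : Odd (Nat.card V) := by
          rw [Nat.card_eq_fintype_card, h1]; exact hodd.pow
        rw [← hcardH] at h2
        rcases Nat.even_or_odd (Nat.card H) with h | h
        · exact h
        · exfalso
          have := h.add_odd odd_one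
          exact (Nat.not_even_iff_odd.2 h2) this
      exact index_two_of_irreducible_cyclic H hfree heven A hAn hAc hirr

end Cfsg.Agent.Helper5.Z61
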