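import Mathlib

set_option autoImplicit false

/-!
Helper5: S0689, the arithmetic.
-/

namespace Cfsg.Agent.Helper5.Z89

theorem fin_check' : ∀ Q : Fin 120, ∀ e : Fin 3, (2 ≤ Q.val ∧ (e.val = 1 ∨ e.val = 2) ∧
    Q.val ^ 2 - 1 = 60 * e.val * ((Q.val ^ 2 - 1) / (60 * e.val)) ∧
    ((Q.val ^ 2 - 1) / (60 * e.val)) ∣ Q.val - 1 ∧
    2 ∣ ((Q.val ^ 2 - 1) / (60 * e.val))) →
    (e.val = 1 ∧ (Q.val = 11 ∨ Q.val = 19 ∨ Q.val = 29 ∨ Q.val = 59)) ∨ (e.val = 2 ∧ Q.val = 119) := by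
  decide

theorem fin_check : ∀ Q < 120, ∀ e < 3, 2 ≤ Q → (e = 1 ∨ e = 2) →
    Q ^ 2 - 1 = 60 * e * ((Q ^ 2 - 1) / (60 * e)) → ((Q ^ 2 - 1) / (60 * e)) ∣ Q - 1 →
    2 ∣ ((Q ^ 2 - 1) / (60 * e)) →
    (e = 1 ∧ (Q = 11 ∨ Q = 19 ∨ Q = 29 ∨ Q = 59)) ∨ (e = 2 ∧ Q = 119) := by
  intro Q hQ e he h1 h2 h3 h4 h5
  exact fin_check' ⟨Q, hQ⟩ ⟨e, he⟩ ⟨h1, h2, h3, h4, h5⟩

theorem not_prime_pow_119 {p d : ℕ} (hp : p.Prime) (h : 119 = p ^ d) : False := by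
  have h7 : 7 ∣ p ^ d := by rw [← h]; norm_num
  have h17 : 17 ∣ p ^ d := by rw [← h]; norm_num
  have e7 : 7 = p := (Nat.prime_dvd_prime_iff_eq (by norm_num) hp).1 ((by norm_num : Nat.Prime 7).dvd_of_dvd_pow h7)
  have e17 : 17 = p := (Nat.prime_dvd_prime_iff_eq (by norm_num) hp).1 ((by norm_num : Nat.Prime 17).dvd_of_dvd_pow h17)
  omega

theorem arith_main {p d m a e : ℕ} (hp : p.Prime) (hm : 2 ≤ m) (ha0 : 0 < a) (ha : a ∣ p ^ d - 1)
    (h2 : 2 ∣ a) (he : e = 1 ∨ e = 2) (h : (p ^ d) ^ m - 1 = 60 * e * a) :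
    m = 2 ∧ e = 1 ∧ ((p ^ d = 11 ∧ a = 2) ∨ (p ^ d = 19 ∧ a = 6) ∨ (p ^ d = 29 ∧ a = 14) ∨
      (p ^ d = 59 ∧ a = 58)) := by
  obtain ⟨Q, hQ⟩ : ∃ Q, Q = p ^ d := ⟨_, rfl⟩
  rw [← hQ] at ha h ⊢
  have hQ1 : 1 ≤ Q := by rw [hQ]; exact Nat.one_le_pow _ _ hp.pos
  have he0 : 0 < e := by rcases he with rfl | rfl <;> norm_num
  have hpos : 0 < 60 * e * a := by positivity
  have hQ2 : 2 ≤ Q := by
    by_contra hlt
    have h1 : Q = 1 := by omega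
    rw [h1, one_pow] at h
    omega
  obtain ⟨k, hk⟩ := ha
  obtain ⟨G, hG⟩ : Q - 1 ∣ Q ^ m - 1 := by simpa using Nat.sub_dvd_pow_sub_pow Q 1 m
  have h3 : k * G = 60 * e := by
    have : a * (k * G) = a * (60 * e) := by rw [← mul_assoc, ← hk, ← hG, h]; ring
    exact Nat.eq_of_mul_eq_mul_left ha0 this
  have hk0 : 0 < k := by
    rcases Nat.eq_zero_or_pos k with h0 | h0
    · rw [h0, mul_zero] at hk; omega
    · exact h0
  have hG120 : G ≤ 120 := by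
    have : G ≤ k * G := Nat.le_mul_of_pos_left _ hk0
    rcases he with rfl | rfl <;> omega
  have h120 : 120 ∣ Q ^ m - 1 := by
    obtain ⟨b, rfl⟩ := h2
    rw [h]
    rcases he with rfl | rfl
    · exact ⟨b, by ring⟩
    · exact ⟨2 * b, by ring⟩
  have hQm1 : 1 ≤ Q ^ m := Nat.one_le_pow _ _ (by omega)
  have hm2 : m = 2 := by
    by_contra hne
    have hm3 : 3 ≤ m := by omega
    have h5 : Q ^ 3 ≤ Q ^ m := Nat.pow_le_pow_right (by omega) hm3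
    have h6 : (Q - 1) * (Q ^ 2 + Q + 1) + 1 = Q ^ 3 := by
      obtain ⟨q, rfl⟩ : ∃ q, Q = q + 1 := ⟨Q - 1, by omega⟩
      simp only [Nat.add_sub_cancel]; ring
    have h7 : (Q - 1) * (Q ^ 2 + Q + 1) ≤ (Q - 1) * G := by
      rw [← hG]; omega
    have h8 : Q ^ 2 + Q + 1 ≤ G := Nat.le_of_mul_le_mul_left h7 (by omega)
    have h9 : Q ≤ 10 := by nlinarith
    obtain ⟨t, ht⟩ := h120
    have hQm : Q ^ m = 120 * t + 1 := by omega
    have hn2 : ¬ 2 ∣ Q := fun hd => by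
      have : 2 ∣ Q ^ m := dvd_pow hd (by omega)
      omega
    have hn3 : ¬ 3 ∣ Q := fun hd => by
      have : 3 ∣ Q ^ m := dvd_pow hd (by omega)
      omega
    have hn5 : ¬ 5 ∣ Q := fun hd => by
      have : 5 ∣ Q ^ m := dvd_pow hd (by omega)
      omega
    have hQ7 : Q = 7 := by
      clear hQ h6 h7 h8 h5 hQm hG
      interval_cases Q
      all_goals first | rfl | exact absurd (by decide) hn2 | exact absurd (by decide) hn3 | exact absurd (by decide) hn5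
    rw [hQ7] at hG h
    have hcases : 7 ^ 4 ≤ 7 ^ m ∨ m = 3 := by
      rcases Nat.lt_or_ge m 4 with h4 | h4
      · right; omega
      · left; exact Nat.pow_le_pow_right (by norm_num) h4
    rcases hcases with h4 | h3m
    · norm_num at hG h4; omega
    · rw [h3m] at h; norm_num at h; rcases he with rfl | rfl <;> omega
  subst hm2
  refine ⟨rfl, ?_⟩
  have h6 : (Q - 1) * (Q + 1) + 1 = Q ^ 2 := by
    obtain ⟨q, rfl⟩ : ∃ q, Q = q + 1 := ⟨Q - 1, by omega⟩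
    simp only [Nat.add_sub_cancel]; ring
  have hGQ : G = Q + 1 := by
    have : (Q - 1) * G = (Q - 1) * (Q + 1) := by rw [← hG]; omega
    exact Nat.eq_of_mul_eq_mul_left (by omega) this
  have hQ120 : Q < 120 := by
    have : Q + 1 ≤ k * (Q + 1) := Nat.le_mul_of_pos_left _ hk0
    rw [hGQ] at h3
    rcases he with rfl | rfl <;> omega
  have he3 : e < 3 := by rcases he with rfl | rfl <;> norm_num
  have hdiv : (Q ^ 2 - 1) / (60 * e) = a := by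
    rw [h, Nat.mul_div_cancel_left _ (by positivity)]
  have hfin := fin_check Q hQ120 e he3 hQ2 he (by rw [hdiv]; exact h)
    (by rw [hdiv]; exact ⟨k, hk⟩) (by rw [hdiv]; exact h2)
  rcases hfin with ⟨rfl, hQ'⟩ | ⟨rfl, hQ'⟩
  · refine ⟨rfl, ?_⟩
    rcases hQ' with hQ' | hQ' | hQ' | hQ'
    · left; rw [hQ'] at h; exact ⟨hQ', by omega⟩
    · right; left; rw [hQ'] at h; exact ⟨hQ', by omega⟩
    · right; right; left; rw [hQ'] at h; exact ⟨hQ', by omega⟩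
    · right; right; right; rw [hQ'] at h; exact ⟨hQ', by omega⟩
  · exfalso
    rw [hQ'] at hQ
    exact not_prime_pow_119 hp hQ

end Cfsg.Agent.Helper5.Z89
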