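import Mathlib
import Cfsg.Agent.Helper1.ZNFf

set_option autoImplicit false

/-!
Helper5: S0689, the dimension of a minimal invariant subspace of a group centralized by an
irreducible group divides the dimension of the space.
-/

namespace Cfsg.Agent.Helper5.Z89

open Cfsg.Agent.Helper1.ZNF

variable {p : ℕ} [hp : Fact p.Prime] {V : Type*} [AddCommGroup V] [Module (ZMod p) V] [Finite V]

theorem invSub_bot (A : Subgroup (V ≃ₗ[ZMod p] V)) : InvSub A (⊥ : Submodule (ZMod p) V) := by
  intro n _ v hv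
  rw [Submodule.mem_bot] at hv ⊢
  rw [hv, map_zero]

theorem dvd_finrank_sup (A : Subgroup (V ≃ₗ[ZMod p] V)) (d : ℕ) {ι : Type*} (s : Finset ι)
    (f : ι → Submodule (ZMod p) V)
    (hf : ∀ i ∈ s, IsMinInv A (f i) ∧ Module.finrank (ZMod p) (f i) = d) :
    InvSub A (s.sup f) ∧ d ∣ Module.finrank (ZMod p) (s.sup f : Submodule (ZMod p) V) := by
  classical
  induction s using Finset.induction_on with
  | empty =>
    rw [Finset.sup_empty]
    refine ⟨invSub_bot A, ?_⟩
    rw [finrank_bot]
    exact dvd_zero d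
  | insert i s hi ih =>
    obtain ⟨hinv, hd⟩ := ih (fun j hj => hf j (Finset.mem_insert_of_mem hj))
    obtain ⟨hmin, hdi⟩ := hf i (Finset.mem_insert_self i s)
    rw [Finset.sup_insert]
    refine ⟨invSub_sup hmin.1 hinv, ?_⟩
    by_cases h0 : f i ⊓ s.sup f = ⊥
    · have h1 := Submodule.finrank_sup_add_finrank_inf_eq (f i) (s.sup f)
      rw [h0, finrank_bot, add_zero, hdi] at h1
      rw [h1]
      exact Dvd.dvd.add (dvd_refl d) hd
    · have h1 := hmin.2.2 _ (invSub_inf hmin.1 hinv) h0 inf_le_left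
      have h2 : f i ≤ s.sup f := by rw [← h1]; exact inf_le_right
      rw [sup_eq_right.2 h2]
      exact hd

theorem finrank_dvd_of_irreducible (A N : Subgroup (V ≃ₗ[ZMod p] V))
    (hcomm : ∀ n ∈ N, ∀ a ∈ A, n * a = a * n)
    (hirr : ∀ W : Submodule (ZMod p) V, InvSub N W → W = ⊥ ∨ W = ⊤)
    (W : Submodule (ZMod p) V) (hW : IsMinInv A W) :
    Module.finrank (ZMod p) W ∣ Module.finrank (ZMod p) V := by
  classical
  haveI : Finite (V ≃ₗ[ZMod p] V) := DFunLike.finite _
  haveI : Fintype N := Fintype.ofFinite _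
  have hnorm : ∀ n ∈ N, ∀ a ∈ A, n * a * n⁻¹ ∈ A := by
    intro n hn a ha
    rw [hcomm n hn a ha, mul_inv_cancel_right]
    exact ha
  set f : N → Submodule (ZMod p) V := fun n => W.map ((n : V ≃ₗ[ZMod p] V) : V →ₗ[ZMod p] V) with hf
  have hfmin : ∀ i ∈ (Finset.univ : Finset N), IsMinInv A (f i) ∧
      Module.finrank (ZMod p) (f i) = Module.finrank (ZMod p) W := by
    intro n _
    refine ⟨isMinInv_map hnorm hW n n.2, ?_⟩
    exact LinearEquiv.finrank_map_eq (n : V ≃ₗ[ZMod p] V) W
  obtain ⟨-, hd⟩ := dvd_finrank_sup A (Module.finrank (ZMod p) W) Finset.univ f hfmin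
  set S : Submodule (ZMod p) V := Finset.univ.sup f with hS
  have hle : ∀ n : N, f n ≤ S := fun n => Finset.le_sup (Finset.mem_univ n)
  have hSinv : InvSub N S := by
    intro m hm x hx
    have h1 : S.map ((m : V ≃ₗ[ZMod p] V) : V →ₗ[ZMod p] V) ≤ S := by
      rw [hS, Finset.sup_eq_iSup, Submodule.map_iSup]
      apply iSup_le
      intro n
      rw [Submodule.map_iSup]
      apply iSup_le
      intro _
      have h2 : (f n).map ((m : V ≃ₗ[ZMod p] V) : V →ₗ[ZMod p] V) = f (⟨m, hm⟩ * n) := by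
        rw [hf]
        simp only
        rw [← Submodule.map_comp]
        rfl
      rw [h2, ← Finset.sup_eq_iSup]
      exact hle _
    exact h1 (Submodule.mem_map_of_mem hx)
  have hS0 : S ≠ ⊥ := by
    intro h0
    apply hW.2.1
    have h1 : f 1 ≤ S := hle 1
    rw [h0, le_bot_iff] at h1
    have h2 : f 1 = W := by
      rw [hf]
      simp only
      ext x
      simp
    rw [← h2, h1]
  rcases hirr S hSinv with h | h
  · exact (hS0 h).elim
  · rw [h, finrank_top] at hd
    exact hd

end Cfsg.Agent.Helper5.Z89
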