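import Mathlib
import Cfsg.Agent.S0684
import Cfsg.Agent.S0685
import Cfsg.Agent.S0687
import Cfsg.Agent.Helper2.NearFieldB
import Cfsg.Agent.Helper5.Z89A
import Cfsg.Agent.Helper5.Z89B
import Cfsg.Agent.Helper5.Z89D

set_option autoImplicit false
set_option linter.style.haveILetI false

/-!
Helper5: S0689, the main assembly (with the statement of S0686 as a hypothesis).
-/

namespace Cfsg.Agent.Helper5.Z89

open Cfsg.Agent.Helper1.ZNF

variable {p : ℕ} [hp : Fact p.Prime] {V : Type*} [AddCommGroup V] [Module (ZMod p) V] [Finite V]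

/-- numerical data: `|V| = (p^d)^m` with `m ≥ 2`, `d = dim W`. -/
theorem numeric_data (H : Subgroup (V ≃ₗ[ZMod p] V)) (A N : Subgroup H)
    (hCN : Subgroup.centralizer (N : Set H) = A)
    (hirr : ∀ W : Submodule (ZMod p) V,
      (∀ n ∈ N, ∀ v ∈ W, ((n : H) : V ≃ₗ[ZMod p] V) v ∈ W) → W = ⊥ ∨ W = ⊤)
    (W : Submodule (ZMod p) V) (hW0 : W ≠ ⊥) (hWtop : W ≠ ⊤)
    (hWinv : ∀ a ∈ A, ∀ v ∈ W, ((a : H) : V ≃ₗ[ZMod p] V) v ∈ W)
    (hWmin : ∀ W' : Submodule (ZMod p) V, W' ≤ W →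
      (∀ a ∈ A, ∀ v ∈ W', ((a : H) : V ≃ₗ[ZMod p] V) v ∈ W') → W' = ⊥ ∨ W' = W) :
    ∃ m : ℕ, 2 ≤ m ∧ Nat.card V = (p ^ Module.finrank (ZMod p) W) ^ m := by
  classical
  set A' : Subgroup (V ≃ₗ[ZMod p] V) := A.map H.subtype with hA'
  set N' : Subgroup (V ≃ₗ[ZMod p] V) := N.map H.subtype with hN'
  have hcomm : ∀ n ∈ N', ∀ a ∈ A', n * a = a * n := by
    rintro _ ⟨n, hn, rfl⟩ _ ⟨a, ha, rfl⟩
    have ha' : a ∈ Subgroup.centralizer (N : Set H) := by rw [hCN]; exact ha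
    have h1 : n * a = a * n := Subgroup.mem_centralizer_iff.1 ha' n hn
    rw [← map_mul, ← map_mul, h1]
  have hirr' : ∀ W : Submodule (ZMod p) V, InvSub N' W → W = ⊥ ∨ W = ⊤ := by
    intro W hW
    apply hirr W
    intro n hn v hv
    exact hW _ ⟨n, hn, rfl⟩ v hv
  have hWmin' : IsMinInv A' W := by
    refine ⟨?_, hW0, ?_⟩
    · rintro _ ⟨a, ha, rfl⟩ v hv
      exact hWinv a ha v hv
    · intro W' hW' hW'0 hle
      exact (hWmin W' hle (fun a ha v hv => hW' _ ⟨a, ha, rfl⟩ v hv)).resolve_left hW'0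
  obtain ⟨m, hm⟩ := finrank_dvd_of_irreducible A' N' hcomm hirr' W hWmin'
  have hlt : Module.finrank (ZMod p) W < Module.finrank (ZMod p) V := Submodule.finrank_lt hWtop
  have hm2 : 2 ≤ m := by
    by_contra hcon
    have : m = 0 ∨ m = 1 := by omega
    rcases this with h | h
    · rw [h, mul_zero] at hm; omega
    · rw [h, mul_one] at hm; omega
  refine ⟨m, hm2, ?_⟩
  haveI : Fintype V := Fintype.ofFinite V
  have h1 : Fintype.card V = Fintype.card (ZMod p) ^ Module.finrank (ZMod p) V :=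
    Module.card_eq_pow_finrank
  rw [ZMod.card] at h1
  rw [Nat.card_eq_fintype_card, h1, hm, pow_mul]

/-- **S0689**, given the statement of S0686 for `H`. -/
theorem main_of_686 (H : Subgroup (V ≃ₗ[ZMod p] V))
    (hreg : ∀ v w : V, v ≠ 0 → w ≠ 0 → ∃! h : H, (h : V ≃ₗ[ZMod p] V) v = w)
    (hsolv : ¬ Group.IsSolvable H)
    (h686 : ∀ A : Subgroup H, A.Normal → IsMulCommutative A →
      (∀ B : Subgroup H, B.Normal → IsMulCommutative B → A ≤ B → B = A) →
      ∀ N : Subgroup H, N.Normal → N ≤ Subgroup.centralizer (A : Set H) → ¬ IsMulCommutative N →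
      (∀ M : Subgroup H, M.Normal → M ≤ N → ¬ IsMulCommutative M → M = N) →
      Nonempty (N ≃* QuaternionGroup 2) ∨ Nonempty (N ≃* SL25)) :
    (Nat.card V = 121 ∧ Nonempty (H ≃* SL25)) ∨
    (Nat.card V = 841 ∧ Nonempty (H ≃* SL25 × Multiplicative (ZMod 7))) ∨
    (Nat.card V = 3481 ∧ Nonempty (H ≃* SL25 × Multiplicative (ZMod 29))) := by
  classical
  haveI hVnt : Nontrivial V := by
    by_contra hcon
    rw [not_nontrivial_iff_subsingleton] at hcon
    apply hsolv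
    haveI : Subsingleton (V ≃ₗ[ZMod p] V) :=
      ⟨fun a b => LinearEquiv.ext (fun v => Subsingleton.elim _ _)⟩
    haveI : Subsingleton H := inferInstance
    infer_instance
  obtain ⟨v₀, hv₀⟩ := exists_ne (0 : V)
  haveI : Finite (V ≃ₗ[ZMod p] V) := DFunLike.finite _
  haveI : Finite H := inferInstance
  have hfree : ∀ (h : H) (v : V), v ≠ 0 → (H.subtype h) v = v → h = 1 := fun h v hv hfix =>
    Cfsg.Agent.Helper2.NearField.free_of_reg H hreg h v hv hfix
  have hcardH : Nat.card H + 1 = Nat.card V :=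
    Cfsg.Agent.Helper2.NearField.card_of_reg H hreg v₀ hv₀
  have hab : ∀ B : Subgroup H, IsMulCommutative B → IsCyclic B := by
    intro B hB
    apply Cfsg.Agent.Helper2.NearField.isCyclic_of_free (H.subtype.comp B.subtype)
    · intro x y; exact hB.is_comm.comm x y
    · intro x v hv hfix
      apply Subtype.ext
      exact hfree (x : H) v hv hfix
  have hI : ∀ A : Subgroup H, A.Normal → IsCyclic A → ∃ W : Submodule (ZMod p) V, W ≠ ⊥ ∧ W ≠ ⊤ ∧
      ∀ a ∈ A, ∀ v ∈ W, ((a : H) : V ≃ₗ[ZMod p] V) v ∈ W :=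
    fun A hAn hAc => hI_of_not_solvable H hsolv A hAn hAc
  have hinv : ∀ s t : H, orderOf s = 2 → orderOf t = 2 → s = t := invol_unique H hfree
  -- a maximal normal abelian subgroup
  let 𝒜 : Set (Subgroup H) := {B | B.Normal ∧ IsMulCommutative B}
  have h𝒜ne : 𝒜.Nonempty := ⟨⊥, inferInstance, ⟨⟨fun x y => Subsingleton.elim _ _⟩⟩⟩
  obtain ⟨A, ⟨hAn, hAc⟩, hAmax'⟩ :=
    Set.exists_max_image 𝒜 (fun B => Nat.card B) (Set.toFinite _) h𝒜ne
  have hAmax : ∀ B : Subgroup H, B.Normal → IsMulCommutative B → A ≤ B → B = A := by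
    intro B hBn hBc hAB
    exact (Subgroup.eq_of_le_of_card_ge hAB (hAmax' B ⟨hBn, hBc⟩)).symm
  obtain ⟨-, hCna⟩ := Cfsg.Agent.S0685.result H hreg hI A hAn hAc hAmax
  -- a minimal non-abelian normal subgroup in the centralizer of `A`
  let 𝒩 : Set (Subgroup H) :=
    {M | M.Normal ∧ M ≤ Subgroup.centralizer (A : Set H) ∧ ¬ IsMulCommutative M}
  have h𝒩ne : 𝒩.Nonempty := ⟨Subgroup.centralizer (A : Set H), inferInstance, le_refl _, hCna⟩
  obtain ⟨N, ⟨hNn, hNle, hNna⟩, hNmin'⟩ :=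
    Set.exists_min_image 𝒩 (fun B => Nat.card B) (Set.toFinite _) h𝒩ne
  have hNmin : ∀ M : Subgroup H, M.Normal → M ≤ N → ¬ IsMulCommutative M → M = N := by
    intro M hMn hMN hMna
    exact Subgroup.eq_of_le_of_card_ge hMN (hNmin' M ⟨hMn, hMN.trans hNle, hMna⟩)
  obtain ⟨hirr, hCN⟩ := Cfsg.Agent.S0687.result H hreg hI A hAn hAc hAmax N hNn hNle hNna hNmin
  rcases h686 A hAn hAc hAmax N hNn hNle hNna hNmin with ⟨⟨e⟩⟩ | ⟨⟨e⟩⟩
  · exfalso
    apply hsolv
    apply solvable_of_normal_q8 N e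
    rw [hCN]
    exact fun x y => hAc.is_comm.comm x y
  -- `N ≃ SL(2,5)`
  have hNns : ¬ Group.IsSolvable N := fun hs =>
    not_solvable_SL25 (Group.isSolvable_of_surjective (f := e.toMonoidHom) e.surjective)
  have hperf : ⁅N, N⁆ = N := perfect_of_min N hNns hNmin
  obtain ⟨hN120, hinf2, h2A, hidx⟩ := group_data hinv A N hCN e hperf
  obtain ⟨hAcyc, W, hW0, hWtop, hWinv, hWmin, hWdvd⟩ :=
    Cfsg.Agent.S0684.result H hreg hI A hAn hAc hAmax
  obtain ⟨m, hm2, hVcard⟩ := numeric_data H A N hCN hirr W hW0 hWtop hWinv hWmin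
  set d := Module.finrank (ZMod p) W with hd
  -- orders
  have hmul1 : Nat.card (N ⊔ A : Subgroup H) * Nat.card (N ⊓ A : Subgroup H) =
      Nat.card N * Nat.card A :=
    Cfsg.Agent.Helper1.card_sup_mul_card_inf (by rw [Subgroup.normalizer_eq_top]; exact le_top)
  have hmul2 := Subgroup.card_mul_index (N ⊔ A)
  have hA0 : 0 < Nat.card A := Nat.card_pos
  rw [hinf2, hN120] at hmul1
  have hNA : Nat.card (N ⊔ A : Subgroup H) = 60 * Nat.card A := by omega
  have hcardH' : Nat.card H = 60 * (N ⊔ A).index * Nat.card A := by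
    rw [← hmul2, hNA]; ring
  have hpd1 : 1 ≤ (p ^ d) ^ m := Nat.one_le_pow _ _ (Nat.pos_of_ne_zero (pow_ne_zero _ hp.out.ne_zero))
  have heq : (p ^ d) ^ m - 1 = 60 * (N ⊔ A).index * Nat.card A := by
    rw [← hcardH', ← hVcard, ← hcardH]; omega
  obtain ⟨rfl, hidx1, hcases⟩ := arith_main hp.out hm2 hA0 hWdvd h2A hidx heq
  have htop : N ⊔ A = ⊤ := Subgroup.index_eq_one.1 hidx1
  rw [hidx1] at hcardH'
  have hAcent : A ≤ Subgroup.centralizer (N : Set H) := by rw [hCN]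
  rcases hcases with ⟨hQ, hA⟩ | ⟨hQ, hA⟩ | ⟨hQ, hA⟩ | ⟨hQ, hA⟩
  · -- 11
    left
    refine ⟨by rw [hVcard, hQ]; norm_num, ?_⟩
    have hNtop : N = ⊤ := by
      rw [← Subgroup.card_eq_iff_eq_top, hN120, hcardH', hA]
    exact ⟨((MulEquiv.subgroupCongr hNtop).trans Subgroup.topEquiv).symm.trans e⟩
  · -- 19
    exfalso
    haveI : Fact (Nat.Prime 3) := ⟨Nat.prime_three⟩
    obtain ⟨a, ha⟩ := exists_prime_orderOf_dvd_card' (G := ↥A) 3 (by rw [hA]; norm_num)
    obtain ⟨x, hx⟩ := exists_prime_orderOf_dvd_card' (G := ↥N) 3 (by rw [hN120]; norm_num)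
    have haH : orderOf (a : H) = 3 := by rw [Subgroup.orderOf_coe]; exact ha
    have hxH : orderOf (x : H) = 3 := by rw [Subgroup.orderOf_coe]; exact hx
    have hc : (a : H) * (x : H) = (x : H) * (a : H) :=
      (Subgroup.mem_centralizer_iff.1 (hAcent a.2) (x : H) x.2).symm
    have hmem := mem_zpowers_of_commute hab Nat.prime_three haH hxH hc
    have haN : (a : H) ∈ N := (Subgroup.zpowers_le.2 x.2) hmem
    have hainf : (a : H) ∈ N ⊓ A := Subgroup.mem_inf.2 ⟨haN, a.2⟩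
    have h1 : orderOf (⟨(a : H), hainf⟩ : (N ⊓ A : Subgroup H)) ∣ 2 := by
      rw [← hinf2]; exact orderOf_dvd_natCard _
    rw [Subgroup.orderOf_mk, haH] at h1
    omega
  · -- 29
    right; left
    refine ⟨by rw [hVcard, hQ]; norm_num, ?_⟩
    haveI : Fact (Nat.Prime 7) := ⟨by norm_num⟩
    exact case_struct N A hAcent 7 (by norm_num) hinf2 (by rw [hA]; norm_num)
      (by rw [hN120, hcardH', hA]) e
  · -- 59
    right; right
    refine ⟨by rw [hVcard, hQ]; norm_num, ?_⟩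
    haveI : Fact (Nat.Prime 29) := ⟨by norm_num⟩
    exact case_struct N A hAcent 29 (by norm_num) hinf2 (by rw [hA]; norm_num)
      (by rw [hN120, hcardH', hA]) e

end Cfsg.Agent.Helper5.Z89
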