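import Mathlib
import Cfsg.Prelude.Def_IsolatedElements
import Cfsg.Agent.Helper5.ZStarMin2
import Cfsg.Agent.Helper5.SylowSub
import Cfsg.Agent.Helper1.SylowInt

/-!
Helper lemmas (helper5): isolated elements control their own fusion; invariant Sylow subgroups when
`x` is central modulo `O_{p'}`; minimal counterexample to the `Z*_p` statement, part 3.
-/

set_option autoImplicit false

namespace Cfsg.Agent.Helper5

open scoped Pointwise

variable {G : Type*} [Group G]

theorem mem_normalizer_sup (A B : Subgroup G) (y : G) (hA : y ∈ Subgroup.normalizer (A : Set G))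
    (hB : y ∈ Subgroup.normalizer (B : Set G)) :
    y ∈ Subgroup.normalizer ((A ⊔ B : Subgroup G) : Set G) := by
  apply Cfsg.Agent.Helper1.mem_normalizer_of_conj_smul_eq
  rw [Subgroup.smul_sup, Cfsg.Agent.Helper1.conj_smul_eq_of_mem_normalizer hA,
    Cfsg.Agent.Helper1.conj_smul_eq_of_mem_normalizer hB]

theorem isPGroup_zpowers_of_orderOf {p : ℕ} [Fact p.Prime] (x : G) (hx : orderOf x = p) :
    IsPGroup p ↥(Subgroup.zpowers x) := by
  apply IsPGroup.of_card (n := 1)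
  rw [Nat.card_zpowers, hx, pow_one]

/-- An isolated element of order `p` controls its own fusion: a conjugate of `x` lying in a subgroup
`H ∋ x` is `H`-conjugate to `x`. -/
theorem isolated_conj_in_subgroup [Finite G] {p : ℕ} [Fact p.Prime] (x : G) (hx : orderOf x = p)
    (hiso : Cfsg.IsIsolated x) (H : Subgroup G) (hxH : x ∈ H) (g : G) (hy : g * x * g⁻¹ ∈ H) :
    ∃ h ∈ H, g * x * g⁻¹ = h * x * h⁻¹ := by
  have hzp := isPGroup_zpowers_of_orderOf x hx
  obtain ⟨T, hDT, hTH, hTp, -, hconj⟩ := exists_sylow_of_subgroup H (Subgroup.zpowers x)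
    (by rw [Subgroup.zpowers_le]; exact hxH) hzp
  have hxT : x ∈ T := hDT (Subgroup.mem_zpowers x)
  have hyo : orderOf (g * x * g⁻¹) = p := by
    have := MulEquiv.orderOf_eq (MulAut.conj g) x
    rw [MulAut.conj_apply] at this
    rw [this, hx]
  have hyp := isPGroup_zpowers_of_orderOf (g * x * g⁻¹) hyo
  obtain ⟨k, hkH, hk⟩ := hconj (Subgroup.zpowers (g * x * g⁻¹))
    (by rw [Subgroup.zpowers_le]; exact hy) hyp
  have hkT : k * (g * x * g⁻¹) * k⁻¹ ∈ T := hk _ (Subgroup.mem_zpowers _)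
  have hxc := central_of_isIsolated_in_pgroup T hTp x hxT hiso
  have heq : (k * g) * x * (k * g)⁻¹ = k * (g * x * g⁻¹) * k⁻¹ := by group
  have hcomm : Commute x ((k * g) * x * (k * g)⁻¹) := by
    rw [heq]; exact (hxc _ hkT).symm
  have h1 := hiso (k * g) hcomm
  refine ⟨k⁻¹, H.inv_mem hkH, ?_⟩
  calc g * x * g⁻¹ = k⁻¹ * ((k * g) * x * (k * g)⁻¹) * k := by group
    _ = k⁻¹ * x * k⁻¹⁻¹ := by rw [h1, inv_inv]

/-- If `x` of order `p` is central modulo `O_{p'}(G)` and `q ≠ p`, then `G` has an `x`-invariant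
Sylow `q`-subgroup. -/
theorem exists_invariant_sylow_of_inZStar [Finite G] {p q : ℕ} [hp : Fact p.Prime] [hq : Fact q.Prime]
    (hqp : q ≠ p) (x : G) (hx : orderOf x = p) (hZ : Cfsg.InZStar p x) :
    ∃ S : Sylow q G, x ∈ Subgroup.normalizer ((S : Subgroup G) : Set G) := by
  classical
  set K := Cfsg.pPrimeCore p G with hK
  obtain ⟨T⟩ : Nonempty (Sylow q G) := inferInstance
  set M := (T : Subgroup G) ⊔ K with hM
  have hKc : (Nat.card K).Coprime p := coprime_card_pPrimeCore p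
  have hTc : (Nat.card (T : Subgroup G)).Coprime p := by
    obtain ⟨k, hk⟩ := IsPGroup.iff_card.mp T.2
    rw [hk]
    exact Nat.Coprime.pow_left k ((Nat.coprime_primes hq.out hp.out).mpr hqp)
  have hMc : (Nat.card M).Coprime p := by
    have h1 : Nat.card M ∣ Nat.card (T : Subgroup G) * Nat.card K := card_sup_dvd_of_normal _ K
    exact Nat.Coprime.coprime_dvd_left h1 (Nat.Coprime.mul_left hTc hKc)
  have hxM : x ∈ Subgroup.normalizer (M : Set G) := by
    apply Subgroup.mem_normalizer_fintype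
    intro m hm
    have h1 : x * m * x⁻¹ = (x * m * x⁻¹ * m⁻¹) * m := by group
    rw [h1]
    apply M.mul_mem _ hm
    apply Subgroup.mem_sup_right
    have h2 := hZ m
    have h3 : x * m * x⁻¹ * m⁻¹ = (m * x * m⁻¹ * x⁻¹)⁻¹ := by group
    rw [h3]
    exact K.inv_mem h2
  have hA : Subgroup.zpowers x ≤ Subgroup.normalizer (M : Set G) := by
    rw [Subgroup.zpowers_le]; exact hxM
  have hcop : (Nat.card (Subgroup.zpowers x)).Coprime (Nat.card M) := by
    rw [Nat.card_zpowers, hx]; exact hMc.symm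
  obtain ⟨P, hP⟩ := Cfsg.Agent.Helper1.exists_invariant_sylow (p := q) (Subgroup.zpowers x) M hA hcop
    (Or.inl inferInstance)
  have hM0 : Nat.card M ≠ 0 := Nat.card_pos.ne'
  have hG0 : Nat.card G ≠ 0 := Nat.card_pos.ne'
  have hfac : (Nat.card M).factorization q = (Nat.card G).factorization q := by
    apply le_antisymm
    · exact (Nat.factorization_le_iff_dvd hM0 hG0).mpr (Subgroup.card_subgroup_dvd_card M) q
    · have h1 : Nat.card (T : Subgroup G) ∣ Nat.card M := Subgroup.card_dvd_of_le le_sup_left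
      rw [T.card_eq_multiplicity] at h1
      exact (hq.out.pow_dvd_iff_le_factorization hM0).mp h1
  have hcardP : Nat.card ((P : Subgroup M).map M.subtype) = q ^ (Nat.card G).factorization q := by
    rw [Subgroup.card_map_of_injective M.subtype_injective, P.card_eq_multiplicity, hfac]
  refine ⟨Sylow.ofCard _ hcardP, ?_⟩
  rw [Sylow.coe_ofCard]
  exact hP (Subgroup.mem_zpowers x)

/-- A subgroup of order `q ^ n` whose normalizer has order not divisible by `q ^ (n + 1)` is a Sylow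
`q`-subgroup. -/
theorem exists_sylow_eq_of_card_normalizer [Finite G] {q : ℕ} [hq : Fact q.Prime] (Q : Subgroup G) (n : ℕ)
    (hQ : Nat.card Q = q ^ n)
    (hN : ¬ q ^ (n + 1) ∣ Nat.card (Subgroup.normalizer (Q : Set G))) :
    ∃ S : Sylow q G, (S : Subgroup G) = Q := by
  have h1 : ¬ q ^ (n + 1) ∣ Nat.card G := fun h => hN (Sylow.prime_pow_dvd_card_normalizer h hQ)
  have h2 : q ^ n ∣ Nat.card G := by rw [← hQ]; exact Subgroup.card_subgroup_dvd_card Q
  have hG0 : Nat.card G ≠ 0 := Nat.card_pos.ne'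
  have h3 : n ≤ (Nat.card G).factorization q := (hq.out.pow_dvd_iff_le_factorization hG0).mp h2
  have h4 : ¬ n + 1 ≤ (Nat.card G).factorization q :=
    fun h => h1 ((hq.out.pow_dvd_iff_le_factorization hG0).mpr h)
  have h5 : (Nat.card G).factorization q = n := by omega
  exact ⟨Sylow.ofCard Q (by rw [hQ, h5]), Sylow.coe_ofCard _ _⟩

/-- In a minimal counterexample, a nontrivial `q`-subgroup is not normal. -/
theorem normalizer_ne_top_of_isPGroup [Finite G] {p : ℕ} [Fact p.Prime] (x : G) (hx : orderOf x = p)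
    (hiso : Cfsg.IsIsolated x) (hnz : ¬ Cfsg.InZStar p x)
    (hmin : ∀ (H : Subgroup G) (hxH : x ∈ H), H ≠ ⊤ → Cfsg.InZStar p (⟨x, hxH⟩ : ↥H))
    (hquot : ∀ (N : Subgroup G) [N.Normal], N ≠ ⊥ → Cfsg.InZStar p (QuotientGroup.mk x : G ⧸ N))
    {q : ℕ} [Fact q.Prime] (Q : Subgroup G) (hQ : IsPGroup q ↥Q) (hQ1 : Q ≠ ⊥) :
    Subgroup.normalizer (Q : Set G) ≠ ⊤ := by
  intro htop
  have hQn : Q.Normal := Subgroup.normalizer_eq_top_iff.mp htop
  obtain ⟨N₀, hN₀n, hN₀1, hN₀Q, hN₀min⟩ : ∃ N₀ : Subgroup G, N₀.Normal ∧ N₀ ≠ ⊥ ∧ N₀ ≤ Q ∧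
      ∀ B : Subgroup G, B.Normal → B ≤ N₀ → B = ⊥ ∨ B = N₀ := by
    have hfin : Set.Finite {S : Subgroup G | S.Normal ∧ S ≠ ⊥ ∧ S ≤ Q} := Set.toFinite _
    have hne : {S : Subgroup G | S.Normal ∧ S ≠ ⊥ ∧ S ≤ Q}.Nonempty := ⟨Q, hQn, hQ1, le_rfl⟩
    obtain ⟨S, hS, hmin'⟩ := hfin.exists_minimal hne
    refine ⟨S, hS.1, hS.2.1, hS.2.2, fun R hR hRS => ?_⟩
    by_cases h : R = ⊥
    · exact Or.inl h
    · exact Or.inr (le_antisymm hRS (hmin' ⟨hR, h, hRS.trans hS.2.2⟩ hRS))
  have := hN₀n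
  apply minNormal_not_abelian x hx hiso hnz hmin hquot N₀ hN₀1 hN₀min
  have hN₀q : IsPGroup q ↥N₀ := hQ.to_le hN₀Q
  have : Nontrivial ↥N₀ := (Subgroup.nontrivial_iff_ne_bot N₀).mpr hN₀1
  have hcen : Nontrivial (Subgroup.center ↥N₀) := hN₀q.center_nontrivial
  set Z := (Subgroup.center ↥N₀).map N₀.subtype with hZ
  have hZn : Z.Normal := ConjAct.normal_of_characteristic_of_normal
  have hZle : Z ≤ N₀ := Subgroup.map_subtype_le _
  have hZ1 : Z ≠ ⊥ := by
    rw [hZ, Ne, Subgroup.map_eq_bot_iff_of_injective _ N₀.subtype_injective]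
    exact (Subgroup.nontrivial_iff_ne_bot _).mp hcen
  have hZeq : Z = N₀ := (hN₀min Z hZn hZle).resolve_left hZ1
  intro a ha b hb
  have ha' : a ∈ Z := by rw [hZeq]; exact ha
  obtain ⟨a', ha'c, rfl⟩ := ha'
  have h1 := Subgroup.mem_center_iff.mp ha'c ⟨b, hb⟩
  have h2 := congrArg Subtype.val h1
  simpa using h2.symm

end Cfsg.Agent.Helper5
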